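import Cfsg.Agent.H11.YC
import Cfsg.Agent.S2767
import Cfsg.Agent.H25.FCS2
import Cfsg.Agent.S3742
import Cfsg.Agent.S0016

/-! Fusion modulo a strongly closed subgroup; strongly closed subgroups of rank one. -/

set_option autoImplicit false
set_option linter.unusedSectionVars false

namespace H11.YZ

open Subgroup MulAction _root_.Cfsg H16 H15.Bd H11.ZD H6.CS
open scoped commutatorElement

universe u

variable {G : Type u} [Group G] [Finite G] {A P Q S T U D : Subgroup G} {g k l n x y z : G}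

theorem cl_of (hT : Sy[2] T ⊤) (h : IsStronglyClosed S T) : Cl (om S) := by
  obtain ⟨T, rfl⟩ := sylow_of_sy_top hT
  exact cl_om (H10.isSylowIn_top T) h

theorem sc_cj_eq (h : IsStronglyClosed S T) (hg : S :^ g ≤ T) : g ∈ N[S] :=
  mem_norm_of_cj_le (cj_le_forall.2 fun x hx => h.2 x hx g (hg (cj_mem hx)))

theorem fus_grow (hT : Sy[2] T ⊤) (h : IsStronglyClosed S T) (hP : P ≤ T) (hS : ¬ S ≤ P) :
    ∃ Q, P < Q ∧ Q ≤ T ∧ Q ≤ P ⊔ gen (om S) N[P] := by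
  refine ⟨P ⊔ (S ⊓ N[P]), ?_, sup_le hP (inf_le_left.trans h.1),
    sup_le_sup_left (fun x hx => mem_gen hx.2 (mem_om_of hx.1)) _⟩
  rw [← modl (le_norm P) (Or.inl (hP.trans ((le_norm T).trans (sc_norm h))))]
  exact pg_lt_norm (H15.Cfsg.IsPiSubgroup.of_le (hl_pi hT) (sup_le hP h.1)) (left_lt_sup.2 hS)

/-- an induction principle for fusion, modulo a strongly closed subgroup -/
theorem fus_ind (hT : Sy[2] T ⊤) (h : IsStronglyClosed S T) {R : G → G → Prop}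
    (symm : ∀ x y, R x y → R y x) (trans : ∀ x y z, R x y → R y z → R x z)
    (base : ∀ x ∈ T, ∀ n ∈ N[S], n * x * n⁻¹ ∈ T → R x (n * x * n⁻¹))
    (loc : ∀ P U, U ≤ T → P ≤ U → Sy[2] U (P ⊔ gen (om S) N[P]) → ∀ x ∈ P, ∀ l ∈ gen (om S) N[P], R x (l * x * l⁻¹))
    (hx : x ∈ T) (hg : g * x * g⁻¹ ∈ T) : R x (g * x * g⁻¹) := by
  have hc := cl_of hT h
  suffices H : ∀ m : ℕ, ∀ P : Subgroup G, Nat.card G - Nat.card P = m → P ≤ T → ∀ g, P :^ g ≤ T →
      ∀ x ∈ P, R x (g * x * g⁻¹) from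
    H _ _ rfl (zpowers_le.2 hx) g (by rw [← zpowers_cj]; exact zpowers_le.2 hg) x (mem_zpowers x)
  intro m
  induction m using Nat.strong_induction_on with
  | _ m ih =>
  intro P hm hP g hg x hx
  by_cases hS : S ≤ P
  · exact base x (hP hx) g (sc_cj_eq h ((cj_mono g hS).trans hg)) (hg (cj_mem hx))
  have hS' : ¬ S ≤ P :^ g := fun e => hS (by
    rw [le_cj_iff] at e
    rwa [cj_norm (sc_cj_eq h (e.trans hP))] at e)
  have ih' : ∀ Q : Subgroup G, Nat.card P < Nat.card Q → Q ≤ T → ∀ g, Q :^ g ≤ T → ∀ x ∈ Q, R x (g * x * g⁻¹) :=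
    fun Q hQ => ih _ (by have := Q.card_le_card_group; omega) Q rfl
  obtain ⟨P1, a1, a2, a3⟩ := fus_grow hT h hP hS
  obtain ⟨P2, b1, b2, b3⟩ := fus_grow hT h hg hS'
  have pT := fun (Q : Subgroup G) (e : Q ≤ T) => H15.Cfsg.IsPiSubgroup.of_le (hl_pi hT) e
  obtain ⟨U, hU, a4⟩ := sy_exists_ge a3 (pT _ a2)
  have cjg : ∀ g : G, (P ⊔ gen (om S) N[P]) :^ g = P :^ g ⊔ gen (om S) N[P :^ g] := fun g => by
    rw [cj_sup, norm_cj]; exact congrArg _ (hc.cj_gen g _)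
  rw [← cjg, le_cj_iff] at b3
  obtain ⟨w, hw, b4⟩ := sy_conj_le hU b3 (pg_iff.2 ((pg_iff.1 (pT _ b2)).map _))
  obtain ⟨p, hp, l, hl, rfl⟩ := (mem_sup_r ((le_norm P).trans (hc.le_N N[P]))).1 hw
  rw [← cj_cj, cj_le_iff, cj_self (inv_mem (a4 (a1.le hp))), cj_cj] at b4
  obtain ⟨k, -, hk⟩ := sy_conj_le hT le_top (hl_pi hU)
  have c1 := ih' P1 (card_lt a1) a2 k ((cj_mono k a4).trans hk) x (a1.le hx)
  have c2 := ih' P2 (card_cj P g ▸ card_lt b1) b2 (k * (l * g⁻¹)) (by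
    rw [← cj_cj]; exact (cj_mono k b4).trans hk) _ (b1.le (cj_mem hx))
  have c3 := loc (P :^ k) (U :^ k) hk (cj_mono k (a1.le.trans a4)) (cjg k ▸ hl_cj hU k) _ (cj_mem hx) (k * l * k⁻¹)
    (by rw [norm_cj]; exact (hc.cj_gen k _).le (cj_mem hl))
  refine trans _ _ _ (trans _ _ _ c1 c3) (symm _ _ ?_)
  convert c2 using 1; group

theorem comm_gen_le (hT : Sy[2] T ⊤) (h : IsStronglyClosed S T) (hP : P ≤ T) (hl : l ∈ gen (om S) N[P])
    (hx : x ∈ P) : l * x * l⁻¹ * x⁻¹ ∈ P ⊓ S := by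
  have hc := cl_of hT h
  have hp := (sy_pg hT).to_le hP
  induction hl using closure_induction generalizing x with
  | mem y hy =>
    have h1 : y * x * y⁻¹ * x⁻¹ ∈ P := mul_mem (conj_mem hy.1 hx) (inv_mem hx)
    refine ⟨h1, sc_mem h ?_ (hP h1)⟩
    have := hc.mul _ (two_sup_N (hc.two y hy.2) hp hy.1) y (mem_sup_left (mem_zpowers y)) (x * y⁻¹ * x⁻¹)
      (mul_mem (mul_mem (mem_sup_right hx) (inv_mem (mem_sup_left (mem_zpowers y)))) (inv_mem (mem_sup_right hx)))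
      hy.2 (hc.conj x _ (hc.inv hy.2))
    simpa [mul_assoc] using this
  | one => simp
  | mul a b ha hb iha ihb =>
    have := mul_mem (iha (conj_mem (gen_le hb) hx)) (ihb hx)
    have h2 := iha (ihb hx).1
    have e : a * b * x * (a * b)⁻¹ * x⁻¹ = a * (b * x * b⁻¹) * a⁻¹ * (b * x * b⁻¹)⁻¹ * (b * x * b⁻¹ * x⁻¹) := by group
    rwa [e]
  | inv a ha iha =>
    have := inv_mem (iha (conj_mem' (gen_le ha) hx))
    simpa [mul_assoc] using this

/-- fusion modulo `S` is controlled by `N(S)` -/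
theorem puig (hT : Sy[2] T ⊤) (h : IsStronglyClosed S T) (hx : x ∈ T) (hg : g * x * g⁻¹ ∈ T) :
    ∃ n ∈ N[S], g * x * g⁻¹ * (n * x * n⁻¹)⁻¹ ∈ S := by
  refine fus_ind hT h (R := fun x y => ∃ n ∈ N[S], y * (n * x * n⁻¹)⁻¹ ∈ S) ?_ ?_ ?_ ?_ hx hg
  · rintro x y ⟨n, hn, e⟩
    exact ⟨n⁻¹, inv_mem hn, by simpa [mul_assoc] using inv_mem (conj_mem' hn e)⟩
  · rintro x y z ⟨n, hn, e⟩ ⟨m, hm, f⟩
    exact ⟨m * n, mul_mem hm hn, by simpa [mul_assoc] using mul_mem f (conj_mem hm e)⟩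
  · exact fun x _ n hn _ => ⟨n, hn, by simp⟩
  · exact fun P U h1 h2 _ x hx l hl => ⟨1, one_mem _, by simpa using (comm_gen_le hT h (h2.trans h1) hl hx).2⟩

theorem le_of_foc (hT : Sy[2] T ⊤) (h : IsStronglyClosed S T) (hX : normalClosure (S : Set G) = ⊤) (hD : S ≤ D)
    (H : ∀ x ∈ T, ∀ n ∈ N[S], n * x * n⁻¹ ∈ T → n * x * n⁻¹ * x⁻¹ ∈ D) : T ≤ D := by
  have h1 : ⊤ ≤ commutator G ⊔ S := by
    have : (commutator G ⊔ S).Normal := Normal.of_commutator_le G le_sup_left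
    exact hX.ge.trans (normalClosure_le_normal (le_sup_right : S ≤ _))
  rw [← inf_eq_left.2 (show T ≤ _ from le_top.trans h1), modr' h.1 (Or.inr le_normalizer_of_normal), inf_comm]
  refine sup_le ?_ hD
  obtain ⟨T, rfl⟩ := sylow_of_sy_top hT
  rw [commutator_inf_eq_focalSubgroup, focalSubgroup_def, closure_le]
  rintro _ ⟨h2, x, hx, g, rfl⟩
  have h3 : g * x⁻¹ * g⁻¹ ∈ (T : Subgroup G) := by
    simpa [commutatorElement_def, mul_assoc] using mul_mem (inv_mem hx) h2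
  have h4 : g * x * g⁻¹ ∈ (T : Subgroup G) := by simpa [mul_assoc] using inv_mem h3
  obtain ⟨n, hn, e⟩ := puig hT h hx h4
  have := inv_mem (mul_mem (hD e) (H _ hx n hn (by simpa [mul_assoc] using mul_mem (inv_mem (h.1 e)) h4)))
  simpa [commutatorElement_def, mul_assoc] using this

/-- at most one involution -/
def U1 (S : Subgroup G) : Prop := ∀ s ∈ S, ∀ t ∈ S, orderOf s = 2 → orderOf t = 2 → s = t

theorem U1.cent (u : U1 S) (hQ : Q ≤ S) (hp : Pg[2] Q) (hc : Q ≤ C[Q]) (hA : A ≤ N[Q]) {r : ℕ} (hr : r.Prime)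
    (h2 : r ≠ 2) (h3 : Pg[r] A) : A ≤ C[Q] := by
  have := Fact.mk hr
  refine cop_abel_cent_om (comm_iff.2 hc) hp hA (IsPGroup.coprime_card_of_ne r 2 h2 _ _ (pg_iff.1 h3) (pg_iff.1 hp))
    (cent_symm ((closure_le _).2 fun x hx => mem_cent.2 fun a ha => ?_))
  by_cases e : x = 1
  · simp [e]
  have ox := H6.ord2_of (by rw [← pow_two]; exact hx.2) e
  rw [← mul_inv_eq_iff_eq_mul]
  exact u _ (hQ (conj_mem (hA ha) hx.1)) _ (hQ hx.1) (H6.ord2_conj ox a) ox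

theorem U1.loc (u : U1 S) (hT : Sy[2] T ⊤) (h : IsStronglyClosed S T) (h1 : U ≤ T) (h2 : P ≤ U)
    (hU : Sy[2] U (P ⊔ gen (om S) N[P])) (hx : x ∈ P) (hc : x ∈ C[S]) : gen (om S) N[P] ≤ C1[x] := by
  have cl := cl_of hT h
  set L := gen (om S) N[P]
  have hP := h2.trans h1
  have pT := fun (Q : Subgroup G) (e : Q ≤ T) => H15.Cfsg.IsPiSubgroup.of_le (hl_pi hT) e
  have nQ : N[P] ≤ N[P ⊓ S] := le_norm_iff.2 fun a ha y hy =>
    ⟨conj_mem ha hy.1, h.2 y hy.2 a (hP (conj_mem ha hy.1))⟩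
  have nC : N[P] ≤ N[P ⊓ C[P ⊓ S]] := norm_inf le_rfl (norm_cent nQ)
  have LN : L ≤ N[P] := gen_le
  have nL : P ⊔ L ≤ N[L] := (sup_le (le_norm P) LN).trans (cl.le_N N[P])
  have hU1 := hl_inf hU le_sup_right (hU.1.trans nL)
  have k1 : L ≤ (U ⊓ L) ⊔ C[P ⊓ C[P ⊓ S]] := le_of_sy fun r hr _ => by
    have := Fact.mk hr
    by_cases e : r = 2
    · exact ⟨_, e ▸ hU1, le_sup_left⟩
    obtain ⟨A, hA⟩ := sy_exists r L
    refine ⟨A, hA, le_sup_of_le_right (cop_cent_of_comm_cent (hA.1.trans (LN.trans nC))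
      (IsPGroup.coprime_card_of_ne r 2 e _ _ (sy_pg hA) (pg_iff.1 (pT _ (inf_le_left.trans hP)))) (le_trans ?_
      (cent_symm (u.cent (Q := (P ⊓ S) ⊓ C[P ⊓ S]) (inf_le_left.trans inf_le_right)
        (pT _ (inf_le_left.trans (inf_le_left.trans hP))) (comm_iff.1 (comm_center _))
        (hA.1.trans (LN.trans (norm_inf nQ (norm_cent nQ)))) hr e (hl_pi hA)))))⟩
    refine le_inf (commutator_le.2 fun y hy a ha => ?_) ((comm_le_left (hA.1.trans (LN.trans nC))).trans inf_le_right)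
    simpa [commutatorElement_def, mul_assoc] using inv_mem (comm_gen_le hT h hP (hA.1 ha) hy.1)
  refine gen_le_iff.2 fun y hy hy' => ?_
  obtain ⟨m, hm, h3⟩ := sy_conj_le hU1 (zpowers_le.2 (mem_gen hy hy')) (pg_iff.2 (cl.two y hy'))
  obtain ⟨a, ha, w, hw, rfl⟩ := (mem_sup_r (inf_le_right.trans (LN.trans (norm_cent nC)))).1 (k1 hm)
  have h4 : w * y * w⁻¹ ∈ U := by
    simpa [mul_assoc] using conj_mem' (le_norm U ha.1) (h3 (cj_mem (mem_zpowers y))).1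
  have h5 : w ∈ C1[x] := cent_le_cent1 (mem_inf.2 ⟨hx, cent_anti inf_le_right hc⟩) hw
  have h6 : w * y * w⁻¹ ∈ C1[x] := le_cent1.2 hc (sc_mem h (cl.conj w y hy') (h1 h4))
  simpa [mul_assoc] using mul_mem (mul_mem (inv_mem h5) h6) h5

theorem U1.sc_cent (u : U1 S) (hT : Sy[2] T ⊤) (h : IsStronglyClosed S T) : IsStronglyClosed (T ⊓ C[S]) T := by
  refine ⟨inf_le_left, fun x hx g hg => ⟨hg, ?_⟩⟩
  refine (fus_ind hT h (R := fun x y => x ∈ C[S] ↔ y ∈ C[S]) (fun _ _ => Iff.symm) (fun _ _ _ => Iff.trans)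
    (fun x _ n hn _ => ?_) (fun P U h1 h2 hU x hx l hl => ⟨fun e => ?_, fun e => ?_⟩) hx.1 hg).1 hx.2
  · rw [← cj_mem_iff (g := n), cj_norm (zpowers_le.1 (norm_cent (zpowers_le.2 hn)))]
  · rwa [mem_cent1.1 (u.loc hT h h1 h2 hU hx e hl), mul_inv_cancel_right]
  · have := mem_cent1.1 (u.loc hT h h1 h2 hU (conj_mem (gen_le hl) hx) e hl)
    rwa [mul_left_cancel (a := l) (show l * x = l * (l * x * l⁻¹) by rw [this]; group)]

theorem U1.wc (u : U1 S) (hT : Sy[2] T ⊤) (h : IsStronglyClosed S T) (h1 : T ≤ S ⊔ C[S]) (hx : x ∈ S ⊓ C[S]) :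
    H6.WC T x := by
  have nZ : N[S] ≤ N[S ⊓ C[S]] := norm_inf le_rfl (norm_cent le_rfl)
  have k1 : N[S] ≤ C[S ⊓ C[S]] := le_of_sy fun r hr _ => by
    have := Fact.mk hr
    by_cases e : r = 2
    · exact ⟨T, e ▸ hl_of_le hT ((le_norm T).trans (sc_norm h)) le_top,
        h1.trans (sup_le (cent_symm inf_le_right) (cent_anti inf_le_left))⟩
    obtain ⟨A, hA⟩ := sy_exists r N[S]
    exact ⟨A, hA, u.cent inf_le_left (H15.Cfsg.IsPiSubgroup.of_le (hl_pi hT) (inf_le_left.trans h.1))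
      (comm_iff.1 (comm_center _)) (hA.1.trans nZ) hr e (hl_pi hA)⟩
  refine ⟨h.1 hx.1, fun g hg => (fus_ind hT h (R := fun x y => x ∈ S ⊓ C[S] ∨ y ∈ S ⊓ C[S] → x = y)
    (fun _ _ e f => (e f.symm).symm) (fun x y z e f k => ?_) (fun x _ n hn _ k => ?_)
    (fun P U h1 h2 hU x hx l hl k => ?_) (h.1 hx.1) hg (Or.inl hx)).symm⟩
  · rcases k with k | k
    · have := e (Or.inl k); exact this.trans (f (Or.inl (this ▸ k)))
    · have := f (Or.inr k); exact (e (Or.inr (this ▸ k))).trans this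
  · have k : x ∈ S ⊓ C[S] := k.elim id fun k => by simpa [mul_assoc] using conj_mem' (nZ hn) k
    rw [← mem_cent.1 (k1 hn) x k, mul_inv_cancel_right]
  · rcases k with k | k
    · rw [mem_cent1.1 (u.loc hT h h1 h2 hU hx k.2 hl), mul_inv_cancel_right]
    · have := mem_cent1.1 (u.loc hT h h1 h2 hU (conj_mem (gen_le hl) hx) k.2 hl)
      exact mul_left_cancel (a := l) (by rw [this]; group)

theorem relIndex_cent_dvd (h : A ≤ N[S]) : C[S].relIndex A ∣ Nat.card (MulAut S) := by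
  refine (relIndex_dvd_of_norm h (norm_cent le_rfl)).trans
    (Dvd.dvd.trans ?_ (S.normalizerMonoidHom.range.card_subgroup_dvd_card))
  rw [← index_ker, normalizerMonoidHom_ker]; rfl

theorem U1.aut (u : U1 S) (hp : IsPGroup 2 S) : IsPGroup 2 (MulAut S) ∨ Nonempty (S ≃* QuaternionGroup 2) := by
  have key : ∀ H : Subgroup S, Nat.card H = 2 → ∃ x : S, orderOf x = 2 ∧ zpowers x = H := fun H hH => by
    obtain ⟨x, h1, h2⟩ := exists_orderOf Nat.prime_two hH.symm.dvd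
    exact ⟨x, h2, eq_of_le_of_card (zpowers_le.2 h1) (by rw [card_zpowers, h2, hH])⟩
  rcases Agent.S0016.result 2 hp (fun H K hH hK => by
    obtain ⟨x, h1, rfl⟩ := key H hH
    obtain ⟨y, h2, rfl⟩ := key K hK
    rw [Subtype.ext (u x x.2 y y.2 (by rwa [orderOf_coe]) (by rwa [orderOf_coe]))]) with h1 | ⟨-, _ | _ | n, ⟨e⟩⟩
  · exact Or.inl (H25.two_aut_cyclic hp)
  · have := QuaternionGroup.quaternionGroup_one_isCyclic
    have := isCyclic_of_injective e.toMonoidHom e.injective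
    exact Or.inl (H25.two_aut_cyclic hp)
  · exact Or.inr ⟨e⟩
  · exact Or.inl ((H25.two_aut_quat n).of_equiv (MulAut.congr e.symm))

theorem U1.le_sup (u : U1 S) (hT : Sy[2] T ⊤) (h : IsStronglyClosed S T) (hX : normalClosure (S : Set G) = ⊤) :
    T ≤ S ⊔ C[S] := by
  have TN : T ≤ N[S] := (le_norm T).trans (sc_norm h)
  have nK : N[S] ≤ N[S ⊔ C[S]] := norm_sup le_rfl (norm_cent le_rfl)
  rcases u.aut ((sy_pg hT).to_le h.1) with hA | ⟨⟨e⟩⟩
  · have k1 : N[S] ≤ C[S] ⊔ T := le_of_sy fun r hr _ => by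
      have := Fact.mk hr
      by_cases e : r = 2
      · exact ⟨T, e ▸ hl_of_le hT TN le_top, le_sup_right⟩
      obtain ⟨A, hA'⟩ := sy_exists r N[S]
      obtain ⟨a, ha⟩ := IsPGroup.iff_card.1 (sy_pg hA')
      obtain ⟨b, hb⟩ := IsPGroup.iff_card.1 hA
      exact ⟨A, hA', le_sup_of_le_left (relIndex_eq_one.1 (Nat.eq_one_of_dvd_coprimes
        (Nat.Coprime.pow a b ((Nat.coprime_primes hr Nat.prime_two).2 e)) (ha ▸ relIndex_dvd_card _ _)
        (hb ▸ relIndex_cent_dvd hA'.1)))⟩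
    have k2 := le_of_foc hT h hX (D := (S ⊔ C[S]) ⊔ ⁅T, T⁆) (le_sup_of_le_left le_sup_left) fun x hx n hn _ => by
      obtain ⟨c, hc, t, ht, rfl⟩ := (mem_sup_l (TN.trans (norm_cent le_rfl))).1 (k1 hn)
      have e : c * t * x * (c * t)⁻¹ * x⁻¹ = c * (t * x * t⁻¹ * c⁻¹ * (t * x * t⁻¹)⁻¹) * ⁅t, x⁆ := by
        rw [commutatorElement_def]; group
      rw [e]
      exact mul_mem (mem_sup_left (mem_sup_right (mul_mem hc (conj_mem (norm_cent TN
        (mul_mem (mul_mem ht hx) (inv_mem ht))) (inv_mem hc))))) (mem_sup_right (commutator_mem_commutator ht hx))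
    have := sy_nil hT
    refine (H9.le_of_le_sup_commutator (L := T ⊓ (S ⊔ C[S])) inf_le_left ?_).trans inf_le_right
    rw [← modr' (der_le T) (Or.inr ((der_le T).trans (TN.trans nK)))]
    exact le_inf le_rfl k2
  have k1 : C[S].relIndex (S ⊔ C[S]) = 4 := by
    rw [sup_comm, relIndex_sup_l (norm_cent (le_norm S)), ← H25.index_center_q8,
      ← index_comap_of_surjective _ (f := e.toMonoidHom) e.surjective, relIndex]
    congr 1
    ext x
    simp only [mem_subgroupOf, mem_cent, mem_comap, mem_center_iff, e.surjective.forall, MulEquiv.coe_toMonoidHom,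
      ← map_mul, e.apply_eq_iff_eq, Subtype.forall, Subtype.ext_iff, coe_mul]
  have k2 := relIndex_cent_dvd (le_refl N[S])
  obtain ⟨f⟩ := Agent.S3742.result
  rw [← relIndex_mul_relIndex _ _ _ le_sup_right (sup_le (le_norm S) (cent_le_norm S)), k1,
    Nat.card_congr ((MulAut.congr e).trans f).toEquiv, Nat.card_perm, Nat.card_fin,
    show Nat.factorial 4 = 4 * (2 * 3) from rfl, Nat.mul_dvd_mul_iff_left (by omega)] at k2
  obtain ⟨a, ha⟩ := IsPGroup.iff_card.1 (sy_pg hT)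
  have k3 := (Nat.Coprime.coprime_dvd_left (ha ▸ relIndex_dvd_card (S ⊔ C[S]) T) (Nat.Coprime.pow_left a
    (show Nat.Coprime 2 3 by decide))).dvd_of_dvd_mul_right ((relIndex_dvd_of_norm TN nK).trans k2)
  rcases (Nat.dvd_prime Nat.prime_two).1 k3 with k3 | k3
  · exact relIndex_eq_one.1 k3
  refine le_of_foc hT h hX le_sup_left fun x hx n hn hn' => (H6.mul_mem_iff_of_relIndex_two k3 hn' (inv_mem hx)).2 ?_
  rw [inv_mem_iff, ← cj_mem_iff (g := n) (x := x), cj_norm (nK hn)]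

theorem U1.top_le (u : U1 S) (hT : Sy[2] T ⊤) (h : IsStronglyClosed S T) (hX : normalClosure (S : Set G) = ⊤) :
    T ≤ S := by
  have h1 := u.le_sup hT h hX
  have h2 := u.sc_cent hT h
  have wc := fun x => u.wc hT h h1 (x := x)
  obtain ⟨T, rfl⟩ := sylow_of_sy_top hT
  have h3 := Agent.S2767.result T S _ h h2 fun a ha b hb => mem_cent.1 hb.2 a ha
  have nO : ∀ X : Subgroup G, X ≤ N[pPrimeCore 2 G] := fun X => le_normalizer_of_normal
  have h4 : normalClosure ((S ⊓ (T ⊓ C[S]) : Subgroup G) : Set G) ⊔ pPrimeCore 2 G ≤ pPrimeCore 2 G ⊔ S := by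
    refine sup_le ((closure_le _).2 fun y hy => ?_) le_sup_left
    obtain ⟨x, hx, hc⟩ := Group.mem_conjugatesOfSet_iff.1 hy
    obtain ⟨g, rfl⟩ := isConj_iff.1 hc
    simpa using mul_mem (mem_sup_left (H6.zstar2 (wc x ⟨hx.1, hx.2.2⟩) g))
      (mem_sup_right hx.1 : x ∈ pPrimeCore 2 G ⊔ S)
  have h5 : (T : Subgroup G) ⊓ (pPrimeCore 2 G ⊔ S) ≤ S := (hl_max (hl_sup_right (nO S) (by
    rw [H15.pPrimeCore_eq_piCoreOf]; exact H15.isPi_piCoreOf _ _) (H15.Cfsg.IsPiSubgroup.of_le (hl_pi hT) h.1))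
    inf_le_right (H15.Cfsg.IsPiSubgroup.of_le (hl_pi hT) inf_le_left) (le_inf h.1 le_sup_right)).le
  refine le_of_foc hT h hX le_rfl fun x hx n hn hn' => ?_
  have k1 : x ∈ S ⊔ (T ⊓ C[S]) := by
    rw [← modl' h.1 (Or.inl (norm_cent (le_norm S)))]; exact ⟨hx, h1 hx⟩
  obtain ⟨s, hs, r, hr, rfl⟩ := (mem_sup_l (norm_of_cent inf_le_right)).1 k1
  have k2 : n * r * n⁻¹ * r⁻¹ ∈ S := h5 ⟨by
    simpa [mul_assoc] using mul_mem (mul_mem (inv_mem (h.1 (conj_mem hn hs))) hn') (inv_mem hr.1),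
    h4 (h3 (commutator_mem_commutator (hX.ge (mem_top n)) (le_normalClosure hr)))⟩
  simpa [mul_assoc] using mul_mem (mul_mem (conj_mem hn hs) k2) (inv_mem hs)

/-- a strongly closed subgroup of rank one is a Sylow subgroup of its normal closure -/
theorem U1.inf_le (u : U1 S) (hT : Sy[2] T ⊤) (h : IsStronglyClosed S T) : T ⊓ normalClosure (S : Set G) ≤ S := by
  set X := normalClosure (S : Set G)
  have hS : S ≤ X := le_normalClosure
  have h1 : Sy[2] (T ⊓ X) X := hl_inf hT le_top le_normalizer_of_normal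
  have h2 : IsStronglyClosed S (T ⊓ X) := ⟨le_inf h.1 hS, fun x hx g hg => h.2 x hx g hg.1⟩
  have := U1.top_le (G := X) (S := S.subgroupOf X) (T := (T ⊓ X).subgroupOf X)
    (fun s hs t ht os ot => Subtype.ext (u s hs t ht (by rwa [orderOf_coe]) (by rwa [orderOf_coe])))
    (hl_top_iff.2 (H1.isPiHallOf_iff_subgroupOf.1 h1).2) ⟨fun x hx => h2.1 hx, fun x hx g hg => h2.2 x hx g hg⟩ ?_
  · exact fun x hx => this (x := ⟨x, hx.2⟩) hx
  have k : X ≤ (normalClosure (S.subgroupOf X : Set X)).map X.subtype := (closure_le _).2 fun y hy => by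
    obtain ⟨x, hx, hc⟩ := Group.mem_conjugatesOfSet_iff.1 hy
    obtain ⟨g, rfl⟩ := isConj_iff.1 hc
    obtain ⟨k, hk, n, hn, rfl⟩ := sy_frattini h1 (le_normalizer_of_normal (mem_top g))
    have h3 := conj_mem (sc_norm h2 hn) hx
    exact ⟨_, normalClosure_normal.conj_mem ⟨_, hS h3⟩ (le_normalClosure h3) ⟨k, hk⟩, by simp [mul_assoc]⟩
  exact top_unique fun x _ => by
    obtain ⟨y, hy, e⟩ := k x.2
    exact Subtype.ext e ▸ hy

end H11.YZ
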