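import Cfsg.Agent.H7.J4p

/-! An automorphism fixing a duad involution fixes the subgroup `2^11 : M24`. -/

set_option autoImplicit false
set_option linter.unusedVariables false

open Cfsg Cfsg.Spor H29.J4m Subgroup H27
open scoped Pointwise

namespace H11.Abs2

theorem cent_conj {G : Type*} [Group G] (k z : G) :
    Nat.card (centralizer ({k * z * k⁻¹} : Set G)) = Nat.card (centralizer ({z} : Set G)) := by
  have : centralizer ({k * z * k⁻¹} : Set G) =
      (centralizer ({z} : Set G)).map (MulAut.conj k).toMonoidHom := by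
    ext g
    rw [mem_map_equiv, mem_centralizer_singleton_iff, mem_centralizer_singleton_iff]
    simp only [MulAut.conj_symm_apply]
    constructor
    · intro h
      calc k⁻¹ * g * k * z = k⁻¹ * (g * (k * z * k⁻¹)) * k := by group
        _ = z * (k⁻¹ * g * k) := by rw [h]; group
    · intro h
      calc g * (k * z * k⁻¹) = k * (k⁻¹ * g * k * z) * k⁻¹ := by group
        _ = k * z * k⁻¹ * g := by rw [h]; group
  rw [this]
  exact (Nat.card_congr ((centralizer ({z} : Set G)).equivMapOfInjective _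
    (MulAut.conj k).injective).toEquiv).symm

/-- An elementary abelian 2-subgroup of `M24` normalized by an element of order 11 is trivial. -/
theorem triv {A : Subgroup MM} (h2 : ∀ a ∈ A, a * a = 1) {b : MM} (hb : orderOf b = 11)
    (hn : ∀ a ∈ A, b * a * b⁻¹ ∈ A) : A = ⊥ := by
  have : Finite MM := Nat.finite_of_card_ne_zero (by rw [card_MM]; norm_num)
  have : Fact (Nat.Prime 2) := ⟨Nat.prime_two⟩
  have hp : IsPGroup 2 A := fun a => ⟨1, Subtype.ext (by simpa [pow_two] using h2 a a.2)⟩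
  obtain ⟨k, hk⟩ := hp.exists_card_eq
  have hc : A ⊓ centralizer {b} = ⊥ := by
    rw [eq_bot_iff]
    intro a ⟨ha, hab⟩
    by_contra a1
    have o : orderOf a = 2 := orderOf_eq_prime (by rw [pow_two, h2 a ha]) a1
    have hb' : b ∈ centralizer ({a} : Set MM) := by
      rw [mem_centralizer_singleton_iff]
      exact (mem_centralizer_singleton_iff.1 hab).symm
    have hd := Subgroup.orderOf_dvd_natCard _ hb'
    rw [hb] at hd
    rcases cls2 o with ⟨g, rfl⟩ | ⟨g, rfl⟩
    · rw [cent_conj, card_cent_z2a] at hd; omega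
    · rw [cent_conj, card_cent_z2b] at hd; omega
  have hm := H1.Crit.fixm (r := 11) (by norm_num) hn (hb ▸ pow_orderOf_eq_one b)
  rw [hc, Subgroup.card_bot, hk] at hm
  have hd : 2 ^ k ∣ 244823040 := by rw [← hk, ← card_MM]; exact A.card_subgroup_dvd_card
  have k10 : k ≤ 10 := by
    by_contra hl
    have := (pow_dvd_pow 2 (show 11 ≤ k by omega)).trans hd
    omega
  have : k = 0 ∨ k = 10 := by
    interval_cases k <;> simp_all [Nat.ModEq]
  rcases this with rfl | rfl
  · exact Subgroup.eq_bot_of_card_eq A (by simpa using hk)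
  exfalso
  have hf : (Nat.card MM).factorization 2 = 10 := by
    rw [card_MM, show 244823040 = 2 ^ 10 * 239085 by norm_num,
      Nat.factorization_mul (by norm_num) (by norm_num), Nat.Prime.factorization_pow Nat.prime_two]
    simp [Nat.factorization_eq_zero_of_not_dvd (show ¬ 2 ∣ 239085 by norm_num)]
  let P : Sylow 2 MM := Sylow.ofCard A (by rw [hf, hk])
  have hz : IsPGroup 2 (zpowers z2b) :=
    IsPGroup.of_card (n := 1) (by rw [Nat.card_zpowers, ord_z2b]; rfl)
  obtain ⟨Q, hQ⟩ := hz.exists_le_sylow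
  obtain ⟨g, hg⟩ := MulAction.exists_smul_eq MM Q P
  have hz' : g * z2b * g⁻¹ ∈ A := by
    have : g * z2b * g⁻¹ ∈ ((g • Q : Sylow 2 MM) : Subgroup MM) := by
      rw [Sylow.coe_subgroup_smul]
      exact Subgroup.smul_mem_pointwise_smul _ (MulAut.conj g) _ (hQ (mem_zpowers _))
    rwa [hg] at this
  have hle : A ≤ centralizer {g * z2b * g⁻¹} := fun u hu => by
    rw [mem_centralizer_singleton_iff]
    have a := mul_eq_one_iff_eq_inv.1 (h2 _ (mul_mem hu hz'))
    rw [a, mul_inv_rev, ← mul_eq_one_iff_eq_inv.1 (h2 u hu), ← mul_eq_one_iff_eq_inv.1 (h2 _ hz')]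
  have := Subgroup.card_dvd_of_le hle
  rw [cent_conj, card_cent_z2b, hk] at this
  omega

theorem abs2 {G : Type} [Group G] [Finite G] (π : MM →* G) (hπ : Function.Injective π) (E : Subgroup G) (hE : Nat.card E = 2 ^ 11) (h2 : ∀ g ∈ E, g * g = 1) (hKE : π.range ≤ normalizer (E : Set G)) {d : G} (dE : d ∈ E) (hD : ∀ g, g⁻¹ * d * g ∈ E → g ∈ E ⊔ π.range) {b : MM} (hb : orderOf b = 11) (hbd : Commute (π b) d) (σ : MulAut G) (hσ : σ d = d) : E.map σ.toMonoidHom = E ∧ (E ⊔ π.range).map σ.toMonoidHom = E ⊔ π.range := by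
  have := simple_MM
  have hH : E ⊔ π.range ≤ normalizer (E : Set G) := sup_le le_normalizer hKE
  have hN : normalizer (E : Set G) = E ⊔ π.range := le_antisymm (fun g hg => hD g (by
    have := (mem_normalizer_iff.1 (inv_mem hg) d).1 dE
    rwa [inv_inv] at this)) hH
  have cm : ∀ u ∈ E, ∀ v ∈ E, u * v = v * u := fun u hu v hv => by
    have a := mul_eq_one_iff_eq_inv.1 (h2 _ (mul_mem hu hv))
    rw [a, mul_inv_rev, ← mul_eq_one_iff_eq_inv.1 (h2 u hu), ← mul_eq_one_iff_eq_inv.1 (h2 v hv)]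
  have cN : ∀ c, c * d = d * c → c ∈ normalizer (E : Set G) := fun c hc => hH (hD c (by
    rw [mul_assoc, ← hc, inv_mul_cancel_left]; exact dE))
  have cN' : ∀ c, c * d = d * c → c ∈ normalizer (E.map σ.toMonoidHom : Set G) := fun c hc => by
    rw [← map_equiv_normalizer_eq]
    refine ⟨σ.symm c, cN _ ?_, by simp⟩
    apply σ.injective
    simp only [map_mul, MulEquiv.apply_symm_apply, hσ, hc]
  have hE' : ∀ e ∈ E.map σ.toMonoidHom, e * d = d * e ∧ e * e = 1 := by
    rintro _ ⟨e, he, rfl⟩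
    refine ⟨?_, ?_⟩
    · rw [← hσ]
      change σ e * σ d = σ d * σ e
      rw [← map_mul, ← map_mul, cm e he d dE]
    · change σ e * σ e = 1
      rw [← map_mul, h2 e he, map_one]
  have hK : E.comap π = ⊥ := by
    have : (E.comap π).Normal := ⟨fun n hn g => by
      rw [mem_comap, map_mul, map_mul, map_inv]
      exact (mem_normalizer_iff.1 (hKE ⟨g, rfl⟩) _).1 hn⟩
    refine (Subgroup.Normal.eq_bot_or_eq_top this).resolve_right fun ht => ?_
    have : Nat.card MM ≤ Nat.card E := Nat.card_le_card_of_injective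
      (fun k => (⟨π k, (ht ▸ mem_top k : k ∈ E.comap π)⟩ : E)) fun a b e => hπ (congrArg Subtype.val e)
    rw [card_MM, hE] at this
    omega
  let A : Subgroup MM :=
    { carrier := {k | ∃ v ∈ E, ∃ e ∈ E.map σ.toMonoidHom, π k = v * e}
      one_mem' := ⟨1, one_mem _, 1, one_mem _, by simp⟩
      mul_mem' := by
        rintro k l ⟨v, hv, e, he, h⟩ ⟨w, hw, f, hf, h'⟩
        refine ⟨v * (e * w * e⁻¹), mul_mem hv ((mem_normalizer_iff.1 (cN e (hE' e he).1) w).1 hw),
          e * f, mul_mem he hf, ?_⟩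
        rw [map_mul, h, h']; group
      inv_mem' := by
        rintro k ⟨v, hv, e, he, h⟩
        refine ⟨e⁻¹ * v⁻¹ * e⁻¹⁻¹, (mem_normalizer_iff.1 (inv_mem (cN e (hE' e he).1)) _).1
          (inv_mem hv), e⁻¹, inv_mem he, ?_⟩
        rw [map_inv, h]; group }
  have hA : A = ⊥ := by
    refine triv ?_ hb ?_
    · rintro k ⟨v, hv, e, he, h⟩
      have : k * k ∈ E.comap π := by
        rw [mem_comap, map_mul, h, show v * e * (v * e) = v * (e * v * e⁻¹) * (e * e) by group,
          (hE' e he).2, mul_one]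
        exact mul_mem hv ((mem_normalizer_iff.1 (cN e (hE' e he).1) v).1 hv)
      rwa [hK, mem_bot] at this
    · rintro k ⟨v, hv, e, he, h⟩
      refine ⟨π b * v * (π b)⁻¹, (mem_normalizer_iff.1 (cN _ hbd.eq) v).1 hv, π b * e * (π b)⁻¹,
        (mem_normalizer_iff.1 (cN' _ hbd.eq) e).1 he, ?_⟩
      rw [map_mul, map_mul, map_inv, h]; group
  have hle : E.map σ.toMonoidHom ≤ E := fun e he => by
    have h1 : e ∈ E ⊔ π.range := hN ▸ cN e (hE' e he).1
    rw [← SetLike.mem_coe, coe_mul_of_right_le_normalizer_left _ _ hKE] at h1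
    obtain ⟨v, hv, _, ⟨k, rfl⟩, h⟩ := h1
    have : k ∈ A := ⟨v⁻¹, inv_mem hv, e, he, by rw [← h]; simp⟩
    rw [hA, mem_bot] at this
    rw [← h, this]
    simpa using hv
  have h1 : E.map σ.toMonoidHom = E := eq_of_le_of_card_ge hle
    (Nat.card_congr (E.equivMapOfInjective _ σ.injective).toEquiv).le
  refine ⟨h1, ?_⟩
  rw [← hN, map_equiv_normalizer_eq, h1]

end H11.Abs2
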