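import Cfsg.Agent.H11.Bq2
import Cfsg.Agent.H7.Bh

/-! Bridge piece B2. -/

set_option autoImplicit false
set_option linter.unusedSectionVars false
set_option linter.unusedVariables false

namespace H11.B2

open Subgroup H11.Bq

section
variable {S : Type*} [Group S] [Finite S] [IsSimpleGroup S]

theorem b2' (hna : ¬ IsMulCommutative S) (hA : Nat.card (MulAut S) = 2 * Nat.card S)
    {C : Type*} [Group C] [Finite C] (N M : Subgroup C) [N.Normal] [M.Normal] (hNM : N ≤ M)
    (hM : M.index = 2) (hout : ∀ c : C, (∀ m ∈ M, c * m * c⁻¹ * m⁻¹ ∈ N) → c ∈ M)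
    (h : Nonempty ((M ⧸ N.subgroupOf M) ≃* S)) :
    ∃ F : C →* MulAut S, Function.Surjective F ∧ F.ker = N ∧
      ∀ c, c ∈ M ↔ F c ∈ (MulAut.conj : S →* MulAut S).range := by
  obtain ⟨e⟩ := h
  let π : M →* S := e.toMonoidHom.comp (QuotientGroup.mk' _)
  have hs : Function.Surjective π := e.surjective.comp (QuotientGroup.mk'_surjective _)
  have hk : ∀ m : M, π m = 1 ↔ (m : C) ∈ N := fun m => by
    simp [π, mem_subgroupOf]
  have hk2 : ∀ a b : M, π a = π b ↔ (a : C) * (b : C)⁻¹ ∈ N := fun a b => by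
    rw [← mul_inv_eq_one, ← map_inv, ← map_mul, hk]; rfl
  choose σ hσ using hs
  let f : C → S → S := fun c s => π (MulAut.conjNormal c (σ s))
  have hf : ∀ c m, f c (π m) = π (MulAut.conjNormal c m) := fun c m => by
    have := (hk2 _ _).1 (hσ (π m))
    rw [hk2]
    convert (inferInstance : N.Normal).conj_mem _ this c using 1
    simp [MulAut.conjNormal_apply, mul_assoc]
  clear_value f
  have ind : ∀ {p : S → Prop}, (∀ m, p (π m)) → ∀ s, p s := fun {p} hp s => hσ s ▸ hp (σ s)
  let F : C →* MulAut S := MonoidHom.mk'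
    (fun c =>
      { toFun := f c
        invFun := f c⁻¹
        left_inv := ind fun m => by rw [hf, hf]; simp
        right_inv := ind fun m => by rw [hf, hf]; simp
        map_mul' := ind fun a => ind fun b => by rw [← map_mul, hf, hf, hf, map_mul, map_mul] })
    (fun a b => by
      ext s
      revert s
      refine ind fun m => ?_
      change f (a * b) (π m) = f a (f b (π m))
      rw [hf, hf, hf, map_mul]; rfl)
  have hF : ∀ c m, F c (π m) = π (MulAut.conjNormal c m) := hf
  have hker : F.ker = N := by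
    ext c
    rw [MonoidHom.mem_ker]
    constructor
    · intro hc
      have h1 : ∀ m : M, π (MulAut.conjNormal c m) = π m := fun m => by rw [← hF, hc]; rfl
      have cM : c ∈ M := hout c fun m hm => (hk2 _ _).1 (h1 ⟨m, hm⟩)
      refine (hk ⟨c, cM⟩).1 (cen hna (ind fun m => ?_))
      rw [← mul_inv_eq_iff_eq_mul, ← map_inv, ← map_mul, ← map_mul, ← h1 m]
      rfl
    · intro hc
      ext s
      revert s
      refine ind fun m => ?_
      rw [hF, MulAut.one_apply, hk2]
      have := N.mul_mem hc ((inferInstance : N.Normal).conj_mem _ (N.inv_mem hc) m)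
      simpa [MulAut.conjNormal_apply, mul_assoc] using this
  have hc : Nat.card (C ⧸ N) = Nat.card (MulAut S) := by
    rw [hA, ← Nat.card_congr e.toEquiv, ← index_eq_card, ← index_eq_card, ← hM, mul_comm]
    exact (relIndex_mul_index hNM).symm
  let L : C ⧸ N →* MulAut S := QuotientGroup.lift N F hker.ge
  have li : Function.Injective L := by
    rw [injective_iff_map_eq_one]
    intro q hq
    obtain ⟨c, rfl⟩ := QuotientGroup.mk_surjective q
    exact (QuotientGroup.eq_one_iff c).2 (hker.le hq)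
  have lb := (Nat.bijective_iff_injective_and_card L).2 ⟨li, hc⟩
  have inn : ∀ m : M, F m = MulAut.conj (π m) := fun m => by
    ext s
    revert s
    refine ind fun a => ?_
    rw [hF, MulAut.conj_apply, ← map_inv, ← map_mul, ← map_mul]
    rfl
  refine ⟨F, fun a => ?_, hker, fun c => ⟨fun hc => ⟨_, (inn ⟨c, hc⟩).symm⟩, ?_⟩⟩
  · obtain ⟨q, hq⟩ := lb.2 a
    obtain ⟨c, rfl⟩ := QuotientGroup.mk_surjective q
    exact ⟨c, hq⟩
  · rintro ⟨s, hs⟩
    have h1 : c * (σ s : C)⁻¹ ∈ F.ker := by
      rw [MonoidHom.mem_ker, map_mul, map_inv, inn, hσ, hs, mul_inv_cancel]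
    rw [hker] at h1
    simpa using M.mul_mem (hNM h1) (σ s).2

end

open H7B Cfsg Cfsg.Spor

variable {C : Type*} [Group C] [Finite C] {Q N M : Subgroup C} [N.Normal]

theorem b2 (h : St Q N M) : ∃ π : C →* MulAut M22, Function.Surjective π ∧ π.ker = N ∧
    ∀ c, c ∈ M ↔ π c ∈ (MulAut.conj : M22 →* MulAut M22).range :=
  haveI := H11.Bq2.simple
  haveI := h.nM
  b2' H11.Bq2.hna (by rw [H11.Bq2.cardA, H29.card_M22]) N M h.hNM h.hM h.hout h.hM22

end H11.B2
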