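import Mathlib

/-! Pieces AQ / BQ (generic form) for the Janko-four-type reductions. -/

set_option autoImplicit false
set_option linter.unusedSectionVars false
set_option linter.unusedVariables false

namespace H11.Bq

open Subgroup

variable {S : Type*} [Group S] [Finite S] [IsSimpleGroup S]

theorem cen (hna : ¬ IsMulCommutative S) {s : S} (h : ∀ x, s * x = x * s) : s = 1 := by
  rcases (inferInstance : (center S).Normal).eq_bot_or_eq_top with e | e
  · exact mem_bot.1 (e ▸ mem_center_iff.2 fun g => (h g).symm)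
  · exact absurd ⟨⟨fun a b => (mem_center_iff.1 (e ▸ mem_top b : b ∈ center S) a)⟩⟩ hna

theorem aq (h3 : 3 ∣ Nat.card S) (hna : ¬ IsMulCommutative S) (K : Subgroup (MulAut S))
    (hK : K.Normal) (hp : IsPGroup 2 K) : K = ⊥ := by
  have inj : Function.Injective (MulAut.conj : S →* MulAut S) := by
    rw [injective_iff_map_eq_one]
    intro s hs
    refine cen hna fun x => ?_
    have := congrArg (fun f : MulAut S => f x) hs
    simp only [MulAut.conj_apply, MulAut.one_apply] at this
    exact mul_inv_eq_iff_eq_mul.1 this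
  have h1 : K.comap (MulAut.conj : S →* MulAut S) = ⊥ := by
    rcases (hK.comap (MulAut.conj : S →* MulAut S)).eq_bot_or_eq_top with e | e
    · exact e
    · exfalso
      have : Fact (Nat.Prime 2) := ⟨by norm_num⟩
      have h2 := hp.comap_of_injective (MulAut.conj : S →* MulAut S) inj
      rw [e] at h2
      obtain ⟨n, hn⟩ := IsPGroup.iff_card.1 h2
      rw [card_top] at hn
      rw [hn] at h3
      exact absurd (Nat.Prime.dvd_of_dvd_pow (by norm_num) h3) (by norm_num)
  rw [eq_bot_iff]
  intro k hk
  rw [mem_bot]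
  ext x
  have h2 : k x * x⁻¹ ∈ K.comap (MulAut.conj : S →* MulAut S) := by
    rw [mem_comap]
    have := K.mul_mem hk (hK.conj_mem _ (K.inv_mem hk) (MulAut.conj x))
    convert this using 1
    ext y
    simp [MulAut.conj_apply, mul_assoc]
  rw [h1, mem_bot] at h2
  exact mul_inv_eq_one.1 h2

theorem bq (hna : ¬ IsMulCommutative S) (hA : Nat.card (MulAut S) = 2 * Nat.card S)
    {C : Type*} [Group C] [Finite C] (N M : Subgroup C) [N.Normal] [M.Normal] (hNM : N ≤ M)
    (hM : M.index = 2) (hout : ∀ c : C, (∀ m ∈ M, c * m * c⁻¹ * m⁻¹ ∈ N) → c ∈ M)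
    (h : Nonempty ((M ⧸ N.subgroupOf M) ≃* S)) : Nonempty (C ⧸ N ≃* MulAut S) := by
  obtain ⟨e⟩ := h
  let π : M →* S := e.toMonoidHom.comp (QuotientGroup.mk' _)
  have hs : Function.Surjective π := e.surjective.comp (QuotientGroup.mk'_surjective _)
  have hk : ∀ m : M, π m = 1 ↔ (m : C) ∈ N := fun m => by
    simp [π, mem_subgroupOf]
  have hk2 : ∀ a b : M, π a = π b ↔ (a : C) * (b : C)⁻¹ ∈ N := fun a b => by
    rw [← mul_inv_eq_one, ← map_inv, ← map_mul, hk]; rfl
  choose σ hσ using hs
  let f : C → S → S := fun c s => π (MulAut.conjNormal c (σ s))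
  have hf : ∀ c m, f c (π m) = π (MulAut.conjNormal c m) := fun c m => by
    have := (hk2 _ _).1 (hσ (π m))
    rw [hk2]
    convert (inferInstance : N.Normal).conj_mem _ this c using 1
    simp [MulAut.conjNormal_apply, mul_assoc]
  clear_value f
  have ind : ∀ {p : S → Prop}, (∀ m, p (π m)) → ∀ s, p s := fun {p} hp s => hσ s ▸ hp (σ s)
  let F : C →* MulAut S := MonoidHom.mk'
    (fun c =>
      { toFun := f c
        invFun := f c⁻¹
        left_inv := ind fun m => by rw [hf, hf]; simp
        right_inv := ind fun m => by rw [hf, hf]; simp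
        map_mul' := ind fun a => ind fun b => by rw [← map_mul, hf, hf, hf, map_mul, map_mul] })
    (fun a b => by
      ext s
      revert s
      refine ind fun m => ?_
      change f (a * b) (π m) = f a (f b (π m))
      rw [hf, hf, hf, map_mul]; rfl)
  have hF : ∀ c m, F c (π m) = π (MulAut.conjNormal c m) := hf
  have hker : F.ker = N := by
    ext c
    rw [MonoidHom.mem_ker]
    constructor
    · intro hc
      have h1 : ∀ m : M, π (MulAut.conjNormal c m) = π m := fun m => by rw [← hF, hc]; rfl
      have cM : c ∈ M := hout c fun m hm => (hk2 _ _).1 (h1 ⟨m, hm⟩)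
      refine (hk ⟨c, cM⟩).1 (cen hna (ind fun m => ?_))
      rw [← mul_inv_eq_iff_eq_mul, ← map_inv, ← map_mul, ← map_mul, ← h1 m]
      rfl
    · intro hc
      ext s
      revert s
      refine ind fun m => ?_
      rw [hF, MulAut.one_apply, hk2]
      have := N.mul_mem hc ((inferInstance : N.Normal).conj_mem _ (N.inv_mem hc) m)
      simpa [MulAut.conjNormal_apply, mul_assoc] using this
  have hc : Nat.card (C ⧸ N) = Nat.card (MulAut S) := by
    rw [hA, ← Nat.card_congr e.toEquiv, ← index_eq_card, ← index_eq_card, ← hM, mul_comm]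
    exact (relIndex_mul_index hNM).symm
  let L : C ⧸ N →* MulAut S := QuotientGroup.lift N F hker.ge
  have li : Function.Injective L := by
    rw [injective_iff_map_eq_one]
    intro q hq
    obtain ⟨c, rfl⟩ := QuotientGroup.mk_surjective q
    exact (QuotientGroup.eq_one_iff c).2 (hker.le hq)
  exact ⟨MulEquiv.ofBijective L ((Nat.bijective_iff_injective_and_card L).2 ⟨li, hc⟩)⟩

end H11.Bq
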