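import Cfsg.Agent.H11.Bq
import Cfsg.Agent.H29.M22Out
import Cfsg.Prelude.Def_JankoFourType

/-! Pieces AQ / BQ for `M22`. -/

set_option autoImplicit false
set_option linter.unusedSectionVars false
set_option linter.unusedVariables false

namespace H11.Bq2

open Subgroup Cfsg.Spor

theorem simple : IsSimpleGroup ↥M22 := haveI := H27.simple_H22; H27.m22Equiv.symm.isSimpleGroup

theorem hna : ¬ IsMulCommutative ↥M22 := by
  intro h
  haveI := simple
  have : Finite ↥M22 := Nat.finite_of_card_ne_zero (by rw [H29.card_M22]; norm_num)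
  letI : CommGroup ↥M22 := { (inferInstance : Group ↥M22) with mul_comm := h.1.1 }
  have := IsSimpleGroup.prime_card (α := ↥M22)
  rw [H29.card_M22] at this
  norm_num at this

theorem conj_inj : Function.Injective (MulAut.conj : ↥M22 →* MulAut ↥M22) := by
  haveI := simple
  rw [injective_iff_map_eq_one]
  intro s hs
  refine H11.Bq.cen hna fun x => ?_
  have := congrArg (fun f : MulAut ↥M22 => f x) hs
  simp only [MulAut.conj_apply, MulAut.one_apply] at this
  exact mul_inv_eq_iff_eq_mul.1 this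

theorem cardA : Nat.card (MulAut ↥M22) = 887040 := by
  have h1 := H29.m22_out
  have h2 := card_mul_index (Cfsg.Inn ↥M22)
  have h3 : Nat.card (Cfsg.Inn ↥M22) = 443520 := by
    rw [← H29.card_M22]
    exact (Nat.card_congr (MonoidHom.ofInjective conj_inj).toEquiv).symm
  rw [index_eq_card, h3, h1] at h2
  omega

theorem aq : Nat.card (MulAut ↥M22) = 887040 ∧
    ∀ (K : Subgroup (MulAut ↥M22)), K.Normal → IsPGroup 2 K → K = ⊥ :=
  haveI := simple
  ⟨cardA, H11.Bq.aq (by rw [H29.card_M22]; norm_num) hna⟩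

theorem bq {C : Type*} [Group C] [Finite C] (N M : Subgroup C) [N.Normal] [M.Normal] (hNM : N ≤ M)
    (hM : M.index = 2) (hout : ∀ c : C, (∀ m ∈ M, c * m * c⁻¹ * m⁻¹ ∈ N) → c ∈ M)
    (h : IsoM22 (M ⧸ N.subgroupOf M)) : Nonempty (C ⧸ N ≃* MulAut ↥M22) :=
  haveI := simple
  H11.Bq.bq hna (by rw [cardA, H29.card_M22]) N M hNM hM hout h

end H11.Bq2
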