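import Cfsg.Agent.H11.MN5
import Cfsg.Agent.H10.PU13
import Cfsg.Agent.H9.Basic

/-! Nonsolvable groups all of whose proper subgroups are CA-groups: basics. -/

set_option autoImplicit false
set_option linter.unusedSectionVars false

namespace H16.H11.CA

open Subgroup Cfsg H1 H15 H16.H11.MX
open scoped commutatorElement

variable {G : Type*} [Group G] {p : ℕ} {H K M N R S T U W : Subgroup G}
  {a b c g h i j k s t u v w x y z : G}

structure PP (G : Type*) [Group G] : Prop where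
  ns : ¬ Group.IsSolvable G
  pc : ∀ H : Subgroup G, H ≠ ⊤ → ∀ y ∈ H, IsMulCommutative ↥(H ⊓ C1[y]) ∨ H ≤ C1[y]

theorem sol_top (h : Group.IsSolvable (⊤ : Subgroup G)) : Group.IsSolvable G :=
  Group.isSolvable_of_surjective (f := (topEquiv (G := G)).toMonoidHom) topEquiv.surjective

theorem PP.nt (h : PP G) (hs : Group.IsSolvable H) : H ≠ ⊤ := by
  rintro rfl
  exact h.ns (sol_top hs)

theorem PP.le (h : PP G) (hH : H ≠ ⊤) (hy : y ∈ H) (h1 : K ≤ H) (h2 : K ≤ C1[y])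
    (hK : ¬ IsMulCommutative K) : H ≤ C1[y] :=
  (h.pc H hH y hy).resolve_left fun e => hK (comm_of_le e (le_inf h1 h2))

theorem comm_mem (hK : IsMulCommutative K) (ha : a ∈ K) (hb : b ∈ K) : a ∈ C1[b] :=
  cent_le_cent1 hb (comm_iff.1 hK ha)

theorem ncomm (ha : a ∈ K) (hb : b ∈ K) (h : a ∉ C1[b]) : ¬ IsMulCommutative K :=
  fun e => h (comm_mem e ha hb)

theorem PP.com (h : PP G) (hH : H ≠ ⊤) (hy : y ∈ H) (h1 : ¬ H ≤ C1[y]) :
    IsMulCommutative ↥(H ⊓ C1[y]) := (h.pc H hH y hy).resolve_right h1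

theorem zc (hz : z ∈ center G) (g : G) : g ∈ C1[z] := mem_cent1.2 (mem_center_iff.1 hz g)

theorem zc' (hz : z ∈ center G) (g : G) : z ∈ C1[g] := cent1_comm.1 (zc hz g)

theorem zc_of (h : ∀ g, g ∈ C1[z]) : z ∈ center G := mem_center_iff.2 fun g => mem_cent1.1 (h g)

theorem zconj (hz : z ∈ center G) (g : G) : g * z * g⁻¹ = z := conj_of_cent (zc hz g)

theorem zsw (hz : z ∈ center G) (a b : G) : a * (z * b) = z * (a * b) := by
  rw [← mul_assoc, mem_center_iff.1 hz, mul_assoc]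

theorem z_le_cent (K : Subgroup G) : center G ≤ C[K] := fun _ hz =>
  mem_cent.2 fun g _ => mem_center_iff.1 hz g

theorem comm_z : IsMulCommutative (center G) := comm_iff.2 (z_le_cent _)

theorem norm_z : K ≤ N[center G] := norm_of_cent' (z_le_cent K)

theorem cz_left (h : g * u * g⁻¹ = u * z) (hz : g ∈ C1[z]) (k : ℕ) :
    g ^ k * u * (g ^ k)⁻¹ = u * z ^ k := by
  induction k with
  | zero => simp
  | succ k ih =>
    have e := conj_of_cent (x := z ^ k) (cent1_comm.1 (pow_mem (cent1_comm.1 hz) k))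
    rw [pow_succ', show g * g ^ k * u * (g * g ^ k)⁻¹ = g * (g ^ k * u * (g ^ k)⁻¹) * g⁻¹ by group,
      ih, conj_mul', h, e, pow_succ', mul_assoc]

theorem cz_right (h : g * u * g⁻¹ = u * z) (hz : u ∈ C1[z]) (k : ℕ) :
    g * u ^ k * g⁻¹ = u ^ k * z ^ k := by
  rw [← conj_pow, h, Commute.mul_pow (mem_cent1.1 hz)]

theorem exists_pw (p : ℕ) (k : ℕ) (h1 : t ∉ K) (h2 : t ^ p ^ k ∈ K) :
    ∃ m : ℕ, t ^ m ∉ K ∧ (t ^ m) ^ p ∈ K := by
  induction k with
  | zero => simp [h1] at h2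
  | succ k ih =>
    by_cases e : t ^ p ^ k ∈ K
    · exact ih e
    · exact ⟨p ^ k, e, by rwa [← pow_mul, ← pow_succ]⟩

theorem exists_sq (k : ℕ) (h1 : t ∉ K) (h2 : t ^ 2 ^ k ∈ K) :
    ∃ m : ℕ, t ^ m ∉ K ∧ t ^ m * t ^ m ∈ K := by
  simpa only [pow_two] using exists_pw 2 k h1 h2

theorem sol_zp (hs : Group.IsSolvable K) (hg : g ∈ N[K]) : Group.IsSolvable ↥(K ⊔ zpowers g) := by
  rw [sup_comm]
  exact H1.isSolvable_sup (sol_of_comm (comm_of_cyclic (cyclic_zpowers g))) hs (zpowers_le.2 hg)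

theorem sol_der (h : ⁅H, H⁆ ≤ U) (hU : Group.IsSolvable U) : Group.IsSolvable H :=
  H4.isSolvable_of_commutator_mem (fun _ hx _ hy => h (commutator_mem_commutator hx hy)) hU

theorem three_bot (h1 : ⁅K, U⁆ ≤ W) (h2 : K ≤ C[W]) : ⁅K, K⁆ ≤ C[U] := by
  have e : ⁅⁅K, U⁆, K⁆ = ⊥ := comm_eq_bot.2 (h1.trans (cent_symm h2))
  exact comm_eq_bot.1 (commutator_commutator_eq_bot_of_rotate e (by rwa [commutator_comm U K]))

variable [Finite G]

theorem pg_pw (hp : p.Prime) (hK : Pg[p] K) (hx : x ∈ K) : ∃ k : ℕ, x ^ p ^ k = 1 := by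
  have := Fact.mk hp
  obtain ⟨k, hk⟩ := hK.isPGroup ⟨x, hx⟩
  exact ⟨k, congrArg Subtype.val hk⟩

theorem sol_of_sy (hS : Sy[2] S N) (hK : Group.IsSolvable K) (hn : N ≤ N[K]) (h : S ≤ K) :
    Group.IsSolvable N := by
  have : (K.subgroupOf N).Normal := normal_subgroupOf_of_le_normalizer hn
  have h1 : ¬ 2 ∣ K.relIndex N := fun e =>
    sy_not_dvd hS Nat.prime_two (e.trans (relIndex_dvd_of_le_left N h))
  have h2 : Group.IsSolvable (N ⧸ K.subgroupOf N) :=
    H17.odd_solvable (Nat.odd_iff.2 (Nat.two_dvd_ne_zero.1 h1))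
  have h3 : Group.IsSolvable (K.subgroupOf N) := by
    rw [← inf_subgroupOf_right]
    have := sol_of_le hK (inf_le_left (b := N))
    exact Group.isSolvable_of_surjective
      (f := (subgroupOfEquivOfLe (inf_le_right (a := K) (b := N))).symm.toMonoidHom)
      (MulEquiv.surjective _)
  have := H1.isSolvable_comap (K := ⊤) inferInstance (QuotientGroup.mk' (K.subgroupOf N))
    (by rwa [QuotientGroup.ker_mk'])
  exact sol_top this

theorem sol_norm (hS : Sy[2] S ⊤) : Group.IsSolvable N[S] :=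
  have := Fact.mk Nat.prime_two
  sol_of_sy (hl_of_le hS (le_norm S) le_top) (hl_pi hS).solvable le_rfl le_rfl

theorem pg'_sol (h : Pg'[2] K) : Group.IsSolvable K :=
  H17.odd_solvable (Nat.odd_iff.2 (Nat.two_dvd_ne_zero.1 (h.not_dvd Nat.prime_two (by simp))))

theorem nab_norm (hN : ¬ Group.IsSolvable N) (hS : Sy[2] S N) :
    ¬ IsMulCommutative ↥(N ⊓ N[S]) := fun e => by
  have := Fact.mk Nat.prime_two
  have hb := burnside_amb hS (comm_cent e le_rfl (le_inf hS.1 (le_norm S)))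
  refine hN ?_
  rw [← hl_sup_compl hS hb]
  exact H1.isSolvable_sup (hl_pi hS).solvable (pg'_sol (hl_pi hb))
    (le_norm_piCoreOf_of_le _ hS.1)

theorem PP.cA (h : PP G) (hn : ⊤ ≤ N[U]) (hc : ¬ Group.IsSolvable C[U]) : U ≤ center G := by
  have := Fact.mk Nat.prime_two
  obtain ⟨S, hS⟩ := sy_exists 2 C[U]
  have hH : N[S] ≠ ⊤ := fun e =>
    hc (sol_of_sy hS (hl_pi hS).solvable (le_top.trans e.ge) le_rfl)
  intro u hu
  have h1 := h.le hH (cent_le_norm _ (cent_symm hS.1 hu)) inf_le_right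
    (inf_le_left.trans (cent_le_cent1 hu)) (nab_norm hc hS)
  refine zc_of fun g => ?_
  obtain ⟨k, hk, n, hn', rfl⟩ := sy_frattini hS (norm_cent hn (mem_top g))
  exact mul_mem (cent_le_cent1 hu hk) (h1 hn')

theorem PP.exists_inv (h : PP G) (hT : Sy[2] T ⊤) (hs : Group.IsSolvable U) (hn : ⊤ ≤ N[U]) :
    ∃ i ∈ T, i ∉ U ∧ i * i ∈ U := by
  obtain ⟨t, a, b⟩ : ∃ t ∈ T, t ∉ U := by
    by_contra! e
    exact h.ns (sol_top (sol_of_sy hT hs hn e))
  obtain ⟨k, hk⟩ := pg_pow (hl_pi hT) a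
  obtain ⟨m, c, d⟩ := exists_sq k b (hk ▸ one_mem U)
  exact ⟨_, pow_mem a m, c, d⟩

theorem PP.ui (h : PP G) (hT : Sy[2] T ⊤) (hs : Group.IsSolvable U) (hn : ⊤ ≤ N[U])
    (hc : ∀ t ∈ T, t ∈ C[U] → t ∈ center G)
    (hu : ∀ i ∈ T, ∀ j ∈ T, i ∉ center G → j ∉ center G → i * i ∈ center G → j * j ∈ center G →
      i * j ∈ center G) : False := by
  obtain ⟨i, a1, a2, a3⟩ := h.exists_inv hT (sol_of_comm comm_z) norm_z
  have h1 : T ≤ C1[i] := fun t ht => by
    by_cases e : t ∈ center G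
    · exact zc' e i
    obtain ⟨k, hk⟩ := pg_pow (hl_pi hT) ht
    obtain ⟨m, c, d⟩ := exists_sq k e (hk ▸ one_mem _)
    have e1 := zc' (hu i a1 _ (pow_mem ht m) a2 c a3 d) t
    exact cent1_comm.1 ((mul_mem_cancel_right (pow_mem (cent1_self t) m)).1 e1)
  have h2 : N[T] ≤ C1[i] := fun n hn' => by
    have b1 := conj_mem hn' a1
    have b2 : n * i * n⁻¹ ∉ center G := fun e => a2 (by
      have := zconj e n⁻¹
      rw [show n⁻¹ * (n * i * n⁻¹) * n⁻¹⁻¹ = i by group] at this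
      rwa [this])
    have b3 : n * i * n⁻¹ * (n * i * n⁻¹) = i * i := by rw [← conj_mul', zconj a3]
    have b4 := hu i a1 _ b1 a2 b2 a3 (b3 ▸ a3)
    have b5 : (i * i)⁻¹ * (i * (n * i * n⁻¹)) ∈ center G := mul_mem (inv_mem a3) b4
    have b6 : n * i * n⁻¹ = i * ((i * i)⁻¹ * (i * (n * i * n⁻¹))) := by group
    generalize (i * i)⁻¹ * (i * (n * i * n⁻¹)) = z at b5 b6
    have b7 : z ^ 2 = 1 := by
      have := cz_right b6 (zc b5 i) 2
      rw [pow_two i, zconj a3] at this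
      exact left_eq_mul.1 this
    have b8 : n ^ 2 ∈ C1[i] := cent_of_conj (by rw [cz_left b6 (zc b5 n), b7, mul_one])
    have : (T.subgroupOf N[T]).Normal := normal_subgroupOf_of_le_normalizer le_rfl
    have b9 : n ^ T.relIndex N[T] ∈ T := pow_index_mem (H := T.subgroupOf N[T]) ⟨n, hn'⟩
    exact H9.mem_of_pow_mem_of_coprime b8 (h1 b9) ((Nat.prime_two.coprime_iff_not_dvd).2
      (sy_not_dvd (hl_of_le hT (le_norm T) le_top) Nat.prime_two))
  have h3 : Group.IsSolvable ↥(N[T] ⊔ U) :=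
    H1.isSolvable_sup (sol_norm hT) hs (le_top.trans hn)
  have h4 := h.le (h.nt h3) (mem_sup_left (le_norm T a1)) (inf_le_right.trans le_sup_left)
    (inf_le_right.trans h2) (nab_norm (fun e => h.ns (sol_top e)) hT)
  exact a2 (hc i a1 (le_cent1.1 (le_sup_right.trans h4)))

end H16.H11.CA
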