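import Cfsg.Agent.H11.CA1

/-! Abelian normal subgroups are central. -/

set_option autoImplicit false
set_option linter.unusedSectionVars false

namespace H16.H11.CA

open Subgroup Cfsg H1 H15 H16.H11.MX
open scoped commutatorElement

variable {G : Type*} [Group G] [Finite G] {p : ℕ} {H K M N R S T U W : Subgroup G}
  {a b c g h i j k s t u v w x y z : G}

theorem mem_norm_sup_zp (h1 : g ∈ N[K]) (h2 : g * x * g⁻¹ ∈ K ⊔ zpowers x) :
    g ∈ N[(K ⊔ zpowers x : Subgroup G)] := mem_norm_of_cj_le (by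
  rw [cj_sup, cj_norm h1, ← zpowers_cj]
  exact sup_le le_sup_left (zpowers_le.2 h2))

theorem PP.b1 (h : PP G) (hc : C[U] = U) (hs : Group.IsSolvable H) (hU : U ≤ H) (hg : g ∈ H)
    (h1 : g ∉ U) (hw : w ∈ U) (h2 : w ∈ C1[g]) : H ≤ C1[w] := by
  refine h.le (K := U ⊔ zpowers g) (h.nt hs) (hU hw) (sup_le hU (zpowers_le.2 hg))
    (sup_le (le_cent1.2 (hc.ge hw)) (zpowers_le.2 (cent1_comm.1 h2))) fun e => h1 ?_
  rw [← hc]
  exact comm_cent e le_sup_right le_sup_left (mem_zpowers g)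

theorem sol_dih (hs : Group.IsSolvable U) (hn : ⊤ ≤ N[U]) (hi : i * i ∈ U) (hj : j * j ∈ U) :
    ∃ H : Subgroup G, Group.IsSolvable H ∧ U ≤ H ∧ i ∈ H ∧ j ∈ H := by
  have e : i * (i * j) * i⁻¹ = (i * i) * (j * j) * (i * j)⁻¹ := by group
  have h1 : i ∈ N[(U ⊔ zpowers (i * j) : Subgroup G)] := mem_norm_sup_zp (hn (mem_top i)) (by
    rw [e]
    exact mul_mem (mem_sup_left (mul_mem hi hj)) (mem_sup_right (inv_mem (mem_zpowers _))))
  have h2 : i ∈ U ⊔ zpowers (i * j) ⊔ zpowers i := mem_sup_right (mem_zpowers i)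
  refine ⟨_, sol_zp (sol_zp hs (hn (mem_top _))) h1, le_sup_left.trans le_sup_left, h2, ?_⟩
  exact (mul_mem_cancel_left h2).1 (mem_sup_left (mem_sup_right (mem_zpowers _)))

theorem inv_fix (hc : IsMulCommutative U) (hn : i ∈ N[U]) (hi : i * i ∈ U) (hu : u ∈ U) :
    u * (i * u * i⁻¹) ∈ C1[i] := cent1_comm.1 (cent_of_conj (by
  rw [conj_mul', show i * (i * u * i⁻¹) * i⁻¹ = (i * i) * u * (i * i)⁻¹ by group,
    conj_of_cent (comm_mem hc hi hu)]
  exact mem_cent1.1 (comm_mem hc (conj_mem hn hu) hu)))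

theorem PP.ab2 (h : PP G) (hn : ⊤ ≤ N[U]) (hc : C[U] = U) : False := by
  have := Fact.mk Nat.prime_two
  have hcm : IsMulCommutative U := comm_iff.2 hc.ge
  have hs := sol_of_comm hcm
  obtain ⟨T, hT⟩ := sy_exists 2 (⊤ : Subgroup G)
  obtain ⟨i, -, i1, i2⟩ := h.exists_inv hT hs hn
  have n (g : G) : g ∈ N[U] := hn (mem_top g)
  have w1 : ∀ i j, i ∉ U → i * i ∈ U → j * j ∈ U → ∀ w ∈ U, w ∈ C1[i] → w ∈ C1[j] :=
    fun i j a1 a2 a3 w a4 a5 => by
      obtain ⟨H, b1, b2, b3, b4⟩ := sol_dih hs hn a2 a3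
      exact cent1_comm.1 (h.b1 hc b1 b2 b3 a1 a4 a5 b4)
  obtain ⟨W, hW⟩ : ∃ W, W = U ⊓ C1[i] := ⟨_, rfl⟩
  have wm : ∀ w, w ∈ W ↔ w ∈ U ∧ w ∈ C1[i] := fun w => by rw [hW, mem_inf]
  have sq : ∀ g j, j * j ∈ U → g * j * g⁻¹ * (g * j * g⁻¹) ∈ U := fun g j e => by
    rw [← conj_mul']; exact conj_mem (n g) e
  have wn : ⊤ ≤ N[W] := le_norm_iff.2 fun g _ w hw => by
    obtain ⟨a, b⟩ := (wm w).1 hw
    refine (wm _).2 ⟨conj_mem (n g) a, ?_⟩
    have := w1 i _ i1 i2 (sq g⁻¹ i i2) w a b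
    rw [cent1_cj, mem_cj] at this
    simpa using this
  obtain ⟨K, hK⟩ : ∃ K, K = H10.stabMod U W ⊓ C[W] := ⟨_, rfl⟩
  have kn : ⊤ ≤ N[K] := hK ▸ norm_inf (H10.le_NN_stabMod hn wn) (norm_cent wn)
  have k1 : ⁅K, U⁆ ≤ W := (H10.le_stabMod.1 (hK ▸ inf_le_left)).2
  have k2 : K ≤ C[W] := hK ▸ inf_le_right
  have ks : Group.IsSolvable K := sol_der (hc ▸ three_bot k1 k2) hs
  have wU : W ≤ U := hW ▸ inf_le_left
  have kU : U ≤ K := hK ▸ le_inf (H10.le_stabMod.2 ⟨le_top.trans wn,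
    (der_eq_bot.2 hcm).le.trans bot_le⟩) (comm_cent hcm le_rfl wU)
  have cw : ∀ j, j * j ∈ U → j ∈ C[W] := fun j e => le_cent1.1 fun w hw =>
    w1 i j i1 i2 e w ((wm w).1 hw).1 ((wm w).1 hw).2
  have iv : ∀ j, j ∉ U → j * j ∈ U → ∀ u ∈ U, u * (j * u * j⁻¹) ∈ W := fun j a b u hu =>
    have e := mul_mem hu (conj_mem (n j) hu)
    (wm _).2 ⟨e, w1 j i a b i2 _ e (inv_fix hcm (n j) b hu)⟩
  have k3 : ∀ a b, a ∉ U → b ∉ U → a * a ∈ U → b * b ∈ U → a * b ∈ K := fun a b a1 b1 a2 b2 => by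
    rw [hK]
    refine mem_inf.2 ⟨⟨wn (mem_top _), fun u hu => ?_⟩, mul_mem (cw a a2) (cw b b2)⟩
    have e : ⁅a * b, u⁆ = (a * u * a⁻¹)⁻¹ * (a * (u * (b * u * b⁻¹)) * a⁻¹) * (a * u * a⁻¹) *
        (u * (a * u * a⁻¹))⁻¹ := by
      rw [commutatorElement_def]; group
    rw [e]
    exact mul_mem (conj_mem' (wn (mem_top _)) (conj_mem (wn (mem_top _)) (iv b b1 b2 u hu)))
      (inv_mem (iv a a1 a2 u hu))
  have im : ∀ j, j * j ∈ U → j ∈ K ⊔ zpowers i := fun j e => by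
    by_cases e1 : j ∈ U
    · exact mem_sup_left (kU e1)
    · exact (mul_mem_cancel_right (mem_sup_right (mem_zpowers i))).1
        (mem_sup_left (k3 j i e1 i1 e i2))
  have iN : ⊤ ≤ N[(K ⊔ zpowers i : Subgroup G)] := fun g _ =>
    mem_norm_sup_zp (kn (mem_top g)) (im _ (sq g i i2))
  have iS := sol_zp ks (kn (mem_top i))
  have hg : ∀ g, ∃ H : Subgroup G, Group.IsSolvable H ∧ U ≤ H ∧ i ∈ H ∧ g ∈ H := fun g =>
    ⟨_, sol_zp iS (iN (mem_top g)), kU.trans (le_sup_left.trans le_sup_left),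
      mem_sup_left (im i i2), mem_sup_right (mem_zpowers g)⟩
  have wZ : W ≤ center G := fun w hw => zc_of fun g => by
    obtain ⟨H, b1, b2, b3, b4⟩ := hg g
    exact h.b1 hc b1 b2 b3 i1 ((wm w).1 hw).1 ((wm w).1 hw).2 b4
  have cu : ∀ g, g ∉ U → ∀ u ∈ U, u ∈ C1[g] → u ∈ center G := fun g e u a b => by
    obtain ⟨H, b1, b2, b3, b4⟩ := hg g
    exact wZ ((wm u).2 ⟨a, cent1_comm.1 (h.b1 hc b1 b2 b4 e a b b3)⟩)
  by_cases e : ∃ u ∈ U, u ∉ center G ∧ u * u ∈ center G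
  · obtain ⟨u, u1, u2, u3⟩ := e
    refine h.ns (sol_top (sol_of_sy hT iS iN fun s hs => im s ?_))
    by_contra e
    obtain ⟨k, hk⟩ := pg_pow (hl_pi hT) (mul_mem hs hs)
    obtain ⟨m, c, d⟩ := exists_sq k e (hk ▸ one_mem U)
    rw [Commute.mul_pow (Commute.refl s)] at c d
    generalize s ^ m = s at c d
    have b5 : (u * u)⁻¹ * (u * (s * s * u * (s * s)⁻¹)) ∈ center G :=
      mul_mem (inv_mem u3) (wZ (iv _ c d u u1))
    have b6 : s * s * u * (s * s)⁻¹ = u * ((u * u)⁻¹ * (u * (s * s * u * (s * s)⁻¹))) := by group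
    generalize (u * u)⁻¹ * (u * (s * s * u * (s * s)⁻¹)) = z at b5 b6
    have b7 : z ^ 2 = 1 := by
      have := cz_right b6 (zc b5 u) 2
      rw [pow_two u, zconj u3] at this
      exact left_eq_mul.1 this
    have b8 : s * (u * (s * u * s⁻¹)) * s⁻¹ = u * (s * u * s⁻¹) * z := by
      rw [conj_mul', show s * (s * u * s⁻¹) * s⁻¹ = s * s * u * (s * s)⁻¹ by group, b6,
        ← mul_assoc, mem_cent1.1 (comm_mem hcm (conj_mem (n s) u1) u1)]
    have b9 := cz_left b8 (zc b5 s) 2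
    rw [b7, mul_one, pow_two] at b9
    have b10 := cu _ c _ (mul_mem u1 (conj_mem (n s) u1)) (cent1_comm.1 (cent_of_conj b9))
    rw [zconj b10, left_eq_mul] at b8
    rw [b8, mul_one] at b6
    exact u2 (cu _ c u u1 (cent1_comm.1 (cent_of_conj b6)))
  · have e2 : ∀ u ∈ U, ∀ k : ℕ, u ^ 2 ^ k ∈ center G → u ∈ center G := fun u hu k hk => by
      by_contra e1
      obtain ⟨m, c, d⟩ := exists_sq k e1 hk
      exact e ⟨_, pow_mem hu m, c, d⟩
    have e3 : ∀ t ∈ T, t ∈ U → t ∈ center G := fun t a b => by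
      obtain ⟨k, hk⟩ := pg_pow (hl_pi hT) a
      exact e2 t b k (hk ▸ one_mem _)
    have zU : center G ≤ U := hc ▸ z_le_cent U
    refine h.ui hT hs hn (fun t a b => e3 t a (hc ▸ b)) fun a a1 b b1 a2 b2 a3 b3 =>
      e3 _ (mul_mem a1 b1) ?_
    by_contra e4
    have e5 := k3 a b (fun e => a2 (e3 a a1 e)) (fun e => b2 (e3 b b1 e)) (zU a3) (zU b3)
    obtain ⟨k, hk⟩ := pg_pow (hl_pi hT) (mul_mem a1 b1)
    generalize a * b = c at e4 e5 hk
    refine i1 (hc ▸ le_cent1.1 fun u hu => zc' (e2 u hu k (cu c e4 _ (pow_mem hu _) ?_)) i)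
    have z1 := wZ (k1 (commutator_mem_commutator e5 hu))
    have z2 : c * u * c⁻¹ = u * ⁅c, u⁆ := by
      rw [mem_center_iff.1 z1, commutatorElement_def]; group
    have z3 := cz_left z2 (zc z1 c) (2 ^ k)
    rw [hk, one_mul, inv_one, mul_one, left_eq_mul] at z3
    exact cent1_comm.1 (cent_of_conj (by rw [cz_right z2 (zc z1 u), z3, mul_one]))

theorem PP.ab (h : PP G) (hn : ⊤ ≤ N[U]) (hc : IsMulCommutative U) : U ≤ center G := by
  by_contra e
  have hs : Group.IsSolvable C[U] := by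
    by_contra e1
    exact e (h.cA hn e1)
  have n := norm_cent hn
  have hU := comm_iff.1 hc
  refine h.ab2 n (le_antisymm (cent_anti hU) (comm_iff.1 ?_))
  by_contra e1
  refine e fun u hu => zc_of fun g => ?_
  exact h.le (h.nt (sol_zp hs (n (mem_top g)))) (mem_sup_left (hU hu)) le_sup_left
    (cent_le_cent1 hu) e1 (mem_sup_right (mem_zpowers g))

theorem PP.cent (h : PP G) (hn : ⊤ ≤ N[U]) (hs : Group.IsSolvable U) (e : ¬ U ≤ center G) :
    C[U] ≤ center G := by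
  have hc : Group.IsSolvable C[U] := by
    by_contra e1
    exact e (h.cA hn e1)
  refine h.ab (norm_cent hn) (comm_iff.2 fun c hc' => le_cent1.1 (le_sup_left.trans
    (h.le (h.nt (H1.isSolvable_sup hc hs (le_top.trans hn))) (mem_sup_left hc') le_sup_right
      (le_cent1.2 hc') fun e1 => e (h.ab hn e1))))

end H16.H11.CA
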