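import Cfsg.Agent.H11.CA2

/-! Solvable normal subgroups are central. -/

set_option autoImplicit false
set_option linter.unusedSectionVars false

namespace H16.H11.CA

open Subgroup Cfsg H1 H15 H16.H11.MX
open scoped commutatorElement

variable {G : Type*} [Group G] {p : ℕ} {H K M N R S T U W : Subgroup G}
  {a b c g h i j k s t u v w x y z : G}

abbrev pz (G : Type*) [Group G] : G →* G ⧸ center G := QuotientGroup.mk' _

theorem pz_one : pz G a = 1 ↔ a ∈ center G := QuotientGroup.eq_one_iff a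

theorem pz_eq : pz G a = pz G b ↔ a⁻¹ * b ∈ center G := QuotientGroup.eq

theorem pz_ker : (pz G).ker = center G := QuotientGroup.ker_mk' _

theorem pz_surj : Function.Surjective (pz G) := QuotientGroup.mk'_surjective _

theorem exists_z (h : pz G a = pz G b) : ∃ z ∈ center G, b = a * z :=
  ⟨_, pz_eq.1 h, by group⟩

theorem pz_mul (hz : z ∈ center G) : pz G (a * z) = pz G a := by
  rw [map_mul, pz_one.2 hz, mul_one]

theorem zpw_left (h : g * u * g⁻¹ = u * z) (hz : z ∈ center G) {k : ℕ} (hk : g ^ k ∈ C1[u]) :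
    z ^ k = 1 := by
  have := cz_left h (zc hz g) k
  rwa [conj_of_cent hk, left_eq_mul] at this

theorem zpw_right (h : g * u * g⁻¹ = u * z) (hz : z ∈ center G) {k : ℕ} (hk : u ^ k ∈ C1[g]) :
    z ^ k = 1 := by
  have := cz_right h (zc hz u) k
  rwa [conj_of_cent (cent1_comm.1 hk), left_eq_mul] at this

theorem eq_one_cop {m n : ℕ} (h1 : z ^ m = 1) (h2 : z ^ n = 1) (h : m.Coprime n) : z = 1 :=
  mem_bot.1 (H9.mem_of_pow_mem_of_coprime (mem_bot.2 h1) (mem_bot.2 h2) h)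

/-- elements commuting with `x` modulo the centre -/
def CZ (x : G) : Subgroup G := (C1[pz G x]).comap (pz G)

theorem mem_CZ : g ∈ CZ x ↔ pz G x = pz G (g * x * g⁻¹) := by
  rw [CZ, mem_comap, mem_cent1, map_mul, map_mul, map_inv, eq_mul_inv_iff_mul_eq, eq_comm]

theorem CZ_z (h : g ∈ CZ x) : ∃ z ∈ center G, g * x * g⁻¹ = x * z := exists_z (mem_CZ.1 h)

theorem cent_le_CZ (x : G) : C1[x] ≤ CZ x := fun g hg => mem_CZ.2 (by rw [conj_of_cent hg])

theorem CZ_comm : g ∈ CZ x ↔ x ∈ CZ g := cent1_comm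

theorem CZ_norm : CZ x ≤ N[C1[x]] := le_norm_iff.2 fun g hg a ha => by
  obtain ⟨z, h1, h2⟩ := CZ_z (inv_mem hg)
  rw [inv_inv] at h2
  have : a ∈ C1[g⁻¹ * x * g⁻¹⁻¹] := by
    rw [inv_inv, h2]; exact cent1_comm.1 (mul_mem (cent1_comm.1 ha) (zc' h1 a))
  rw [cent1_cj, mem_cj] at this
  simpa using this

theorem CZ_pow (hg : g ∈ CZ x) {k : ℕ} (hk : x ^ k ∈ center G) : g ^ k ∈ C1[x] := by
  obtain ⟨z, h1, h2⟩ := CZ_z hg
  exact cent_of_conj (by rw [cz_left h2 (zc h1 g), zpw_right h2 h1 (zc' hk g), mul_one])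

structure RR (p : ℕ) (R : Subgroup G) : Prop where
  pp : p.Prime
  n : ⊤ ≤ N[R]
  pw : ∀ r ∈ R, r ^ p ∈ center G
  der : ∀ a ∈ R, ∀ b ∈ R, a ∈ CZ b
  c : C[R] ≤ center G
  sc : ∀ g, (∀ r ∈ R, g ∈ CZ r) → g ∈ R
  nz : ¬ R ≤ center G

theorem der_z (h : ∀ a ∈ R, ∀ b ∈ K, a ∈ CZ b) : ⁅R, K⁆ ≤ center G :=
  commutator_le.2 fun a ha b hb => pz_one.1 (by
    rw [map_commutatorElement, commutatorElement_eq_one_iff_mul_comm]; exact mem_cent1.1 (h a ha b hb))

theorem CZ_of_der (h : ⁅a, b⁆ ∈ center G) : a ∈ CZ b := by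
  rw [← pz_one, map_commutatorElement, commutatorElement_eq_one_iff_mul_comm] at h
  exact mem_cent1.2 h

theorem RR.sol (r : RR p R) : Group.IsSolvable R := sol_der (der_z r.der) (sol_of_comm comm_z)

variable [Finite G]

theorem norm_map {Q : Type*} [Group Q] {f : G →* Q} (hf : Function.Surjective f) (hn : ⊤ ≤ N[K]) :
    (K.map f).Normal := (normal_of_top hn).map f hf

theorem top_norm (K : Subgroup G) [K.Normal] : ⊤ ≤ N[K] := (normalizer_eq_top K).ge

theorem PP.rr (h : PP G) (hn : ⊤ ≤ N[K]) (hs : Group.IsSolvable K) (e : ¬ K ≤ center G) :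
    ∃ (p : ℕ) (R : Subgroup G), RR p R := by
  have := norm_map pz_surj hn
  obtain ⟨M, p, m1, m2, -, hp, m4, m5, -⟩ := exists_minimal_normal_elementary (K.map (pz G))
    (Group.isSolvable_of_surjective (f := (pz G).subgroupMap K) ((pz G).subgroupMap_surjective K))
    (fun e1 => e (by rwa [Subgroup.map_eq_bot_iff, pz_ker] at e1))
  have u1 : ⊤ ≤ N[M.comap (pz G)] := top_norm _
  have u2 : ¬ M.comap (pz G) ≤ center G := fun e => m2 (eq_bot_iff.2 fun x hx => by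
    obtain ⟨x, rfl⟩ := pz_surj x
    exact mem_bot.2 (pz_one.2 (e hx)))
  have u3 := h.cent u1 (isSolvable_comap (sol_of_comm m4) _
    (by rw [pz_ker]; exact sol_of_comm comm_z)) u2
  have r1 : ∀ g, g ∈ C[M].comap (pz G) ↔ ∀ u ∈ M.comap (pz G), g ∈ CZ u := fun g =>
    ⟨fun a u hu => cent_le_cent1 (G := G ⧸ center G) hu a, fun a => le_cent1.1 fun u hu => by
      obtain ⟨u, rfl⟩ := pz_surj u
      exact cent1_comm.1 (a u hu)⟩
  have r2 : M.comap (pz G) ≤ C[M].comap (pz G) := comap_mono (comm_iff.1 m4)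
  have := normal_of_top (norm_cent (top_norm M))
  refine ⟨p, C[M].comap (pz G), hp, top_norm _, fun r hr => u3 (le_cent1.1 fun u hu =>
    cent1_comm.1 (CZ_pow ((r1 r).1 hr u hu) (pz_one.1 (by rw [map_pow, m5 _ hu])))),
    fun a ha b hb => CZ_of_der (u3 (three_bot (der_z fun a ha b hb => (r1 a).1 ha b hb)
      (cent_symm (z_le_cent _)) (commutator_mem_commutator ha hb))),
    (cent_anti r2).trans u3, fun g hg => (r1 g).2 fun u hu => hg u (r2 hu),
    fun e => u2 (r2.trans e)⟩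

theorem RR.odd (h : PP G) (r : RR p R) (p2 : p ≠ 2) : False := by
  have := Fact.mk Nat.prime_two
  obtain ⟨T, hT⟩ := sy_exists 2 (⊤ : Subgroup G)
  have cop : Nat.Coprime 2 p := (Nat.coprime_primes Nat.prime_two r.pp).2 p2.symm
  have n (g : G) : g ∈ N[R] := r.n (mem_top g)
  have key : ∀ i, i ∉ center G → i * i ∈ center G → ∀ v ∈ R,
      pz G i * pz G v * (pz G i)⁻¹ = (pz G v)⁻¹ := fun i i1 i2 v hv => by
    have a1 := mul_mem hv (conj_mem (n i) hv)
    suffices v * (i * v * i⁻¹) ∈ center G by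
      rw [← pz_one, map_mul, map_mul, map_mul, map_inv] at this
      exact eq_inv_of_mul_eq_one_right this
    have a2 : i ∈ CZ (v * (i * v * i⁻¹)) := mem_CZ.2 (by
      rw [conj_mul', show i * (i * v * i⁻¹) * i⁻¹ = (i * i) * v * (i * i)⁻¹ by group,
        conj_of_cent (zc' i2 v), map_mul, map_mul (pz G) _ v]
      exact mem_cent1.1 (r.der _ hv _ (conj_mem (n i) hv)))
    generalize v * (i * v * i⁻¹) = u at a1 a2
    have a3 : i ∈ C1[u] := H9.mem_of_pow_mem_of_coprime (zc' (by rwa [pow_two]) u)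
      (CZ_pow a2 (r.pw u a1)) cop
    by_contra e
    have a4 := h.com (h.nt (sol_zp r.sol (n i))) (mem_sup_left a1)
      fun e1 => e (r.c (le_cent1.1 (le_sup_left.trans e1)))
    refine i1 (H9.mem_of_pow_mem_of_coprime (by rwa [pow_two]) (r.pw i (r.sc i fun a ha => ?_)) cop)
    have b1 := mul_mem (inv_mem ha) (conj_mem (n i) ha)
    have b2 : a⁻¹ * (i * a * i⁻¹) ∈ C1[u] := cent1_comm.1 (cent_of_conj (by
      obtain ⟨c, c1, c2⟩ := CZ_z (r.der u a1 a ha)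
      have e1 : u * i * u⁻¹ = i := conj_of_cent (cent1_comm.1 a3)
      calc u * (a⁻¹ * (i * a * i⁻¹)) * u⁻¹
          = (u * a * u⁻¹)⁻¹ * ((u * i * u⁻¹) * (u * a * u⁻¹) * (u * i * u⁻¹)⁻¹) := by group
        _ = c⁻¹ * (a⁻¹ * (i * a * i⁻¹)) * (i * c * i⁻¹) := by rw [c2, e1]; group
        _ = a⁻¹ * (i * a * i⁻¹) := by
          rw [zconj c1, ← mem_center_iff.1 (inv_mem c1), inv_mul_cancel_right]))
    have b3 := comm_mem a4 (mem_inf.2 ⟨mem_sup_right (mem_zpowers i), a3⟩)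
      (mem_inf.2 ⟨mem_sup_left b1, b2⟩)
    have b4 := cz_left (g := i) (u := a) (by group) b3 2
    rw [conj_of_cent (zc' (by rwa [pow_two]) a), left_eq_mul] at b4
    exact mem_CZ.2 (pz_eq.2 (H9.mem_of_pow_mem_of_coprime (b4 ▸ one_mem _) (r.pw _ b1) cop))
  refine h.ui hT r.sol r.n (fun t _ b => r.c b) fun i i1 j j1 i2 j2 i3 j3 => ?_
  obtain ⟨k, hk⟩ := pg_pow (hl_pi hT) (mul_mem i1 j1)
  refine H9.mem_of_pow_mem_of_coprime (hk ▸ one_mem _) (r.pw _ (r.sc _ fun v hv => ?_))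
    (cop.pow_left k)
  exact (show pz G (i * j) ∈ _ from map_mul (pz G) i j ▸
    cent_of_inv (key i i2 i3 v hv) (key j j2 j3 v hv))

theorem RR.small (h : PP G) (r : RR 2 R) {a b c : G ⧸ center G}
    (e : ∀ x ∈ R, pz G x = 1 ∨ pz G x = a ∨ pz G x = b ∨ pz G x = c) : False := by
  have := norm_map pz_surj r.n
  have hc : Nat.card (R.map (pz G)) ≤ 4 := by
    have : ((R.map (pz G) : Subgroup _) : Set (G ⧸ center G)) ⊆ {1, a, b, c} := by
      rintro _ ⟨x, hx, rfl⟩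
      exact e x hx
    refine (Set.ncard_le_ncard this).trans ?_
    have a1 := Set.ncard_insert_le 1 ({a, b, c} : Set (G ⧸ center G))
    have a2 := Set.ncard_insert_le a ({b, c} : Set (G ⧸ center G))
    have a3 := Set.ncard_insert_le b ({c} : Set (G ⧸ center G))
    rw [Set.ncard_singleton] at a3
    omega
  have h1 : Pi[{2, 3}] (⊤ : Subgroup (G ⧸ center G)) := isPi_of_forall_orderOf fun x _ hp => by
    by_contra e1
    simp only [Set.mem_insert_iff, Set.mem_singleton_iff, not_or] at e1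
    let φ : (G ⧸ center G) →* Equiv.Perm (R.map (pz G)) :=
      (MulAut.toPerm _).comp MulAut.conjNormal
    have a1 : φ x = 1 := by
      rw [← orderOf_eq_one_iff]
      refine ((Nat.dvd_prime hp).1 (orderOf_map_dvd φ x)).resolve_right fun e2 => ?_
      have a2 := orderOf_dvd_natCard (φ x)
      rw [e2, Nat.card_perm, hp.dvd_factorial] at a2
      have a3 := hp.two_le
      have a4 : orderOf x = 4 := by omega
      rw [a4] at hp
      norm_num at hp
    obtain ⟨x, rfl⟩ := pz_surj x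
    have a2 := r.pw x (r.sc x fun v hv => cent_of_conj (G := G ⧸ center G) (by
      have := congrArg Subtype.val (DFunLike.congr_fun a1 ⟨pz G v, mem_map_of_mem _ hv⟩)
      exact this))
    rw [← pz_one, map_pow, ← orderOf_dvd_iff_pow_eq_one,
      Nat.prime_dvd_prime_iff_eq hp Nat.prime_two] at a2
    exact e1.1 a2
  have := isSolvable_comap (pi2_sol Nat.prime_two Nat.prime_three h1) (pz G)
    (by rw [pz_ker]; exact sol_of_comm comm_z)
  exact h.ns (sol_top this)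

theorem RR.two (h : PP G) (r : RR 2 R) : False := by
  have := Fact.mk Nat.prime_two
  obtain ⟨T, hT⟩ := sy_exists 2 (⊤ : Subgroup G)
  have n (g : G) : g ∈ N[R] := r.n (mem_top g)
  have := norm_map pz_surj r.n
  obtain ⟨z', ⟨⟨z, z1, rfl⟩, z3⟩, z2⟩ := exists_ne_one (pg_inf_cent_ne_bot Nat.prime_two
    ((hl_pi hT).map (pz G)) (N := R.map (pz G)) (isPi_of_pow_eq_one (by
      rintro _ ⟨x, hx, rfl⟩
      rw [← map_pow, pz_one]; exact r.pw x hx)) (le_top.trans (top_norm _))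
    (fun e1 => r.nz (by rwa [Subgroup.map_eq_bot_iff, pz_ker] at e1)))
  rw [Ne, pz_one] at z2
  obtain ⟨H, hH⟩ : ∃ H, H = T ⊔ R := ⟨_, rfl⟩
  have hR : R ≤ H := hH ▸ le_sup_right
  have h0 : H ≠ ⊤ := h.nt (hH ▸ H1.isSolvable_sup (hl_pi hT).solvable r.sol (le_top.trans r.n))
  have h1 : H ≤ CZ z := hH ▸ sup_le (fun t ht => cent1_comm.1 (cent_le_cent1 (mem_map_of_mem _ ht) z3))
    fun a ha => r.der a ha z z1
  have zz : ∀ y, H ≤ C1[y] → y ∈ center G := fun y e => r.c (le_cent1.1 (hR.trans e))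
  have h2 := h.com h0 (hR z1) fun e => z2 (zz z e)
  have h3 : ∀ s ∈ H, s * s ∈ H ⊓ C1[z] := fun s hs =>
    mem_inf.2 ⟨mul_mem hs hs, pow_two s ▸ CZ_pow (h1 hs) (r.pw z z1)⟩
  have h4 : H ≤ N[(H ⊓ C1[z] : Subgroup G)] := norm_inf (le_norm H) (h1.trans CZ_norm)
  have h5 : ∀ s ∈ H, s ∉ C1[z] → ∀ y ∈ H ⊓ C1[z], y ∈ C1[s] → y ∈ center G :=
    fun s a b y c d => zz y (h.le (K := (H ⊓ C1[z]) ⊔ zpowers s) h0 c.1
      (sup_le inf_le_left (zpowers_le.2 a))
      (sup_le (fun x hx => comm_mem h2 hx c) (zpowers_le.2 (cent1_comm.1 d)))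
      (ncomm (mem_sup_right (mem_zpowers s)) (mem_sup_left (mem_inf.2 ⟨hR z1, cent1_self z⟩)) b))
  have h6 : ∀ s ∈ H, s ∉ C1[z] → ∀ a ∈ H ⊓ C1[z],
      pz G s * pz G a * (pz G s)⁻¹ = (pz G a)⁻¹ := fun s a b x hx => by
    have := h5 s a b _ (mul_mem hx (conj_mem (h4 a) hx)) (inv_fix h2 (h4 a) (h3 s a) hx)
    rw [← pz_one, map_mul, map_mul, map_mul, map_inv] at this
    exact eq_inv_of_mul_eq_one_right this
  by_cases e : ∃ s ∈ H, ∃ t ∈ H, s ∉ C1[z] ∧ t ∉ C1[z] ∧ s * t ∉ C1[z]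
  · obtain ⟨s, s1, t, t1, s2, t2, e⟩ := e
    have b1 : ∀ a ∈ H, pz G a * pz G a = 1 := fun a ha => by
      by_cases e1 : a ∈ C1[z]
      · have c1 := h6 _ (mul_mem s1 t1) e a ⟨ha, e1⟩
        rw [map_mul, conj_of_cent (cent_of_inv (h6 s s1 s2 a ⟨ha, e1⟩) (h6 t t1 t2 a ⟨ha, e1⟩))] at c1
        exact mul_eq_one_iff_eq_inv.2 c1
      · rw [← map_mul, pz_one]
        exact h5 a ha e1 _ (h3 a ha) (mul_mem (cent1_self a) (cent1_self a))
    refine h.ns (sol_top (sol_of_sy hT r.sol r.n fun t ht => r.sc t fun v hv => ?_))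
    have t1 : t ∈ H := hH ▸ mem_sup_left ht
    have c1 := b1 _ (mul_mem t1 (hR hv))
    rw [map_mul] at c1
    refine mem_cent1.2 ?_
    rw [← inv_eq_of_mul_eq_one_left c1, mul_inv_rev, inv_eq_of_mul_eq_one_left (b1 t t1),
      inv_eq_of_mul_eq_one_left (b1 v (hR hv))]
  · have b1 : ∀ s ∈ R, ∀ t ∈ R, s ∉ C1[z] → t ∉ C1[z] → s * t ∈ C1[z] := fun s a t b c d => by
      by_contra e1
      exact e ⟨s, hR a, t, hR b, c, d, e1⟩
    have b2 : IsMulCommutative ↥(R ⊓ C1[z]) := comm_of_le h2 (inf_le_inf_right _ hR)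
    obtain ⟨g, b3⟩ : ∃ g, ¬ (R ⊓ C1[z]) :^ g ≤ R ⊓ C1[z] := by
      by_contra! e1
      exact z2 (h.ab (le_norm_iff_cj.2 fun g _ => e1 g) b2 (mem_inf.2 ⟨z1, cent1_self z⟩))
    have b4 := (comm_cj g).2 b2
    rw [cj_inf, cj_norm (n g), ← cent1_cj] at b3 b4
    have b5 : ∀ s ∈ R, ∀ t ∈ R, s ∉ C1[g * z * g⁻¹] → t ∉ C1[g * z * g⁻¹] →
        s * t ∈ C1[g * z * g⁻¹] := fun s a t b c d => by
      rw [cent1_cj, mem_cj] at c d ⊢
      have := b1 _ (conj_mem' (n g) a) _ (conj_mem' (n g) b) c d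
      rwa [show g⁻¹ * s * g * (g⁻¹ * t * g) = g⁻¹ * (s * t) * g by group] at this
    have y1 := conj_mem (n g) z1
    have y2 : g * z * g⁻¹ ∉ center G := fun e => z2 (by
      have := zconj e g⁻¹
      rw [show g⁻¹ * (g * z * g⁻¹) * g⁻¹⁻¹ = z by group] at this
      rwa [this])
    generalize g * z * g⁻¹ = y at b3 b4 b5 y1 y2
    obtain ⟨b, ⟨c1, c2⟩, c3⟩ := SetLike.not_le_iff_exists.1 b3
    have c4 : b ∉ C1[z] := fun e => c3 ⟨c1, e⟩
    have d : ∀ x ∈ R, x ∈ C1[z] → x ∈ C1[y] → x ∈ center G := fun x a1 a2 a3 =>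
      r.c (le_cent1.1 fun v hv => by
        by_cases e1 : v ∈ C1[z]
        · exact comm_mem b2 ⟨hv, e1⟩ ⟨a1, a2⟩
        · exact (mul_mem_cancel_right (comm_mem b4 ⟨c1, c2⟩ ⟨a1, a3⟩)).1
            (comm_mem b2 ⟨mul_mem hv c1, b1 v hv b c1 e1 c4⟩ ⟨a1, a2⟩))
    have d1 : y ∉ C1[z] := fun e => y2 (d y y1 e (cent1_self y))
    have d2 : z ∉ C1[y] := fun e => d1 (cent1_comm.1 e)
    have d3 : ∀ x ∈ R, x ∈ C1[z] → pz G x = 1 ∨ pz G x = (pz G z)⁻¹ := fun x a1 a2 => by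
      by_cases e1 : x ∈ C1[y]
      · exact Or.inl (pz_one.2 (d x a1 a2 e1))
      · have := d _ (mul_mem a1 z1) (mul_mem a2 (cent1_self z)) (b5 x a1 z z1 e1 d2)
        rw [← pz_one, map_mul] at this
        exact Or.inr (eq_inv_of_mul_eq_one_left this)
    refine r.small h (a := (pz G z)⁻¹) (b := (pz G y)⁻¹) (c := (pz G z)⁻¹ * (pz G y)⁻¹)
      fun x hx => ?_
    by_cases e1 : x ∈ C1[z]
    · exact (d3 x hx e1).imp_right Or.inl
    · rcases d3 _ (mul_mem hx y1) (b1 x hx y y1 e1 d1) with e2 | e2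
      · rw [map_mul] at e2
        exact Or.inr (Or.inr (Or.inl (eq_inv_of_mul_eq_one_left e2)))
      · rw [map_mul] at e2
        exact Or.inr (Or.inr (Or.inr (eq_mul_inv_of_mul_eq e2)))

theorem PP.sol (h : PP G) (hn : ⊤ ≤ N[K]) (hs : Group.IsSolvable K) : K ≤ center G := by
  by_contra e
  obtain ⟨p, R, r⟩ := h.rr hn hs e
  by_cases p2 : p = 2
  · subst p2
    exact r.two h
  · exact r.odd h p2

theorem PP.norm_ne (h : PP G) (hs : Group.IsSolvable K) (e : ¬ K ≤ center G) : N[K] ≠ ⊤ :=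
  fun e1 => e (h.sol e1.ge hs)

end H16.H11.CA
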