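import Cfsg.Agent.H11.CA3
import Cfsg.Agent.H8.Cyc
import Cfsg.Agent.S0035
import Cfsg.Agent.S0042

/-! Frobenius configurations modulo the centre; normal subgroups of prime index. -/

set_option autoImplicit false
set_option linter.unusedSectionVars false

namespace H16.H11.CA

open Subgroup Cfsg H1 H15 H16.H11.MX
open scoped commutatorElement

variable {G : Type*} [Group G] [Finite G] {p : ℕ} {E H K M N P R S T U W X : Subgroup G}
  {a b c d e g h i j k m n s t u v w x y z : G}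

theorem frob_q (hE : E ≤ X) (h1 : E ≠ ⊥) (h2 : E ≠ X)
    (ti : ∀ y ∈ E, y ≠ 1 → ∀ g ∈ X, g⁻¹ * y * g ∈ E → g ∈ E) :
    ∃ K : Subgroup G, K ≤ X ∧ X ≤ N[K] ∧ Group.IsNilpotent K ∧ K ⊔ E = X ∧
      (Nat.card E).Coprime (Nat.card K) := by
  have hF : IsFrobeniusComplement (E.subgroupOf X) := (H2.isFrob_iff _).2
    ⟨fun e => h1 (by rw [← map_subgroupOf_eq_of_le hE, e, Subgroup.map_bot]),
      fun e => h2 (le_antisymm hE (subgroupOf_eq_top.1 e)),
      fun y a b g c => ti y a (fun e => b (Subtype.ext e)) g g.2 c⟩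
  obtain ⟨K, a1, a2, a3⟩ := Cfsg.Agent.S0035.result _ hF
  obtain ⟨K', b1, -, b3⟩ := Cfsg.Agent.S0042.result _ hF
  obtain rfl : K' = K := SetLike.coe_injective (b1.trans a1.symm)
  refine ⟨K'.map X.subtype, map_subtype_le _, ?_,
    Group.nilpotent_of_mulEquiv (K'.equivMapOfInjective _ X.subtype_injective), ?_, ?_⟩
  · have := le_normalizer_map (H := K') X.subtype
    rwa [normalizer_eq_top, ← MonoidHom.range_eq_map, range_subtype] at this
  · rw [← map_subgroupOf_eq_of_le hE, ← Subgroup.map_sup, a3.sup_eq_top,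
      ← MonoidHom.range_eq_map, range_subtype]
  · have := H2.frob_coprime hF
    rwa [a3.index_eq_card, Nat.card_congr (subgroupOfEquivOfLe hE).toEquiv,
      ← card_map_of_injective (K := K') X.subtype_injective] at this

theorem frob_z (hE : E ≤ X) (hz : X ⊓ center G ≤ E) (h1 : ¬ E ≤ center G) (h2 : E ≠ X)
    (ti : ∀ y ∈ E, y ∉ center G → ∀ g ∈ X, g⁻¹ * y * g ∈ E → g ∈ E) :
    E.map (pz G) ≠ X.map (pz G) ∧ (∀ y ∈ E.map (pz G), y ≠ 1 → ∀ g ∈ X.map (pz G),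
      g⁻¹ * y * g ∈ E.map (pz G) → g ∈ E.map (pz G)) ∧
    ∃ K : Subgroup (G ⧸ center G), K ≤ X.map (pz G) ∧ X.map (pz G) ≤ N[K] ∧ Group.IsNilpotent K ∧
      K ⊔ E.map (pz G) = X.map (pz G) ∧ (Nat.card (E.map (pz G))).Coprime (Nat.card K) := by
  have key : ∀ a ∈ X, pz G a ∈ E.map (pz G) → a ∈ E := fun a ha ⟨e, he, e1⟩ => by
    have := pz_eq.1 e1
    replace he : e ∈ E := he
    exact (mul_mem_cancel_left (inv_mem he)).1 (hz (mem_inf.2 ⟨mul_mem (inv_mem (hE he)) ha, this⟩))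
  have a1 : E.map (pz G) ≠ X.map (pz G) := fun e =>
    h2 (le_antisymm hE fun a ha => key a ha (e ▸ mem_map_of_mem _ ha))
  have a2 : ∀ y ∈ E.map (pz G), y ≠ 1 → ∀ g ∈ X.map (pz G),
      g⁻¹ * y * g ∈ E.map (pz G) → g ∈ E.map (pz G) := by
    rintro _ ⟨y, hy, rfl⟩ y1 _ ⟨g, hg, rfl⟩ e
    refine mem_map_of_mem _ (ti y hy (fun e => y1 (pz_one.2 e)) g hg
      (key _ (mul_mem (mul_mem (inv_mem hg) (hE hy)) hg) ?_))
    rwa [map_mul, map_mul, map_inv]
  exact ⟨a1, a2, frob_q (map_mono hE)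
    (fun e => h1 (by rwa [Subgroup.map_eq_bot_iff, pz_ker] at e)) a1 a2⟩

theorem sol_comap {K : Subgroup (G ⧸ center G)} (h : Group.IsSolvable K) :
    Group.IsSolvable (K.comap (pz G)) :=
  isSolvable_comap h _ (by rw [pz_ker]; exact sol_of_comm comm_z)

theorem PP.solq (h : PP G) {K : Subgroup (G ⧸ center G)} (hn : ⊤ ≤ N[K])
    (hs : Group.IsSolvable K) : K = ⊥ := by
  have := normal_of_top hn
  have := h.sol (top_norm _) (sol_comap hs)
  refine eq_bot_iff.2 fun x hx => ?_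
  obtain ⟨x, rfl⟩ := pz_surj x
  exact mem_bot.2 (pz_one.2 (this hx))

theorem PP.nfrob (h : PP G) (hn : ⊤ ≤ N[X]) (hE : E ≤ X) (hz : X ⊓ center G ≤ E)
    (h1 : ¬ E ≤ center G) (h2 : E ≠ X)
    (ti : ∀ y ∈ E, y ∉ center G → ∀ g ∈ X, g⁻¹ * y * g ∈ E → g ∈ E) : False := by
  obtain ⟨a, -, K, a1, a2, a3, a4, -⟩ := frob_z hE hz h1 h2 ti
  have := norm_map pz_surj hn
  have e := h.solq (le_norm_fittingOf (top_norm (X.map (pz G)))) (sol_of_nil (nilpotent_fittingOf _))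
  rw [eq_bot_of_le e (le_fittingOf a1 a2 a3), bot_sup_eq] at a4
  exact a a4

theorem cyc_frob (hE : E ≤ X) (hz : X ⊓ center G ≤ E) (h1 : ¬ E ≤ center G) (h2 : E ≠ X)
    (ti : ∀ y ∈ E, y ∉ center G → ∀ g ∈ X, g⁻¹ * y * g ∈ E → g ∈ E) (hc : IsMulCommutative E) :
    IsCyclic (E.map (pz G)) := by
  obtain ⟨a, b, K, a1, a2, -, a4, a5⟩ := frob_z hE hz h1 h2 ti
  by_contra e
  have := cop_gen_cent1 (H := ⊥) (K := K) (inferInstance : IsMulCommutative (E.map (pz G))) e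
    ((map_mono hE).trans a2) a5 fun y hy y1 k hk => by
      have := b y hy y1 k (a1 hk.1) (by
        rw [mul_assoc, ← mem_cent1.1 hk.2, inv_mul_cancel_left]; exact hy)
      exact (inf_bot_of_coprime a5).le ⟨this, hk.1⟩
  rw [le_bot_iff.1 this, bot_sup_eq] at a4
  exact a a4

theorem cent_ne (hx : x ∉ center G) : C1[x] ≠ ⊤ := fun e => hx (zc_of fun g => e ▸ mem_top g)

theorem PP.CZ_ne (h : PP G) (hx : x ∉ center G) : CZ x ≠ ⊤ := fun e =>
  h.norm_ne (sol_zp (sol_of_comm comm_z) (norm_z (mem_top x)))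
    (fun e => hx (e (mem_sup_right (mem_zpowers x)))) (top_le_iff.1 (e.ge.trans fun g hg => by
      obtain ⟨z, a, b⟩ := CZ_z hg
      exact mem_norm_sup_zp (norm_z (mem_top g))
        (b ▸ mul_mem (mem_sup_right (mem_zpowers x)) (mem_sup_left a))))

structure NC (x : G) : Prop where
  nz : x ∉ center G
  nc : ¬ IsMulCommutative C1[x]

theorem NC.max (h : PP G) (c : NC x) (hH : H ≠ ⊤) (e : C1[x] ≤ H) : H ≤ C1[x] :=
  h.le hH (e (cent1_self x)) e le_rfl c.nc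

theorem NC.cz (h : PP G) (c : NC x) : CZ x ≤ C1[x] := c.max h (h.CZ_ne c.nz) (cent_le_CZ x)

theorem NC.of_le (c : NC x) (hy : y ∉ center G) (e : C1[x] ≤ C1[y]) : NC y :=
  ⟨hy, fun e1 => c.nc (comm_of_le e1 e)⟩

theorem cent_pow (x : G) (k : ℕ) : C1[x] ≤ C1[x ^ k] := fun _ hg =>
  cent1_comm.1 (pow_mem (cent1_comm.1 hg) k)

theorem conj_nz (hx : x ∉ center G) (g : G) : g * x * g⁻¹ ∉ center G := fun e => hx (by
  have := zconj e g⁻¹
  rw [show g⁻¹ * (g * x * g⁻¹) * g⁻¹⁻¹ = x by group] at this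
  rwa [this])

theorem quad (h1 : g * a * g⁻¹ = a * w) (h2 : g * w * g⁻¹ = w * z) (hz : z ∈ center G) (k : ℕ) :
    g ^ k * a * (g ^ k)⁻¹ = a * w ^ k * z ^ k.choose 2 := by
  induction k with
  | zero => simp
  | succ k ih =>
    rw [pow_succ', show g * g ^ k * a * (g * g ^ k)⁻¹ = g * (g ^ k * a * (g ^ k)⁻¹) * g⁻¹ by group,
      ih, conj_mul', conj_mul', h1, cz_right h2 (zc hz w), zconj (pow_mem hz _),
      Nat.choose_succ_succ', Nat.choose_one_right, pow_add z, pow_succ' w]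
    simp only [mul_assoc]

structure NP (p : ℕ) (N : Subgroup G) : Prop where
  h : PP G
  n : ⊤ ≤ N[N]
  pp : p.Prime
  idx : N.index = p

namespace NP

theorem nn (k : NP p N) (g : G) : g ∈ N[N] := k.n (mem_top g)

theorem pow (k : NP p N) (g : G) : g ^ p ∈ N :=
  have := normal_of_top k.n
  k.idx ▸ pow_index_mem N g

theorem der (k : NP p N) : ⁅(⊤ : Subgroup G), (⊤ : Subgroup G)⁆ ≤ N :=
  der_le_of_relIndex_prime k.n (by rw [relIndex_top_right, k.idx]; exact k.pp)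

theorem com (k : NP p N) (a b : G) : a⁻¹ * (b * a * b⁻¹) ∈ N := by
  have := k.der (commutator_mem_commutator (mem_top a⁻¹) (mem_top b))
  rwa [commutatorElement_def, inv_inv, mul_assoc, mul_assoc, ← mul_assoc b] at this

theorem ns (k : NP p N) : ¬ Group.IsSolvable N := fun e => k.h.ns (sol_top (sol_der k.der e))

theorem gen (k : NP p N) (hx : x ∉ N) (g : G) : ∃ n ∈ N, ∃ a ∈ zpowers x, n * a = g := by
  have h1 := index_dvd_of_le (le_sup_left (a := N) (b := zpowers x))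
  rw [k.idx, Nat.dvd_prime k.pp, index_eq_one] at h1
  rcases h1 with e | e
  · exact (mem_sup_l (le_top.trans k.n)).1 (e ▸ mem_top g)
  · have h2 := relIndex_mul_index (le_sup_left (a := N) (b := zpowers x))
    rw [e, k.idx, mul_eq_right₀ k.pp.ne_zero, relIndex_eq_one] at h2
    exact absurd (h2 (mem_sup_right (mem_zpowers x))) hx

theorem sy_nle (k : NP p N) (hK : Sy[p] K M) (h : ¬ M ≤ N) : ¬ K ≤ N := fun e => by
  have := normal_of_top k.n
  have h1 := relIndex_dvd_index_of_normal N M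
  rw [k.idx, Nat.dvd_prime k.pp, relIndex_eq_one] at h1
  exact sy_not_dvd hK k.pp (h1.resolve_left h ▸ relIndex_dvd_of_le_left M e)

theorem nt (k : NP p N) : N ≠ ⊤ := fun e => k.pp.one_lt.ne (by rw [← k.idx, e, index_top])

theorem ca (k : NP p N) (hy : y ∈ N) (h1 : y ∉ center G) : IsMulCommutative ↥(N ⊓ C1[y]) :=
  k.h.com k.nt hy fun e => h1 (k.h.ab (norm_inf k.n (norm_cent k.n)) (comm_center N)
    ⟨hy, le_cent1.1 e⟩)

theorem same0 (k : NP p N) (hy : y ∈ N) (h1 : y ∉ center G) (hx : x ∈ N) (h : x ∈ C1[y]) :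
    N ⊓ C1[y] ≤ C1[x] := fun _ ha => comm_mem (k.ca hy h1) ha ⟨hx, h⟩

theorem f1 (k : NP p N) (hy : y ∈ N) (h1 : y ∉ center G) :
    ¬ N ⊓ N[(N ⊓ C1[y] : Subgroup G)] ≤ C1[y] := fun e =>
  k.h.nfrob k.n (E := N ⊓ C1[y]) inf_le_left (inf_le_inf_left _ fun _ hz => zc' hz y)
    (fun e => h1 (e ⟨hy, cent1_self y⟩))
    (fun e => k.ns (sol_of_comm (e ▸ k.ca hy h1))) fun x a b g c d => ⟨c, e ⟨c, by
      have b1 : g⁻¹ * x * g ∉ center G := by simpa using conj_nz b g⁻¹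
      refine mem_norm_of_cj_le (le_inf (cj_le_of_mem c inf_le_left) ?_)
      refine le_trans ?_ (k.same0 a.1 b hy (cent1_comm.1 a.2))
      refine le_inf (cj_le_of_mem c inf_le_left) ((cj_mono g (k.same0 hy h1 d.1 d.2)).trans ?_)
      rw [← cent1_cj, show g * (g⁻¹ * x * g) * g⁻¹ = x by group]⟩⟩

theorem f0 (k : NP p N) (hy : y ∈ N) (h1 : y ∉ center G) : IsMulCommutative C1[y] := by
  by_contra e
  exact k.f1 hy h1 (inf_le_right.trans (NC.max k.h ⟨h1, e⟩ (k.h.norm_ne (sol_of_comm (k.ca hy h1))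
    fun e => h1 (e ⟨hy, cent1_self y⟩)) (norm_inf (le_top.trans k.n) (le_norm _))))

theorem same (k : NP p N) (hy : y ∈ N) (h1 : y ∉ center G) (hx : x ∈ N) (h2 : x ∉ center G)
    (h : x ∈ C1[y]) : C1[x] = C1[y] :=
  le_antisymm (fun _ ha => comm_mem (k.f0 hx h2) ha (cent1_comm.1 h))
    fun _ ha => comm_mem (k.f0 hy h1) ha h

theorem normC (k : NP p N) (hy : y ∈ N) (h1 : y ∉ center G) (h : g * y * g⁻¹ ∈ C1[y]) :
    g ∈ N[C1[y]] := cj_eq_self_iff.1 (by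
  rw [← cent1_cj, k.same hy h1 (conj_mem (k.nn g) hy) (conj_nz h1 g) h])

theorem f1' (k : NP p N) (hy : y ∈ N) (h1 : y ∉ center G) : ¬ N ⊓ N[C1[y]] ≤ C1[y] := fun e =>
  k.f1 hy h1 fun _ hg => e ⟨hg.1, k.normC hy h1 (conj_mem hg.2 ⟨hy, cent1_self y⟩).2⟩

theorem nmem (k : NP p N) (c : NC x) : x ∉ N := fun e => c.nc (k.f0 e c.nz)

theorem zof (k : NP p N) (hy : y ∈ N) (hK : ¬ IsMulCommutative K) (e : K ≤ C1[y]) :
    y ∈ center G := by
  by_contra e1
  exact hK (comm_of_le (k.f0 hy e1) e)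

theorem xp (k : NP p N) (c : NC x) : x ^ p ∈ center G := k.zof (k.pow x) c.nc (cent_pow x p)

theorem enc (k : NP p N) (c : NC x) : ¬ IsMulCommutative ↥(N ⊓ C1[x]) := fun e =>
  c.nc (comm_of_le (comm_sup e (comm_of_cyclic (cyclic_zpowers x))
    (cent_zpowers x ▸ inf_le_right)) fun g hg => by
      obtain ⟨n, a, y, b, rfl⟩ := k.gen (k.nmem c) g
      exact mul_mem (mem_sup_left ⟨a, (mul_mem_cancel_right
        (zpowers_le.2 (cent1_self x) b)).1 hg⟩) (mem_sup_right b))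

theorem zle (k : NP p N) (c : NC x) : center G ≤ N := fun z hz => by
  by_contra e
  obtain ⟨n, a, y, b, rfl⟩ := k.gen e x
  have b1 := zpowers_le.2 hz b
  refine c.nz (mul_mem (k.zof a c.nc fun g hg => ?_) b1)
  exact cent1_comm.1 ((mul_mem_cancel_right (zc' b1 g)).1 (cent1_comm.1 hg))

theorem star (k : NP p N) (c : NC x) (hK : ¬ IsMulCommutative K) (h1 : K ≤ C1[x])
    (h2 : K ≤ C1[g * x * g⁻¹]) : g ∈ C1[x] :=
  c.cz k.h (mem_CZ.2 (pz_eq.2 (k.zof (k.com x g) hK fun _ ha =>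
    cent1_comm.1 (mul_mem (inv_mem (cent1_comm.1 (h1 ha))) (cent1_comm.1 (h2 ha))))))

theorem sub (k : NP p N) (hy : y ∈ N) (h1 : y ∉ center G) (h : x ∈ C1[y]) : C1[y] ≤ C1[x] :=
  fun _ ha => comm_mem (k.f0 hy h1) ha h

end NP

end H16.H11.CA
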