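import Cfsg.Agent.H11.CA4

/-! No normal subgroup of prime index. -/

set_option autoImplicit false
set_option linter.unusedSectionVars false

namespace H16.H11.CA

open Subgroup Cfsg H1 H15 H16.H11.MX
open scoped commutatorElement

variable {G : Type*} [Group G] [Finite G] {p : ℕ} {E H K M N P R S T U W X : Subgroup G}
  {a b c d e g h i j m n s t u v w x y z : G}

structure BX (p : ℕ) (N : Subgroup G) (x b : G) : Prop where
  k : NP p N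
  c : NC x
  bn : b ∈ N
  bz : b ∉ center G
  bp : b ^ p = 1
  bx : x ∈ C1[b]
  self : ∀ e ∈ N, e ∈ C1[x] → e ∈ N[C1[b]] → e ∈ C1[b]

theorem pw_com (h1 : x ∈ C1[g * x * g⁻¹]) {k : ℕ} (h2 : x ^ k ∈ C1[g]) :
    (x⁻¹ * (g * x * g⁻¹)) ^ k = 1 := by
  rw [Commute.mul_pow (mem_cent1.1 (inv_mem h1)), conj_pow, conj_of_cent (cent1_comm.1 h2),
    inv_pow, inv_mul_cancel]

theorem NP.exb0 (k : NP p N) (c : NC x) : ∃ b ∈ N, b ∉ center G ∧ x ∈ C1[b] ∧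
    ∀ e ∈ N, e ∈ C1[x] → e ∈ N[C1[b]] → e ∈ C1[b] := by
  by_contra! e
  have key : ∀ b ∈ N, b ∉ center G → x ∈ C1[b] →
      N[C1[b]] ≤ C1[x] ∧ ¬ IsMulCommutative N[C1[b]] := fun b a1 a2 a3 => by
    obtain ⟨e, b1, b2, b3, b4⟩ := e b a1 a2 a3
    have b5 := le_norm _ (cent1_self b)
    exact ⟨k.h.le (K := N[C1[b]] ⊓ C1[x]) (k.h.norm_ne (sol_of_comm (k.f0 a1 a2))
      fun e => a2 (e (cent1_self b))) (le_norm _ a3) inf_le_left inf_le_right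
      (ncomm (mem_inf.2 ⟨b3, b2⟩) (mem_inf.2 ⟨b5, cent1_comm.1 a3⟩) b4), ncomm b3 b5 b4⟩
  refine k.h.nfrob k.n (E := N ⊓ C1[x]) inf_le_left (inf_le_inf_left _ fun _ hz => zc' hz x)
    (fun e => k.enc c (comm_of_le comm_z e)) (fun e => c.nz (zc_of fun g => ?_))
    fun y a b g d e => ⟨d, ?_⟩
  · obtain ⟨n, a, y, b, rfl⟩ := k.gen (k.nmem c) g
    exact mul_mem (e.ge a).2 (zpowers_le.2 (cent1_self x) b)
  · obtain ⟨a1, a2⟩ := key y a.1 b (cent1_comm.1 a.2)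
    have b1 : g⁻¹ * y * g ∉ center G := by simpa using conj_nz b g⁻¹
    refine k.star c a2 a1 ?_
    have := cj_mono g (key _ e.1 b1 (cent1_comm.1 e.2)).1
    rwa [← norm_cj, ← cent1_cj, ← cent1_cj, show g * (g⁻¹ * y * g) * g⁻¹ = y by group] at this

theorem NP.exb (k : NP p N) (c : NC x) : ∃ b, BX p N x b := by
  obtain ⟨b, a1, a2, a3, a4⟩ := k.exb0 c
  obtain ⟨n, ⟨b1, b2⟩, b3⟩ := SetLike.not_le_iff_exists.1 (k.f1' a1 a2)
  have c1 := conj_mem b2 a3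
  have c2 : x⁻¹ * (n * x * n⁻¹) ∉ center G := fun e =>
    b3 (a4 n b1 (c.cz k.h (mem_CZ.2 (pz_eq.2 e))) b2)
  have c3 := k.same a1 a2 (k.com x n) c2 (mul_mem (inv_mem a3) c1)
  exact ⟨_, k, c, k.com x n, c2, pw_com (comm_mem (k.f0 a1 a2) a3 c1) (zc' (k.xp c) n),
    c3 ▸ a3, c3 ▸ a4⟩

namespace BX

theorem cm (B : BX p N x b) : IsMulCommutative C1[b] := B.k.f0 B.bn B.bz

theorem sub (B : BX p N x b) : C1[b] ≤ C1[x] := B.k.sub B.bn B.bz B.bx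

theorem ord (B : BX p N x b) : orderOf (pz G b) = p :=
  have := Fact.mk B.k.pp
  orderOf_eq_prime (by rw [← map_pow, B.bp, map_one]) fun e => B.bz (pz_one.1 e)

theorem fz (B : BX p N x b) (ha : a ∈ N) (h1 : a ∈ C1[b]) (h2 : n ∉ C1[b]) (h3 : a ∈ C1[n]) :
    a ∈ center G := by
  by_contra e
  exact h2 (B.k.same B.bn B.bz ha e h1 ▸ cent1_comm.1 h3)

theorem uniq (B : BX p N x b) (h1 : c ∈ N) (h2 : c ∉ center G) (h3 : c ^ p = 1) (h4 : x ∈ C1[c])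
    (he : e ∈ N) (e1 : e ∈ C1[x]) (e2 : e ∈ N[C1[c]]) : e ∈ C1[c] := by
  have := Fact.mk B.k.pp
  obtain ⟨P, hP⟩ := sy_exists p (N ⊓ C1[b])
  have a1 : b ∈ P := zpowers_le.1 (le_hl_normal hP (comm_norm B.cm inf_le_right
    (hP.1.trans inf_le_right)) (zpowers_le.2 ⟨B.bn, cent1_self b⟩)
    (pg_of_pow B.k.pp (k := 1) (by rw [pow_one, B.bp])))
  have a2 : Sy[p] P (N ⊓ C1[x]) := sy_of_norm_le hP (hP.1.trans (inf_le_inf_left _ B.sub))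
    fun g hg => ⟨hg.1.1, B.self g hg.1.1 hg.1.2 (B.k.normC B.bn B.bz (hP.1 (conj_mem hg.2 a1)).2)⟩
  obtain ⟨g, a3, a4⟩ := sy_conj_le a2 (zpowers_le.2 ⟨h1, cent1_comm.1 h4⟩)
    (pg_of_pow B.k.pp (k := 1) (by rw [pow_one, h3]))
  have a5 := hP.1 (a4 (cj_mem (mem_zpowers c)))
  have a6 := B.k.same B.bn B.bz a5.1 (conj_nz h2 g) a5.2
  have a7 := B.self _ (conj_mem (B.k.nn g) he) (conj_mem (le_norm _ a3.2) e1) (by
    rw [← a6, cent1_cj, norm_cj]; exact cj_mem e2)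
  rwa [← a6, cent1_cj, cj_mem_iff] at a7

theorem lp (B : BX p N x b) {r : ℕ} (hr : r.Prime) (rp : r ≠ p) (hR : Pg[r] R) (h1 : R ≤ N)
    (h2 : R ≤ N[C1[b]]) : R ≤ C1[b] := by
  have := Fact.mk B.k.pp
  have := Fact.mk hr
  obtain ⟨K, hK⟩ := sy_exists p C1[b]
  have a1 : R ≤ N[K] := h2.trans (norm_hl_of_normal hK (comm_norm B.cm le_rfl hK.1))
  have a2 := cop_sup_cent (N := K ⊓ N) (K := K) (A := R) inf_le_left
    (norm_inf a1 (le_top.trans B.k.n))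
    ((hR.compl_of_ne rp).coprime' (hl_pi hK).inf_left) (Or.inl hR.solvable)
    (le_inf (comm_le_left a1) ((commutator_mono le_top le_top).trans B.k.der))
  obtain ⟨y, ⟨b1, b2⟩, b3⟩ : ∃ y ∈ K ⊓ C[R], y ∉ N := by
    by_contra! e
    exact B.k.sy_nle hK (fun e => B.k.nmem B.c (e B.bx)) (a2.ge.trans (sup_le inf_le_right e))
  intro n hn
  by_contra e
  have b4 := hK.1 b1
  have b5 : n ∈ C1[y] := cent1_comm.1 (cent_le_cent1 hn b2)
  obtain ⟨b', B'⟩ := B.k.exb (x := y) ⟨fun e => b3 (B.k.zle B.c e),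
    ncomm b5 (cent1_comm.1 b4) e⟩
  exact e (B'.uniq B.bn B.bz B.bp b4 (h1 hn) b5 (h2 hn))

theorem cyc (B : BX p N x b) (h1 : c ∈ N) (h2 : c ∈ C1[b]) (h3 : c ^ p ∈ center G) :
    pz G c ∈ zpowers (pz G b) := by
  have hc := cyc_frob (X := N ⊓ C1[x]) (E := N ⊓ C1[b]) (inf_le_inf_left _ B.sub)
    (fun _ hz => ⟨hz.1.1, zc' hz.2 b⟩) (fun e => B.bz (e ⟨B.bn, cent1_self b⟩))
    (fun e => B.k.enc B.c (e ▸ comm_of_le B.cm inf_le_right))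
    (fun y a1 a2 g a3 a4 => ⟨a3.1, B.self g a3.1 a3.2 (by
      have e := B.k.same B.bn B.bz a1.1 a2 a1.2
      rw [← e, ← inv_mem_iff]
      exact B.k.normC a1.1 a2 (by rw [inv_inv, e]; exact a4.2))⟩)
    (comm_of_le B.cm inf_le_right)
  refine H8.mem_zpowers_of_isCyclic hc (mem_map_of_mem _ ⟨B.bn, cent1_self b⟩)
    (mem_map_of_mem _ ⟨h1, h2⟩) ?_
  rw [B.ord, orderOf_dvd_iff_pow_eq_one, ← map_pow, pz_one]
  exact h3

theorem cycz (B : BX p N x b) (h1 : c ∈ N) (h2 : c ∈ C1[b]) (h3 : c ^ p ∈ center G)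
    (hn : n ∈ CZ b) : n ∈ CZ c :=
  cent1_comm.1 (zpowers_le.2 (cent1_comm.1 hn) (B.cyc h1 h2 h3))

end BX

/-- the Sylow configuration -/
structure TX (p : ℕ) (N : Subgroup G) (x b : G) (T : Subgroup G) : Prop where
  B : BX p N x b
  sy : Sy[p] T ⊤
  xt : x ∈ T
  bt : b ∈ T
  cz : T ≤ CZ b

theorem NP.ext (k : NP p N) (c : NC x) : ∃ x b T, TX p N x b T := by
  have := Fact.mk k.pp
  obtain ⟨j, m, a1, a2⟩ := Nat.exists_eq_pow_mul_and_not_dvd (orderOf_pos x).ne' p k.pp.ne_one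
  have c1 : NC (x ^ m) := c.of_le (fun e => c.nz (H9.mem_of_pow_mem_of_coprime (k.xp c) e
    ((k.pp.coprime_iff_not_dvd).2 a1))) (cent_pow x m)
  have a3 : (x ^ m) ^ p ^ j = 1 := by rw [← pow_mul, mul_comm, ← a2, pow_orderOf_eq_one]
  generalize x ^ m = x at c1 a3
  obtain ⟨b, B⟩ := k.exb c1
  have b1 := pg_of_pow k.pp (x := b) (k := 1) (by rw [pow_one, B.bp])
  obtain ⟨T, hT, b2⟩ := sy_exists_ge (M := ⊤) le_top ((pg_of_pow k.pp a3).sup_of_le_norm b1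
    (norm_of_cent (by rw [cent_zpowers]; exact zpowers_le.2 B.bx)))
  have xt : x ∈ T := b2 (mem_sup_left (mem_zpowers x))
  have bt : b ∈ T := b2 (mem_sup_right (mem_zpowers b))
  have mp : ∀ K : Subgroup G, T ≤ N[K] → T.map (pz G) ≤ N[K.map (pz G)] := fun K e =>
    (map_mono e).trans (le_normalizer_map _)
  obtain ⟨_, ⟨⟨u, u1, rfl⟩, u3⟩, u2⟩ := exists_ne_one (pg_inf_cent_ne_bot k.pp
    ((hl_pi hT).map (pz G)) (N := (T ⊓ N).map (pz G)) ((hl_pi hT).inf_left.map _)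
    (mp _ (norm_inf (le_norm T) (le_top.trans k.n)))
    (ne_bot_of_mem (mem_map_of_mem _ ⟨bt, B.bn⟩) fun e => B.bz (pz_one.1 e)))
  rw [Ne, pz_one] at u2
  have u4 : T ≤ CZ u := fun t ht => cent1_comm.1 (cent_le_cent1 (mem_map_of_mem _ ht) u3)
  have u5 := B.self u u1.2 (c1.cz k.h (CZ_comm.1 (u4 xt))) (CZ_norm (CZ_comm.1 (u4 bt)))
  have u6 : T ≤ N[C1[b]] := k.same B.bn B.bz u1.2 u2 u5 ▸ u4.trans CZ_norm
  refine ⟨x, b, T, B, hT, xt, bt, fun t ht => ?_⟩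
  have d1 : (Nat.card (zpowers (pz G b))).Prime := by rw [card_zpowers, B.ord]; exact k.pp
  have d2 := le_of_prime_of_inf d1 (pg_inf_cent_ne_bot k.pp ((hl_pi hT).map (pz G))
    (pg_zp k.pp B.ord) (by
      rintro _ ⟨t, ht, rfl⟩
      refine mem_norm_of_cj_le ?_
      rw [← zpowers_cj, zpowers_le, ← map_inv, ← map_mul, ← map_mul]
      exact B.cyc (conj_mem (k.nn t) B.bn) (conj_mem (u6 ht) (cent1_self b))
        (by rw [conj_pow, B.bp, mul_one, mul_inv_cancel]; exact one_mem _))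
    (zpowers_ne_bot' fun e => B.bz (pz_one.1 e)))
  exact cent1_comm.1 (cent_le_cent1 (mem_map_of_mem _ ht) (d2 (mem_zpowers _)))

namespace TX

theorem k (X : TX p N x b T) : NP p N := X.B.k

theorem th (X : TX p N x b T) : T ≤ N[C1[b]] := X.cz.trans CZ_norm

theorem syN (X : TX p N x b T) : Sy[p] (T ⊓ N) N := hl_inf X.sy le_top (le_top.trans X.k.n)

theorem sup (X : TX p N x b T) : N ⊓ N[C1[b]] ≤ (T ⊓ N) ⊔ (N ⊓ C1[b]) :=
  le_of_sy fun r hr _ => by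
    by_cases e : r = p
    · subst e
      exact ⟨_, hl_of_le X.syN (le_inf inf_le_right (inf_le_left.trans X.th)) inf_le_left,
        le_sup_left⟩
    · have := Fact.mk hr
      obtain ⟨R, hR⟩ := sy_exists r (N ⊓ N[C1[b]])
      have a1 := hR.1.trans inf_le_left
      exact ⟨R, hR, le_sup_of_le_right (le_inf a1 (X.B.lp hr e (hl_pi hR) a1
        (hR.1.trans inf_le_right)))⟩

theorem exn (X : TX p N x b T) : ∃ n ∈ T ⊓ N, n ∉ C1[b] := by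
  by_contra! e
  exact X.k.f1' X.B.bn X.B.bz (X.sup.trans (sup_le e inf_le_right))

theorem np (X : TX p N x b T) (hn : n ∈ T) : n ^ p ∈ C1[b] :=
  CZ_pow (X.cz hn) (X.B.bp ▸ one_mem _)

theorem npz (X : TX p N x b T) (hn : n ∈ T ⊓ N) (h1 : n ∉ C1[b]) : n ^ p ∈ center G :=
  X.B.fz (pow_mem hn.2 p) (X.np hn.1) h1 (pow_mem (cent1_self n) p)

theorem cc (X : TX p N x b T) (hn : n ∈ T ⊓ N) (h1 : n ∉ C1[b]) :
    ∃ c ∈ N, c ∈ C1[b] ∧ c ∉ center G ∧ c ^ p = 1 ∧ n * x * n⁻¹ = x * c :=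
  have c1 := conj_mem (X.th hn.1) X.B.bx
  ⟨_, X.k.com x n, mul_mem (inv_mem X.B.bx) c1,
    fun e => h1 (X.B.self n hn.2 (X.B.c.cz X.k.h (mem_CZ.2 (pz_eq.2 e))) (X.th hn.1)),
    pw_com (comm_mem X.B.cm X.B.bx c1) (zc' (X.k.xp X.B.c) n), by group⟩

theorem p2 (X : TX p N x b T) : 2 < p := by
  refine lt_of_le_of_ne X.k.pp.two_le ?_
  rintro rfl
  obtain ⟨n, a1, a2⟩ := X.exn
  obtain ⟨c, b1, b2, b3, -, b5⟩ := X.cc a1 a2
  have c1 := inv_fix X.B.cm (X.th a1.1) (pow_two n ▸ X.np a1.1) X.B.bx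
  have c2 := X.k.xp X.B.c
  rw [b5, ← mul_assoc, ← pow_two] at c1
  exact b3 ((mul_mem_cancel_left c2).1
    (X.B.fz (mul_mem (X.k.pow x) b1) (mul_mem (zc' c2 b) b2) a2 c1))

theorem key (X : TX p N x b T) (hn : n ∈ T ⊓ N) (h1 : n ∉ C1[b]) (ha : a ∈ N) (h2 : a ∈ C1[b])
    (h3 : (a⁻¹ * (n * a * n⁻¹)) ^ p ∈ center G) : a ^ p ∈ center G := by
  have a1 := mul_mem (inv_mem h2) (conj_mem (X.th hn.1) h2)
  have a2 : n * a * n⁻¹ = a * (a⁻¹ * (n * a * n⁻¹)) := by group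
  have a0 := X.k.com a n
  generalize a⁻¹ * (n * a * n⁻¹) = w at a0 a1 a2 h3
  obtain ⟨z, z1, z2⟩ := CZ_z (X.B.cycz a0 a1 h3 (X.cz hn.1))
  have a3 := quad a2 z2 z1 p
  obtain ⟨l, hl⟩ := X.k.pp.dvd_choose_self (k := 2) (by norm_num) X.p2
  rw [hl, pow_mul, zpw_left z2 z1 (comm_mem X.B.cm (X.np hn.1) a1), one_pow, mul_one,
    conj_of_cent (comm_mem X.B.cm (X.np hn.1) h2), left_eq_mul] at a3
  refine X.B.fz (pow_mem ha p) (pow_mem h2 p) h1 (cent1_comm.1 (cent_of_conj ?_))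
  rw [cz_right a2 (comm_mem X.B.cm h2 a1), a3, mul_one]

theorem p0 (X : TX p N x b T) (ha : a ∈ T ⊓ N) (h2 : a ∈ C1[b]) : a ^ p ∈ center G := by
  by_contra e
  obtain ⟨n, a1, a2⟩ := X.exn
  obtain ⟨k, hk⟩ := pg_pw X.k.pp (hl_pi X.sy) (pow_mem ha.1 p)
  obtain ⟨m, c, d⟩ := exists_pw p k e (hk ▸ one_mem _)
  rw [show (a ^ p) ^ m = (a ^ m) ^ p by rw [← pow_mul, mul_comm, pow_mul]] at c d
  have b1 : a ^ m ∈ N := pow_mem ha.2 m
  have b2 := pow_mem h2 m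
  generalize a ^ m = a at c d b1 b2
  refine c (X.key a1 a2 b1 b2 ?_)
  have b3 := pz_eq.1 (mem_CZ.1 (X.B.cycz (pow_mem b1 p) (pow_mem b2 p) d (X.cz a1.1)))
  rwa [Commute.mul_pow (mem_cent1.1 (comm_mem X.B.cm (inv_mem b2) (conj_mem (X.th a1.1) b2))),
    conj_pow, inv_pow]

theorem gen (X : TX p N x b T) (h1 : c ∈ N) (h2 : c ∈ C1[b]) (h3 : c ^ p ∈ center G)
    (h4 : c ∉ center G) : zpowers (pz G c) = zpowers (pz G b) :=
  zpowers_eq_of_prime (by rw [card_zpowers, X.B.ord]; exact X.k.pp) (X.B.cyc h1 h2 h3)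
    fun e => h4 (pz_one.1 e)

theorem dec (X : TX p N x b T) (hn : n ∈ T ⊓ N) (h1 : n ∉ C1[b]) (hm : m ∈ T ⊓ N) :
    ∃ i : ℕ, ∃ a ∈ T ⊓ N, a ∈ C1[b] ∧ m = n ^ i * a := by
  by_cases e : m ∈ C1[b]
  · exact ⟨0, m, hm, e, by simp⟩
  obtain ⟨c, b1, b2, b3, b4, b5⟩ := X.cc hn h1
  obtain ⟨d, c1, c2, -, c4, c5⟩ := X.cc hm e
  have d1 := X.B.cyc c1 c2 (c4 ▸ one_mem _)
  rw [← X.gen b1 b2 (b4 ▸ one_mem _) b3, ← mem_powers_iff_mem_zpowers] at d1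
  obtain ⟨i, hi⟩ := d1
  have d2 := cz_left (g := pz G n) (u := pz G x) (z := pz G c)
    (by rw [← map_inv, ← map_mul, ← map_mul, b5, map_mul])
    (X.B.cycz b1 b2 (b4 ▸ one_mem _) (X.cz hn.1)) i
  have d3 : (n ^ i)⁻¹ * m ∈ T ⊓ N := mul_mem (inv_mem (pow_mem hn i)) hm
  refine ⟨i, _, d3, X.B.self _ d3.2 (X.B.c.cz X.k.h (mem_CZ.2 ?_)) (X.th d3.1), by group⟩
  rw [show (n ^ i)⁻¹ * m * x * ((n ^ i)⁻¹ * m)⁻¹ = (n ^ i)⁻¹ * (m * x * m⁻¹) * n ^ i by group, c5,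
    map_mul, map_mul, map_mul, map_inv, map_pow, ← show pz G c ^ i = pz G d from hi, ← d2]
  group

theorem ab (X : TX p N x b T) (hn : n ∈ T ⊓ N) (hm : m ∈ T ⊓ N) : m ∈ CZ n := by
  by_cases h1 : n ∈ C1[b]
  · exact X.B.cycz hn.2 h1 (X.p0 hn h1) (X.cz hm.1)
  obtain ⟨i, a, a1, a2, rfl⟩ := X.dec hn h1 hm
  exact mul_mem (pow_mem (cent_le_CZ n (cent1_self n)) i)
    (CZ_comm.1 (X.B.cycz a1.2 a2 (X.p0 a1 a2) (X.cz hn.1)))

theorem triv (X : TX p N x b T) (h1 : d ∈ N) (h2 : d ∈ N[(T ⊓ N : Subgroup G)])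
    (h3 : d ∈ N[C1[b]]) (hm : m ∈ T ⊓ N) : d ∈ CZ m := by
  obtain ⟨s, a1, a, a2, rfl⟩ := (mem_sup_r (norm_inf (le_top.trans X.k.n)
    (inf_le_left.trans X.th))).1 (X.sup ⟨h1, h3⟩)
  refine mul_mem (X.ab hm a1) ?_
  by_cases e : m ∈ C1[b]
  · exact cent_le_CZ m (comm_mem X.B.cm a2.2 e)
  have a3 := (mul_mem_cancel_left (le_norm _ a1)).1 h2
  refine CZ_comm.1 (X.B.cycz a2.1 a2.2 (X.key hm e a2.1 a2.2 (X.p0 ?_ ?_)) (X.cz hm.1))
  · rw [show a⁻¹ * (m * a * m⁻¹) = a⁻¹ * m * a * m⁻¹ by group]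
    exact mul_mem (conj_mem' a3 hm) (inv_mem hm)
  · exact mul_mem (inv_mem a2.2) (conj_mem (X.th hm.1) a2.2)

theorem case1 (X : TX p N x b T) (e : N ⊓ N[(T ⊓ N : Subgroup G)] ≤ N[C1[b]]) : False := by
  have := Fact.mk X.k.pp
  have zN := X.k.zle X.B.c
  have hP : Sy[p] ((T ⊓ N).map (pz G)) (N.map (pz G)) := H1.IsPiHallOf.map X.syN _
  have hb := burnside_amb hP (by
    rintro _ ⟨⟨d, a1, rfl⟩, a2⟩
    have a3 : d ∈ N[(((T ⊓ N).map (pz G)).comap (pz G))] := le_normalizer_comap _ a2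
    rw [comap_map_eq, pz_ker] at a3
    have a4 := norm_hl_of_normal (hl_of_le X.syN le_sup_left (sup_le inf_le_right zN))
      (sup_le (le_norm _) (norm_of_cent (z_le_cent _))) a3
    refine le_cent1.1 ?_
    rintro _ ⟨m, hm, rfl⟩
    exact cent1_comm.1 (X.triv a1 a4 (e ⟨a1, a4⟩) hm))
  have := norm_map pz_surj X.k.n
  have n1 := le_norm_piCoreOf {p}ᶜ (top_norm (N.map (pz G)))
  have n2 := hl_sup_compl hP hb
  have n3 := hl_pi hb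
  generalize Op[{p}ᶜ] (N.map (pz G)) = Y at n1 n2 n3
  have := normal_of_top n1
  have y1 : ¬ Group.IsSolvable (Y.comap (pz G)) := fun e => by
    have a1 : Y = ⊥ := eq_bot_iff.2 fun y hy => by
      obtain ⟨y, rfl⟩ := pz_surj y
      exact mem_bot.2 (pz_one.2 (X.k.h.sol (top_norm _) e hy))
    rw [a1, sup_bot_eq] at n2
    exact X.k.ns (sol_of_le (sol_comap (hl_pi hP).solvable) (n2 ▸ le_comap_map _ _))
  by_cases e1 : Y.comap (pz G) ⊔ C1[x] = ⊤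
  · obtain ⟨n, a1, a2⟩ := X.exn
    obtain ⟨c, -, -, b3, b4, b5⟩ := X.cc a1 a2
    obtain ⟨y, c1, s, c2, rfl⟩ := (mem_sup_l (le_top.trans (top_norm _))).1 (e1 ▸ mem_top n)
    rw [show y * s * x * (y * s)⁻¹ = y * (s * x * s⁻¹) * y⁻¹ by group, conj_of_cent c2] at b5
    have c3 : c ∈ Y.comap (pz G) := by
      rw [show c = x⁻¹ * (x * c) by group, ← b5, show x⁻¹ * (y * x * y⁻¹) = x⁻¹ * y * x * y⁻¹ by group]
      exact mul_mem (conj_mem' (top_norm _ (mem_top x)) c1) (inv_mem c1)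
    exact b3 (pz_one.1 (eq_one_of_mem_bot ((pg_of_pow X.k.pp (k := 1) (by
      rw [pow_one, ← map_pow, b4, map_one])).inf_eq_bot n3) ⟨mem_zpowers _, c3⟩))
  · have a1 := le_sup_left.trans (X.B.c.max X.k.h e1 le_sup_right)
    exact X.B.c.nz (X.k.h.cA (norm_cent (top_norm _)) (fun e => y1 (sol_of_le e (cent_symm le_rfl)))
      (le_cent1.1 a1))

theorem case2 (X : TX p N x b T) (h1 : d ∈ N) (h2 : d ∈ N[(T ⊓ N : Subgroup G)])
    (h3 : d ∉ N[C1[b]]) : False := by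
  have bm : b ∈ T ⊓ N := ⟨X.bt, X.B.bn⟩
  have xn : x ∈ N[(T ⊓ N : Subgroup G)] := norm_inf (le_norm T) (le_top.trans X.k.n) X.xt
  have a1 := conj_mem h2 bm
  have a2 : d * b * d⁻¹ ∉ C1[b] := fun e => h3 (X.k.normC X.B.bn X.B.bz e)
  have a3 : d⁻¹ * b * d ∉ C1[b] := fun e =>
    h3 (inv_mem_iff.1 (X.k.normC X.B.bn X.B.bz (by rwa [inv_inv])))
  obtain ⟨i, a, b1, b2, b3⟩ := X.dec a1 a2 (conj_mem' h2 bm)
  obtain ⟨n, hn⟩ : ∃ n, n = d * b * d⁻¹ := ⟨_, rfl⟩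
  rw [← hn] at a1 a2 b3
  have np := X.npz a1 a2
  have ip : p.Coprime i := (X.k.pp.coprime_iff_not_dvd).2 fun ⟨l, e⟩ => a3 (by
    rw [b3, e, pow_mul]; exact mul_mem (pow_mem (zc' np b) l) b2)
  obtain ⟨c0, c1, c2, c3, c4, c5⟩ := X.cc a1 a2
  have c6 := inv_mem (conj_mem' (X.k.nn n) c1)
  have c7 := inv_mem (conj_mem' (X.th a1.1) c2)
  have c8 : ((n⁻¹ * c0 * n)⁻¹) ^ p = 1 := by
    rw [inv_pow, show n⁻¹ * c0 * n = n⁻¹ * c0 * n⁻¹⁻¹ by group, conj_pow, c4]; group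
  have c9 : (n⁻¹ * c0 * n)⁻¹ ∉ center G := by
    have := conj_nz c3 n⁻¹
    rwa [inv_inv, ← inv_mem_iff] at this
  have c10 : x * n * x⁻¹ = n * (n⁻¹ * c0 * n)⁻¹ := by
    have e := mem_cent1.1 (comm_mem X.B.cm X.B.bx c7)
    rw [mul_inv_eq_iff_eq_mul, mul_assoc, ← e, show c0 = x⁻¹ * (x * c0) by group, ← c5]
    group
  generalize (n⁻¹ * c0 * n)⁻¹ = c at c6 c7 c8 c9 c10
  have d1 := X.B.cyc b1.2 b2 (X.p0 b1 b2)
  rw [← X.gen (pow_mem c6 i) (pow_mem c7 i) (by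
      rw [← pow_mul, mul_comm, pow_mul, c8, one_pow]; exact one_mem _)
    (fun e => c9 (H9.mem_of_pow_mem_of_coprime (c8 ▸ one_mem _) e ip)),
    ← mem_powers_iff_mem_zpowers] at d1
  obtain ⟨l, hl⟩ := d1
  have d2 := cz_left c10 (comm_mem X.B.cm X.B.bx c7) l
  have d3 : pz G ((n * c ^ l) ^ i) = pz G (d⁻¹ * b * d) := by
    have e : pz G n ∈ C1[pz G c] := X.B.cycz c6 c7 (c8 ▸ one_mem _) (X.cz a1.1)
    rw [b3, map_pow, map_mul, map_mul, ← show pz G (c ^ i) ^ l = pz G a from hl, map_pow, map_pow,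
      map_pow, Commute.mul_pow (Commute.pow_right (mem_cent1.1 e) l), ← pow_mul, ← pow_mul,
      mul_comm l]
  obtain ⟨g, hg⟩ : ∃ g, g = d * x ^ l := ⟨_, rfl⟩
  have g1 : g ∈ N[(T ⊓ N : Subgroup G)] := hg ▸ mul_mem h2 (pow_mem xn l)
  have g2 : g * b * g⁻¹ = n := by
    rw [hg, hn, show d * x ^ l * b * (d * x ^ l)⁻¹ = d * (x ^ l * b * (x ^ l)⁻¹) * d⁻¹ by group,
      conj_of_cent (pow_mem X.B.bx l)]
  have g3 : pz G ((g * n * g⁻¹) ^ i) = pz G b := by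
    rw [hg, show d * x ^ l * n * (d * x ^ l)⁻¹ = d * (x ^ l * n * (x ^ l)⁻¹) * d⁻¹ by group, d2,
      conj_pow, map_mul, map_mul, d3, ← map_mul, ← map_mul]
    congr 1; group
  have g4 : g * n * g⁻¹ ∈ C1[b] := by
    obtain ⟨z, z1, z2⟩ := exists_z g3.symm
    refine H9.mem_of_pow_mem_of_coprime ?_ (z2 ▸ mul_mem (cent1_self b) (zc' z1 b)) ip
    rw [conj_pow, zconj np]; exact zc' np b
  have g5 : g * g * b * (g * g)⁻¹ = g * n * g⁻¹ := by rw [← g2]; group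
  have g6 := X.k.normC X.B.bn X.B.bz (g5 ▸ g4)
  obtain ⟨d', e1, y, e2, e3⟩ := X.k.gen (X.k.nmem X.B.c) (g * g)
  have e4 : y ∈ C1[b] := zpowers_le.2 X.B.bx e2
  have g7 : g * g ∈ CZ b := by
    have f1 := mul_mem g1 g1
    rw [← e3] at f1 g6 ⊢
    exact mul_mem (X.triv e1 ((mul_mem_cancel_right (zpowers_le.2 xn e2)).1 f1)
      ((mul_mem_cancel_right (le_norm _ e4)).1 g6) bm) (cent_le_CZ b e4)
  obtain ⟨z, z1, z2⟩ := CZ_z g7
  obtain ⟨w, w1, w2⟩ := CZ_z (X.cz a1.1)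
  rw [g5] at z2
  have w3 : b * n * b⁻¹ = n * w := by
    calc b * n * b⁻¹ = b * (z * n * z⁻¹) * b⁻¹ := by rw [conj_of_cent (zc' z1 n)]
      _ = (g * n * g⁻¹) * (g * b * g⁻¹) * (g * n * g⁻¹)⁻¹ := by rw [z2, g2]; group
      _ = g * (n * b * n⁻¹) * g⁻¹ := by group
      _ = n * w := by rw [w2, conj_mul', g2, zconj w1]
  have w4 : w ^ 2 = 1 := by
    have e : b * n * b⁻¹ = n * w⁻¹ := by
      rw [mul_inv_eq_iff_eq_mul] at w2
      rw [mul_inv_eq_iff_eq_mul, mul_assoc, ← mem_center_iff.1 (inv_mem w1), ← mul_assoc, w2,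
        mul_assoc b, ← mem_center_iff.1 w1]
      group
    rw [e, mul_right_inj] at w3
    rw [pow_two]; exact mul_eq_one_iff_eq_inv.2 w3.symm
  rw [eq_one_cop w4 (zpw_left w2 w1 (zc' np b)) ((Nat.coprime_primes Nat.prime_two X.k.pp).2
    X.p2.ne), mul_one] at w2
  exact a2 (cent_of_conj w2)

end TX

theorem NP.false (k : NP p N) (c : NC x) : False := by
  obtain ⟨x, b, T, X⟩ := k.ext c
  refine X.case1 fun d hd => ?_
  by_contra e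
  exact X.case2 hd.1 hd.2 e

end H16.H11.CA
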