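import Cfsg.Agent.H11.CA5
import Cfsg.Agent.H9.Ch1
import Cfsg.Agent.Lead.PF9a

/-! The perfect case: reduction to the simple quotient. -/

set_option autoImplicit false
set_option linter.unusedSectionVars false

namespace H16.H11.CA

open Subgroup Cfsg H1 H15 H16.H11.MX
open scoped commutatorElement

variable {G : Type*} [Group G] [Finite G] {p : ℕ} {E H K M N P R S T U W X : Subgroup G}
  {a b c d e g i j m n s t u v w x y z : G}

theorem PP.perf (h : PP G) (c : NC x) : ⁅(⊤ : Subgroup G), (⊤ : Subgroup G)⁆ = ⊤ := by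
  by_contra e
  obtain ⟨M, a, b⟩ := (eq_top_or_exists_le_coatom _).resolve_left e
  have n : ⊤ ≤ N[M] := norm_of_der_le b le_top
  have := normal_of_top n
  exact NP.false ⟨h, n, H9.index_prime_of_coatom a, rfl⟩ c

theorem PP.sub (h : PP G) (hH : H ≠ ⊤) (hs : ¬ Group.IsSolvable H) : PP H := ⟨hs, fun K _ y hy => by
  refine (h.pc (K.map H.subtype) (fun e => hH (top_le_iff.1 (e.ge.trans (map_subtype_le K)))) y
    (mem_map_of_mem _ hy)).imp (fun e => comm_iff.2 fun a ha => mem_cent.2 fun b hb =>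
      Subtype.ext (mem_cent1.1 (comm_mem e (mem_inf.2 ⟨mem_map_of_mem _ hb.1, ?_⟩)
        (mem_inf.2 ⟨mem_map_of_mem _ ha.1, ?_⟩)))) fun e a ha =>
    mem_cent1.2 (Subtype.ext (mem_cent1.1 (e (mem_map_of_mem _ ha))))
  · exact mem_cent1.2 (congrArg Subtype.val (mem_cent1.1 hb.2))
  · exact mem_cent1.2 (congrArg Subtype.val (mem_cent1.1 ha.2))⟩

structure QP (G : Type*) [Group G] : Prop where
  h : PP G
  pf : ⁅(⊤ : Subgroup G), (⊤ : Subgroup G)⁆ = ⊤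

theorem QP.simp (q : QP G) (hn : ⊤ ≤ N[T]) (h1 : T ≠ ⊤) : T ≤ center G := by
  have := Fact.mk Nat.prime_two
  refine q.h.sol hn ?_
  by_contra e
  obtain ⟨S, hS⟩ := sy_exists 2 T
  have hH : N[S] ≠ ⊤ := fun e1 => e (sol_of_sy hS (hl_pi hS).solvable (le_top.trans e1.ge) le_rfl)
  have a1 : Group.IsSolvable N[S] := by
    by_contra e1
    have b1 : Group.IsSolvable ↥(T ⊓ N[S]) :=
      sol_of_sy (hl_of_le hS (le_inf hS.1 (le_norm S)) inf_le_left) (hl_pi hS).solvable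
        inf_le_right le_rfl
    have := normal_of_top hn
    have b2 := (q.h.sub hH e1).sol (K := T.subgroupOf N[S]) (top_norm _) (by
      rw [← inf_subgroupOf_right]
      exact Group.isSolvable_of_surjective
        (f := (subgroupOfEquivOfLe (inf_le_right (a := T) (b := N[S]))).symm.toMonoidHom)
        (MulEquiv.surjective _))
    exact nab_norm e hS (comm_iff.2 fun a ha => mem_cent.2 fun b hb =>
      congrArg Subtype.val (mem_center_iff.1 (b2 (x := ⟨a, ha.2⟩) ha.1) ⟨b, hb.2⟩))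
  have a2 := sy_frattini_sup hS le_top hn
  rw [top_inf_eq] at a2
  have a3 := FT.le_of_le_sup_der a1 (le_top.trans hn) (le_top.trans (by
    rw [← q.pf, ← a2]; exact der_sup_le (le_top.trans hn)))
  exact h1 (by rw [← a2, sup_eq_left.2 a3])

theorem QP.ncq (q : QP G) : ¬ IsMulCommutative (G ⧸ center G) := fun e =>
  q.h.ns (sol_top (sol_comap (K := ⊤) (sol_of_comm inferInstance)))

theorem QP.simple (q : QP G) : IsSimpleGroup (G ⧸ center G) := by
  have : Nontrivial (G ⧸ center G) := by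
    by_contra e
    rw [not_nontrivial_iff_subsingleton] at e
    exact q.ncq ⟨⟨fun _ _ => Subsingleton.elim _ _⟩⟩
  refine ⟨fun N hN => or_iff_not_imp_right.2 fun e => eq_bot_iff.2 fun x hx => ?_⟩
  obtain ⟨x, rfl⟩ := pz_surj x
  exact mem_bot.2 (pz_one.2 (q.simp (T := N.comap (pz G)) (top_norm _) (fun e1 => e (by
    rw [← map_comap_eq_self_of_surjective pz_surj N, e1, map_top_of_surjective _ pz_surj])) hx))

theorem tr [Fact p.Prime] (pf : ⁅(⊤ : Subgroup G), (⊤ : Subgroup G)⁆ = ⊤) (hP : Sy[p] P ⊤)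
    (hc : IsMulCommutative P) (hx : x ∈ P) (h : N[P] ≤ C1[x]) : x = 1 := by
  have h1 := der_inf_abelian_sy Fact.out hP hc
  rw [pf, top_inf_eq, top_inf_eq] at h1
  have h2 : x ∈ ⁅N[P], N[P]⁆ := commutator_mono (le_norm P) le_rfl (h1 ▸ hx)
  rw [← map_subtype_commutator] at h2
  obtain ⟨y, a, rfl⟩ := h2
  have : IsMulCommutative (P.subgroupOf N[P]) := ⟨⟨fun a b => Subtype.ext (Subtype.ext
    (mem_cent1.1 (comm_mem hc a.2 b.2)))⟩⟩
  have := H3.eq_one_of_mem_abelian_hall (H := P.subgroupOf N[P]) (x := y) (by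
    rw [Nat.card_congr (subgroupOfEquivOfLe (le_norm P)).toEquiv]
    exact hl_coprime (hl_of_le hP (le_norm P) le_top)) hx a
    (mem_center_iff.2 fun g => Subtype.ext (mem_cent1.1 (h g.2)))
  rw [this, map_one]

theorem pel (hp : p.Prime) (x : G) : ∃ m : ℕ, p.Coprime m ∧ ∃ j : ℕ, (x ^ m) ^ p ^ j = 1 := by
  obtain ⟨j, m, a1, a2⟩ := Nat.exists_eq_pow_mul_and_not_dvd (orderOf_pos x).ne' p hp.ne_one
  exact ⟨m, hp.coprime_iff_not_dvd.2 a1, j, by rw [← pow_mul, mul_comm, ← a2, pow_orderOf_eq_one]⟩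

/-- a `p`-element of order `p` modulo the centre with nonabelian centralizer -/
structure NE (p : ℕ) (x : G) : Prop where
  c : NC x
  pp : p.Prime
  z : x ^ p ∈ center G
  pg : Pg[p] (zpowers x)

theorem NC.ne (c : NC x) : ∃ (p : ℕ) (y : G), NE p y := by
  obtain ⟨p, hp, h1⟩ := Nat.exists_prime_and_dvd (n := orderOf (pz G x))
    fun e => c.nz (pz_one.1 (orderOf_eq_one_iff.1 e))
  have h2 := CIT.ord_pow_div h1
  rw [← map_pow] at h2
  have c1 := c.of_le (fun e => ne_one_of_ord hp h2 (pz_one.2 e)) (cent_pow x _)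
  have h3 : (x ^ (orderOf (pz G x) / p)) ^ p ∈ center G := by
    rw [← pz_one, map_pow]; exact orderOf_dvd_iff_pow_eq_one.1 h2.dvd
  generalize x ^ (orderOf (pz G x) / p) = y at c1 h3
  obtain ⟨m, a, j, b⟩ := pel hp y
  exact ⟨p, _, c1.of_le (fun e => c1.nz (H9.mem_of_pow_mem_of_coprime h3 e a)) (cent_pow y m), hp,
    by rw [← pow_mul, mul_comm, pow_mul]; exact pow_mem h3 m, pg_of_pow hp b⟩

theorem NE.mem (c : NE p x) (hS : Sy[p] S C1[x]) : x ∈ S :=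
  zpowers_le.1 (le_hl_of_norm hS (zpowers_le.2 (cent1_self x))
    (norm_of_cent (cent_zpowers x ▸ hS.1)) c.pg)

theorem NE.conj (c : NE p x) (g : G) : NE p (g * x * g⁻¹) :=
  ⟨⟨conj_nz c.c.nz g, by rw [cent1_cj, comm_cj]; exact c.c.nc⟩, c.pp,
    by rw [conj_pow, zconj c.z]; exact c.z, by rw [zpowers_cj]; exact c.pg.cj g⟩

theorem NC.norm (h : PP G) (c : NC x) : N[C1[x]] ≤ C1[x] :=
  (norm_inf le_rfl (norm_cent le_rfl)).trans (c.max h (h.norm_ne (sol_of_comm (comm_center _))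
    fun e => c.nz (e ⟨cent1_self x, le_cent1.1 le_rfl⟩))
    (norm_inf (le_norm _) (norm_cent (le_norm _))))

theorem aux2 (h : PP G) (c : NE 2 t) (h1 : IsMulCommutative ↥(C1[t] ⊓ C1[s]))
    (hR : Sy[2] R (C1[t] ⊓ C1[s])) (ht : t ∈ R) (hs : s ∈ R)
    (h2 : ∀ S, Sy[2] S C1[t] → ¬ IsMulCommutative S) : N[R] ≤ C1[t] ∧ ¬ N[R] ≤ C1[s] := by
  have := Fact.mk Nat.prime_two
  obtain ⟨S, hS, a1⟩ := sy_exists_ge (hR.1.trans inf_le_left) (hl_pi hR)
  obtain ⟨y, ⟨b1, b2⟩, b3⟩ := SetLike.exists_of_lt (lt_sy_norm hS (lt_of_le_of_ne a1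
    fun e => h2 S hS (e ▸ comm_of_le h1 hR.1)))
  have b4 : y ∉ C1[s] := fun e => b3 (zpowers_le.1 (le_hl_of_norm' hR
    (zpowers_le.2 ⟨hS.1 b1, e⟩) (zpowers_le.2 b2) ((hl_pi hS).of_le (zpowers_le.2 b1))))
  exact ⟨h.le (K := N[R] ⊓ C1[t]) (h.norm_ne (hl_pi hR).solvable fun e => c.c.nz (e ht))
    (le_norm R ht) inf_le_left inf_le_right
    (ncomm ⟨b2, hS.1 b1⟩ ⟨le_norm R hs, (hR.1 hs).1⟩ b4), fun e => b4 (e b2)⟩

theorem QP.two (q : QP G) (c : NE 2 t) (hS : Sy[2] S C1[t]) : IsMulCommutative ↥(C1[t] ⊓ N[S]) := by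
  have := Fact.mk Nat.prime_two
  by_contra e
  have ht := c.mem hS
  have a1 : N[S] ≤ C1[t] := q.h.le (q.h.norm_ne (hl_pi hS).solvable fun e => c.c.nz (e ht))
    (le_norm S ht) inf_le_right inf_le_left e
  have a2 : Sy[2] S ⊤ := sy_of_norm_le hS le_top (inf_le_right.trans a1)
  have a3 : ¬ IsMulCommutative S := fun e => c.c.nz (by
    rw [tr q.pf a2 e ht a1]; exact one_mem _)
  have a4 : ∀ g S', Sy[2] S' C1[g * t * g⁻¹] → ¬ IsMulCommutative S' := fun g S' h1 h2 => by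
    rw [cent1_cj] at h1
    obtain ⟨k, -, rfl⟩ := sy_conj (hl_cj hS g) h1
    exact a3 ((comm_cj g).1 ((comm_cj k).1 h2))
  have := q.simple
  have b1 : Sy[2] (S.map (pz G)) ⊤ := by
    have := H1.IsPiHallOf.map a2 (pz G)
    rwa [map_top_of_surjective _ pz_surj] at this
  obtain ⟨S', b2⟩ := sylow_of_sy_top b1
  have t1 : pz G t ≠ 1 := fun e => c.c.nz (pz_one.1 e)
  have t2 : pz G t * pz G t = 1 := by rw [← map_mul, ← pow_two, pz_one]; exact c.z
  have hO : pPrimeCore 2 (G ⧸ center G) = ⊥ := by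
    rw [pPrimeCore_eq_piCoreOf]
    exact op_simple (topEquiv.isSimpleGroup) (mem_top _) t2 t1
  obtain ⟨g, g1, g2⟩ : ∃ g : G ⧸ center G, g * pz G t * g⁻¹ ∈ (S' : Subgroup _) ∧
      g * pz G t * g⁻¹ ≠ pz G t := by
    by_contra! e
    have := H6.WC.mem_center ⟨b2 ▸ mem_map_of_mem _ ht, e⟩ hO
    exact q.h.CZ_ne c.c.nz (eq_top_iff.2 fun g _ => zc this _)
  obtain ⟨g, rfl⟩ := pz_surj g
  rw [← map_inv, ← map_mul, ← map_mul] at g1 g2
  have c' := c.conj g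
  have s1 : g * t * g⁻¹ ∈ S := by
    rw [b2, ← mem_comap, comap_map_eq, pz_ker] at g1
    exact zpowers_le.1 (le_hl_of_norm' a2 le_top (zpowers_le.2
      (sup_le (le_norm S) (norm_of_cent (z_le_cent S)) g1)) c'.pg)
  have s2 : ¬ C1[t] ≤ C1[g * t * g⁻¹] := fun e => g2 (by
    rw [cent1_cj] at e
    rw [conj_of_cent (c.c.norm q.h (cj_eq_self_iff.1
      (eq_of_le_of_card e (card_cj _ g).le).symm))])
  have s3 := q.h.com (cent_ne c.c.nz) (hS.1 s1) s2
  obtain ⟨R, hR⟩ := sy_exists 2 (C1[t] ⊓ C1[g * t * g⁻¹])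
  have r0 : ∀ y ∈ C1[t] ⊓ C1[g * t * g⁻¹], Pg[2] (zpowers y) → y ∈ R := fun y a b =>
    zpowers_le.1 (le_hl_normal hR (comm_norm s3 le_rfl hR.1) (zpowers_le.2 a) b)
  have r1 := r0 t ⟨cent1_self t, cent1_comm.1 (hS.1 s1)⟩ c.pg
  have r2 := r0 _ ⟨hS.1 s1, cent1_self _⟩ c'.pg
  refine (aux2 q.h c s3 hR r1 r2 (by simpa using a4 1)).2 (aux2 q.h c' ?_ ?_ r2 r1 (a4 g)).1
  · rwa [inf_comm]
  · rwa [inf_comm]

theorem QP.two' (q : QP G) (c : NC y) (hy : Pg[2] (zpowers y)) (hK : Pg[2] K) (h : K ≤ C1[y]) :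
    IsMulCommutative K := by
  have := Fact.mk Nat.prime_two
  obtain ⟨k, hk⟩ := pg_pow hy (mem_zpowers y)
  obtain ⟨m, a, b⟩ := exists_pw 2 k c.nz (hk ▸ one_mem _)
  obtain ⟨S, hS, e⟩ := sy_exists_ge (h.trans (cent_pow y m)) hK
  exact comm_of_le (q.two ⟨c.of_le a (cent_pow y m), Nat.prime_two, b,
    hy.of_le (zpowers_le.2 (pow_mem (mem_zpowers y) m))⟩ hS)
    (e.trans (le_inf hS.1 (le_norm S)))

theorem QP.syab (q : QP G) (c : NE 2 t) : ∃ S : Subgroup G, Sy[2] S ⊤ ∧ IsMulCommutative S := by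
  have := Fact.mk Nat.prime_two
  obtain ⟨R, hR⟩ := sy_exists 2 C1[t]
  have r1 := q.two' c.c c.pg (hl_pi hR) hR.1
  have ht := c.mem hR
  obtain ⟨S, hS, a1⟩ := sy_exists_ge le_top (hl_pi hR)
  refine ⟨S, hS, ?_⟩
  by_contra e
  obtain ⟨y, ⟨b1, b2⟩, b3⟩ := SetLike.exists_of_lt (lt_sy_norm hS (lt_of_le_of_ne a1
    fun e1 => e (e1 ▸ r1)))
  obtain ⟨k, hk⟩ := pg_pow (hl_pi hS) b1
  obtain ⟨m, c1, c2⟩ := exists_sq k b3 (hk ▸ one_mem R)
  have c3 : y ^ m ∈ S := pow_mem b1 m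
  have c4 : y ^ m ∈ N[R] := pow_mem b2 m
  generalize y ^ m = s at c1 c2 c3 c4
  have d1 : s ∉ C1[t] := fun e => c1 (zpowers_le.1 (le_hl_of_norm' hR (zpowers_le.2 e)
    (zpowers_le.2 c4) ((hl_pi hS).of_le (zpowers_le.2 c3))))
  have d2 := mul_mem ht (conj_mem c4 ht)
  have d3 : R ⊔ zpowers s ≤ C1[t * (s * t * s⁻¹)] := sup_le (fun a ha => comm_mem r1 ha d2)
    (zpowers_le.2 (cent1_comm.1 (inv_fix r1 c4 c2 ht)))
  have d4 := ncomm (K := R ⊔ zpowers s) (mem_sup_right (mem_zpowers s)) (mem_sup_left ht) d1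
  by_cases e1 : t * (s * t * s⁻¹) ∈ center G
  · refine d1 (c.c.cz q.h (mem_CZ.2 (pz_eq.2 ?_)))
    rw [show t⁻¹ * (s * t * s⁻¹) = (t ^ 2)⁻¹ * (t * (s * t * s⁻¹)) by group]
    exact mul_mem (inv_mem c.z) e1
  · exact d4 (q.two' ⟨e1, fun e => d4 (comm_of_le e d3)⟩ ((hl_pi hR).of_le (zpowers_le.2 d2))
      ((hl_pi hS).of_le (sup_le a1 (zpowers_le.2 c3))) d3)

theorem QP.pn (q : QP G) (h1 : t ∉ center G) (h2 : t ^ 2 ∈ center G) (h3 : Pg[2] (zpowers t)) :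
    ∃ K : Subgroup G, Hl[{2}ᶜ] K (CZ t) ∧ CZ t ≤ N[K] := by
  have := Fact.mk Nat.prime_two
  by_cases e : IsMulCommutative C1[t]
  · refine ⟨Op[{2}ᶜ] C1[t], hl_of_idx (hl_core_nil _ (nil_of_comm e)) (cent_le_CZ t) ?_,
      le_norm_piCoreOf _ CZ_norm⟩
    obtain ⟨S, hS⟩ := sy_exists 2 (CZ t)
    have a1 : C1[t] ⊔ S = CZ t := le_antisymm (sup_le (cent_le_CZ t) hS.1) (le_of_sy fun r hr _ => by
      by_cases e : r = 2
      · exact ⟨S, e ▸ hS, le_sup_right⟩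
      · have := Fact.mk hr
        obtain ⟨R, hR⟩ := sy_exists r (CZ t)
        refine ⟨R, hR, le_sup_of_le_left fun g hg => ?_⟩
        obtain ⟨k, hk⟩ := pg_pw hr (hl_pi hR) hg
        exact H9.mem_of_pow_mem_of_coprime (CZ_pow (hR.1 hg) h2) (hk ▸ one_mem _)
          (((Nat.coprime_primes Nat.prime_two hr).2 (Ne.symm e)).pow_right k))
    rw [← a1]
    exact idx_of_sup' (hS.1.trans CZ_norm) (hl_pi hS).compl_compl
  · have c : NE 2 t := ⟨⟨h1, e⟩, Nat.prime_two, h2, h3⟩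
    obtain ⟨S, hS⟩ := sy_exists 2 C1[t]
    rw [le_antisymm (c.c.cz q.h) (cent_le_CZ t)]
    exact ⟨_, burnside_amb hS (comm_cent (q.two c hS) le_rfl (le_inf hS.1 (le_norm S))),
      le_norm_piCoreOf_self _ _⟩

theorem QP.pnil (q : QP G) (t : G ⧸ center G) (ht : orderOf t = 2) :
    HasNormalPComplement 2 C1[t] := by
  obtain ⟨t, rfl⟩ := pz_surj t
  obtain ⟨m, a, j, b⟩ := pel Nat.prime_two t
  have e : pz G (t ^ m) = pz G t := by
    obtain ⟨l, rfl⟩ := (Nat.coprime_two_left.1 a)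
    rw [map_pow, pow_succ, pow_mul, ← ht, pow_orderOf_eq_one, one_pow, one_mul]
  rw [← e] at ht ⊢
  obtain ⟨K, a1, a2⟩ := q.pn (t := t ^ m) (fun e => ne_one_of_ord Nat.prime_two ht (pz_one.2 e))
    (by rw [← pz_one, map_pow, ← ht, pow_orderOf_eq_one]) (pg_of_pow Nat.prime_two b)
  have a3 := H1.IsPiHallOf.map a1 (pz G)
  have a4 := (map_mono (f := pz G) a2).trans (le_normalizer_map _)
  rw [CZ, map_comap_eq_self_of_surjective pz_surj] at a3 a4
  rw [pnil_iff Nat.prime_two, ← hl_eq_core a3 a4]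
  exact a3

/-- data in the simple quotient -/
structure FQ (L : Type*) [Group L] (p : ℕ) (x : L) : Prop where
  s : IsSimpleGroup L
  nc : ¬ IsMulCommutative L
  pp : p.Prime
  ord : orderOf x = p
  co : IsCoatom C1[x]
  as : p = 2 → ∀ K : Subgroup L, Pg[2] K → IsMulCommutative K

theorem QP.fq (q : QP G) (c : NE p x) : FQ (G ⧸ center G) p (pz G x) := by
  have := Fact.mk c.pp
  refine ⟨q.simple, q.ncq, c.pp, orderOf_eq_prime (by rw [← map_pow, pz_one]; exact c.z)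
    fun e => c.c.nz (pz_one.1 e), ⟨fun e => q.h.CZ_ne c.c.nz (by rw [CZ, e, comap_top]),
      fun H hH => ?_⟩, ?_⟩
  · by_contra e
    have a1 := c.c.max q.h (H := H.comap (pz G)) (fun e1 => e (by
      rw [← map_comap_eq_self_of_surjective pz_surj H, e1, map_top_of_surjective _ pz_surj]))
      ((cent_le_CZ x).trans (comap_mono hH.le))
    refine hH.not_ge fun y hy => ?_
    obtain ⟨y, rfl⟩ := pz_surj y
    exact cent_le_CZ x (a1 hy)
  · rintro rfl K hK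
    obtain ⟨S, hS, a1⟩ := q.syab c
    have b1 : Sy[2] (S.map (pz G)) ⊤ := by
      have := H1.IsPiHallOf.map hS (pz G)
      rwa [map_top_of_surjective _ pz_surj] at this
    obtain ⟨g, -, b2⟩ := sy_le_conj b1 le_top hK
    exact comm_of_le ((comm_cj g).2 inferInstance) b2

theorem QP.zodd (q : QP G) (c : NE 2 x) : Pg'[2] (center G) := by
  have := Fact.mk Nat.prime_two
  obtain ⟨S, hS, a1⟩ := q.syab c
  refine isPi_of_forall_orderOf fun z hz hp e => ne_one_of_ord hp rfl (tr q.pf hS a1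
    (zpowers_le.1 (le_hl_of_norm' hS le_top (zpowers_le.2 (cent_le_norm _ (z_le_cent S hz)))
      (pg_zp Nat.prime_two e))) fun g _ => zc hz g)

end H16.H11.CA
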