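import Cfsg.Agent.H11.CA6
import Cfsg.Agent.H8.CA6
import Cfsg.Agent.H8.Schur2
import Cfsg.Agent.H26.SzPart
import Cfsg.Agent.H26.SzInst
import Cfsg.Agent.S0556
import Cfsg.Agent.S2117
import Cfsg.Agent.S3214
import Cfsg.Agent.S4040

/-! Nonsolvable minimal non-CA groups. -/

set_option autoImplicit false
set_option linter.unusedSectionVars false

namespace H16.H11.CA

open Subgroup Cfsg H1 H15 H16.H11.MX H1.CIT Equiv
open scoped commutatorElement MatrixGroups

variable {G : Type*} [Group G] [Finite G] {p : ℕ} {K P : Subgroup G} {a b g s t x y : G}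

namespace FQ

theorem ns (f : FQ G p x) : ¬ Group.IsSolvable G := fun e =>
  have := f.s
  f.nc ⟨⟨IsSimpleGroup.comm_iff_isSolvable.2 e⟩⟩

theorem x1 (f : FQ G p x) : x ≠ 1 := ne_one_of_ord f.pp f.ord

theorem pf (f : FQ G p x) : ⁅(⊤ : Subgroup G), (⊤ : Subgroup G)⁆ = ⊤ :=
  (f.s.eq_bot_or_eq_top_of_normal _ inferInstance).resolve_left fun e =>
    f.ns (sol_top (sol_of_comm (der_eq_bot.1 e)))

theorem nab (f : FQ G p x) : ¬ IsMulCommutative C1[x] := fun _ =>
  f.ns ⟨⟨3, Cfsg.Agent.S0556.result _ f.co⟩⟩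

theorem norm (f : FQ G p x) : N[zpowers x] ≤ C1[x] :=
  (ceq f.co (fun e => (f.s.eq_bot_or_eq_top_of_normal _ (normal_of_top e.ge)).elim
    (zpowers_ne_bot' f.x1) fun e => f.ns (sol_top (e ▸ sol_of_comm
      (comm_of_cyclic (cyclic_zpowers x))))) (cent_zpowers x ▸ cent_le_norm _)).le

theorem cn (f : FQ G p x) (h : IsCNGroup G) : False := by
  have := f.s
  have c := cit_of_cn h f.nc
  by_cases e : p = 2
  · subst e
    have := Fact.mk Nat.prime_two
    exact f.nab (f.as rfl _ (IsPGroup.isPi (pg_of_odd fun y a b =>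
      c x y f.ord b (mem_cent1.1 a).symm)))
  · refine f.ns (Cfsg.Agent.S4040.result _ f.co (h x f.x1) (Nat.not_even_iff_odd.1 fun e1 => ?_))
    obtain ⟨t, a, b⟩ := exists_orderOf Nat.prime_two (even_iff_two_dvd.1 e1)
    exact f.x1 (c t x b (f.ord ▸ f.pp.odd_of_ne_two e) (mem_cent1.1 a))

theorem rl (f : FQ G 2 x) (hy : orderOf y = 4) (hs : s * s = 1) (h : s * y * s⁻¹ = y⁻¹) : False := by
  have a1 : s ∈ N[zpowers y] := mem_norm_of_cj_le (by
    rw [← zpowers_cj, h]; exact zpowers_le.2 (inv_mem (mem_zpowers y)))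
  have a2 := f.as rfl _ ((pg_of_pow Nat.prime_two (x := s) (k := 1) (by simpa [pow_two])).sup_of_le_norm
    (pg_of_pow Nat.prime_two (x := y) (k := 2) (by
      rw [show 2 ^ 2 = orderOf y from hy.symm, pow_orderOf_eq_one])) (zpowers_le.2 a1))
  rw [conj_of_cent (comm_mem a2 (mem_sup_left (mem_zpowers s)) (mem_sup_right (mem_zpowers y)))] at h
  have := orderOf_dvd_of_pow_eq_one (x := y) (n := 2) (by
    rw [pow_two]; exact mul_eq_one_iff_eq_inv.2 h)
  rw [hy] at this
  omega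

theorem congr {L : Type*} [Group L] (f : FQ G p x) (e : G ≃* L) : FQ L p (e x) := by
  have := f.s
  have h1 : C1[e x] = C1[x].map e.toMonoidHom := by
    ext y
    obtain ⟨y, rfl⟩ := e.surjective y
    rw [mem_cent1, ← map_mul, ← map_mul, e.apply_eq_iff_eq, ← mem_cent1]
    exact (mem_map_iff_mem (f := e.toMonoidHom) e.injective).symm
  refine ⟨e.symm.isSimpleGroup, fun c => f.nc ⟨⟨fun a b => e.injective (by
    rw [map_mul, map_mul, c.1.1])⟩⟩, f.pp, (e.orderOf_eq x).trans f.ord,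
    h1 ▸ ((MulEquiv.mapSubgroup e).isCoatom_iff _).2 f.co, fun h K hK => ?_⟩
  have := f.as h _ (hK.map e.symm.toMonoidHom)
  exact comm_iff.2 fun a ha => mem_cent.2 fun b hb => e.symm.injective (by
    rw [map_mul, map_mul]
    exact mem_cent1.1 (comm_mem this (mem_map_of_mem e.symm.toMonoidHom hb)
      (mem_map_of_mem e.symm.toMonoidHom ha)))

theorem prime (f : FQ G p x) (h : ¬ p ^ 2 ∣ Nat.card G) : False := by
  have := Fact.mk f.pp
  refine f.x1 (tr f.pf (sy_mk le_top (pg_zp f.pp f.ord) fun e => h ?_)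
    (comm_of_cyclic (cyclic_zpowers x)) (mem_zpowers x) f.norm)
  rw [← card_top, ← card_mul_relIndex (le_top (a := zpowers x)), card_zpowers, f.ord, pow_two]
  exact Nat.mul_dvd_mul_left p e

theorem three (f : FQ G 3 x) (h : ¬ 27 ∣ Nat.card G) (ha : orderOf a = 3) (hb : orderOf b = 3)
    (h1 : a ∈ C1[b]) (h2 : a ∉ zpowers b) (ga : g * a * g⁻¹ = a⁻¹) (gb : g * b * g⁻¹ = b⁻¹) :
    False := by
  have := Fact.mk Nat.prime_three
  have a1 : zpowers a ≤ N[zpowers b] := norm_of_cent (cent_zpowers b ▸ zpowers_le.2 h1)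
  have a2 : Nat.card ↥(zpowers a ⊔ zpowers b) = 9 := by
    rw [card_sup_of_inf_bot (Or.inl a1) (inf_bot_of_prime (by
      rw [card_zpowers, ha]; norm_num) fun e => h2 (e (mem_zpowers a))), card_zpowers, card_zpowers,
      ha, hb]
  have a3 : Sy[3] (zpowers a ⊔ zpowers b) ⊤ := sy_mk le_top
    (isPi_of_card_eq_pow (n := 2) Nat.prime_three a2) fun e => h (by
      rw [← card_top, ← card_mul_relIndex (le_top (a := zpowers a ⊔ zpowers b)), a2]
      exact Nat.mul_dvd_mul_left 9 e)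
  obtain ⟨k, -, a4⟩ := sy_conj_le a3 le_top (pg_zp Nat.prime_three f.ord)
  obtain ⟨_, ⟨i, rfl⟩, _, ⟨j, rfl⟩, e⟩ := (mem_sup_r a1).1 (a4 (cj_mem (mem_zpowers x)))
  have a5 : g * (k * x * k⁻¹) * g⁻¹ = (k * x * k⁻¹)⁻¹ := by
    rw [← e, conj_mul', ← conj_zpow, ← conj_zpow, ga, gb, inv_zpow, inv_zpow, mul_inv_rev]
    exact ((Commute.zpow_zpow (mem_cent1.1 h1) i j).inv_inv).eq
  have a6 : k⁻¹ * g * k * x * (k⁻¹ * g * k)⁻¹ = x⁻¹ := by
    rw [show k⁻¹ * g * k * x * (k⁻¹ * g * k)⁻¹ = k⁻¹ * (g * (k * x * k⁻¹) * g⁻¹) * k by group, a5]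
    group
  rw [conj_of_cent (f.norm (mem_norm_of_cj_le (by
    rw [← zpowers_cj, a6]; exact zpowers_le.2 (inv_mem (mem_zpowers x)))))] at a6
  have := orderOf_dvd_of_pow_eq_one (x := x) (n := 2) (by
    rw [pow_two]; exact mul_eq_one_iff_eq_inv.2 a6)
  rw [f.ord] at this
  omega

theorem a7 {x : alternatingGroup (Fin 7)} (f : FQ _ p x) : False := by
  have hc : Nat.card (alternatingGroup (Fin 7)) = 2520 := by
    rw [nat_card_alternatingGroup]; simp [Nat.factorial]
  let m (a b c d : Fin 7) (h1 : a ≠ b) (h2 : c ≠ d) : alternatingGroup (Fin 7) :=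
    ⟨swap a b * swap c d, by simp [Perm.mem_alternatingGroup, h1, h2]⟩
  have := Fact.mk Nat.prime_three
  have := Fact.mk Nat.prime_two
  have hd := orderOf_dvd_natCard x
  rw [f.ord, hc, show 2520 = 2 ^ 3 * (3 ^ 2 * (5 * 7)) from rfl] at hd
  simp only [f.pp.dvd_mul] at hd
  rcases hd with h | h | h | h
  · obtain rfl := (Nat.prime_dvd_prime_iff_eq f.pp Nat.prime_two).1 (f.pp.dvd_of_dvd_pow h)
    exact f.rl (y := m 0 1 1 2 (by decide) (by decide) * m 2 3 4 5 (by decide) (by decide))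
      (s := m 0 2 4 5 (by decide) (by decide))
      (orderOf_eq_prime_pow (p := 2) (n := 1) (by decide) (by decide)) (by decide) (by decide)
  · obtain rfl := (Nat.prime_dvd_prime_iff_eq f.pp Nat.prime_three).1 (f.pp.dvd_of_dvd_pow h)
    refine f.three (by rw [hc]; norm_num) (a := m 0 1 1 2 (by decide) (by decide))
      (b := m 3 4 4 5 (by decide) (by decide)) (g := m 1 2 4 5 (by decide) (by decide))
      (orderOf_eq_prime (by decide) (by decide)) (orderOf_eq_prime (by decide) (by decide))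
      (mem_cent1.2 (by decide)) (fun e => ?_) (by decide) (by decide)
    have := mem_zp3 (by decide) e
    revert this
    decide
  · obtain rfl := (Nat.prime_dvd_prime_iff_eq f.pp (by norm_num)).1 h
    exact f.prime (by rw [hc]; norm_num)
  · obtain rfl := (Nat.prime_dvd_prime_iff_eq f.pp (by norm_num)).1 h
    exact f.prime (by rw [hc]; norm_num)

variable {F : Type*} [Field F] [Fintype F]

theorem l34 (hF : Fintype.card F = 4) {x : PSL(3, F)} (f : FQ _ p x) : False := by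
  have el : ∀ m, El PSL(3, F) m → m ∣ 7 ∨ m ∣ 5 ∨ m ∣ 3 ∨ m ∣ 4 := fun m h => by
    have := H26.charTwo_of_card (F := F) (n := 2) hF
    have e := Set.ext_iff.1 (Cfsg.Agent.S2476.result (F := F) 2) m
    rw [hF] at e
    have h := e.1 h
    norm_num at h
    rcases h with h | h | h | h | h
    exacts [.inl h, .inr (.inl h), .inr (.inr (.inl h)), .inr (.inr (.inr (h.trans (by norm_num)))),
      .inr (.inr (.inr h))]
  refine f.cn fun g g1 => ?_
  obtain ⟨r, hr, h1⟩ := Nat.exists_prime_and_dvd (n := orderOf g) (by simpa)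
  have := Fact.mk hr
  suffices Pg[r] C1[g] from this.nilpotent
  refine isPi_of_forall_orderOf fun y hy hp => ?_
  by_contra e
  have h2 := el _ (el_mul (mem_cent1.1 hy) dvd_rfl h1 ((Nat.coprime_primes hp hr).2 e))
  have a1 := hp.two_le
  have a2 := hr.two_le
  have e : orderOf y ≠ r := e
  generalize orderOf y = s at *
  have a3 : s * r ≤ 7 := by rcases h2 with h | h | h | h <;> have := Nat.le_of_dvd (by norm_num) h <;> omega
  have a4 : s ≤ 3 := by nlinarith
  have a5 : r ≤ 3 := by nlinarith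
  interval_cases s <;> interval_cases r <;> omega

theorem l2 (h3 : 3 < Fintype.card F) {x : PSL(2, F)} (f : FQ _ p x) :
    p = 2 ∧ Odd (Fintype.card F) ∧ Fintype.card F ≠ 9 := by
  have key : ¬ (x * x ≠ 1 ∨ ((2 : F) = 0 ∧ x ≠ 1)) := fun h => f.nab (comm_iff.2 fun a ha =>
    mem_cent.2 fun b hb => H8.CA.psl_ab h (mem_cent1.1 hb).symm (mem_cent1.1 ha).symm)
  rw [not_or, not_not, not_and] at key
  obtain rfl : p = 2 := by rw [← f.ord, ord2 key.1 f.x1]
  obtain ⟨r, _, n, hr, hq⟩ := FiniteField.card' F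
  have := Fact.mk hr
  have r2 : r ≠ 2 := by
    rintro rfl
    exact key.2 (CharP.cast_eq_zero F 2) f.x1
  refine ⟨rfl, hq ▸ (hr.odd_of_ne_two r2).pow, fun e => ?_⟩
  obtain ⟨y, hy⟩ := (el_psl_odd hr r2 hq h3 (m := 4)).2 (Or.inr (Or.inl (by rw [e])))
  obtain ⟨t, a, b⟩ := psl_real r (x := y) (by rintro rfl; simp at hy) fun e => r2
    ((Nat.prime_dvd_prime_iff_eq hr Nat.prime_two).1 (hr.dvd_of_dvd_pow (n := 2) (e.trans hy.dvd)))
  exact f.rl hy a b

end FQ

theorem ker_le_two {F : Type*} [Field F] [Fintype F] (hX : Group.IsPerfect G)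
    (ho : Odd (Fintype.card F)) (h3 : 3 < Fintype.card F) (h9 : Fintype.card F ≠ 9)
    (f : G →* PSL(2, F)) (hf : Function.Surjective f) (hk : f.ker ≤ center G) :
    Nat.card f.ker ≤ 2 := by
  let π : SL(2, F) →* PSL(2, F) := QuotientGroup.mk' _
  let Y : Subgroup (G × SL(2, F)) :=
    (f.comp (MonoidHom.fst G SL(2, F))).eqLocus (π.comp (MonoidHom.snd G SL(2, F)))
  let ξ : Y →* SL(2, F) := (MonoidHom.snd G SL(2, F)).comp Y.subtype
  let η : Y →* G := (MonoidHom.fst G SL(2, F)).comp Y.subtype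
  have hξ : Function.Surjective ξ := fun s => (hf (π s)).elim fun x hx => ⟨⟨(x, s), hx⟩, rfl⟩
  have hη : Function.Surjective η := fun x =>
    (QuotientGroup.mk'_surjective _ (f x)).elim fun s hs => ⟨⟨(x, s), hs.symm⟩, rfl⟩
  have hker : ∀ y ∈ ξ.ker, y.1.2 = 1 ∧ y.1.1 ∈ f.ker := fun y hy =>
    ⟨hy, (y.2.trans (congrArg π hy)).trans (map_one π)⟩
  have hc : ξ.ker ≤ center Y := fun y hy => mem_center_iff.2 fun g =>
    Subtype.ext (Prod.ext (mem_center_iff.1 (hk (hker y hy).2) _) (by simp [(hker y hy).1]))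
  have hm := H8.mult_eq_bot_of_hasSchur_one (Cfsg.Agent.S2117.result (F := F)
    (fun e => by rw [e] at ho; exact absurd ho (by decide)) h9) hξ hc
  have b1 : Function.Injective (ξ.comp (commutator Y).subtype) :=
    (injective_iff_map_eq_one _).2 fun y hy => Subtype.ext (eq_one_of_mem_bot hm ⟨hy, y.2⟩)
  have b2 := (Nat.card_le_card_of_surjective _ (H8.commutator_surj_of_perfect hX hη)).trans
    (Nat.card_le_card_of_injective _ b1)
  rw [H8.card_SL2_eq ho, ← f.ker.card_mul_index, index_ker, MonoidHom.range_eq_top.2 hf,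
    card_top] at b2
  exact Nat.le_of_mul_le_mul_right b2 Nat.card_pos

theorem main (h1 : ¬ Group.IsSolvable G) (h2 : ¬ H8.CA.CA G)
    (h3 : ∀ H : Subgroup G, H ≠ ⊤ → H8.CA.CA H) :
    ∃ (F : Type) (_ : Field F) (_ : Fintype F), Nonempty (G ≃* PSL(2, F)) ∧
      H8.CA.QL (Fintype.card F) := by
  have h : PP G := ⟨h1, fun H hH y hy => or_iff_not_imp_right.2 fun e =>
    comm_iff.2 fun a ha => mem_cent.2 fun b hb => (H8.CA.ca_sub_iff.1 (h3 H hH) y hy b hb.1 a ha.1
      (mem_cent1.1 hb.2).symm (mem_cent1.1 ha.2).symm).resolve_right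
        fun e1 => e fun z hz => mem_cent1.2 (e1 z hz).symm⟩
  obtain ⟨x, c⟩ : ∃ x : G, NC x := by
    by_contra! e
    exact h2 fun x hx => by
      by_contra e1
      exact e x ⟨hx, e1⟩
  have q : QP G := ⟨h, h.perf c⟩
  obtain ⟨p, y, c⟩ := c.ne
  have f := q.fq c
  have := q.simple
  rcases Cfsg.Agent.S3214.result q.ncq q.pnil with ⟨F, _, _, a, ⟨e⟩⟩ | ⟨F, _, _, m, a, b, ⟨e⟩⟩ |
    ⟨⟨e⟩⟩ | ⟨F, _, _, a, ⟨e⟩⟩
  · obtain ⟨rfl, b1, b2⟩ := (f.congr e).l2 a
    let φ := e.toMonoidHom.comp (pz G)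
    have k : φ.ker = center G := (MonoidHom.ker_comp_of_injective _ _ e.injective).trans pz_ker
    have s : Function.Surjective φ := e.surjective.comp pz_surj
    have b3 := ker_le_two ⟨q.pf⟩ b1 a b2 φ s k.le
    have b4 := (q.zodd c).not_dvd Nat.prime_two (by simp)
    have b5 := card_pos' φ.ker
    rw [← k] at b4
    have e' := MulEquiv.ofBijective φ ⟨(MonoidHom.ker_eq_bot_iff φ).1 (card_eq_one.1 (by omega)), s⟩
    exact ⟨F, _, _, ⟨e'⟩, H8.CA.cond_all' e' a.le h2 h3⟩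
  · exact (f.cn ((H26.Sz.lieModel a b).ofEquiv e).isCN).elim
  · exact (f.congr e).a7.elim
  · exact ((f.congr e).l34 a).elim

end H16.H11.CA
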