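import Cfsg.Agent.H11.ZStar
import Cfsg.Prelude.Def_SylowChains

/-! Chains of Sylow subgroups, control of Sylow intersections, strongly `p`-embedded subgroups. -/

set_option autoImplicit false
set_option linter.unusedSectionVars false

namespace H16.H11

open Subgroup Cfsg H1 H15 Relation
open scoped commutatorElement

theorem chain_iff {α : Type*} {r : α → α → Prop} {a b : α} :
    (∃ (n : ℕ) (c : Fin (n + 1) → α), c 0 = a ∧ c (Fin.last n) = b ∧
      ∀ i : Fin n, r (c i.castSucc) (c i.succ)) ↔ ReflTransGen r a b := by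
  constructor
  · rintro ⟨n, c, rfl, rfl, h⟩
    have : ∀ i, ReflTransGen r (c 0) (c i) := fun i =>
      Fin.induction ReflTransGen.refl (fun i ih => ih.tail (h i)) i
    exact this _
  · intro h
    induction h with
    | refl => exact ⟨0, fun _ => a, rfl, rfl, fun i => i.elim0⟩
    | @tail b c _ h ih =>
      obtain ⟨n, d, h1, h2, h3⟩ := ih
      refine ⟨n + 1, Fin.snoc d c, ?_, Fin.snoc_last _ _, fun i => ?_⟩
      · rw [← Fin.castSucc_zero, Fin.snoc_castSucc, h1]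
      · induction i using Fin.lastCases with
        | last => rw [Fin.succ_last, Fin.snoc_last, Fin.snoc_castSucc, h2]; exact h
        | cast i => rw [Fin.succ_castSucc, Fin.snoc_castSucc, Fin.snoc_castSucc]; exact h3 i

theorem rtg_lift {α β : Type*} {r : α → α → Prop} {s : β → β → Prop} {a b : α} (f : α → β)
    (h : ∀ a b, r a b → s (f a) (f b)) (hab : ReflTransGen r a b) : ReflTransGen s (f a) (f b) := by
  induction hab with
  | refl => exact ReflTransGen.refl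
  | tail _ h1 ih => exact ih.tail (h _ _ h1)

theorem rtg_mono {α : Type*} {r s : α → α → Prop} {a b : α}
    (h : ∀ a b, r a b → s a b) (hab : ReflTransGen r a b) : ReflTransGen s a b :=
  rtg_lift id h hab

variable {G : Type*} [Group G] [Finite G] {p : ℕ} [hp : Fact p.Prime]
  {𝓕 : Set (Subgroup G)} {D F H K L M N P Q R S T U V X : Subgroup G} {g x y : G}

theorem mem_sylowMembers : X ∈ sylowMembers p 𝓕 S ↔ X ∈ 𝓕 ∧ Sy[p] (S ⊓ X) X :=
  and_congr_right fun _ => ⟨fun ⟨P, h⟩ => h ▸ sy_of_sylow P, sylow_of_sy⟩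

/-- One link of a chain controlled by `𝓕` over `D`. -/
def Stp (p : ℕ) (𝓕 : Set (Subgroup G)) (D S T : Subgroup G) : Prop :=
  Pg[p] S ∧ ∃ X x, X ∈ 𝓕 ∧ Sy[p] (S ⊓ X) X ∧ Sy[p] (T ⊓ X) X ∧ x ∈ X ∧ T :^ x⁻¹ = S ∧ D ≤ T ⊓ X

/-- `𝓕` controls Sylow intersections in `M`. -/
def Ctl (p : ℕ) (𝓕 : Set (Subgroup G)) (M : Subgroup G) : Prop :=
  ∀ S T, Sy[p] S M → Sy[p] T M → S ≠ T → S ⊓ T ≠ ⊥ → ReflTransGen (Stp p 𝓕 (S ⊓ T)) S T

theorem Stp.mono {𝓖 : Set (Subgroup G)} {D' : Subgroup G} (h : Stp p 𝓕 D S T) (h1 : 𝓕 ⊆ 𝓖)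
    (h2 : D' ≤ D) : Stp p 𝓖 D' S T :=
  let ⟨a, X, x, b, c, d, e, f, g⟩ := h
  ⟨a, X, x, h1 b, c, d, e, f, h2.trans g⟩

theorem Stp.sy (h : Stp p 𝓕 D S T) (hS : Sy[p] S ⊤) : Sy[p] T ⊤ := by
  obtain ⟨-, X, x, -, -, -, -, rfl, -⟩ := h
  simpa only [cj_inv_cj] using hl_cj_top hS x

theorem Ctl.chain (h : Ctl p 𝓕 M) (hS : Sy[p] S M) (hT : Sy[p] T M) (h1 : D ≠ ⊥) (h2 : D ≤ S)
    (h3 : D ≤ T) : ReflTransGen (Stp p 𝓕 D) S T := by
  by_cases e : S = T
  · rw [e]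
  · exact rtg_mono (fun _ _ h => h.mono le_rfl (le_inf h2 h3))
      (h S T hS hT e (ne_bot_of_le h1 (le_inf h2 h3)))

theorem ctl_top_iff : ControlsSylowIntersections p 𝓕 ↔ Ctl p 𝓕 ⊤ := by
  have key : ∀ (D : Subgroup G) (S T : Sylow p G),
      (∃ (n : ℕ) (c : Fin (n + 1) → Sylow p G) (X : Fin n → Subgroup G) (x : Fin n → G),
      c 0 = S ∧ c (Fin.last n) = T ∧ ∀ i : Fin n,
        X i ∈ sylowMembers p 𝓕 (c i.castSucc : Subgroup G) ∧
        X i ∈ sylowMembers p 𝓕 (c i.succ : Subgroup G) ∧ x i ∈ X i ∧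
        subgroupConjRight (x i) (c i.succ : Subgroup G) = (c i.castSucc : Subgroup G) ∧
        D ≤ (c i.succ : Subgroup G) ⊓ X i) ↔
      ReflTransGen (fun a b : Sylow p G => Stp p 𝓕 D a b) S T := fun D S T => by
    rw [← chain_iff]
    refine exists₂_congr fun n c => ⟨fun ⟨X, x, h1, h2, h3⟩ => ⟨h1, h2, fun i => ?_⟩,
      fun ⟨h1, h2, h3⟩ => ?_⟩
    · obtain ⟨a, b, c, d, e⟩ := h3 i
      exact ⟨hl_pi (sy_top_of_sylow _), X i, x i, a.1, (mem_sylowMembers.1 a).2,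
        (mem_sylowMembers.1 b).2, c, d, e⟩
    · choose _ X x a b c d e f using h3
      exact ⟨X, x, h1, h2, fun i => ⟨mem_sylowMembers.2 ⟨a i, b i⟩, mem_sylowMembers.2 ⟨a i, c i⟩,
        d i, e i, f i⟩⟩
  refine ⟨fun h S T hS hT h1 h2 => ?_, fun h S T h1 h2 => (key _ S T).2 ?_⟩
  · obtain ⟨S, rfl⟩ := sylow_of_sy_top hS
    obtain ⟨T, rfl⟩ := sylow_of_sy_top hT
    exact rtg_lift (fun a : Sylow p G => (a : Subgroup G)) (fun _ _ h => h)
      ((key _ S T).1 (h S T (fun e => h1 (by rw [e])) h2))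
  · have h3 := h S T (sy_top_of_sylow S) (sy_top_of_sylow T) (fun e => h1 (Sylow.ext e)) h2
    generalize (S : Subgroup G) ⊓ T = D at h3
    have : ∀ V, ReflTransGen (Stp p 𝓕 D) S V → ∃ T : Sylow p G, (T : Subgroup G) = V ∧
        ReflTransGen (fun a b : Sylow p G => Stp p 𝓕 D a b) S T := fun V h => by
      induction h with
      | refl => exact ⟨S, rfl, ReflTransGen.refl⟩
      | tail _ h ih =>
        obtain ⟨U, rfl, h4⟩ := ih
        obtain ⟨W, rfl⟩ := sylow_of_sy_top (h.sy (sy_top_of_sylow U))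
        exact ⟨W, rfl, h4.tail h⟩
    obtain ⟨T', e, h4⟩ := this T h3
    rwa [Sylow.ext e] at h4

theorem ctl_sub_iff (h0 : ∀ X ∈ 𝓕, X ≤ M) :
    ControlsSylowIntersections p ((fun X : Subgroup G => X.subgroupOf M) '' 𝓕) ↔ Ctl p 𝓕 M := by
  have inj := M.subtype_injective
  rw [ctl_top_iff]
  refine ⟨fun h S T hS hT h1 h2 => ?_, fun h S T hS hT h1 h2 => ?_⟩
  · have h3 := rtg_lift (s := Stp p 𝓕 (S ⊓ T)) (map M.subtype) ?_
      (h _ _ (by simpa only [subgroupOf_self] using hS.subgroupOf le_rfl)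
        (by simpa only [subgroupOf_self] using hT.subgroupOf le_rfl)
        (fun e => h1 (by rw [← map_subgroupOf hS.1, e, map_subgroupOf hT.1]))
        (fun e => h2 ((subgroupOf_eq_bot_iff (inf_le_left.trans hS.1)).1 e)))
    · rwa [map_subgroupOf hS.1, map_subgroupOf hT.1] at h3
    rintro A B ⟨a, _, x, ⟨X, hX, rfl⟩, c, d, e, f, g⟩
    have c' := c.map_inj inj
    have d' := d.map_inj inj
    have g' := map_mono (f := M.subtype) g
    rw [map_inf _ _ _ inj, map_subgroupOf (h0 X hX)] at c' d'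
    rw [map_inf _ _ _ inj, map_inf _ _ _ inj, map_subgroupOf (h0 X hX), map_subgroupOf hS.1,
      map_subgroupOf hT.1] at g'
    exact ⟨a.map _, X, x, hX, c', d', e, by rw [← f, map_cj]; rfl, g'⟩
  · have e1 := hS.map_inj inj
    have e2 := hT.map_inj inj
    rw [map_top_subtype] at e1 e2
    have h3 := rtg_lift (s := Stp p ((fun X : Subgroup G => X.subgroupOf M) '' 𝓕) (S ⊓ T))
      (fun X : Subgroup G => X.subgroupOf M) ?_ (h _ _ e1 e2 (fun e => h1 (map_injective inj e)) (fun e => h2 (by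
        rwa [← map_inf _ _ _ inj, Subgroup.map_eq_bot_iff, ker_subtype, le_bot_iff] at e)))
    · simpa only [subgroupOf_map] using h3
    rintro A B ⟨a, X, x, b, c, d, e, rfl, g⟩
    refine ⟨a.subgroupOf M, X.subgroupOf M, ⟨x, h0 X b e⟩, ⟨X, b, rfl⟩, c.subgroupOf (h0 X b),
      d.subgroupOf (h0 X b), e, ?_, ?_⟩
    · ext y; simp only [mem_cj, mem_subgroupOf]; rfl
    · have := comap_mono (f := M.subtype) g
      rwa [← map_inf _ _ _ inj, comap_map_eq_self_of_injective inj] at this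

theorem Ctl.cj {𝓖 : Set (Subgroup G)} (h : Ctl p 𝓕 M) (g : G) (h1 : ∀ X ∈ 𝓕, X :^ g ∈ 𝓖) :
    Ctl p 𝓖 (M :^ g) := fun S T hS hT h2 h3 => by
  have e1 := hl_cj hS g⁻¹
  have e2 := hl_cj hT g⁻¹
  rw [cj_cj_inv] at e1 e2
  have h4 := rtg_lift (s := Stp p 𝓖 (S ⊓ T)) (fun X : Subgroup G => X :^ g) ?_
    (h _ _ e1 e2 (fun e => h2 (cj_inj.1 e)) (by rw [← cj_inf]; exact cj_ne_bot h3 _))
  · simpa only [cj_inv_cj] using h4
  rintro A B ⟨a, X, x, b, c, d, e, rfl, f⟩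
  refine ⟨a.cj g, X :^ g, g * x * g⁻¹, h1 X b, ?_, ?_, cj_mem e, ?_, ?_⟩
  · rw [← cj_inf]; exact hl_cj c g
  · rw [← cj_inf]; exact hl_cj d g
  · rw [cj_cj, cj_cj]; congr 3; group
  · rw [← cj_inf, le_cj_iff, cj_inf]; exact f

section functor
variable {f : Subgroup G → Set (Subgroup G)}

theorem mem_fam : X ∈ functorFamily p f M ↔ ∃ P, Sy[p] P M ∧ ∃ F ∈ f P, X = M ⊓ N[F] :=
  ⟨fun ⟨P, h⟩ => ⟨_, sy_of_sylow P, h⟩, fun ⟨_, h1, h⟩ => by
    obtain ⟨P, rfl⟩ := sylow_of_sy h1; exact ⟨P, h⟩⟩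

theorem regular_iff : IsFunctorRegular p f M ↔ Ctl p (functorFamily p f M) M :=
  ctl_sub_iff fun X hX => by
    obtain ⟨_, -, _, -, rfl⟩ := mem_fam.1 hX; exact inf_le_left

theorem regular_cj (hf : IsNormalizerFunctor p f) (h : IsFunctorRegular p f M) (g : G) :
    IsFunctorRegular p f (M :^ g) := regular_iff.2 ((regular_iff.1 h).cj g fun X hX => by
  obtain ⟨P, h1, F, h2, rfl⟩ := mem_fam.1 hX
  refine mem_fam.2 ⟨_, hl_cj h1 g, F :^ g, ?_, by rw [cj_inf, norm_cj]⟩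
  rw [(hf P (sy_pg h1)).2 g]
  exact ⟨F, h2, rfl⟩)

theorem Stp.par (hf : IsNormalizerFunctor p f) (hP : Sy[p] P ⊤) (hM : P ≤ M)
    (h : Stp p (functorFamily p f M) D S T) : Stp p (functorFamily p f ⊤) D S T := by
  obtain ⟨a, X, x, b, c, d, e, rfl, g⟩ := h
  obtain ⟨R, h1, F, h2, rfl⟩ := mem_fam.1 b
  have h3 := hl_of_card hP le_top (hl_card_eq h1 (hl_of_le hP hM le_top))
  have h4 : R ≤ M ⊓ N[F] := le_inf h1.1 ((le_norm R).trans ((hf R (sy_pg h1)).1 F h2).2)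
  have key : ∀ S : Subgroup G, Pg[p] S → Sy[p] (S ⊓ (M ⊓ N[F])) (M ⊓ N[F]) →
      Sy[p] (S ⊓ (⊤ ⊓ N[F])) (⊤ ⊓ N[F]) := fun S hS h => hl_of_ge (hl_of_le
        (hl_of_card h3 le_top (hl_card_eq h (hl_of_le h3 h4 le_top)))
        (inf_le_right.trans (inf_le_inf_right _ le_top)) le_top) inf_le_right hS.inf_left
        (inf_le_inf_left _ (inf_le_inf_right _ le_top))
  exact ⟨a, _, x, mem_fam.2 ⟨R, h3, F, h2, rfl⟩, key _ a c, key _ (isPi_cj.1 a) d, ⟨trivial, e.2⟩,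
    rfl, g.trans (inf_le_inf_left _ (inf_le_inf_right _ le_top))⟩

end functor

/-! ### Connectivity -/

/-- Distinct Sylow subgroups meeting non-trivially. -/
def Adj (p : ℕ) (S T : Subgroup G) : Prop := Sy[p] T ⊤ ∧ S ≠ T ∧ S ⊓ T ≠ ⊥

theorem conn_iff : IsSylowChainConnected p G ↔
    ∀ S T : Subgroup G, Sy[p] S ⊤ → Sy[p] T ⊤ → ReflTransGen (Adj p) S T := by
  refine ⟨fun h S T hS hT => ?_, fun h S T => ?_⟩
  · obtain ⟨S, rfl⟩ := sylow_of_sy_top hS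
    obtain ⟨T, rfl⟩ := sylow_of_sy_top hT
    obtain ⟨n, c, h1, h2, -, h3⟩ := h S T
    exact chain_iff.1 ⟨n, fun i => (c i : Subgroup G), congrArg _ h1, congrArg _ h2, fun i =>
      ⟨sy_top_of_sylow _, fun e => (h3 i).1 (Sylow.ext e), (h3 i).2⟩⟩
  by_cases e : S = T
  · exact ⟨0, fun _ => S, rfl, e, fun _ => inf_le_left, fun i => i.elim0⟩
  by_cases e' : (S : Subgroup G) ⊓ T = ⊥
  swap
  · refine ⟨1, ![S, T], rfl, rfl, fun i => ?_, fun i => ?_⟩
    · fin_cases i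
      · exact inf_le_left
      · exact inf_le_right
    · fin_cases i
      exact ⟨e, e'⟩
  obtain ⟨n, c, h1, h2, h3⟩ := chain_iff.2 (h S T (sy_top_of_sylow S) (sy_top_of_sylow T))
  have h4 : ∀ i, ∃ U : Sylow p G, (U : Subgroup G) = c i := fun i => sylow_of_sy_top
    (Fin.cases (h1 ▸ sy_top_of_sylow S) (fun i => (h3 i).1) i)
  choose d hd using h4
  refine ⟨n, d, Sylow.ext ((hd _).trans h1), Sylow.ext ((hd _).trans h2),
    fun i => e'.le.trans bot_le, fun i => ⟨fun e => (h3 i).2.1 ?_, ?_⟩⟩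
  · rw [← hd, ← hd, e]
  · rw [hd, hd]; exact (h3 i).2.2

theorem adj_cj (h : ReflTransGen (Adj p) S T) (g : G) : ReflTransGen (Adj p) (S :^ g) (T :^ g) :=
  rtg_lift (fun X : Subgroup G => X :^ g) (fun _ _ h => ⟨hl_cj_top h.1 g, fun e => h.2.1 (cj_inj.1 e),
    by rw [← cj_inf]; exact cj_ne_bot h.2.2 g⟩) h

theorem adj_symm (hS : Sy[p] S ⊤) (h : ReflTransGen (Adj p) S T) :
    Sy[p] T ⊤ ∧ ReflTransGen (Adj p) T S := by
  induction h with
  | refl => exact ⟨hS, ReflTransGen.refl⟩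
  | tail _ h ih => exact ⟨h.1, ReflTransGen.head ⟨ih.1, h.2.1.symm, by rw [inf_comm]; exact h.2.2⟩ ih.2⟩

/-- Strongly `p`-embedded, in the classical sense. -/
structure Spe (p : ℕ) (H : Subgroup G) : Prop where
  ne : H ≠ ⊤
  dvd : p ∣ Nat.card H
  ti : ∀ g : G, g ∉ H → ¬ p ∣ Nat.card (H ⊓ H :^ g : Subgroup G)

theorem Spe.mem (h : Spe p H) (hQ : Pg[p] Q) (h0 : Q ≠ ⊥) (h1 : Q ≤ H) (h2 : Q ≤ H :^ g) : g ∈ H :=
  by_contra fun h3 => h.ti g h3 ((hQ.dvd_of_ne_bot h0).trans (card_dvd (le_inf h1 h2)))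

theorem Spe.norm (h : Spe p H) (hQ : Pg[p] Q) (h0 : Q ≠ ⊥) (h1 : Q ≤ H) : N[Q] ≤ H :=
  fun g hg => h.mem hQ h0 h1 (by rw [← cj_norm hg]; exact cj_mono g h1)

theorem Spe.sy (h : Spe p H) (hS : Sy[p] S H) : Sy[p] S ⊤ :=
  sy_of_norm_le hS le_top (inf_le_right.trans (h.norm (hl_pi hS) (sy_ne_bot hS hp.out h.dvd) hS.1))

theorem Spe.le (h : Spe p H) (hQ : Pg[p] Q) (h0 : Q ⊓ H ≠ ⊥) : Q ≤ H :=
  (eq_of_inf_norm_le hQ.nilpotent (inf_le_left : Q ⊓ H ≤ Q) (inf_le_inf_left _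
    (h.norm hQ.inf_left h0 inf_le_right))).ge.trans inf_le_right

theorem Spe.cj (h : Spe p H) (g : G) : Spe p (H :^ g) := by
  refine ⟨fun e => h.ne (cj_eq_top.1 e), by rw [card_cj]; exact h.dvd, fun k hk hd => ?_⟩
  refine h.ti (g⁻¹ * k * g) (fun h1 => hk (mem_cj.2 h1)) ?_
  rwa [← card_cj _ g, cj_inf, cj_cj, show g * (g⁻¹ * k * g) = k * g by group, ← cj_cj]

theorem Spe.exists_ge (h : Spe p H) (hS : Sy[p] S ⊤) : ∃ H, Spe p H ∧ S ≤ H := by
  obtain ⟨T, hT⟩ := sy_exists p H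
  obtain ⟨g, -, rfl⟩ := sy_conj (h.sy hT) hS
  exact ⟨_, h.cj g, cj_mono g hT.1⟩

theorem Spe.frattini (h : Spe p H) (hn : ⊤ ≤ N[N]) (hd : p ∣ Nat.card N) (hS : Sy[p] S H) :
    S ⊓ N ≠ ⊥ ∧ N ⊔ H = ⊤ := by
  have h1 := hl_inf (h.sy hS) le_top (le_top.trans hn)
  have h2 := sy_ne_bot h1 hp.out hd
  exact ⟨h2, eq_top_iff.2 ((sy_frattini_sup h1 le_top hn).ge.trans (sup_le_sup_left
    (inf_le_right.trans (h.norm (hl_pi h1) h2 (inf_le_left.trans hS.1))) _))⟩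

/-- A `p'`-group normalized by a non-cyclic abelian `p`-subgroup of `H` lies in `H`. -/
theorem Spe.le_of_E2 (h : Spe p H) {A : Subgroup G} (hA : E2 p A) (h1 : A ≤ H) (hn : A ≤ N[K])
    (hK : Pg'[p] K) : K ≤ H :=
  cop_gen_E2 hp.out hA hn hK fun X hX hc => inf_le_right.trans ((cent_le_norm X).trans
    (h.norm (pg_of_card hp.out hc) (ne_bot_of_card hp.out hc) (hX.trans h1)))

theorem not_conn_iff : ¬ IsSylowChainConnected p G ↔ ∃ H : Subgroup G, Spe p H := by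
  rw [conn_iff]
  constructor
  · intro h
    push Not at h
    obtain ⟨S, T, hS, hT, h⟩ := h
    let H : Subgroup G :=
      { carrier := {g | ReflTransGen (Adj p) S (S :^ g)}
        one_mem' := by change ReflTransGen _ _ _; rw [cj_one]
        mul_mem' := fun {a b} ha hb => by
          change ReflTransGen _ _ _
          rw [← cj_cj]; exact ReflTransGen.trans ha (adj_cj hb a)
        inv_mem' := fun {a} ha => by
          have := adj_cj (adj_symm hS ha).2 a⁻¹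
          rwa [cj_cj_inv] at this }
    have h1 : S ≤ H := fun g hg => by change ReflTransGen _ _ _; rw [cj_self hg]
    obtain ⟨g, -, rfl⟩ := sy_conj hS hT
    have h2 : S ≠ ⊥ := by rintro rfl; exact h (by rw [cj_bot])
    refine ⟨H, fun e => h (e ▸ mem_top g : g ∈ H),
      ((hl_pi hS).dvd_of_ne_bot h2).trans (card_dvd h1), fun k hk hd => hk ?_⟩
    obtain ⟨X, hX, hc⟩ := exists_card_prime hp.out hd
    have h3 := hl_of_le hS h1 le_top
    obtain ⟨a, ha, h4⟩ := sy_le_conj h3 (hX.trans inf_le_left) (pg_of_card hp.out hc)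
    obtain ⟨b, hb, h5⟩ := sy_le_conj h3 (le_cj_iff.1 (hX.trans inf_le_right))
      ((pg_of_card hp.out hc).cj _)
    rw [← le_cj_iff, cj_cj] at h5
    refine (mul_mem_cancel_right hb).1 (show ReflTransGen _ _ _ from ?_)
    by_cases e : S :^ a = S :^ (k * b)
    · exact e ▸ ha
    · exact ReflTransGen.tail ha ⟨hl_cj_top hS _, e,
        ne_bot_of_le (ne_bot_of_card hp.out hc) (le_inf h4 h5)⟩
  · rintro ⟨H, hH⟩ h
    obtain ⟨S, hS⟩ := sy_exists p H
    have h1 : ∀ T, ReflTransGen (Adj p) S T → T ≤ H := fun T h => by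
      induction h with
      | refl => exact hS.1
      | tail _ h ih => exact hH.le (hl_pi h.1) (ne_bot_of_le h.2.2 (le_inf inf_le_right
          (inf_le_left.trans ih)))
    refine hH.ne (eq_top_iff.2 fun g _ => hH.mem ((hl_pi hS).cj g)
      (cj_ne_bot (sy_ne_bot hS hp.out hH.dvd) g) (h1 _ (h _ _ (hH.sy hS) (hl_cj_top (hH.sy hS) g)))
      (cj_mono g hS.1))

end H16.H11
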