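import Cfsg.Agent.H6.QG
import Cfsg.Agent.H6.Inv
import Cfsg.Agent.H3.Transfer2

set_option autoImplicit false
set_option linter.unusedSectionVars false
set_option linter.style.haveILetI false

namespace H11.G45

open Cfsg Subgroup

variable {G : Type*} [Group G] [Finite G]

theorem comm_of_pow {r a : G} {j : ℕ} (h : Commute (r ^ j) a) (hc : j.Coprime (orderOf r)) :
    Commute r a := by
  obtain ⟨m, hm⟩ := exists_pow_eq_self_of_coprime hc
  rw [← hm]; exact h.pow_left m

theorem comm_of_conj_eq {r a : G} {i j : ℕ} (h : r ^ i * a * (r ^ i)⁻¹ = r ^ (i + j) * a * (r ^ (i + j))⁻¹) :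
    Commute (r ^ j) a := by
  rw [pow_add] at h
  have : a = r ^ j * a * (r ^ j)⁻¹ := by
    have h2 : r ^ i * a * (r ^ i)⁻¹ = r ^ i * (r ^ j * a * (r ^ j)⁻¹) * (r ^ i)⁻¹ := by rw [h]; group
    exact mul_left_cancel (mul_right_cancel h2)
  have h3 : r ^ j * a = a * r ^ j := by
    conv_rhs => rw [this]
    group
  exact h3

theorem cyc_of_pgroup {s : ℕ} [Fact s.Prime] (hcyc : ∀ P : Sylow s G, IsCyclic P) {R : Subgroup G}
    (hR : IsPGroup s R) : IsCyclic R := by
  obtain ⟨P, hP⟩ := hR.exists_le_sylow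
  haveI := hcyc P
  exact isCyclic_of_injective (inclusion hP) (inclusion_injective hP)

/-- The `s'`-elements centralizing an element of order `s` form a subgroup. -/
theorem npc {s : ℕ} [hs : Fact s.Prime] (hcyc : ∀ P : Sylow s G, IsCyclic P) {u : G}
    (hu : orderOf u = s) :
    ∃ K : Subgroup G, ∀ g, g ∈ K ↔ Commute g u ∧ (orderOf g).Coprime s := by
  set H := centralizer ({u} : Set G) with hH
  have uH : u ∈ H := mem_centralizer_singleton_iff.2 rfl
  have hp : IsPGroup s (zpowers (⟨u, uH⟩ : H)) :=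
    IsPGroup.of_card (n := 1) (by rw [Nat.card_zpowers, ← orderOf_coe, pow_one]; exact hu)
  obtain ⟨P, hP⟩ := hp.exists_le_sylow
  have uP : (⟨u, uH⟩ : H) ∈ (P : Subgroup H) := hP (mem_zpowers _)
  haveI : IsCyclic P := by
    haveI := cyc_of_pgroup hcyc (P.isPGroup'.map H.subtype)
    exact isCyclic_of_surjective _ ((P : Subgroup H).equivMapOfInjective _ H.subtype_injective).symm.surjective
  have hN : normalizer (P : Set H) ≤ centralizer (P : Set H) := by
    refine P.normalizer_le_centralizer_or_le_commutator.resolve_right fun h => ?_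
    have h1 := H3.mem_commutator_sylow_of_central P uP (h uP)
      (mem_center_iff.2 fun g => Subtype.ext (mem_centralizer_singleton_iff.1 g.2))
    have h2 : ⁅(P : Subgroup H), (P : Subgroup H)⁆ = ⊥ := by
      rw [commutator_eq_bot_iff_le_centralizer]
      intro a ha b hb
      have := (IsCyclic.isMulCommutative (α := P)).is_comm.comm ⟨b, hb⟩ ⟨a, ha⟩
      exact congrArg Subtype.val this
    rw [h2, mem_bot] at h1
    have : u = 1 := congrArg Subtype.val h1
    rw [this, orderOf_one] at hu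
    exact hs.out.one_lt.ne hu
  haveI : (P : Subgroup H).FiniteIndex := inferInstance
  set K := (MonoidHom.transferSylow P hN).ker
  refine ⟨K.map H.subtype, fun g => ⟨?_, fun ⟨h1, h2⟩ => ?_⟩⟩
  · rintro ⟨k, hk, rfl⟩
    refine ⟨mem_centralizer_singleton_iff.1 k.2, ?_⟩
    refine ((Nat.Prime.coprime_iff_not_dvd hs.out).2 fun h => ?_).symm
    refine MonoidHom.not_dvd_card_ker_transferSylow P hN (h.trans ?_)
    rw [H.subtype_apply, orderOf_coe]
    exact K.orderOf_dvd_natCard hk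
  · have gH : g ∈ H := mem_centralizer_singleton_iff.2 h1
    refine ⟨⟨g, gH⟩, ?_, rfl⟩
    show MonoidHom.transferSylow P hN ⟨g, gH⟩ = 1
    obtain ⟨n, hn⟩ := IsPGroup.iff_orderOf.1 P.isPGroup' (MonoidHom.transferSylow P hN ⟨g, gH⟩)
    have h3 := orderOf_map_dvd (MonoidHom.transferSylow P hN) ⟨g, gH⟩
    rw [← orderOf_coe (⟨g, gH⟩ : H)] at h3
    rw [← orderOf_eq_one_iff]
    rw [hn] at h3 ⊢
    exact Nat.Coprime.eq_one_of_dvd (h2.symm.pow_left n) h3

theorem not_dvd_of {s : ℕ} [hs : Fact s.Prime] {K : Subgroup G}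
    (h : ∀ g ∈ K, (orderOf g).Coprime s) : ¬ s ∣ Nat.card K := fun hd => by
  obtain ⟨g, hg⟩ := exists_prime_orderOf_dvd_card' s hd
  have := h g g.2
  rw [orderOf_coe, hg, Nat.coprime_self] at this
  exact hs.out.one_lt.ne' this

/-- Frattini argument, elementwise. -/
theorem fr {s : ℕ} [hs : Fact s.Prime] (hcyc : ∀ P : Sylow s G, IsCyclic P) {C N : Subgroup G}
    (hNC : N ≤ C) (hn : ∀ c ∈ C, ∀ n ∈ N, c * n * c⁻¹ ∈ N) (hd : ¬ s ∣ Nat.card N) {y : G}
    (hy : y ∈ N) (y2 : orderOf y = 2) :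
    ∃ T : Subgroup G, IsPGroup 2 T ∧ y ∈ T ∧ T ≤ N ∧ ∃ r ∈ C,
      orderOf r = s ^ (Nat.card C).factorization s ∧ ∀ t ∈ T, r * t * r⁻¹ ∈ T := by
  haveI : Fact (Nat.Prime 2) := ⟨Nat.prime_two⟩
  set M := N.subgroupOf C with hM
  haveI : M.Normal := ⟨fun n hn' c => hn c c.2 n hn'⟩
  have cM : Nat.card M = Nat.card N := Nat.card_congr (subgroupOfEquivOfLe hNC).toEquiv
  set y' : M := ⟨⟨y, hNC hy⟩, hy⟩
  have hp : IsPGroup 2 (zpowers y') :=
    IsPGroup.of_card (n := 1) (by rw [Nat.card_zpowers, ← orderOf_coe, ← orderOf_coe, pow_one]; exact y2)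
  obtain ⟨P, hP⟩ := hp.exists_le_sylow
  have top := P.normalizer_sup_eq_top
  set T0 := (P : Subgroup M).map M.subtype
  set L := normalizer (T0 : Set C)
  have hi : ¬ s ∣ L.index := fun h => hd <| by
    rw [← cM]
    have e1 : Nat.card (L ⊔ M : Subgroup C) * Nat.card (L ⊓ M : Subgroup C) = Nat.card L * Nat.card M := by
      have a1 := relIndex_sup_right L M
      have a2 := (M.subgroupOf (L ⊔ M)).card_mul_index
      have a3 := (M.subgroupOf L).card_mul_index
      rw [Nat.card_congr (subgroupOfEquivOfLe (le_sup_right : M ≤ L ⊔ M)).toEquiv] at a2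
      rw [← inf_subgroupOf_right, inf_comm,
        Nat.card_congr (subgroupOfEquivOfLe (inf_le_left : L ⊓ M ≤ L)).toEquiv, inf_comm,
        inf_subgroupOf_right] at a3
      simp only [relIndex] at a1
      rw [← a2, ← a3, a1, inf_comm L M]; ring
    rw [top, card_top, ← L.card_mul_index, mul_assoc] at e1
    exact h.trans ⟨_, (Nat.eq_of_mul_eq_mul_left Nat.card_pos e1).symm⟩
  obtain ⟨R⟩ : Nonempty (Sylow s L) := inferInstance
  have hR : IsPGroup s (((R : Subgroup L).map L.subtype).map C.subtype) := (R.isPGroup'.map _).map _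
  haveI := cyc_of_pgroup hcyc hR
  obtain ⟨r, hr⟩ := IsCyclic.exists_generator (α := ((R : Subgroup L).map L.subtype).map C.subtype)
  obtain ⟨r1, ⟨r2, -, rfl⟩, e⟩ := r.2
  refine ⟨T0.map C.subtype, (P.isPGroup'.map _).map _, ⟨_, ⟨y', hP (mem_zpowers _), rfl⟩, rfl⟩, ?_,
    r, e ▸ (r2 : C).2, ?_, ?_⟩
  · rintro _ ⟨_, ⟨m, -, rfl⟩, rfl⟩
    exact m.2
  · rw [orderOf_coe, orderOf_eq_card_of_forall_mem_zpowers hr, card_subtype, card_subtype,
      R.card_eq_multiplicity, ← L.card_mul_index,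
      Nat.factorization_mul Nat.card_pos.ne' index_ne_zero_of_finite, Finsupp.add_apply,
      Nat.factorization_eq_zero_of_not_dvd hi, add_zero]
  · rintro _ ⟨t, ht, rfl⟩
    exact ⟨_, (mem_normalizer_iff.1 r2.2 t).1 ht, by rw [← e]; rfl⟩

theorem exists_qd (S : Sylow 2 G) (hS : IsQuasiDihedral (S : Subgroup G)) {T : Subgroup G}
    (hT : IsPGroup 2 T) : ∃ (S' : Sylow 2 G) (k : ℕ) (x w : G), T ≤ S' ∧ H6.QD (S' : Subgroup G) k x w := by
  haveI : Fact (Nat.Prime 2) := ⟨Nat.prime_two⟩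
  obtain ⟨S', h⟩ := hT.exists_le_sylow
  obtain ⟨k, x, w, hq⟩ := H6.qd_sub (H6.isQuasiDihedral_congr (S.equiv S') hS)
  exact ⟨S', k, x, w, h, hq⟩

theorem conj_inv (S : Sylow 2 G) (hS : IsQuasiDihedral (S : Subgroup G))
    (hG : ∀ H : Subgroup G, H.index ≠ 2) {a b : G} (ha : orderOf a = 2) (hb : orderOf b = 2) :
    IsConj a b := by
  obtain ⟨k, x, w, hq⟩ := H6.qd_sub hS
  exact (hq.conj_all hG ha).symm.trans (hq.conj_all hG hb)

theorem four_invs {S : Subgroup G} {k : ℕ} {x w : G} (h : H6.QD S k x w) {a b c d : G}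
    (ha : a ∈ S) (hb : b ∈ S) (hc : c ∈ S) (hd : d ∈ S) (oa : orderOf a = 2) (ob : orderOf b = 2)
    (oc : orderOf c = 2) (od : orderOf d = 2) (ab : Commute b a) (ac : Commute c a) (ad : Commute d a)
    (bc : Commute c b) (bd : Commute d b) : a = b ∨ a = c ∨ a = d ∨ b = c ∨ b = d ∨ c = d := by
  have n : ∀ g : G, orderOf g = 2 → g ≠ 1 := fun g hg e => by simp [e] at hg
  have nb := n b ob
  have nc := n c oc
  have nd := n d od
  rcases h.of_ord2 ha oa with e | ⟨j, e⟩
  · rcases h.of_ord2 hb ob with e' | ⟨j, e'⟩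
    · exact Or.inl (e.trans e'.symm)
    · rw [e'] at bc bd
      have h1 := h.cent_w hc bc
      have h2 := h.cent_w hd bd
      rw [← e', ← e] at h1 h2
      grind
  · rw [e] at ab ac ad
    have h0 := h.cent_w hb ab
    have h1 := h.cent_w hc ac
    have h2 := h.cent_w hd ad
    rw [← e] at h0 h1 h2
    grind

theorem card_cent_le {A B : Set G} {g : G} (h : ∀ b ∈ B, g⁻¹ * b * g ∈ closure A) :
    Nat.card (centralizer A) ≤ Nat.card (centralizer B) := by
  have hm : (centralizer A).map (MulAut.conj g).toMonoidHom ≤ centralizer B := by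
    rintro _ ⟨c, hc, rfl⟩ b hb
    have := (centralizer_closure A ▸ hc : c ∈ centralizer (closure A : Set G)) _ (h b hb)
    simp only [MulEquiv.coe_toMonoidHom, MulAut.conj_apply]
    calc b * (g * c * g⁻¹) = g * (g⁻¹ * b * g * c) * g⁻¹ := by group
      _ = g * (c * (g⁻¹ * b * g)) * g⁻¹ := by rw [this]
      _ = _ := by group
  have := card_le_of_le hm
  rwa [card_map_of_injective (MulAut.conj g).injective] at this

theorem cent_pair (a b : G) : (centralizer ({a} : Set G) ⊓ centralizer ({b} : Set G) : Subgroup G) =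
    centralizer ({a, b} : Set G) := by
  ext g
  simp [mem_centralizer_iff]

theorem card_pair_le (S : Sylow 2 G) (hS : IsQuasiDihedral (S : Subgroup G)) {a b z y : G}
    (oa : orderOf a = 2) (ob : orderOf b = 2) (ab : a ≠ b) (c1 : Commute a b)
    (oz : orderOf z = 2) (oy : orderOf y = 2) (zy : z ≠ y) (c2 : Commute z y) :
    Nat.card (centralizer ({a, b} : Set G)) ≤ Nat.card (centralizer ({z, y} : Set G)) := by
  haveI : Fact (Nat.Prime 2) := ⟨Nat.prime_two⟩
  obtain ⟨k, x, w, hq⟩ := H6.qd_sub hS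
  have key : ∀ {a b : G}, orderOf a = 2 → orderOf b = 2 → a ≠ b → Commute a b → ∃ g : G,
      IsKleinFour (closure ({g * a * g⁻¹, g * b * g⁻¹} : Set G)) ∧
        closure ({g * a * g⁻¹, g * b * g⁻¹} : Set G) ≤ S := by
    intro a b oa ob ab c
    have h4 := H6.isKleinFour_closure oa ob ab c
    obtain ⟨g, hg⟩ := H6.exists_conj_le_sylow S (Q := closure ({a, b} : Set G))
      (IsPGroup.of_card (n := 2) h4.card_four)
    refine ⟨g, H6.isKleinFour_closure ?_ ?_ (by simpa using ab) ?_, ?_⟩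
    · rw [← oa]; exact (MulAut.conj g).orderOf_eq a
    · rw [← ob]; exact (MulAut.conj g).orderOf_eq b
    · exact c.map (MulAut.conj g)
    · rw [closure_le, Set.insert_subset_iff, Set.singleton_subset_iff]
      exact ⟨hg a (subset_closure (by simp)), hg b (subset_closure (by simp))⟩
  obtain ⟨g1, k1, l1⟩ := key oa ob ab c1
  obtain ⟨g2, k2, l2⟩ := key oz oy zy c2
  obtain ⟨s, -, hs⟩ := hq.four_conj k1 l1 k2 l2
  refine card_cent_le (g := g2⁻¹ * s * g1) fun v hv => ?_
  have h1 : g2 * v * g2⁻¹ ∈ closure ({g2 * z * g2⁻¹, g2 * y * g2⁻¹} : Set G) :=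
    subset_closure (by rcases hv with rfl | rfl <;> simp)
  rw [← hs] at h1
  obtain ⟨t, ht, e⟩ := h1
  have h2 : closure ({g1 * a * g1⁻¹, g1 * b * g1⁻¹} : Set G) ≤
      (closure ({a, b} : Set G)).map (MulAut.conj g1).toMonoidHom := by
    rw [closure_le, Set.insert_subset_iff, Set.singleton_subset_iff]
    exact ⟨⟨a, subset_closure (by simp), rfl⟩, ⟨b, subset_closure (by simp), rfl⟩⟩
  obtain ⟨t', ht', rfl⟩ := h2 ht
  simp only [MulEquiv.coe_toMonoidHom, MulAut.conj_apply] at e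
  have : (g2⁻¹ * s * g1)⁻¹ * v * (g2⁻¹ * s * g1) = t' := by
    have : v = g2⁻¹ * (g2 * v * g2⁻¹) * g2 := by group
    rw [this, ← e]; group
  rw [this]; exact ht'

theorem card_pair (S : Sylow 2 G) (hS : IsQuasiDihedral (S : Subgroup G)) {a b z y : G}
    (oa : orderOf a = 2) (ob : orderOf b = 2) (ab : a ≠ b) (c1 : Commute a b)
    (oz : orderOf z = 2) (oy : orderOf y = 2) (zy : z ≠ y) (c2 : Commute z y) :
    Nat.card (centralizer ({a} : Set G) ⊓ centralizer ({b} : Set G) : Subgroup G) =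
      Nat.card (centralizer ({z} : Set G) ⊓ centralizer ({y} : Set G) : Subgroup G) := by
  rw [cent_pair, cent_pair]
  exact (card_pair_le S hS oa ob ab c1 oz oy zy c2).antisymm (card_pair_le S hS oz oy zy c2 oa ob ab c1)

theorem card_cent_conj {a b : G} (h : IsConj a b) :
    Nat.card (centralizer ({a} : Set G)) = Nat.card (centralizer ({b} : Set G)) := by
  have key : ∀ {a b : G}, IsConj a b →
      Nat.card (centralizer ({a} : Set G)) ≤ Nat.card (centralizer ({b} : Set G)) := by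
    intro a b h
    obtain ⟨g, rfl⟩ := isConj_iff.1 h
    refine card_cent_le (g := g) ?_
    rintro _ rfl
    exact subset_closure (by simp only [Set.mem_singleton_iff]; group)
  exact (key h).antisymm (key h.symm)

theorem ord_conj (g a : G) : orderOf (g * a * g⁻¹) = orderOf a := (MulAut.conj g).orderOf_eq a

theorem pow_conj_mem {T : Subgroup G} {r : G} (h : ∀ t ∈ T, r * t * r⁻¹ ∈ T) (i : ℕ) :
    ∀ t ∈ T, r ^ i * t * (r ^ i)⁻¹ ∈ T := by
  induction i with
  | zero => simp
  | succ i ih =>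
    intro t ht
    have := h _ (ih t ht)
    rwa [show r * (r ^ i * t * (r ^ i)⁻¹) * r⁻¹ = r ^ (i + 1) * t * (r ^ (i + 1))⁻¹ by
      rw [pow_succ']; group] at this

theorem inv_conj_mem {T : Subgroup G} {r : G} (h : ∀ t ∈ T, r * t * r⁻¹ ∈ T) :
    ∀ t ∈ T, r⁻¹ * t * r ∈ T := fun t ht => by
  have := pow_conj_mem h (orderOf r - 1) t ht
  have e : r ^ (orderOf r - 1) = r⁻¹ := by
    rw [eq_inv_iff_mul_eq_one, ← pow_succ, Nat.sub_add_cancel (orderOf_pos r), pow_orderOf_eq_one]
  rwa [e, inv_inv] at this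

theorem not_dvd_index {s : ℕ} [hs : Fact s.Prime] {C : Subgroup G}
    (h : s ^ (Nat.card G).factorization s ∣ Nat.card C) : ¬ s ∣ C.index := fun hd => by
  have h1 : s ^ ((Nat.card G).factorization s + 1) ∣ Nat.card G := by
    conv_rhs => rw [← C.card_mul_index]
    rw [pow_succ]; exact Nat.mul_dvd_mul h hd
  exact Nat.pow_succ_factorization_not_dvd Nat.card_pos.ne' hs.out h1

section main

variable (hodd : ∀ p : ℕ, p.Prime → p ≠ 2 → ∀ P : Sylow p G, IsCyclic P) (S : Sylow 2 G)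
  (hS : IsQuasiDihedral (S : Subgroup G)) (hG : ∀ H : Subgroup G, H.index ≠ 2) {z y : G}
  (hz : orderOf z = 2) (hy : orderOf y = 2) (hyz : y ≠ z) (hc : y ∈ centralizer ({z} : Set G))
include hodd hS hG hz hy hyz hc

theorem g4 {s : ℕ} (hs : s.Prime) (h2 : s ≠ 2) (hd : s ∣ Nat.card (centralizer ({z} : Set G))) :
    ¬ s ∣ (centralizer ({z} : Set G)).index ∨ s = 3 ∧ padicValNat 3 (Nat.card G) ≤
      padicValNat 3 (Nat.card (centralizer ({z} : Set G) ⊓ centralizer ({y} : Set G) : Subgroup G)) + 1 := by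
  haveI : Fact s.Prime := ⟨hs⟩
  haveI : Fact (Nat.Prime 2) := ⟨Nat.prime_two⟩
  have hcyc := hodd s hs h2
  obtain ⟨u, hu⟩ := exists_prime_orderOf_dvd_card' s hd
  rw [← orderOf_coe] at hu
  obtain ⟨K, hK⟩ := npc hcyc hu
  set H := centralizer ({(u : G)} : Set G)
  have c2 : Nat.Coprime 2 s := (Nat.coprime_primes Nat.prime_two hs).2 h2.symm
  obtain ⟨T, hT, zT, -, r, -, hr, hn⟩ := fr hcyc (C := H) (N := K)
    (fun g hg => mem_centralizer_singleton_iff.2 ((hK g).1 hg).1)
    (fun c hc n hn => (hK _).2 ⟨by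
      have h1 : Commute c u := mem_centralizer_singleton_iff.1 hc
      exact (h1.mul_left ((hK n).1 hn).1).mul_left h1.inv_left, by rw [ord_conj]; exact ((hK n).1 hn).2⟩)
    (not_dvd_of fun g hg => ((hK g).1 hg).2)
    ((hK z).2 ⟨(mem_centralizer_singleton_iff.1 u.2).symm, hz ▸ c2⟩) hz
  -- the order of `r` is the full `s`-part of `|G|`
  have hv : (Nat.card H).factorization s = (Nat.card G).factorization s := by
    have hp : IsPGroup s (zpowers (u : G)) :=
      IsPGroup.of_card (n := 1) (by rw [Nat.card_zpowers, pow_one]; exact hu)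
    obtain ⟨R, hR⟩ := hp.exists_le_sylow
    haveI := hcyc R
    have l : (R : Subgroup G) ≤ H := fun g hg => mem_centralizer_singleton_iff.2 <|
      congrArg Subtype.val ((IsCyclic.isMulCommutative (α := R)).is_comm.comm ⟨g, hg⟩
        ⟨u, hR (mem_zpowers _)⟩)
    refine le_antisymm ((Nat.factorization_le_iff_dvd Nat.card_pos.ne' Nat.card_pos.ne').2
      (card_subgroup_dvd_card H) s) ?_
    rw [← hs.pow_dvd_iff_le_factorization Nat.card_pos.ne', ← R.card_eq_multiplicity]
    exact card_dvd_of_le l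
  rw [hv] at hr
  -- a central involution of `T`
  obtain ⟨a, aT, oa, ca⟩ : ∃ a ∈ T, orderOf a = 2 ∧ ∀ t ∈ T, Commute t a := by
    haveI : Nontrivial T := ⟨⟨⟨z, zT⟩, 1, fun e => by
      have : z = 1 := congrArg Subtype.val e
      simp [this] at hz⟩⟩
    haveI := hT.center_nontrivial
    obtain ⟨n, hn⟩ := IsPGroup.iff_card.1 (hT.to_subgroup (center T))
    have h0 : n ≠ 0 := fun e => by
      rw [e, pow_zero] at hn
      exact Finite.one_lt_card.ne' hn
    obtain ⟨a, ha⟩ := exists_prime_orderOf_dvd_card' (G := center T) 2 (hn ▸ dvd_pow_self 2 h0)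
    exact ⟨((a : T) : G), (a : T).2, by rw [orderOf_coe, orderOf_coe, ha], fun t ht =>
      congrArg Subtype.val (mem_center_iff.1 a.2 ⟨t, ht⟩)⟩
  have cb : ∀ t ∈ T, Commute t (r * a * r⁻¹) := fun t ht => by
    have := (ca _ (inv_conj_mem hn t ht)).map (MulAut.conj r)
    simpa [mul_assoc] using this
  obtain ⟨S', k, x, w, l, hq⟩ := exists_qd S hS hT
  have m := fun i => pow_conj_mem hn i a aT
  have o : ∀ i : ℕ, orderOf (r ^ i * a * (r ^ i)⁻¹) = 2 := fun i => by rw [ord_conj, oa]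
  have e0 : r ^ 0 * a * (r ^ 0)⁻¹ = a := by simp
  have e1 : r ^ 1 * a * (r ^ 1)⁻¹ = r * a * r⁻¹ := by simp
  have h4 := four_invs hq (l (m 0)) (l (m 1)) (l (m 2)) (l (m 3)) (o 0) (o 1) (o 2) (o 3)
    (e0.symm ▸ ca _ (m 1)) (e0.symm ▸ ca _ (m 2)) (e0.symm ▸ ca _ (m 3))
    (e1.symm ▸ cb _ (m 2)) (e1.symm ▸ cb _ (m 3))
  have h5 : Commute (r ^ 1) a ∨ Commute (r ^ 2) a ∨ Commute (r ^ 3) a := by
    rcases h4 with h | h | h | h | h | h
    · exact Or.inl (comm_of_conj_eq (i := 0) h)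
    · exact Or.inr (Or.inl (comm_of_conj_eq (i := 0) h))
    · exact Or.inr (Or.inr (comm_of_conj_eq (i := 0) h))
    · exact Or.inl (comm_of_conj_eq (i := 1) h)
    · exact Or.inr (Or.inl (comm_of_conj_eq (i := 1) h))
    · exact Or.inl (comm_of_conj_eq (i := 2) h)
  by_cases hra : Commute r a
  · left
    refine not_dvd_index ?_
    rw [← hr, ← card_cent_conj (conj_inv S hS hG oa hz)]
    exact orderOf_dvd_natCard _ (mem_centralizer_singleton_iff.2 hra)
  have h3 : Commute (r ^ 3) a := by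
    rcases h5 with h | h | h
    · exact absurd (by simpa using h) hra
    · exact absurd (comm_of_pow h (hr ▸ c2.pow_right _)) hra
    · exact h
  have s3 : s = 3 := by
    by_contra h
    exact hra (comm_of_pow h3 (hr ▸ ((Nat.coprime_primes Nat.prime_three hs).2 (Ne.symm h)).pow_right _))
  subst s3
  refine Or.inr ⟨rfl, ?_⟩
  have ab : a ≠ r * a * r⁻¹ := fun e => hra (by
    show r * a = a * r
    conv_rhs => rw [e]
    group)
  rw [← card_pair S hS oa (by rw [ord_conj, oa]) ab (cb a aT) hz hy hyz.symm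
    (mem_centralizer_singleton_iff.1 hc).symm]
  set W := (centralizer ({a} : Set G) ⊓ centralizer ({r * a * r⁻¹} : Set G) : Subgroup G)
  have hW : r ^ 3 ∈ W := ⟨mem_centralizer_singleton_iff.2 h3, mem_centralizer_singleton_iff.2 <| by
    calc r ^ 3 * (r * a * r⁻¹) = r * (r ^ 3 * a) * r⁻¹ := by group
      _ = r * (a * r ^ 3) * r⁻¹ := by rw [h3.eq]
      _ = _ := by group⟩
  have d1 : orderOf r ∣ Nat.card W * 3 := by
    rw [orderOf_dvd_iff_pow_eq_one, mul_comm, pow_mul, ← orderOf_dvd_iff_pow_eq_one]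
    exact orderOf_dvd_natCard _ hW
  rw [hr, Nat.prime_three.pow_dvd_iff_le_factorization (mul_ne_zero Nat.card_pos.ne' (by norm_num)),
    Nat.factorization_mul Nat.card_pos.ne' (by norm_num), Finsupp.add_apply,
    Nat.prime_three.factorization_self, Nat.factorization_def _ Nat.prime_three,
    Nat.factorization_def _ Nat.prime_three] at d1
  exact d1

end main

end H11.G45
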