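import Cfsg.Agent.H11.G4

set_option autoImplicit false
set_option linter.unusedSectionVars false
set_option linter.style.haveILetI false

namespace H11.G45

open Cfsg Subgroup

variable {G : Type*} [Group G] [Finite G]

theorem comm_of_conj {g t a : G} (h : Commute (g * t * g⁻¹) (g * a * g⁻¹)) : Commute t a := by
  have := h.map (MulAut.conj g⁻¹)
  simpa [mul_assoc] using this

theorem three {S T : Subgroup G} {k : ℕ} {x w r a : G} (hq : H6.QD S k x w) (l : T ≤ S)
    (hn : ∀ t ∈ T, r * t * r⁻¹ ∈ T) (aT : a ∈ T) (oa : orderOf a = 2) (ca : ∀ t ∈ T, Commute t a) :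
    Commute (r ^ 1) a ∨ Commute (r ^ 2) a ∨ Commute (r ^ 3) a := by
  have cb : ∀ t ∈ T, Commute t (r * a * r⁻¹) := fun t ht => by
    have := (ca _ (inv_conj_mem hn t ht)).map (MulAut.conj r)
    simpa [mul_assoc] using this
  have m := fun i => pow_conj_mem hn i a aT
  have o : ∀ i : ℕ, orderOf (r ^ i * a * (r ^ i)⁻¹) = 2 := fun i => by rw [ord_conj, oa]
  have e0 : r ^ 0 * a * (r ^ 0)⁻¹ = a := by simp
  have e1 : r ^ 1 * a * (r ^ 1)⁻¹ = r * a * r⁻¹ := by simp
  have h4 := four_invs hq (l (m 0)) (l (m 1)) (l (m 2)) (l (m 3)) (o 0) (o 1) (o 2) (o 3)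
    (e0.symm ▸ ca _ (m 1)) (e0.symm ▸ ca _ (m 2)) (e0.symm ▸ ca _ (m 3))
    (e1.symm ▸ cb _ (m 2)) (e1.symm ▸ cb _ (m 3))
  rcases h4 with h | h | h | h | h | h
  · exact Or.inl (comm_of_conj_eq (i := 0) h)
  · exact Or.inr (Or.inl (comm_of_conj_eq (i := 0) h))
  · exact Or.inr (Or.inr (comm_of_conj_eq (i := 0) h))
  · exact Or.inl (comm_of_conj_eq (i := 1) h)
  · exact Or.inr (Or.inl (comm_of_conj_eq (i := 1) h))
  · exact Or.inl (comm_of_conj_eq (i := 2) h)

theorem five {S T : Subgroup G} {x w r a : G} (hq : H6.QD S 0 x w) (l : T ≤ S)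
    (hn : ∀ t ∈ T, r * t * r⁻¹ ∈ T) (aT : a ∈ T) (oa : orderOf a = 2) {v : ℕ} (hr : orderOf r = 5 ^ v) :
    Commute r a := by
  have key : ∀ j, j = 1 ∨ j = 2 ∨ j = 3 ∨ j = 4 → Commute (r ^ j) a → Commute r a := fun j hj h =>
    comm_of_pow h (hr ▸ Nat.Coprime.pow_right _ (by rcases hj with rfl | rfl | rfl | rfl <;> norm_num))
  have m := fun i => pow_conj_mem hn i a aT
  have o : ∀ i : ℕ, orderOf (r ^ i * a * (r ^ i)⁻¹) = 2 := fun i => by rw [ord_conj, oa]
  by_cases h : ∃ i : ℕ, r ^ i * a * (r ^ i)⁻¹ = x ^ (4 * (2 : ℤ) ^ 0)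
  · obtain ⟨i, hi⟩ := h
    have ca : ∀ t ∈ T, Commute t a := fun t ht => by
      have := hq.z_comm (l (pow_conj_mem hn i t ht))
      rw [← hi] at this
      exact comm_of_conj this
    rcases three hq l hn aT oa ca with h | h | h <;> exact key _ (by simp) h
  · have hc : ∀ i : ℕ, ∃ c : ℤ, r ^ i * a * (r ^ i)⁻¹ = x ^ (2 * c) * w := fun i =>
      (hq.of_ord2 (l (m i)) (o i)).resolve_left fun e => h ⟨i, e⟩
    choose c hc using hc
    have e : ∀ i j, (8 : ℤ) ∣ 2 * c i - 2 * c (i + j) → Commute (r ^ j) a := fun i j hd =>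
      comm_of_conj_eq (i := i) (by rw [hc, hc, hq.eq_iff.2 (by simpa using hd)])
    have : (8 : ℤ) ∣ 2 * c 0 - 2 * c (0 + 1) ∨ (8 : ℤ) ∣ 2 * c 0 - 2 * c (0 + 2) ∨
        (8 : ℤ) ∣ 2 * c 0 - 2 * c (0 + 3) ∨ (8 : ℤ) ∣ 2 * c 0 - 2 * c (0 + 4) ∨
        (8 : ℤ) ∣ 2 * c 1 - 2 * c (1 + 1) ∨ (8 : ℤ) ∣ 2 * c 1 - 2 * c (1 + 2) ∨
        (8 : ℤ) ∣ 2 * c 1 - 2 * c (1 + 3) ∨ (8 : ℤ) ∣ 2 * c 2 - 2 * c (2 + 1) ∨
        (8 : ℤ) ∣ 2 * c 2 - 2 * c (2 + 2) ∨ (8 : ℤ) ∣ 2 * c 3 - 2 * c (3 + 1) := by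
      simp only [Nat.reduceAdd]
      omega
    rcases this with h | h | h | h | h | h | h | h | h | h <;> exact key _ (by simp) (e _ _ h)

theorem card_inf_mul (N H : Subgroup G) : Nat.card (N ⊓ H : Subgroup G) * N.relIndex H = Nat.card H := by
  have := (N.subgroupOf H).card_mul_index
  rwa [← inf_subgroupOf_right, Nat.card_congr (subgroupOfEquivOfLe (inf_le_right : N ⊓ H ≤ H)).toEquiv,
    inf_subgroupOf_right] at this

theorem relIndex_sylow {p : ℕ} [Fact p.Prime] (R : Sylow p G) {H : Subgroup G} (h : (R : Subgroup G) ≤ H) :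
    (normalizer ((R : Subgroup G) : Set G)).relIndex H = Nat.card (Sylow p H) := by
  rw [(R.subtype h).card_eq_index_normalizer, relIndex, subgroupOf_normalizer_eq h]
  rfl

theorem sylow_of {p : ℕ} [hp : Fact p.Prime] {u : G} (hu : orderOf u = p) (h : ¬ p ^ 2 ∣ Nat.card G) :
    ∃ R : Sylow p G, (R : Subgroup G) = zpowers u := by
  have h1 : IsPGroup p (zpowers u) := IsPGroup.of_card (n := 1) (by rw [Nat.card_zpowers, pow_one, hu])
  obtain ⟨R, hR⟩ := h1.exists_le_sylow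
  refine ⟨R, (eq_of_le_of_card_ge hR ?_).symm⟩
  obtain ⟨n, hn⟩ := IsPGroup.iff_card.1 R.isPGroup'
  rw [Nat.card_zpowers, hu, hn]
  have : n < 2 := by
    by_contra h2
    exact h ((pow_dvd_pow p (not_lt.1 h2)).trans (hn ▸ card_subgroup_dvd_card (R : Subgroup G)))
  calc p ^ n ≤ p ^ 1 := Nat.pow_le_pow_right hp.out.pos (by omega)
    _ = p := pow_one p

theorem mem_norm_zpowers {g u : G} (h : g * u * g⁻¹ ∈ zpowers u) : g ∈ normalizer (zpowers u : Set G) := by
  have h1 : ∀ t ∈ zpowers u, g * t * g⁻¹ ∈ zpowers u := by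
    rintro _ ⟨i, rfl⟩
    simpa [conj_zpow] using (zpowers u).zpow_mem h i
  refine mem_normalizer_iff.2 fun t => ⟨h1 t, fun ht => ?_⟩
  simpa [mul_assoc] using inv_conj_mem h1 _ ht

theorem norm_of_comm {g u : G} (h : Commute g u) : g ∈ normalizer (zpowers u : Set G) :=
  mem_norm_zpowers (by rw [h.eq, mul_inv_cancel_right]; exact mem_zpowers u)

theorem pow4 {g u : G} (hu : orderOf u = 5) (h : g ∈ normalizer (zpowers u : Set G)) : Commute (g ^ 4) u := by
  have h1 := (mem_normalizer_iff.1 h u).1 (mem_zpowers u)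
  obtain ⟨k, hk⟩ := (mem_powers_iff_mem_zpowers.2 h1 : _ ∈ Submonoid.powers u)
  have h2 : ∀ n : ℕ, g ^ n * u * (g ^ n)⁻¹ = u ^ k ^ n := fun n => by
    induction n with
    | zero => simp
    | succ n ih =>
      rw [pow_succ' k, pow_mul, show u ^ k = _ from hk, conj_pow, ← ih, pow_succ']; group
  have h3 : k % 5 ≠ 0 := fun e => by
    have : u ^ k = 1 := by rw [← orderOf_dvd_iff_pow_eq_one, hu]; omega
    have h4 := ord_conj g u
    rw [← show u ^ k = _ from hk, this, orderOf_one, hu] at h4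
    omega
  have h4 : u ^ k ^ 4 = u ^ 1 := by
    rw [pow_eq_pow_iff_modEq, hu, Nat.ModEq, Nat.pow_mod]
    have : k % 5 < 5 := Nat.mod_lt _ (by norm_num)
    interval_cases k % 5 <;> simp_all
  have h5 := h2 4
  rw [h4, pow_one, mul_inv_eq_iff_eq_mul] at h5
  exact h5

theorem lemQ (hX : Nat.card G = 240) {H : Subgroup G} (hH : Nat.card H = 60) {a b : G} (aH : a ∈ H)
    (bH : b ∈ H) (oa : orderOf a = 2) (ob : orderOf b = 2) (ab : a ≠ b)
    (c : ∀ h ∈ H, Commute a h ∧ Commute b h) : pPrimeCore 2 G ≠ ⊥ := by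
  haveI : Fact (Nat.Prime 5) := ⟨by norm_num⟩
  obtain ⟨u, hu⟩ := exists_prime_orderOf_dvd_card' (G := H) 5 (by rw [hH]; norm_num)
  rw [← orderOf_coe] at hu
  obtain ⟨R, hR⟩ := sylow_of hu (by rw [hX]; norm_num)
  set N := normalizer ((R : Subgroup G) : Set G) with hN
  have l : (R : Subgroup G) ≤ H := hR ▸ (zpowers_le.2 u.2)
  have m1 := card_sylow_modEq_one 5 H
  have m2 := card_sylow_modEq_one 5 G
  rw [← relIndex_sylow R l, ← hN] at m1
  rw [R.card_eq_index_normalizer] at m2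
  have d5 : 5 ∣ Nat.card (N ⊓ H : Subgroup G) :=
    hu ▸ orderOf_dvd_natCard _ ⟨by rw [hN, hR]; exact norm_of_comm (Commute.refl _), u.2⟩
  have d4 : 4 ∣ Nat.card (N ⊓ H : Subgroup G) := by
    rw [← (H6.isKleinFour_closure oa ob ab (c b bH).1).card_four]
    refine card_dvd_of_le ?_
    rw [closure_le, Set.insert_subset_iff, Set.singleton_subset_iff, hN, hR]
    exact ⟨⟨norm_of_comm (c u u.2).1, aH⟩, ⟨norm_of_comm (c u u.2).2, bH⟩⟩
  have e1 := card_inf_mul N H
  obtain ⟨t, ht⟩ := Nat.Coprime.mul_dvd_of_dvd_of_dvd (by norm_num) d4 d5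
  rw [hH, ht] at e1
  have i1 : N.relIndex H = 1 := by
    have : N.relIndex H ∣ 3 := ⟨t, by nlinarith⟩
    have := Nat.le_of_dvd (by norm_num) this
    unfold Nat.ModEq at m1
    omega
  have d60 : 60 ∣ Nat.card N := hH ▸ card_dvd_of_le (relIndex_eq_one.1 i1)
  obtain ⟨t', ht'⟩ := d60
  have e2 := N.card_mul_index
  rw [hX, ht'] at e2
  have i2 : N.index = 1 := by
    have : N.index ∣ 4 := ⟨t', by nlinarith⟩
    have := Nat.le_of_dvd (by norm_num) this
    change N.index % 5 = 1 % 5 at m2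
    omega
  haveI : (R : Subgroup G).Normal := normalizer_eq_top_iff.1 (index_eq_one.1 i2)
  intro h
  have := H1.le_pPrimeCore (p := 2) (N := (R : Subgroup G)) (by rw [hR, Nat.card_zpowers, hu]; norm_num)
  rw [h, hR, le_bot_iff, zpowers_eq_bot] at this
  rw [this, orderOf_one] at hu
  omega

theorem qd_card {S : Subgroup G} {k : ℕ} {x w : G} (h : H6.QD S k x w) : Nat.card S = 2 ^ (k + 4) := by
  have := card_inf_mul (zpowers x) S
  rw [inf_of_le_left h.X_le, Nat.card_zpowers, h.ox, h.relIndex_X] at this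
  rw [← this]; ring

/-- `y` centralizes `O(C)`. -/
theorem stepA {a b : G} (oa : orderOf a = 2) (ob : orderOf b = 2) (ab : a ≠ b) (ha : ∀ g, Commute a g)
    (h1 : Nat.card G = Nat.card (oddCore G) * 240)
    (h2 : Nat.card (centralizer ({b} : Set G)) = Nat.card (oddCore G) * 12) :
    oddCore G ≤ centralizer ({b} : Set G) := by
  haveI : Fact (Nat.Prime 2) := ⟨Nat.prime_two⟩
  set O := oddCore G with hO
  set H := centralizer ({b} : Set G)
  have oc : (Nat.card O).Coprime 2 := H1.coprime_card_pPrimeCore 2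
  set f := QuotientGroup.mk' O
  have cq : Nat.card (G ⧸ O) = 240 := by
    have := O.card_mul_index
    rw [h1] at this
    exact Nat.eq_of_mul_eq_mul_left Nat.card_pos this
  have e1 := card_inf_mul O H
  have e2 := card_inf_mul H O
  have e3 : Nat.card (H.map f) = O.relIndex H := by
    rw [← relIndex_ker, QuotientGroup.ker_mk']
  rw [inf_comm] at e2
  have e4 : O.relIndex H = 12 * H.relIndex O := by
    rw [h2, ← e2, mul_assoc] at e1
    rw [Nat.eq_of_mul_eq_mul_left Nat.card_pos e1, mul_comm]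
  have d : H.relIndex O ∣ 20 := by
    have := card_subgroup_dvd_card (H.map f)
    rw [e3, e4, cq] at this
    exact Nat.dvd_of_mul_dvd_mul_left (by norm_num) this
  have od : (H.relIndex O).Coprime 2 := Nat.Coprime.coprime_dvd_left ⟨_, by rw [← e2, mul_comm]⟩ oc
  have : H.relIndex O = 1 ∨ H.relIndex O = 5 := by
    have h20 := Nat.le_of_dvd (by norm_num) d
    have h21 := Nat.odd_iff.1 (Nat.coprime_two_right.1 od)
    generalize H.relIndex O = m at d h20 h21 ⊢
    interval_cases m <;> omega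
  rcases this with h | h
  · exact relIndex_eq_one.1 h
  · exfalso
    have inj : ∀ g : G, orderOf g = 2 → f g ≠ 1 := fun g hg e => by
      have : g ∈ O := (QuotientGroup.eq_one_iff g).1 e
      have := (hg ▸ orderOf_dvd_natCard O this : 2 ∣ Nat.card O)
      exact absurd (Nat.Coprime.eq_one_of_dvd oc.symm this) (by norm_num)
    have ord : ∀ g : G, orderOf g = 2 → orderOf (f g) = 2 := fun g hg =>
      orderOf_eq_prime (by rw [← map_pow, (hg ▸ pow_orderOf_eq_one g : g ^ 2 = 1), map_one]) (inj g hg)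
    have aa : a * a = 1 := by rw [← pow_two, ← oa, pow_orderOf_eq_one]
    have bb : b * b = 1 := by rw [← pow_two, ← ob, pow_orderOf_eq_one]
    refine lemQ cq (H := H.map f) (by rw [e3, e4, h]) (a := f a) (b := f b)
      ⟨a, mem_centralizer_singleton_iff.2 (ha b), rfl⟩ ⟨b, mem_centralizer_singleton_iff.2 rfl, rfl⟩
      (ord a oa) (ord b ob) (fun e => inj (a * b) (orderOf_eq_prime ?_ fun e => ab ?_) ?_) ?_
      (H1.pPrimeCore_quotient_pPrimeCore 2)
    · rw [(ha b).mul_pow, pow_two, pow_two, aa, bb, one_mul]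
    · rw [← mul_one a, ← bb, ← mul_assoc, e, one_mul]
    · rw [map_mul, e, ← map_mul, bb, map_one]
    · rintro _ ⟨h, hh, rfl⟩
      exact ⟨(ha h).map f, (show Commute h b from mem_centralizer_singleton_iff.1 hh).symm.map f⟩

section main

variable (hodd : ∀ p : ℕ, p.Prime → p ≠ 2 → ∀ P : Sylow p G, IsCyclic P) (S : Sylow 2 G)
  (hS : IsQuasiDihedral (S : Subgroup G)) (hG : ∀ H : Subgroup G, H.index ≠ 2) {z y : G}
  (hz : orderOf z = 2) (hy : orderOf y = 2) (hyz : y ≠ z) (hc : y ∈ centralizer ({z} : Set G))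
include hodd hS hG hz hy hyz hc

theorem g5 (h1 : Nat.card (centralizer ({z} : Set G)) = Nat.card (oddCore (centralizer ({z} : Set G))) * 240)
    (h2 : Nat.card (centralizer ({z} : Set G) ⊓ centralizer ({y} : Set G) : Subgroup G) =
      Nat.card (oddCore (centralizer ({z} : Set G))) * 12)
    (h3 : (centralizer ({z} : Set G)).index = 357)
    (h4 : ¬ 25 ∣ Nat.card G → ∀ g : G, orderOf g ≠ 35 ∧ orderOf g ≠ 85) : False := by
  haveI : Fact (Nat.Prime 2) := ⟨Nat.prime_two⟩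
  haveI h5 : Fact (Nat.Prime 5) := ⟨by norm_num⟩
  have hcyc := hodd 5 h5.out (by norm_num)
  set C := centralizer ({z} : Set G) with hC
  have zC : z ∈ C := mem_centralizer_singleton_iff.2 rfl
  have cz : ∀ g ∈ C, Commute g z := fun g hg => mem_centralizer_singleton_iff.1 hg
  have yO : oddCore C ≤ centralizer ({(⟨y, hc⟩ : C)} : Set C) := by
    refine stepA (a := ⟨z, zC⟩) (by rw [← orderOf_coe, hz]) (by rw [← orderOf_coe, hy])
      (fun e => hyz (congrArg Subtype.val e).symm) (fun g => Subtype.ext (cz g g.2).symm.eq) h1 ?_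
    rw [← h2, ← Nat.card_congr (subgroupOfEquivOfLe (inf_le_left : C ⊓ centralizer ({y} : Set G) ≤ C)).toEquiv]
    congr 3
    ext g
    simp [mem_subgroupOf, mem_centralizer_singleton_iff, Subtype.ext_iff]
  have oc : (Nat.card (oddCore C)).Coprime 2 := H1.coprime_card_pPrimeCore 2
  have hmax : ∀ R : Subgroup G, R ≤ C → (∀ c ∈ C, ∀ r ∈ R, c * r * c⁻¹ ∈ R) → (Nat.card R).Coprime 2 →
      Nat.card R ∣ Nat.card (oddCore C) := fun R l hn h => by
    haveI : (R.subgroupOf C).Normal := ⟨fun n hn' c => hn c c.2 n hn'⟩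
    rw [← Nat.card_congr (subgroupOfEquivOfLe l).toEquiv] at h ⊢
    exact card_dvd_of_le (H1.le_pPrimeCore h)
  set O := (oddCore C).map C.subtype with hO
  have cO : Nat.card (oddCore C) = Nat.card O := (card_subtype _ _).symm
  have OC : O ≤ C := map_subtype_le _
  have On : ∀ c ∈ C, ∀ t ∈ O, c * t * c⁻¹ ∈ O := by
    rintro c hc _ ⟨t, ht, rfl⟩
    exact ⟨_, (inferInstance : (oddCore C).Normal).conj_mem t ht ⟨c, hc⟩, rfl⟩
  have yO' : y ∈ centralizer (O : Set G) := by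
    rintro _ ⟨t, ht, rfl⟩
    exact congrArg Subtype.val (mem_centralizer_singleton_iff.1 (yO ht))
  rw [cO] at h1 h2 oc hmax
  clear_value O
  clear yO cO
  have op : 0 < Nat.card O := Nat.card_pos
  have cG : Nat.card G = Nat.card O * 85680 := by rw [← C.card_mul_index, h1, h3]; ring
  have hqd : ∀ T : Subgroup G, IsPGroup 2 T → ∃ (S' : Sylow 2 G) (x w : G), T ≤ S' ∧
      H6.QD (S' : Subgroup G) 0 x w := fun T hT => by
    obtain ⟨S', k, x, w, l, hq⟩ := exists_qd S hS hT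
    obtain rfl : k = 0 := by
      by_contra hk
      have d : 2 ^ 5 ∣ Nat.card O * 85680 := by
        rw [← cG]
        exact (pow_dvd_pow 2 (by omega)).trans (qd_card hq ▸ card_subgroup_dvd_card (S' : Subgroup G))
      have := (oc.symm.pow_left 5).dvd_of_dvd_mul_left d
      omega
    exact ⟨S', x, w, l, hq⟩
  have hN : ∀ N ≤ C, (∀ c ∈ C, ∀ n ∈ N, c * n * c⁻¹ ∈ N) → y ∈ N → 5 ∣ Nat.card N := fun N l hn yN => by
    by_contra hd
    obtain ⟨T, hT, yT, -, r, rC, hr, hrn⟩ := fr hcyc l hn hd yN hy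
    obtain ⟨S', x, w, l', hq⟩ := hqd T hT
    have h6 := five hq l' hrn yT hy hr
    have h7 : orderOf r ∣ Nat.card O * 12 :=
      h2 ▸ orderOf_dvd_natCard _ ⟨rC, mem_centralizer_singleton_iff.2 h6⟩
    rw [hr, h1, Nat.factorization_mul op.ne' (by norm_num), Finsupp.add_apply,
      show (240 : ℕ).factorization 5 = 1 from by
        rw [show (240 : ℕ) = 5 * 48 from rfl, Nat.factorization_mul (by norm_num) (by norm_num),
          Finsupp.add_apply, h5.out.factorization_self, Nat.factorization_eq_zero_of_not_dvd (by norm_num)]] at h7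
    exact Nat.pow_succ_factorization_not_dvd op.ne' h5.out
      ((Nat.Coprime.pow_left _ (by norm_num)).dvd_of_dvd_mul_right h7)
  set E := C ⊓ centralizer (O : Set G) with hE
  have En : ∀ c ∈ C, ∀ n ∈ E, c * n * c⁻¹ ∈ E := fun c hc n hn =>
    ⟨C.mul_mem (C.mul_mem hc hn.1) (C.inv_mem hc), fun t ht => by
      have := hn.2 _ (On _ (C.inv_mem hc) t ht)
      calc t * (c * n * c⁻¹) = c * (c⁻¹ * t * c⁻¹⁻¹ * n) * c⁻¹ := by group
        _ = c * (n * (c⁻¹ * t * c⁻¹⁻¹)) * c⁻¹ := by rw [this]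
        _ = _ := by group⟩
  have o5 : ¬ 5 ∣ Nat.card O := fun hd => by
    obtain ⟨u, hu⟩ := exists_prime_orderOf_dvd_card' 5 hd
    rw [← orderOf_coe] at hu
    obtain ⟨K, hK⟩ := npc hcyc hu
    refine not_dvd_of (K := K ⊓ E) (fun g hg => ((hK g).1 hg.1).2) (hN _ (inf_le_right.trans inf_le_left)
      (fun c hc n hn => ⟨(hK _).2 ⟨((En c hc n hn.2).2 u u.2).symm, ?_⟩, En c hc n hn.2⟩)
      ⟨(hK y).2 ⟨(yO' u u.2).symm, by rw [hy]; norm_num⟩, hc, yO'⟩)
    rw [ord_conj]; exact ((hK n).1 hn.1).2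
  have o5' : (Nat.card O).Coprime 5 := ((Nat.Prime.coprime_iff_not_dvd h5.out).2 o5).symm
  have n25 : ¬ 5 ^ 2 ∣ Nat.card G := fun h => by
    rw [cG] at h
    have := (o5'.symm.pow_left 2).dvd_of_dvd_mul_left h
    omega
  obtain ⟨u, hu⟩ := exists_prime_orderOf_dvd_card' 5 (hN E inf_le_left En ⟨hc, yO'⟩)
  rw [← orderOf_coe] at hu
  obtain ⟨u, uC, uO⟩ := u
  simp only at hu
  obtain ⟨R, hR⟩ := sylow_of hu n25
  have RC : (R : Subgroup G) ≤ C := hR ▸ zpowers_le.2 uC
  set N := normalizer (zpowers u : Set G) with hNd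
  have n6 : Nat.card (Sylow 5 C) = 6 := by
    have m := card_sylow_modEq_one 5 C
    have e := card_inf_mul N C
    have r := relIndex_sylow R RC
    rw [hR, ← hNd] at r
    have d1 : Nat.card O ∣ Nat.card (N ⊓ C : Subgroup G) :=
      card_dvd_of_le fun t ht => ⟨norm_of_comm (uO t ht), OC ht⟩
    have d2 : 2 ∣ Nat.card (N ⊓ C : Subgroup G) :=
      hz ▸ orderOf_dvd_natCard _ ⟨norm_of_comm (cz u uC).symm, zC⟩
    have d3 : 5 ∣ Nat.card (N ⊓ C : Subgroup G) :=
      hu ▸ orderOf_dvd_natCard _ ⟨norm_of_comm (Commute.refl u), uC⟩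
    obtain ⟨t, ht⟩ := (Nat.Coprime.mul_right oc o5').mul_dvd_of_dvd_of_dvd d1
      (Nat.Coprime.mul_dvd_of_dvd_of_dvd (by norm_num) d2 d3)
    rw [ht, h1, mul_assoc, mul_assoc] at e
    have e' := Nat.eq_of_mul_eq_mul_left op e
    have n1 : N.relIndex C ≠ 1 := fun h => o5 <| by
      rw [← hu, ← Nat.card_zpowers]
      exact hmax _ (hR ▸ RC) (fun c hc t ht => (mem_normalizer_iff.1 (relIndex_eq_one.1 h hc) t).1 ht)
        (by rw [Nat.card_zpowers, hu]; norm_num)
    rw [← r] at m ⊢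
    have d : N.relIndex C ∣ 24 := ⟨t, by nlinarith⟩
    have := Nat.le_of_dvd (by norm_num) d
    unfold Nat.ModEq at m
    generalize N.relIndex C = n at *
    interval_cases n <;> omega
  have c40 : ∀ v ∈ C, orderOf v = 5 →
      Nat.card (normalizer (zpowers v : Set G) ⊓ C : Subgroup G) = Nat.card O * 40 := fun v vC hv => by
    obtain ⟨R', hR'⟩ := sylow_of hv n25
    have r := relIndex_sylow R' (hR' ▸ zpowers_le.2 vC : (R' : Subgroup G) ≤ C)
    have e := card_inf_mul (normalizer (zpowers v : Set G)) C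
    rw [hR'] at r
    rw [r, n6, h1] at e
    omega
  have nd : ∀ p : ℕ, p = 7 ∨ p = 17 → ¬ p ∣ Nat.card N := fun p hp hd => by
    haveI : Fact p.Prime := ⟨by rcases hp with rfl | rfl <;> norm_num⟩
    obtain ⟨g, hg⟩ := exists_prime_orderOf_dvd_card' p hd
    rw [← orderOf_coe] at hg
    have c : Commute (g : G) u := comm_of_pow (pow4 hu g.2) (by rw [hg]; rcases hp with rfl | rfl <;> norm_num)
    have := c.orderOf_mul_eq_mul_orderOf_of_coprime (by rw [hg, hu]; rcases hp with rfl | rfl <;> norm_num)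
    rw [hg, hu] at this
    rcases hp with rfl | rfl
    · exact (h4 n25 _).1 this
    · exact (h4 n25 _).2 this
  have cN : Nat.card N = Nat.card O * 80 := by
    have e := card_inf_mul C N
    rw [inf_comm, c40 u uC hu] at e
    have e2 := N.card_mul_index
    have m := card_sylow_modEq_one 5 G
    rw [R.card_eq_index_normalizer, ← R.coe_coe, hR, ← hNd] at m
    rw [← e, cG, mul_assoc, mul_assoc] at e2
    have e3 := Nat.eq_of_mul_eq_mul_left op e2
    have a7 := fun h => nd 7 (by simp) (e ▸ Dvd.dvd.mul_left h _)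
    have a17 := fun h => nd 17 (by simp) (e ▸ Dvd.dvd.mul_left h _)
    have d : C.relIndex N ∣ 18 := by
      have d0 : C.relIndex N ∣ 18 * (7 * 17) := ⟨N.index, by omega⟩
      exact (Nat.Coprime.mul_right ((Nat.Prime.coprime_iff_not_dvd (by norm_num)).2 a7).symm
        ((Nat.Prime.coprime_iff_not_dvd (by norm_num)).2 a17).symm).dvd_of_dvd_mul_right d0
    have := Nat.le_of_dvd (by norm_num) d
    unfold Nat.ModEq at m
    rw [← e]
    generalize C.relIndex N = f at *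
    generalize N.index = n at *
    interval_cases f <;> omega
  obtain ⟨T0, hT0⟩ := Sylow.exists_subgroup_card_pow_prime (G := N) 2 (n := 4) (by rw [cN]; omega)
  have cT : Nat.card (T0.map N.subtype) = 2 ^ 4 := by rw [card_subtype, hT0]
  obtain ⟨S', x, w, l, hq⟩ := hqd _ (IsPGroup.of_card cT)
  have eT : T0.map N.subtype = S' := eq_of_le_of_card_ge l (by rw [cT, qd_card hq])
  have SN : (S' : Subgroup G) ≤ N := eT ▸ map_subtype_le _
  have xu : Commute (x ^ (4 * (2 : ℤ) ^ 0)) u := by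
    have := pow4 hu (SN hq.xS')
    rwa [← zpow_natCast] at this
  obtain ⟨g, hg⟩ := isConj_iff.1 (conj_inv S hS hG hq.ord_z hz)
  have vC : g * u * g⁻¹ ∈ C := mem_centralizer_singleton_iff.2 (hg ▸ (xu.symm.map (MulAut.conj g)).eq)
  have d : Nat.card ((S' : Subgroup G).map (MulAut.conj g).toMonoidHom) ∣ Nat.card O * 40 := by
    rw [← c40 _ vC (by rw [ord_conj, hu])]
    refine card_dvd_of_le ?_
    rintro _ ⟨s, hs, rfl⟩
    refine ⟨mem_norm_zpowers ?_, mem_centralizer_singleton_iff.2 (hg ▸ ((hq.z_comm hs).map (MulAut.conj g)).eq)⟩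
    obtain ⟨i, hi⟩ := (mem_normalizer_iff.1 (SN hs) u).1 (mem_zpowers u)
    refine ⟨i, ?_⟩
    simp only [conj_zpow, MulEquiv.coe_toMonoidHom, MulAut.conj_apply] at hi ⊢
    rw [hi]; group
  rw [card_map_of_injective (MulAut.conj g).injective, qd_card hq] at d
  have := (oc.symm.pow_left _).dvd_of_dvd_mul_left d
  omega

end main

end H11.G45
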