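import Cfsg.Agent.H11.HS4
import Cfsg.Agent.H5.Fstar
import Cfsg.Agent.S3669

/-! Permutation groups with quasisimple generalized Fitting subgroup and a three-cycle. -/

set_option autoImplicit false
set_option linter.unusedSectionVars false

namespace H11.HS

open Equiv Equiv.Perm Finset H16 H25 _root_.Cfsg MulAction
open scoped Pointwise commutatorElement

section
variable {G : Type*} [Group G] [Finite G] {H E B : Subgroup G}

structure QF (H E : Subgroup G) : Prop where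
  le : E ≤ H
  nm : H ≤ N[E]
  cent : H ⊓ C[E] ≤ E
  perf : commutator E = ⊤
  ne : E ≠ ⊥
  qs : ∀ B ≤ E, E ≤ N[B] → B = E ∨ B ≤ C[E]

theorem qf_of (h : IsQuasisimple (generalizedFittingSubgroup H)) : QF H (H5.fstarOf H) := by
  have h' : IsQuasisimple (H5.fstarOf H) :=
    H5.qs_of_equiv h (Subgroup.equivMapOfInjective _ _ H.subtype_injective)
  obtain ⟨h1, h2, h3⟩ := H5.isQuasisimple_iff_top.1 h'
  refine ⟨H5.fstarOf_le H, H5.self_le_normalizer_fstarOf H, H5.inf_centralizer_fstarOf_le H, h1,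
    (Subgroup.nontrivial_iff_ne_bot _).1 h2, fun B hB hn => ?_⟩
  rcases h3 (B.subgroupOf _) (Subgroup.normal_subgroupOf_of_le_normalizer hn) with e | e
  · exact .inl (le_antisymm hB (Subgroup.subgroupOf_eq_top.1 e))
  · refine .inr fun b hb => Subgroup.mem_centralizer_iff.2 fun x hx => ?_
    exact congrArg Subtype.val (Subgroup.mem_center_iff.1 (e (x := ⟨b, hB hb⟩) hb) ⟨x, hx⟩)

theorem QF.der (h : QF H E) : ⁅E, E⁆ = E := by
  have := congrArg (Subgroup.map E.subtype) h.perf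
  rwa [Subgroup.map_subtype_commutator, ← MonoidHom.range_eq_map, Subgroup.range_subtype] at this

theorem QF.alt (h : QF H E) (hB : B ≤ H) (hn : E ≤ N[B]) : E ≤ B ∨ B ≤ C[E] := by
  rcases h.qs (B ⊓ E) inf_le_right (norm_inf hn (le_norm E)) with e | e
  · exact .inl (inf_eq_right.1 e)
  · have h1 : ⁅E, B⁆ ≤ C[E] :=
      (le_inf (comm_le_right hn) (comm_le_left (hB.trans h.nm))).trans e
    refine .inr (cent_comm.1 (comm_eq_bot.1 ?_))
    rw [← h.der]
    refine Subgroup.commutator_commutator_eq_bot_of_rotate (comm_eq_bot.2 h1) ?_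
    rw [Subgroup.commutator_comm B]
    exact comm_eq_bot.2 h1

theorem QF.not_comm (h : QF H E) (hB : E ≤ B) (hc : B ≤ C[B]) : False :=
  h.ne (h.der ▸ comm_eq_bot.2 (hB.trans (hc.trans (Subgroup.centralizer_le hB))))

end

variable {α ι : Type*} [Fintype α] [DecidableEq α] {g : Perm α} {C D : Finset α}
  {H E : Subgroup (Perm α)} {x y : α}

theorem QF.fix (h : QF H E) (hD : D.card ≤ 4) (hs : ∀ e ∈ E, ∀ w, e w ∈ D ↔ w ∈ D) :
    ∀ e ∈ E, ∀ w ∈ D, e w = w := by
  let φ : E →* Perm D := MonoidHom.mk' (fun e => (e : Perm α).subtypePerm (hs e e.2))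
    fun a b => by ext w; rfl
  have := Cfsg.Agent.S3669.solv_of_lt (X := Perm D) (by
    rw [Nat.card_perm, Nat.card_eq_fintype_card, Fintype.card_coe]
    exact (Nat.factorial_le hD).trans_lt (by decide))
  have e1 : φ.range = ⊥ := by
    by_contra hc
    refine (Group.IsSolvable.commutator_lt_of_ne_bot hc).ne ?_
    rw [MonoidHom.range_eq_map, ← Subgroup.map_commutator, ← commutator_def, h.perf]
  intro e he w hw
  have : φ ⟨e, he⟩ = 1 := Subgroup.mem_bot.1 (e1 ▸ ⟨_, rfl⟩)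
  exact congrArg Subtype.val (Equiv.ext_iff.1 this ⟨w, hw⟩)

theorem QF.no_cent (h : QF H E) (hg : g ∈ H) (hc : g ∈ C[E]) (h4 : g.support.card ≤ 4) : g = 1 := by
  refine Equiv.ext fun w => ?_
  by_contra hw
  refine hw (h.fix h4 (fun e he v => ?_) g (h.cent ⟨hg, hc⟩) w (mem_support.2 hw))
  have := Subgroup.mem_centralizer_iff.1 hc e he
  rw [mem_support, mem_support, ← Perm.mul_apply, ← this, Perm.mul_apply, e.injective.ne_iff]

def AC (C : Finset α) : Subgroup (Perm α) :=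
  (alternatingGroup C).map (ofSubtype : Perm C →* Perm α)

theorem mem_AC : g ∈ AC C ↔ g.support ⊆ C ∧ sign g = 1 := by
  rw [AC, alternatingGroup.map_ofSubtype, Subgroup.mem_inf, Perm.mem_range_ofSubtype_iff,
    mem_alternatingGroup]
  simp

noncomputable def acEquiv (C : Finset α) : alternatingGroup C ≃* AC C :=
  Subgroup.equivMapOfInjective _ _ ofSubtype_injective

theorem AC_le (hx : ¬ Rr H x) : AC (fib (tf H) x) ≤ H := by
  rw [AC, Subgroup.map_le_iff_le_comap, ← closure_three_cycles_eq_alternating, Subgroup.closure_le]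
  intro c hc
  have hc : c.IsThreeCycle := hc
  obtain ⟨u, hu⟩ := hc.isCycle.nonempty_support
  have := hc.nodup_iff_mem_support.2 hu
  show ofSubtype c ∈ H
  rw [hc.eq_swap_mul_swap_iff_mem_support.2 hu, map_mul, ofSubtype_swap_eq, ofSubtype_swap_eq]
  refine (t_of_fib hx (mem_fib.1 u.2) (mem_fib.1 (c u).2) (mem_fib.1 (c (c u)).2) ?_ ?_ ?_).2.2.2
  all_goals
    intro e
    have := Subtype.ext e
    grind

theorem norm_AC (hs : ∀ e ∈ E, ∀ w ∈ C, e w ∈ C) : E ≤ N[AC C] := by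
  refine le_norm_iff.2 fun e he a ha => mem_AC.2 ⟨?_, by simp [(mem_AC.1 ha).2]⟩
  rw [support_conj]
  intro w hw
  obtain ⟨v, hv, rfl⟩ := mem_map.1 hw
  exact hs e he v ((mem_AC.1 ha).1 hv)

def fixP (f : α → ι) : Subgroup (Perm α) where
  carrier := {g | ∀ w, f (g w) = f w}
  one_mem' := fun _ => rfl
  mul_mem' := fun {a b} ha hb w => (ha (b w)).trans (hb w)
  inv_mem' := fun {a} ha w => by simpa using (ha (a⁻¹ w)).symm

theorem norm_fixP (f : α → ι) : partStab f ≤ N[fixP f] :=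
  le_norm_iff.2 fun e he a ha w => by
    simpa using (he _ _).1 (ha (e⁻¹ w))

theorem T.three {z : α} (h : T H x y z) : (swap x y * swap y z).IsThreeCycle := by
  rw [swap_comm x y]
  exact isThreeCycle_swap_mul_swap_same h.1.symm h.2.1 h.2.2.1

theorem T.mem_AC {z : α} (h : T H x y z) : swap x y * swap y z ∈ AC (fib (HS.tf H) x) := by
  refine HS.mem_AC.2 ⟨(support_mul_le _ _).trans ?_, h.three.sign⟩
  rw [support_swap h.1, support_swap h.2.1]
  intro w hw
  simp only [sup_eq_union, mem_union, mem_insert, mem_singleton] at hw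
  rcases hw with (rfl | rfl) | rfl | rfl
  · exact self_mem_fib
  · exact mem_fib.2 h.tf
  · exact mem_fib.2 h.tf
  · exact mem_fib.2 h.rev.rot.rot.tf

theorem QF.le_AC (h : QF H E) (hx : ¬ Rr H x) : E ≤ AC (fib (tf H) x) := by
  have hx' := hx
  simp only [Rr, not_forall, not_not] at hx'
  obtain ⟨y, z, hT⟩ := hx'
  have key : ∀ B, swap x y * swap y z ∈ B → ¬ B ≤ C[E] := fun B hB hc =>
    hT.three.ne_one (h.no_cent hT.2.2.2 (hc hB) (by rw [hT.three.card_support]; norm_num))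
  have h1 : E ≤ H ⊓ fixP (tf H) := by
    refine (h.alt inf_le_left (norm_inf (norm_of_le h.le)
      ((h.le.trans le_tf).trans (norm_fixP _)))).resolve_right (key _ ⟨hT.2.2.2, ?_⟩)
    intro w
    rw [Perm.mul_apply, apply_swap_of_eq hT.tf.symm, apply_swap_of_eq hT.rot.tf.symm]
  exact (h.alt (AC_le hx) (norm_AC fun e he w hw =>
    mem_fib.2 (((h1 he).2 w).trans (mem_fib.1 hw)))).resolve_right (key _ hT.mem_AC)

theorem QF.uniq (h : QF H E) (hx : ¬ Rr H x) (hy : ¬ Rr H y) : tf H y = tf H x := by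
  by_contra hc
  refine h.ne (eq_bot_iff.2 fun e he => Subgroup.mem_bot.2 (support_eq_empty_iff.1 ?_))
  exact subset_empty.1 ((fib_disj hc).le_bot.trans' (le_inf (mem_AC.1 (h.le_AC hy he)).1
    (mem_AC.1 (h.le_AC hx he)).1))

theorem QF.eq_AC (h : QF H E) (hx : ¬ Rr H x) : E = AC (fib (tf H) x) := by
  have hle := h.le_AC hx
  have h5 : 5 ≤ (fib (tf H) x).card := by
    by_contra hc
    refine h.ne (eq_bot_iff.2 fun e he => Subgroup.mem_bot.2 (Equiv.ext fun w => ?_))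
    by_contra hw
    refine hw (h.fix (D := fib (tf H) x) (by omega) (fun a ha v => ?_) e he w
      ((mem_AC.1 (hle he)).1 (mem_support.2 hw)))
    by_cases hv : v ∈ a.support
    · exact iff_of_true ((mem_AC.1 (hle ha)).1 (apply_mem_support.2 hv)) ((mem_AC.1 (hle ha)).1 hv)
    · rw [notMem_support.1 hv]
  have := alternatingGroup.isSimpleGroup (α := fib (tf H) x) (by simpa using h5)
  have : IsSimpleGroup (AC (fib (tf H) x)) := (acEquiv _).symm.isSimpleGroup
  rcases (Subgroup.normal_subgroupOf_of_le_normalizer ((AC_le hx).trans h.nm)).eq_bot_or_eq_top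
    with e | e
  · exact absurd ((Subgroup.subgroupOf_eq_bot.1 e).eq_bot_of_le hle) h.ne
  · exact le_antisymm hle (Subgroup.subgroupOf_eq_top.1 e)

theorem iso_of (h : IsQuasisimple (generalizedFittingSubgroup H)) (hx : ¬ Rr H x) :
    Nonempty (generalizedFittingSubgroup H ≃* alternatingGroup (Fin (fib (tf H) x).card)) :=
  ⟨((Subgroup.equivMapOfInjective _ _ H.subtype_injective).trans
    (MulEquiv.subgroupCongr ((qf_of h).eq_AC hx))).trans
      ((acEquiv _).symm.trans (fib (tf H) x).equivFin.altCongrHom)⟩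

theorem QF.compl (h : QF H E) (hx : ¬ Rr H x) : y ∈ (fib (tf H) x)ᶜ ↔ Rr H y := by
  rw [mem_compl, mem_fib]
  exact ⟨fun a => by_contra fun b => a (h.uniq hx b), fun a b => hx (rr_congr b a)⟩

/-! ### Matchings -/

variable {τ τ' : Perm α}

theorem ex_notMem (s : Finset α) (h : s.card < Fintype.card α) : ∃ y, y ∉ s := by
  obtain ⟨y, -, hy⟩ := exists_mem_notMem_of_card_lt_card (t := univ) (s := s) h
  exact ⟨y, hy⟩

theorem Mt.fx (h : Mt H τ) (x : α) : ∃ w, ∀ y, τ y = y → y = w := by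
  by_cases hw : ∃ w, τ w = w
  · obtain ⟨w, hw⟩ := hw
    exact ⟨w, fun y hy => h.one _ _ hy hw⟩
  · exact ⟨x, fun y hy => absurd ⟨y, hy⟩ hw⟩

theorem Mt.comm3 (h : Mt H τ) (h' : Mt H τ') {u : α} (hx : τ x ≠ x) (hx' : τ' x ≠ x)
    (hne : τ x ≠ τ' x) (hy : τ y ≠ y) (hu : τ' u ≠ u) (y1 : y ≠ x) (y2 : y ≠ τ x) (y3 : y ≠ τ' x)
    (y4 : τ y ≠ τ' x) (u1 : u ≠ x) (u2 : u ≠ τ' x) (u3 : u ≠ τ x) (u4 : τ' u ≠ τ x) (u5 : u ≠ y)
    (u6 : τ' u ≠ y) (u7 : u ≠ τ y) (u8 : τ' u ≠ τ y) : ∃ a, ¬ Rr H a := by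
  have m1 := h.mem x y hx hy
  have m2 := h'.mem x u hx' hu
  have z1 : τ y ≠ x := fun e => y2 (by rw [← e, h.inv])
  have z2 : τ y ≠ τ x := τ.injective.ne y1
  have z3 : τ' u ≠ x := fun e => u2 (by rw [← e, h'.inv])
  have z4 : τ' u ≠ τ' x := τ'.injective.ne u1
  refine ⟨τ x, fun hr => hr (τ' x) x ⟨hne, hx', hx, ?_⟩⟩
  have m3 := H.mul_mem (H.mul_mem (H.mul_mem m1 m2) (H.inv_mem m1)) m2
  rw [← conj_mul, ← swap_apply_apply, ← swap_apply_apply] at m3
  simp only [Perm.mul_apply] at m3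
  rw [swap_apply_of_ne_of_ne y1.symm z1.symm, swap_apply_left,
    swap_apply_of_ne_of_ne y3.symm y4.symm, swap_apply_of_ne_of_ne hx' hne.symm,
    swap_apply_of_ne_of_ne u5 u7, swap_apply_of_ne_of_ne u1 u3, swap_apply_of_ne_of_ne u6 u8,
    swap_apply_of_ne_of_ne z3 u4] at m3
  convert m3 using 1
  ext w
  simp only [Perm.mul_apply, swap_apply_def]
  grind

theorem card_le_seven (a b c d e f g : α) : ({a, b, c, d, e, f, g} : Finset α).card ≤ 7 :=
  (card_insert_le _ _).trans (Nat.succ_le_succ card_le_six)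

theorem Mt.fix_iff (h : Mt H τ) (h' : Mt H τ') (h8 : 8 ≤ Fintype.card α) (hR : ∀ a, Rr H a)
    {w : α} (hw : τ' w = w) : τ w = w := by
  by_contra hc
  obtain ⟨v, hv⟩ := h.fx w
  have e1 : τ (τ w) ≠ τ w := τ.injective.ne hc
  have e2 : τ' (τ w) ≠ τ w := fun e => hc (h'.one _ _ e hw)
  obtain ⟨y, hy⟩ := ex_notMem {τ w, w, τ' (τ w), τ (τ' (τ w)), v} (card_le_five.trans_lt (by omega))
  obtain ⟨u, hu⟩ := ex_notMem {τ w, τ' (τ w), y, τ' y, τ y, τ' (τ y), w}
    ((card_le_seven ..).trans_lt (by omega))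
  simp only [mem_insert, mem_singleton, not_or] at hy hu
  obtain ⟨a, ha⟩ := h.comm3 h' (x := τ w) (y := y) (u := u) e1 e2
    (by rw [h.inv]; exact fun e => hc (τ'.injective (by rw [← e, hw])))
    (fun e => hy.2.2.2.2 (hv _ e)) (fun e => hu.2.2.2.2.2.2 (h'.one _ _ e hw)) hy.1
    (by rw [h.inv]; exact hy.2.1) hy.2.2.1 (fun e => hy.2.2.2.1 (by rw [← e, h.inv])) hu.1 hu.2.1
    (by rw [h.inv]; exact hu.2.2.2.2.2.2)
    (by rw [h.inv]; exact fun e => hu.2.2.2.2.2.2 (τ'.injective (by rw [e, hw]))) hu.2.2.1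
    (fun e => hu.2.2.2.1 (by rw [← e, h'.inv])) hu.2.2.2.2.1
    (fun e => hu.2.2.2.2.2.1 (by rw [← e, h'.inv]))
  exact ha (hR a)

theorem Mt.commute (h : Mt H τ) (h' : Mt H τ') (h8 : 8 ≤ Fintype.card α) (hR : ∀ a, Rr H a) :
    τ * τ' = τ' * τ := by
  ext x
  by_contra hc
  simp only [Perm.mul_apply] at hc
  have f1 : ∀ w, τ w = w ↔ τ' w = w := fun w => ⟨h'.fix_iff h h8 hR, h.fix_iff h' h8 hR⟩
  have e1 : τ x ≠ x := fun e => hc (by rw [(f1 x).1 e, e, (f1 x).1 e])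
  have e2 : τ' x ≠ x := fun e => e1 ((f1 x).2 e)
  have e3 : τ x ≠ τ' x := fun e => hc (by rw [← e, h.inv, e, h'.inv])
  have e4 : τ' (τ x) ≠ τ x := fun e => τ.injective.ne e1 ((f1 _).2 e)
  obtain ⟨v, hv⟩ := h'.fx x
  obtain ⟨u, hu⟩ := ex_notMem {x, τ' x, τ x, τ' (τ x), τ (τ' (τ x)), τ' (τ (τ' (τ x))), v}
    ((card_le_seven ..).trans_lt (by omega))
  simp only [mem_insert, mem_singleton, not_or] at hu
  obtain ⟨a, ha⟩ := h.comm3 h' (x := x) (y := τ' (τ x)) (u := u) e1 e2 e3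
    (fun e => τ'.injective.ne e4 ((f1 _).1 e)) (fun e => hu.2.2.2.2.2.2 (hv _ e))
    (fun e => e3 (by rw [← e, h'.inv, e])) e4 (τ'.injective.ne e1)
    (fun e => hc (by rw [← e, h.inv])) hu.1 hu.2.1 hu.2.2.1
    (fun e => hu.2.2.2.1 (by rw [← e, h'.inv])) hu.2.2.2.1 (τ'.injective.ne hu.2.2.1) hu.2.2.2.2.1
    (fun e => hu.2.2.2.2.2.1 (by rw [← e, h'.inv]))
  exact ha (hR a)

theorem Mt.eq (h : Mt H τ) (h' : Mt H τ') (h10 : 10 ≤ Fintype.card α) (hR : ∀ a, Rr H a) :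
    τ = τ' := by
  ext x
  by_contra e3
  have f1 : ∀ w, τ w = w ↔ τ' w = w :=
    fun w => ⟨h'.fix_iff h (by omega) hR, h.fix_iff h' (by omega) hR⟩
  have e1 : τ x ≠ x := fun e => e3 (by rw [(f1 x).1 e, e])
  have e2 : τ' x ≠ x := fun e => e1 ((f1 x).2 e)
  obtain ⟨v, hv⟩ := h.fx x
  obtain ⟨y, hy⟩ := ex_notMem {x, τ x, τ' x, τ (τ' x), v} (card_le_five.trans_lt (by omega))
  obtain ⟨u, hu⟩ := ex_notMem {x, τ' x, τ x, τ' (τ x), y, τ' y, τ y, τ' (τ y), v}
    ((card_insert_le _ _).trans_lt (Nat.lt_of_le_of_lt (Nat.succ_le_succ ((card_insert_le _ _).trans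
      (Nat.succ_le_succ (card_le_seven ..)))) (by omega)))
  simp only [mem_insert, mem_singleton, not_or] at hy hu
  obtain ⟨a, ha⟩ := h.comm3 h' (x := x) (y := y) (u := u) e1 e2 e3
    (fun e => hy.2.2.2.2 (hv _ e)) (fun e => hu.2.2.2.2.2.2.2.2 (hv _ ((f1 _).2 e))) hy.1
    hy.2.1 hy.2.2.1 (fun e => hy.2.2.2.1 (by rw [← e, h.inv])) hu.1 hu.2.1 hu.2.2.1
    (fun e => hu.2.2.2.1 (by rw [← e, h'.inv])) hu.2.2.2.2.1
    (fun e => hu.2.2.2.2.2.1 (by rw [← e, h'.inv])) hu.2.2.2.2.2.2.1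
    (fun e => hu.2.2.2.2.2.2.2.1 (by rw [← e, h'.inv]))
  exact ha (hR a)

theorem dt_supp (a b c d : α) : (swap a b * swap c d).support.card ≤ 4 := by
  refine (card_le_card (support_mul_le _ _)).trans ((card_union_le _ _).trans ?_)
  have key : ∀ u v : α, (swap u v).support.card ≤ 2 := fun u v => by
    by_cases e : u = v
    · simp [e, swap_self, ← Perm.one_def]
    · rw [card_support_swap e]
  have := key a b
  have := key c d
  omega

theorem dt_ne (hx : τ x ≠ x) (y1 : y ≠ x) (y2 : τ y ≠ x) : swap x (τ x) * swap y (τ y) ≠ 1 :=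
  fun e => hx (by
    have := Equiv.ext_iff.1 e x
    rwa [Perm.mul_apply, swap_apply_of_ne_of_ne y1.symm y2.symm, swap_apply_left] at this)

theorem Mt.not_cent (h : Mt H τ) (hq : QF H E) (h8 : 8 ≤ Fintype.card α) (hc : τ ∈ C[E]) :
    False := by
  let W : Subgroup (Perm α) := H ⊓ cyG τ
  have key : ∀ a ∈ cyG τ, ∀ w, a w = w ∨ a w = τ w := fun a ha w => by
    obtain ⟨i, hi⟩ := (ha.2 w).exists_pow_eq'
    rw [← hi.2]
    clear hi
    induction i with
    | zero => simp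
    | succ i ih =>
      rw [pow_succ', Perm.mul_apply]
      rcases ih with e | e <;> rw [e]
      · exact .inr rfl
      · exact .inl (h.inv w)
  have hn : E ≤ N[W] := norm_inf (norm_of_le hq.le) (le_norm_iff.2 fun e he a ha => by
    have hce : Commute e τ := Subgroup.mem_centralizer_iff.1 hc e he
    refine ⟨(hce.mul_left ha.1).mul_left hce.inv_left, fun w => ?_⟩
    rcases key a ha (e⁻¹ w) with e1 | e1 <;> rw [Perm.mul_apply, Perm.mul_apply, e1]
    · simpa using SameCycle.refl τ w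
    · rw [← Perm.mul_apply, hce.eq]
      exact ⟨1, by simp⟩)
  rcases hq.alt inf_le_left hn with e | e
  · refine hq.not_comm e fun a ha => Subgroup.mem_centralizer_iff.2 fun b hb => ?_
    ext w
    have a1 : a (τ w) = τ (a w) := by rw [← Perm.mul_apply, ha.2.1.eq, Perm.mul_apply]
    have b1 : b (τ w) = τ (b w) := by rw [← Perm.mul_apply, hb.2.1.eq, Perm.mul_apply]
    rcases key a ha.2 w with e1 | e1 <;> rcases key b hb.2 w with e2 | e2 <;>
      simp only [Perm.mul_apply, e1, e2, a1, b1]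
  · obtain ⟨x0⟩ : Nonempty α := Fintype.card_pos_iff.1 (by omega)
    obtain ⟨v, hv⟩ := h.fx x0
    obtain ⟨x, hx⟩ := ex_notMem {v} (by rw [card_singleton]; omega)
    obtain ⟨y, hy⟩ := ex_notMem {v, x, τ x} (card_le_three.trans_lt (by omega))
    simp only [mem_insert, mem_singleton, not_or] at hx hy
    have x1 : τ x ≠ x := fun e => hx (hv _ e)
    have y1 : τ y ≠ y := fun e => hy.1 (hv _ e)
    have sw : ∀ u, swap u (τ u) ∈ cyG τ := fun u => by
      refine ⟨?_, fun w => ?_⟩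
      · rw [Commute, SemiconjBy, mul_swap_eq_swap_mul, h.inv, swap_comm]
      · rw [swap_apply_def]
        split_ifs with a b
        · exact ⟨1, by simp [a]⟩
        · exact ⟨1, by simp [b, h.inv]⟩
        · exact SameCycle.refl _ _
    exact dt_ne x1 hy.2.1 (fun e => hy.2.2 (by rw [← e, h.inv])) (hq.no_cent (h.mem x y x1 y1)
      (e ⟨h.mem x y x1 y1, (cyG τ).mul_mem (sw x) (sw y)⟩) (dt_supp ..))

theorem Mt.ex_three (h : Mt H τ) (hq : QF H E) (h8 : 8 ≤ Fintype.card α)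
    (hτ : Fintype.card α ≤ 9 → τ ∈ H) : ∃ a, ¬ Rr H a := by
  by_contra hR
  push Not at hR
  refine h.not_cent hq h8 ?_
  by_cases h10 : 10 ≤ Fintype.card α
  · refine Subgroup.mem_centralizer_iff.2 fun e he => ?_
    exact (eq_mul_inv_iff_mul_eq.1 (h.eq (h.conj (hq.le he)) h10 hR)).symm
  let V : Subgroup (Perm α) := Subgroup.closure {t | t ∈ H ∧ Mt H t}
  have hV : V ≤ H := (Subgroup.closure_le _).2 fun t ht => ht.1
  have hn : E ≤ N[V] := le_norm_iff_cj.2 fun e he => by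
    rw [MonoidHom.map_closure]
    refine Subgroup.closure_mono ?_
    rintro _ ⟨t, ht, rfl⟩
    exact ⟨H.mul_mem (H.mul_mem (hq.le he) ht.1) (H.inv_mem (hq.le he)), ht.2.conj (hq.le he)⟩
  rcases hq.alt hV hn with e | e
  · refine (hq.not_comm e ((Subgroup.closure_le _).2 fun t ht => ?_)).elim
    rw [Subgroup.centralizer_closure]
    exact Subgroup.mem_centralizer_iff.2 fun s hs => hs.2.commute ht.2 h8 hR
  · exact e (Subgroup.subset_closure ⟨hτ (by omega), h⟩)

theorem Mt.rr_le (h : Mt H τ) (hq : QF H E) (h6 : 6 ≤ Fintype.card α) (hx : ¬ Rr H x) :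
    (fib (tf H) x)ᶜ.card ≤ 3 := by
  by_contra hc
  obtain ⟨v, hv⟩ := h.fx x
  obtain ⟨y, hy, hy'⟩ := exists_mem_notMem_of_card_lt_card (t := (fib (tf H) x)ᶜ) (s := {v})
    (by rw [card_singleton]; omega)
  obtain ⟨z, hz, hz'⟩ := exists_mem_notMem_of_card_lt_card (t := (fib (tf H) x)ᶜ) (s := {v, y, τ y})
    (card_le_three.trans_lt (by omega))
  simp only [mem_insert, mem_singleton, not_or] at hy' hz'
  have key : ∀ u ∈ (fib (tf H) x)ᶜ, τ u ≠ u → τ u ∈ (fib (tf H) x)ᶜ := fun u hu hu' => by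
    obtain ⟨b, hb⟩ := ex_notMem {u, τ u} (card_le_two.trans_lt (by omega))
    simp only [mem_insert, mem_singleton, not_or] at hb
    obtain ⟨s, hs, s1, -⟩ := h.ex h6 hu' hb.1 hb.2
    rw [hq.compl hx] at hu ⊢
    rw [← s1]
    exact fun a b hT => hu (s⁻¹ a) (s⁻¹ b) (by simpa using hT.conj (H.inv_mem hs))
  have y1 : τ y ≠ y := fun e => hy' (hv _ e)
  have z1 : τ z ≠ z := fun e => hz'.1 (hv _ e)
  refine dt_ne y1 hz'.2.1 (fun e => hz'.2.2 (by rw [← e, h.inv]))
    (hq.no_cent (h.mem y z y1 z1) ?_ (dt_supp ..))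
  rw [hq.eq_AC hx]
  refine Subgroup.mem_centralizer_iff.2 fun a ha => (Disjoint.commute ?_).eq
  rw [disjoint_iff_disjoint_support]
  refine (disjoint_compl_right.mono (mem_AC.1 ha).1 ((support_mul_le _ _).trans ?_))
  rw [support_swap y1.symm, support_swap z1.symm]
  intro w hw
  simp only [sup_eq_union, mem_union, mem_insert, mem_singleton] at hw
  rcases hw with (rfl | rfl) | rfl | rfl
  · exact hy
  · exact key y hy y1
  · exact hz
  · exact key z hz z1

end H11.HS
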