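import Cfsg.Agent.H11.HS5

/-! Alternating groups in which a Sylow 3-subgroup lies in a unique maximal subgroup. -/

set_option autoImplicit false
set_option linter.unusedSectionVars false

namespace H11.HS

open Equiv Equiv.Perm Finset H16 H25 _root_.Cfsg MulAction
open scoped Pointwise commutatorElement

variable {α ι : Type*} [Fintype α] [DecidableEq α] [DecidableEq ι] {g : Perm α} {D : Finset α}
  {P M : Subgroup (Perm α)} {x y z a b c : α} {φ : α → ι}

structure UM (P M : Subgroup (Perm α)) : Prop where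
  pg : IsPGroup 3 P
  idx : ¬ 3 ∣ P.index
  ne : ¬ alternatingGroup α ≤ M
  le : ∀ K, P ≤ K → ¬ alternatingGroup α ≤ K → K ⊓ alternatingGroup α ≤ M

theorem UM.not_all (h : UM P M) (hx : ¬ Rr M x) (ha : ∀ y, tf M y = tf M x) : False :=
  h.ne fun _ hg => AC_le hx (mem_AC.2 ⟨fun y _ => mem_fib.2 (ha y), mem_alternatingGroup.1 hg⟩)

theorem UM.ps (h : UM P M) (hP : P ≤ partStab φ) (hab : a ≠ b) (e : φ a = φ b) (hc : φ a ≠ φ c) :
    partStab φ ⊓ alternatingGroup α ≤ M := by
  refine h.le _ hP fun hle => ?_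
  have bc : b ≠ c := fun e' => hc (e' ▸ e)
  have ac : a ≠ c := fun e' => hc (e' ▸ rfl)
  have := (hle (x := swap a b * swap b c) (by simp [mem_alternatingGroup, hab, bc]) a b).1 e
  rw [Perm.mul_apply, Perm.mul_apply, swap_apply_of_ne_of_ne hab ac, swap_apply_left,
    swap_apply_left, swap_apply_of_ne_of_ne ac.symm bc.symm] at this
  exact hc (e.trans this)

theorem t_of_ps (h : partStab φ ⊓ alternatingGroup α ≤ M) (hab : a ≠ b) (hbc : b ≠ c) (hac : a ≠ c)
    (e : φ a = φ b) (e' : φ b = φ c) : T M a b c :=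
  ⟨hab, hbc, hac, h ⟨mul_mem (swap_mem_partStab e) (swap_mem_partStab e'), by
    show _ ∈ alternatingGroup α
    simp [mem_alternatingGroup, hab, hbc]⟩⟩

theorem big_block (h : partStab φ ⊓ alternatingGroup α ≤ M) (h3 : 3 ≤ (fib φ x).card) :
    ¬ Rr M x ∧ ∀ y, φ y = φ x → tf M y = tf M x := by
  have key : ∀ y, φ y = φ x → y ≠ x → ∃ z, T M x y z := fun y hy hne => by
    obtain ⟨z, hz, hz'⟩ := exists_mem_notMem_of_card_lt_card (t := fib φ x) (s := {x, y})
      (card_le_two.trans_lt (by omega))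
    simp only [mem_insert, mem_singleton, not_or] at hz'
    exact ⟨z, t_of_ps h hne.symm (Ne.symm hz'.2) (Ne.symm hz'.1) hy.symm
      (hy.trans (mem_fib.1 hz).symm)⟩
  refine ⟨fun hr => ?_, fun y hy => ?_⟩
  · obtain ⟨y, hy, hne⟩ := exists_mem_ne (by omega : 1 < (fib φ x).card) x
    obtain ⟨z, hz⟩ := key y (mem_fib.1 hy) hne
    exact hr _ _ hz
  · by_cases e : y = x
    · rw [e]
    · obtain ⟨z, hz⟩ := key y hy e
      exact hz.tf

theorem UM.two_aux (h : UM P M) (hP : ∀ g ∈ P, ∀ w, w ∈ D ↔ g w ∈ D) (h3 : 3 ≤ Dᶜ.card)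
    (hD : D.Nonempty) (u v : α) : tf M u = tf M v ↔ (u ∈ D ↔ v ∈ D) := by
  obtain ⟨a, ha, b, hb, hab⟩ := one_lt_card.1 (show 1 < Dᶜ.card by omega)
  obtain ⟨d0, hd0⟩ := hD
  rw [mem_compl] at ha hb
  have hM : MC D ⊓ alternatingGroup α ≤ M :=
    h.ps (fun g hg => mem_MC'.2 (.inl (hP g hg))) hab (c := d0) (by simp [ha, hb]) (by simp [ha, hd0])
  have e1 : fib (fun w => decide (w ∈ D)) a = Dᶜ := by ext w; simp [mem_fib, ha]
  obtain ⟨r1, r2⟩ := big_block hM (x := a) (by rw [e1]; exact h3)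
  have k1 : ∀ w, w ∉ D → tf M w = tf M a := fun w hw => r2 w (by simp [hw, ha])
  have k2 : ∀ d ∈ D, tf M d ≠ tf M a := fun d hd e => h.not_all r1 fun w => by
    by_cases hw : w ∈ D
    · by_cases e' : d = w
      · rw [← e', e]
      have hm : swap d w * swap a b ∈ M := hM ⟨mul_mem (swap_mem_partStab (by simp [hd, hw]))
        (swap_mem_partStab (by simp [ha, hb])), by
          show _ ∈ alternatingGroup α
          simp [mem_alternatingGroup, hab, e']⟩
      have := (le_tf hm d a).1 e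
      rw [Perm.mul_apply, Perm.mul_apply, swap_apply_of_ne_of_ne (ne_of_mem_of_not_mem hd ha)
        (ne_of_mem_of_not_mem hd hb), swap_apply_left, swap_apply_left, swap_apply_of_ne_of_ne
        (ne_of_mem_of_not_mem hd hb).symm (ne_of_mem_of_not_mem hw hb).symm] at this
      rw [this, k1 b hb]
    · exact k1 w hw
  have k3 : ∀ d ∈ D, ∀ d' ∈ D, tf M d = tf M d' := fun d hd d' hd' => by
    by_cases h3' : 3 ≤ D.card
    · have e2 : fib (fun w => decide (w ∈ D)) d' = D := by ext w; simp [mem_fib, hd']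
      exact (big_block hM (x := d') (by rw [e2]; exact h3')).2 d (by simp [hd, hd'])
    have key : ∀ d ∈ D, Rr M d := fun d hd => by
      by_contra hr
      obtain ⟨w, hw, hw'⟩ := exists_mem_notMem_of_card_lt_card (t := fib (tf M) d) (s := D)
        (lt_of_lt_of_le (by omega) (three_le hr))
      exact k2 d hd ((mem_fib.1 hw).symm.trans (k1 w hw'))
    exact tf_eq.2 (.inr (.inr ⟨key d hd, key d' hd'⟩))
  by_cases hu : u ∈ D <;> by_cases hv : v ∈ D
  · simp [hu, hv, k3 u hu v hv]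
  · simp [hu, hv, k1 v hv, k2 u hu]
  · simp [hu, hv, k1 u hu, (k2 v hv).symm]
  · simp [hu, hv, k1 u hu, k1 v hv]

theorem UM.two (h : UM P M) (h5 : 5 ≤ Fintype.card α) (hP : ∀ g ∈ P, ∀ w, w ∈ D ↔ g w ∈ D)
    (hD : D.Nonempty) (hD' : Dᶜ.Nonempty) (u v : α) : tf M u = tf M v ↔ (u ∈ D ↔ v ∈ D) := by
  by_cases h3 : 3 ≤ Dᶜ.card
  · exact h.two_aux hP h3 hD u v
  · rw [card_compl] at h3
    rw [h.two_aux (D := Dᶜ) (fun g hg w => by rw [mem_compl, mem_compl, hP g hg w])
      (by rw [compl_compl]; omega) hD' u v, mem_compl, mem_compl, not_iff_not]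

theorem UM.sq (h : UM P M) (hg : g ∈ P) (e : g (g x) = x) : g x = x := by
  obtain ⟨k, hk⟩ := h.pg ⟨g, hg⟩
  refine fix_of_coprime (k := 2) (by rwa [pow_two]) (Nat.Coprime.coprime_dvd_right
    (orderOf_dvd_of_pow_eq_one (congrArg Subtype.val hk)) (Nat.Coprime.pow_right _ (by norm_num)))

theorem UM.fib3 (h : UM P M) (hf : ∀ w, ∃ g ∈ P, g w ≠ w) (x : α) :
    ¬ Rr P x ∧ (fib (tf P) x).card = 3 := by
  have := Fact.mk Nat.prime_three
  have hA : AH {3} P := ah_top (sy_mk le_top (pg_iff.2 h.pg) (by simpa using h.idx))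
  have h1 : ¬ Rr P x := fun hr => by
    obtain ⟨g, hg, hx⟩ := hf x
    have key : ∀ w, Rr P w → Rr P (g w) := fun w hw u v h => hw (g⁻¹ u) (g⁻¹ v) (by
      simpa using h.conj (P.inv_mem hg))
    have h2 := hA.rr_le rfl hr
    have : 2 < (fib (tf P) x).card := two_lt_card.2 ⟨x, self_mem_fib, g x,
      mem_fib.2 (tf_eq.2 (.inr (.inr ⟨key _ hr, hr⟩))), g (g x),
      mem_fib.2 (tf_eq.2 (.inr (.inr ⟨key _ (key _ hr), hr⟩))), hx.symm,
      fun e => hx (h.sq hg e.symm), g.injective.ne hx.symm⟩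
    omega
  refine ⟨h1, le_antisymm ?_ (three_le h1)⟩
  by_contra h4
  obtain ⟨a, ha, b, hb, c, hc, d, hd, ab, ac, ad, bc, bd, cd⟩ :=
    three_lt_card.1 (show 3 < (fib (tf P) x).card by omega)
  have hm : swap a b * swap c d ∈ P := AC_le h1 (mem_AC.2 ⟨(support_mul_le _ _).trans (by
    rw [support_swap ab, support_swap cd]
    intro w hw
    simp only [sup_eq_union, mem_union, mem_insert, mem_singleton] at hw
    rcases hw with (rfl | rfl) | rfl | rfl <;> assumption), by simp [ab, cd]⟩)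
  have e1 : (swap a b * swap c d) a = b := by
    rw [Perm.mul_apply, swap_apply_of_ne_of_ne ac ad, swap_apply_left]
  have e2 : (swap a b * swap c d) b = a := by
    rw [Perm.mul_apply, swap_apply_of_ne_of_ne bc bd, swap_apply_right]
  exact ab ((h.sq hm (x := a) (by rw [e1, e2])).symm.trans e1)

theorem UM.merge (h : UM P M) (hf : ∀ w, ∃ g ∈ P, g w ≠ w) (hP : P ≤ partStab φ)
    (h4 : 3 < (fib φ x).card) (hz : φ x ≠ φ z) : False := by
  obtain ⟨y, hy, hy'⟩ := exists_mem_notMem_of_card_lt_card (t := fib φ x) (s := fib (tf P) x)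
    (by rw [(h.fib3 hf x).2]; exact h4)
  rw [mem_fib] at hy hy'
  have hxy : x ≠ y := fun e => hy' (e ▸ rfl)
  obtain ⟨r1, r2⟩ := big_block (h.ps hP hxy hy.symm hz) h4.le
  obtain ⟨e, he⟩ := exists_equiv_prod (a := 3) (tf P) fun i => by
    obtain ⟨w, rfl⟩ := Quotient.exists_rep i
    rw [← (h.fib3 hf w).2, Nat.card_eq_fintype_card, Fintype.card_subtype]
    rfl
  obtain ⟨u, v, huv, hu, hv⟩ := exists_two_in_fibre e he (by norm_num) (tf P x)
  have hM := h.ps (le_tf (H := P)) huv (hu.trans hv.symm) (c := y) (by rw [hu]; exact Ne.symm hy')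
  have key : ∀ p q, φ p = φ x → φ q ≠ φ x → tf P q ≠ tf P p := fun p q hp hq e => by
    rcases tf_eq.1 e.symm with e | ⟨r, hT⟩ | e
    · exact hq (e ▸ hp)
    · obtain ⟨b, hb, hb'⟩ := exists_mem_notMem_of_card_lt_card (t := fib φ x) (s := {p, q, r})
        (card_le_three.trans_lt h4)
      simp only [mem_insert, mem_singleton, not_or] at hb'
      have := (hP hT.2.2.2 p b).1 (hp.trans (mem_fib.1 hb).symm)
      rw [Perm.mul_apply, Perm.mul_apply, swap_apply_of_ne_of_ne hT.1 hT.2.2.1, swap_apply_left,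
        swap_apply_of_ne_of_ne hb'.2.1 hb'.2.2, swap_apply_of_ne_of_ne hb'.1 hb'.2.1] at this
      exact hq (this.trans (mem_fib.1 hb))
    · exact (h.fib3 hf p).1 e.1
  refine h.not_all r1 fun w => ?_
  by_cases hw : φ w = φ x
  · exact r2 w hw
  obtain ⟨g, hg, g1, g2⟩ := exists_partStab_pair e he (Ne.symm hy') (key y w hy hw)
  obtain ⟨g', hg', e'⟩ := exists_even_of_swap hg huv (swap_mem_partStab (hu.trans hv.symm))
  have a1 := key x w rfl hw
  have := (le_tf (hM hg') x y).1 (r2 y hy).symm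
  rw [e' x (by rw [g1]; exact fun e => a1 (e ▸ hu)) (by rw [g1]; exact fun e => a1 (e ▸ hv)),
    e' y (by rw [g2]; exact fun e => hy' (e ▸ hu)) (by rw [g2]; exact fun e => hy' (e ▸ hv)),
    g1, g2] at this
  exact this.trans (r2 y hy)

noncomputable def orb (P : Subgroup (Perm α)) (x : α) : Finset α := (orbit P x).toFinite.toFinset

theorem mem_orb : y ∈ orb P x ↔ ∃ g ∈ P, g x = y := by
  simp [orb, mem_orbit_iff, Subgroup.smul_def]

theorem orb_inv (hg : g ∈ P) (w : α) : w ∈ orb P x ↔ g w ∈ orb P x := by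
  rw [mem_orb, mem_orb]
  constructor
  · rintro ⟨k, hk, rfl⟩
    exact ⟨g * k, P.mul_mem hg hk, rfl⟩
  · rintro ⟨k, hk, e⟩
    exact ⟨g⁻¹ * k, P.mul_mem (P.inv_mem hg) hk, by simp [e]⟩

theorem UM.orb_card (h : UM P M) (x : α) : ∃ k, (orb P x).card = 3 ^ k := by
  have := Fact.mk Nat.prime_three
  obtain ⟨k, hk⟩ := h.pg.card_orbit x
  exact ⟨k, by rw [← hk, orb, Nat.card_coe_set_eq, Set.ncard_eq_toFinset_card]⟩

theorem UM.trans (h : UM P M) (ht : ∀ y, ∃ g ∈ P, g x = y) {k : ℕ} (hk : Fintype.card α = 3 ^ k) :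
    k ≤ 2 := by
  classical
  by_contra h3
  have := Fact.mk Nat.prime_three
  have : IsPretransitive P α := ⟨fun u v => by
    obtain ⟨g, hg, rfl⟩ := ht u
    obtain ⟨g', hg', rfl⟩ := ht v
    exact ⟨⟨g' * g⁻¹, P.mul_mem hg' (P.inv_mem hg)⟩, by simp [Subgroup.smul_def]⟩⟩
  obtain ⟨m, hm⟩ := IsPGroup.iff_card.1 (h.pg.to_subgroup (stabilizer P x))
  have hc : Nat.card P = 3 ^ (m + (k - 1) + 1) := by
    rw [← (stabilizer P x).index_mul_card, index_stabilizer_of_transitive, hm,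
      Nat.card_eq_fintype_card, hk, ← pow_add]
    congr 1; omega
  obtain ⟨Q, hQ, hle⟩ := Sylow.exists_subgroup_card_pow_prime_le 3 (m := m + (k - 1))
    (by rw [hc]; exact pow_dvd_pow _ (by omega)) (stabilizer P x) hm (by omega)
  have hi : Q.index = 3 := by
    have := Q.index_mul_card
    rw [hQ, hc, pow_succ'] at this
    exact Nat.eq_of_mul_eq_mul_right (by positivity) this
  have hn : Q.Normal := Subgroup.normal_of_index_eq_minFac_card (by
    rw [hi, hc, Nat.Prime.pow_minFac Nat.prime_three (by omega)])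
  obtain ⟨z, hz⟩ : ∃ z, z ∉ orbit Q x := by
    by_contra hc
    push Not at hc
    have : Q = ⊤ := eq_top_iff.2 fun g _ => by
      obtain ⟨q, hq⟩ := hc (g • x)
      have : (q : P)⁻¹ * g ∈ stabilizer P x := by
        rw [mem_stabilizer_iff, mul_smul, inv_smul_eq_iff]; exact hq.symm
      simpa using Q.mul_mem q.2 (hle this)
    rw [this, Subgroup.index_top] at hi
    omega
  refine h.merge (φ := Quotient.mk (orbitRel Q α)) (x := x) (z := z) (fun w => ?_)
    (le_partStab_of fun g hg u v e => ?_) ?_ fun e => hz (orbitRel_apply.1 (Quotient.exact e.symm))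
  · obtain ⟨v, hv⟩ := ex_notMem {w} (by
      rw [card_singleton, hk]; exact Nat.one_lt_pow (by omega) (by norm_num))
    obtain ⟨g, hg⟩ := exists_smul_eq P w v
    exact ⟨g, g.2, fun e => hv (mem_singleton.2 (hg.symm.trans e))⟩
  · obtain ⟨q, hq⟩ := orbitRel_apply.1 (Quotient.exact e)
    refine Quotient.sound (orbitRel_apply.2 ⟨⟨_, hn.conj_mem _ q.2 ⟨g, hg⟩⟩, ?_⟩)
    rw [← hq]
    simp [Subgroup.smul_def]
  · have e1 : (fib (Quotient.mk (orbitRel Q α)) x).card = (stabilizer Q x).index := by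
      rw [index_stabilizer, ← Set.ncard_coe_finset]
      congr 1
      ext w
      rw [mem_coe, mem_fib, Quotient.eq, orbitRel_apply]
    have e2 := (stabilizer Q x).index_mul_card
    have e3 : Nat.card (stabilizer Q x) ≤ 3 ^ m := by
      rw [← hm]
      exact Nat.card_le_card_of_injective (fun q => ⟨q.1.1, q.2⟩) fun a b e =>
        Subtype.ext (Subtype.ext (Subtype.mk.inj e))
    rw [e1]
    by_contra h4
    have e4 : 3 ^ (m + 2) ≤ 3 ^ (m + (k - 1)) := Nat.pow_le_pow_right (by norm_num) (by omega)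
    have e5 : (stabilizer Q x).index * Nat.card (stabilizer Q x) ≤ 3 * 3 ^ m :=
      Nat.mul_le_mul (by omega) e3
    have e6 : 0 < 3 ^ m := by positivity
    rw [e2, hQ] at e5
    rw [pow_add] at e4
    omega

theorem UM.main (h : UM P M) (h5 : 5 ≤ Fintype.card α) : Fintype.card α = 6 ∨ Fintype.card α = 9 ∨
    ∃ a : ℕ, 2 ≤ a ∧ Fintype.card α = 3 ^ a + 1 := by
  obtain ⟨x⟩ : Nonempty α := Fintype.card_pos_iff.1 (by omega)
  have self : ∀ w, w ∈ orb P w := fun w => mem_orb.2 ⟨1, P.one_mem, rfl⟩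
  have sm : ∀ k, 4 ≤ 3 ^ k → 2 ≤ k := fun k hk => by
    by_contra hc
    have : k = 0 ∨ k = 1 := by omega
    rcases this with rfl | rfl <;> norm_num at hk
  obtain ⟨k, hk⟩ := h.orb_card x
  by_cases ht : ∀ y, y ∈ orb P x
  · rw [eq_univ_of_forall ht, card_univ] at hk
    have := h.trans (fun y => mem_orb.1 (ht y)) hk
    obtain rfl : k = 2 := le_antisymm this (sm k (by omega))
    exact .inr (.inl hk)
  push Not at ht
  obtain ⟨y, hy⟩ := ht
  have hx : x ∉ orb P y := fun e => by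
    obtain ⟨g, hg, rfl⟩ := mem_orb.1 e
    exact hy ((orb_inv hg _).2 (self _))
  have t1 := h.two h5 (D := orb P x) (fun g hg => orb_inv hg) ⟨x, self x⟩ ⟨y, mem_compl.2 hy⟩
  have t2 := h.two h5 (D := orb P y) (fun g hg => orb_inv hg) ⟨y, self y⟩ ⟨x, mem_compl.2 hx⟩
  have e : orb P y = (orb P x)ᶜ := by
    ext w
    have := (t1 w y).symm.trans (t2 w y)
    simp only [hy, self y, iff_false, iff_true] at this
    rw [mem_compl, this]
  obtain ⟨l, hl⟩ := h.orb_card y
  have hn : Fintype.card α = 3 ^ k + 3 ^ l := by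
    rw [← hk, ← hl, e, card_add_card_compl]
  rcases Nat.eq_zero_or_pos l with rfl | l0
  · exact .inr (.inr ⟨k, sm k (by omega), hn⟩)
  rcases Nat.eq_zero_or_pos k with rfl | k0
  · exact .inr (.inr ⟨l, sm l (by omega), by omega⟩)
  have k3 : 3 ≤ 3 ^ k := Nat.le_self_pow (by omega) 3
  have l3 : 3 ≤ 3 ^ l := Nat.le_self_pow (by omega) 3
  have hf : ∀ w, ∃ g ∈ P, g w ≠ w := fun w => by
    have key : ∀ u, w ∈ orb P u → 1 < (orb P u).card → ∃ g ∈ P, g w ≠ w := fun u hu h1 => by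
      obtain ⟨v, hv, hne⟩ := exists_mem_ne h1 w
      obtain ⟨g, hg, rfl⟩ := mem_orb.1 hu
      obtain ⟨g', hg', rfl⟩ := mem_orb.1 hv
      exact ⟨g' * g⁻¹, P.mul_mem hg' (P.inv_mem hg), by simpa using hne⟩
    by_cases hw : w ∈ orb P x
    · exact key x hw (by omega)
    · exact key y (by rw [e]; exact mem_compl.2 hw) (by omega)
  have key : ∀ u v, v ∉ orb P u → (orb P u).card ≤ 3 := fun u v hv => by
    by_contra h4
    refine h.merge (φ := fun w => decide (w ∈ orb P u)) (x := u) (z := v) hf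
      (fun g hg => mem_MC'.2 (.inl (orb_inv hg))) ?_ (by simp [self u, hv])
    have : fib (fun w => decide (w ∈ orb P u)) u = orb P u := by ext w; simp [mem_fib, self u]
    rw [this]; omega
  have := key x y hy
  have := key y x hx
  omega

end H11.HS
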