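import Cfsg.Agent.H10.SylowIn
import Cfsg.Agent.H1.Basic
import Cfsg.Agent.H3.Transfer2

/-!
Wielandt's theorems on subnormal subgroups: a minimal normal subgroup normalizes every subnormal
subgroup, joins of subnormal subgroups are subnormal, Sylow subgroups of joins.
-/

set_option autoImplicit false

namespace H11

open Cfsg H10 Subgroup

universe u

variable {G : Type*} [Group G]

theorem exists_min_invariant [Finite G] {N L : Subgroup G} (hN : N ≠ ⊥) (hL : L ≤ NN(N)) :
    ∃ M : Subgroup G, M ≤ N ∧ M ≠ ⊥ ∧ L ≤ NN(M) ∧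
      ∀ K : Subgroup G, K ≤ M → L ≤ NN(K) → K = ⊥ ∨ K = M := by
  obtain ⟨M, ⟨h1, h2, h3⟩, hmin⟩ := (wellFounded_lt (α := Subgroup G)).has_min
    {M : Subgroup G | M ≤ N ∧ M ≠ ⊥ ∧ L ≤ NN(M)} ⟨N, le_rfl, hN, hL⟩
  refine ⟨M, h1, h2, h3, fun K hK hLK => ?_⟩
  by_contra hc
  push Not at hc
  exact hmin K ⟨hK.trans h1, hc.1, hLK⟩ (lt_of_le_of_ne hK hc.2)

theorem minimal_le_NN_of_subnIn [Finite G] (L : Subgroup G) :
    ∀ {N A : Subgroup G}, N ≤ L → L ≤ NN(N) →
      (∀ K : Subgroup G, K ≤ N → L ≤ NN(K) → K = ⊥ ∨ K = N) → SubnIn A L → N ≤ NN(A) := by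
  induction L using (wellFounded_lt (α := Subgroup G)).induction with
  | _ L ih =>
  intro N A hNL hLN hmin hA
  by_cases hAL : A = L
  · subst hAL; exact hNL.trans (le_NN_self _)
  obtain ⟨M, hAM, hML, hLM⟩ := hA.exists_normal hAL
  have hAM' : SubnIn A M := hA.of_le hAM hML.le
  rcases hmin (N ⊓ M) inf_le_left (le_NN_inf hLN hLM) with h | h
  · have h1 : ⁅N, M⁆ ≤ N ⊓ M :=
      le_inf (comm_le_left (hML.le.trans hLN)) (comm_le_right (hNL.trans hLM))
    rw [h, le_bot_iff, comm_eq_bot] at h1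
    exact (h1.trans (CC_anti hAM)).trans (CC_le_NN _)
  · have hNM : N ≤ M := by rw [← h]; exact inf_le_right
    by_cases hN : N = ⊥
    · rw [hN]; exact bot_le
    obtain ⟨K, hKN, hK, hMK, hKmin⟩ := exists_min_invariant hN (hML.le.trans hLN)
    have hall : ∀ g ∈ L, cj g K ≤ NN(A) := by
      intro g hg
      have hgM : cj g M = M := cj_eq_of_mem_NN (hLM hg)
      have hgM' : cj g⁻¹ M = M := cj_eq_of_mem_NN (hLM (L.inv_mem hg))
      refine ih M hML ?_ ?_ ?_ hAM'
      · rw [← hgM]; exact cj_mono g (hKN.trans hNM)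
      · rw [← hgM, ← cj_normalizer]; exact cj_mono g hMK
      · intro K' hK' hMK'
        have h1 : cj g⁻¹ K' ≤ K := le_cj_iff.1 hK'
        have h2 : M ≤ NN(cj g⁻¹ K') := by
          rw [← hgM', ← cj_normalizer]; exact cj_mono _ hMK'
        rcases hKmin _ h1 h2 with h3 | h3
        · left
          have := congrArg (cj g) h3
          rw [← cj_mul, mul_inv_cancel] at this
          simpa using this
        · right
          rw [← h3, ← cj_mul, mul_inv_cancel]; simp
    have h1 : ncl K L ≤ N := ncl_le hKN hLN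
    rcases hmin _ h1 (le_NN_ncl K L) with h2 | h2
    · exact absurd (le_bot_iff.1 (h2 ▸ le_ncl K L)) hK
    · rw [← h2]; exact ncl_le_iff.2 hall

theorem minimal_normal_le_NN [Finite G] {N A : Subgroup G} [N.Normal]
    (hmin : ∀ K : Subgroup G, K.Normal → K ≤ N → K = ⊥ ∨ K = N) (hA : A.IsSubnormal) :
    N ≤ NN(A) :=
  minimal_le_NN_of_subnIn ⊤ le_top (le_NN_of_normal _ _)
    (fun K hK h => hmin K (normal_of_top_le_NN h) hK) (subnIn_top.2 hA)

theorem card_quotient_lt_of_ne_bot [Finite G] (N : Subgroup G) [N.Normal] (h : N ≠ ⊥) :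
    Nat.card (G ⧸ N) < Nat.card G := by
  rw [← N.card_mul_index, Subgroup.index_eq_card]
  have h1 : 1 < Nat.card N := (Subgroup.one_lt_card_iff_ne_bot N).2 h
  have h2 : 0 < Nat.card (G ⧸ N) := Nat.card_pos
  nlinarith

theorem isSubnormal_sup_aux (n : ℕ) : ∀ (G : Type u) [Group G] [Finite G], Nat.card G = n →
    ∀ A B : Subgroup G, A.IsSubnormal → B.IsSubnormal → (A ⊔ B).IsSubnormal := by
  induction n using Nat.strong_induction_on with
  | _ n ih =>
  intro G _ _ hn A B hA hB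
  by_cases hG : (⊤ : Subgroup G) = ⊥
  · have : A ⊔ B = ⊤ := le_antisymm le_top (by rw [hG]; exact bot_le)
    rw [this]; exact IsSubnormal.top
  obtain ⟨N, hNn, hN, -, hmin⟩ := H1.exists_minimal_normal_le (⊤ : Subgroup G) hG
  have hsurj := QuotientGroup.mk'_surjective N
  have h1 := ih _ (hn ▸ card_quotient_lt_of_ne_bot N hN) (G ⧸ N) rfl
    (A.map (QuotientGroup.mk' N)) (B.map (QuotientGroup.mk' N)) (hA.map hsurj) (hB.map hsurj)
  have h2 := h1.comap (QuotientGroup.mk' N)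
  rw [← Subgroup.map_sup, Subgroup.comap_map_eq, QuotientGroup.ker_mk'] at h2
  have h3 : N ≤ NN(A ⊔ B) :=
    le_NN_sup (minimal_normal_le_NN hmin hA) (minimal_normal_le_NN hmin hB)
  exact subnIn_top.1 ((subnIn_top.2 h2).step le_sup_left (sup_le (le_NN_self _) h3))

theorem isSubnormal_sup [Finite G] {A B : Subgroup G} (hA : A.IsSubnormal) (hB : B.IsSubnormal) :
    (A ⊔ B).IsSubnormal :=
  isSubnormal_sup_aux _ G rfl A B hA hB

theorem subnIn_sup [Finite G] {A B L : Subgroup G} (hA : SubnIn A L) (hB : SubnIn B L) :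
    SubnIn (A ⊔ B) L := by
  have h := isSubnormal_sup hA.2 hB.2
  have h2 := subnIn_map_subtype h
  rwa [Subgroup.map_sup, map_subgroupOf_of_le hA.le, map_subgroupOf_of_le hB.le] at h2

theorem subnIn_sSup [Finite G] {L : Subgroup G} {S : Set (Subgroup G)} (h : ∀ A ∈ S, SubnIn A L) :
    SubnIn (sSup S) L := by
  induction S, S.toFinite using Set.Finite.induction_on with
  | empty => rw [sSup_empty]; exact subnIn_of_normal bot_le (le_NN_of_normal _ _)
  | @insert a s _ _ ih =>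
    rw [sSup_insert]
    exact subnIn_sup (h a (Set.mem_insert _ _)) (ih fun A hA => h A (Set.mem_insert_of_mem _ hA))

variable {p : ℕ} [Fact p.Prime]

/-- Sylow subgroup of a product of two subgroups normalized by `L`. -/
theorem sylowIn_inf_sup_of_NN [Finite G] {T L A B : Subgroup G} (hT : IsSylowIn p T L)
    (hA : A ≤ L) (hB : B ≤ L) (hLA : L ≤ NN(A)) (hLB : L ≤ NN(B)) :
    T ⊓ (A ⊔ B) = (T ⊓ A) ⊔ (T ⊓ B) := by
  have h1 := hT.inf_normal hA hLA
  have h2 := hT.inf_normal hB hLB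
  have h3 := h1.sup h2 (hA.trans hLB)
    (inf_le_left.trans (le_NN_inf (le_NN_self _) (hT.le.trans hLB)))
  refine h3.eq_of_le (hT.isPGroup.to_inf_left) ?_ inf_le_right
  exact sup_le (inf_le_inf_left _ le_sup_left) (inf_le_inf_left _ le_sup_right)

theorem sylow_sup_aux (n : ℕ) : ∀ (G : Type u) [Group G] [Finite G], Nat.card G = n →
    ∀ (S A B : Subgroup G), IsSylowIn p S ⊤ → A.IsSubnormal → B.IsSubnormal → A ⊔ B = ⊤ →
      S ≤ (S ⊓ A) ⊔ (S ⊓ B) := by
  induction n using Nat.strong_induction_on with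
  | _ n ih =>
  intro G _ _ hn S A B hS hA hB hAB
  by_cases hG : commutator G = ⊥
  · have hc : ∀ K : Subgroup G, ⊤ ≤ NN(K) := by
      intro K
      apply le_NN_of_comm_le_left
      exact (commutator_mono le_top le_rfl).trans (by
        rw [← _root_.commutator_def, hG]; exact bot_le)
    have := sylowIn_inf_sup_of_NN hS le_top le_top (hc A) (hc B)
    rw [hAB, inf_top_eq] at this
    exact this.le
  obtain ⟨N, hNn, hN, hNG, hmin⟩ := H1.exists_minimal_normal_le (commutator G) hG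
  have hsurj := QuotientGroup.mk'_surjective N
  set T := (S ⊓ A) ⊔ (S ⊓ B) with hT
  have hTS : T ≤ S := sup_le inf_le_left inf_le_left
  have hS' := hS.map_top hsurj
  have key : ∀ X : Subgroup G, X.IsSubnormal →
      S.map (QuotientGroup.mk' N) ⊓ X.map (QuotientGroup.mk' N) =
        (S ⊓ X).map (QuotientGroup.mk' N) := by
    intro X hX
    have h1 := (hS.inf_subn (subnIn_top.2 hX)).map (QuotientGroup.mk' N)
    exact h1.eq_of_le hS'.isPGroup.to_inf_left (Subgroup.map_inf_le _ _ _) inf_le_right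
  have h1 := ih _ (hn ▸ card_quotient_lt_of_ne_bot N hN) (G ⧸ N) rfl
    (S.map (QuotientGroup.mk' N)) (A.map (QuotientGroup.mk' N)) (B.map (QuotientGroup.mk' N))
    hS' (hA.map hsurj) (hB.map hsurj)
    (by rw [← Subgroup.map_sup, hAB, Subgroup.map_top_of_surjective _ hsurj])
  rw [key A hA, key B hB, ← Subgroup.map_sup, ← hT, Subgroup.map_le_iff_le_comap,
    Subgroup.comap_map_eq, QuotientGroup.ker_mk'] at h1
  have h2 : S = T ⊔ (N ⊓ S) := by
    rw [← dedekind_left hTS (le_NN_of_normal _ _), inf_eq_right.2 h1]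
  suffices h : N ⊓ S ≤ T by rw [h2]; exact sup_le le_rfl h
  have hNA := minimal_normal_le_NN hmin hA
  have hNB := minimal_normal_le_NN hmin hB
  have hcA : ⁅N, A⁆ ≤ N ⊓ A := le_inf (comm_le_left (le_NN_of_normal _ _)) (comm_le_right hNA)
  have hcB : ⁅N, B⁆ ≤ N ⊓ B := le_inf (comm_le_left (le_NN_of_normal _ _)) (comm_le_right hNB)
  have hMN : (N ⊓ A) ⊔ (N ⊓ B) ≤ N := sup_le inf_le_left inf_le_left
  have hM : ((N ⊓ A) ⊔ (N ⊓ B)).Normal := by
    apply normal_of_top_le_NN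
    rw [← hAB]
    exact sup_le (le_NN_of_comm_le_of_le (hcA.trans le_sup_left) hMN)
      (le_NN_of_comm_le_of_le (hcB.trans le_sup_right) hMN)
  rcases hmin _ hM hMN with h | h
  · have hZ : N ≤ center G := by
      have ha : ⁅N, A⁆ = ⊥ := le_bot_iff.1 (h ▸ hcA.trans le_sup_left)
      have hb : ⁅N, B⁆ = ⊥ := le_bot_iff.1 (h ▸ hcB.trans le_sup_right)
      rw [comm_eq_bot] at ha hb
      have : N ≤ CC(A ⊔ B) := by rw [CC_sup]; exact le_inf ha hb
      rw [hAB] at this
      intro x hx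
      rw [Subgroup.mem_center_iff]
      intro g
      exact mem_CC.1 (this hx) g trivial
    intro x hx
    obtain ⟨P, hP⟩ := hS.exists_sylow_top
    have h3 := H3.mem_commutator_sylow_of_central P (hP ▸ hx.2) (hNG hx.1) (hZ hx.1)
    rw [hP] at h3
    have hZ' : ∀ K : Subgroup G, ⁅N ⊓ S, K⁆ = ⊥ := by
      intro K
      rw [comm_eq_bot]
      intro y hy
      exact mem_CC.2 fun k _ => Subgroup.mem_center_iff.1 (hZ hy.1) k
    have hNT : N ⊓ S ≤ NN(T) := (comm_eq_bot.1 (hZ' T)).trans (CC_le_NN _)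
    have h4 : ⁅S, S⁆ ≤ T := by
      conv_lhs => rw [h2]
      refine comm_sup_le (le_NN_self _) hNT ?_ (by rw [hZ']; exact bot_le)
      refine comm_sup_le' (le_NN_self _) hNT (comm_le_of_le le_rfl le_rfl) ?_
      rw [Subgroup.commutator_comm, hZ']; exact bot_le
    exact h4 h3
  · have hSN := hS.inf_normal (N := N) le_top (le_NN_of_normal _ _)
    have h3 := sylowIn_inf_sup_of_NN hSN (inf_le_left : N ⊓ A ≤ N) (inf_le_left : N ⊓ B ≤ N)
      (le_NN_inf (le_NN_self _) hNA) (le_NN_inf (le_NN_self _) hNB)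
    rw [h] at h3
    have h4 : N ⊓ S ≤ S ⊓ N ⊓ N := le_inf (le_inf inf_le_right inf_le_left) inf_le_left
    refine h4.trans (h3.le.trans (sup_le_sup ?_ ?_))
    · exact le_inf (inf_le_left.trans inf_le_left) (inf_le_right.trans inf_le_right)
    · exact le_inf (inf_le_left.trans inf_le_left) (inf_le_right.trans inf_le_right)

/-- Wielandt: Sylow subgroups of the join of two subnormal subgroups. -/
theorem sylowIn_inf_sup_of_subnIn [Finite G] {S L A B : Subgroup G} (hS : IsSylowIn p S L)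
    (hA : SubnIn A L) (hB : SubnIn B L) : S ⊓ (A ⊔ B) = (S ⊓ A) ⊔ (S ⊓ B) := by
  refine le_antisymm ?_ (sup_le (inf_le_inf_left _ le_sup_left) (inf_le_inf_left _ le_sup_right))
  have hJ := subnIn_sup hA hB
  have h1 := isSylowIn_subgroupOf_top (hS.inf_subn hJ)
  have hA' := hA.of_le le_sup_left hJ.le
  have hB' := hB.of_le le_sup_right hJ.le
  have h2 := sylow_sup_aux _ ↥(A ⊔ B) rfl _ (A.subgroupOf (A ⊔ B)) (B.subgroupOf (A ⊔ B)) h1
    hA'.2 hB'.2 (by rw [← Subgroup.subgroupOf_sup le_sup_left le_sup_right, subgroupOf_self])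
  have h3 := Subgroup.map_mono (f := (A ⊔ B).subtype) h2
  rw [map_subgroupOf_of_le inf_le_right, Subgroup.map_sup] at h3
  refine h3.trans (sup_le_sup ?_ ?_)
  · rintro _ ⟨y, hy, rfl⟩
    exact ⟨hy.1.1, hy.2⟩
  · rintro _ ⟨y, hy, rfl⟩
    exact ⟨hy.1.1, hy.2⟩

end H11
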