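import Cfsg.Agent.H16.Misc
import Cfsg.Agent.H18.SC4
import Cfsg.Agent.H3.AutO
import Cfsg.Agent.H4.GD4
import Cfsg.Agent.H6.ZS

/-! Counting classes of 2-elements. -/

set_option autoImplicit false
set_option linter.unusedSectionVars false

namespace H11.KC

open Subgroup Finset H16 _root_.Cfsg
open scoped commutatorElement Classical

universe u

variable {G : Type u} [Group G] [Fintype G] {P C E V : Subgroup G} {x y z g : G}

noncomputable def pf (P : Subgroup G) : Finset G := univ.filter (· ∈ P)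

theorem mem_pf : x ∈ pf P ↔ x ∈ P := by simp [pf]

theorem card_pf : (pf P).card = Nat.card P := by
  rw [Nat.card_eq_fintype_card, Fintype.card_subtype]; rfl

noncomputable def cl (P : Subgroup G) (x : G) : Finset G :=
  (pf P).filter fun y => ConjClasses.mk y = ConjClasses.mk x

theorem mem_cl : y ∈ cl P x ↔ y ∈ P ∧ ∃ g, g * x * g⁻¹ = y := by
  rw [cl, mem_filter, mem_pf, ConjClasses.mk_eq_mk_iff_isConj, isConj_comm, isConj_iff]

theorem cj_cl (h : g * x * g⁻¹ ∈ P) : g * x * g⁻¹ ∈ cl P x := mem_cl.2 ⟨h, g, rfl⟩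

theorem self_cl (h : x ∈ P) : x ∈ cl P x := mem_cl.2 ⟨h, 1, by simp⟩

theorem cl_congr (h : y ∈ cl P x) : cl P y = cl P x := by
  rw [cl, cl, (mem_filter.1 h).2]

/-- the number of classes meeting `P` is `|P| / 2` -/
def Half (P : Subgroup G) : Prop := 2 * ((pf P).image ConjClasses.mk).card = Nat.card P

theorem half_of (S : Sylow 2 G) (hk : 2 * Nat.card {c : ConjClasses G //
    ∀ x ∈ c.carrier, ∃ k : ℕ, orderOf x = 2 ^ k} = Nat.card (S : Subgroup G)) :
    Half (S : Subgroup G) := by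
  rw [Half, ← hk, Nat.card_eq_fintype_card, Fintype.card_subtype]
  congr 2
  ext c
  obtain ⟨y, rfl⟩ := ConjClasses.mk_surjective c
  simp only [mem_image, mem_pf, mem_filter, mem_univ, true_and, ConjClasses.mem_carrier_iff_mk_eq]
  constructor
  · rintro ⟨x, hx, e⟩ w hw
    obtain ⟨k, hk⟩ := IsPGroup.iff_orderOf.1 S.isPGroup' ⟨x, hx⟩
    obtain ⟨g, rfl⟩ := isConj_iff.1 (ConjClasses.mk_eq_mk_iff_isConj.1 (e.trans hw.symm))
    exact ⟨k, by rw [← hk, ← orderOf_coe]; exact (MulAut.conj g).orderOf_eq x⟩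
  · intro h
    obtain ⟨k, hk⟩ := h y rfl
    obtain ⟨g, -, hg⟩ := sy_conj_le (sy_top_of_sylow S) (U := zpowers y) le_top
      (pg_iff.2 (IsPGroup.of_card (by rw [Nat.card_zpowers, hk])))
    exact ⟨_, hg (cj_mem (mem_zpowers y)),
      ConjClasses.mk_eq_mk_iff_isConj.2 (isConj_iff.2 ⟨g, rfl⟩).symm⟩

theorem sum_fib {α β : Type*} [DecidableEq β] (s : Finset α) (f : α → β) :
    ∑ x ∈ s, ((s.filter fun y => f y = f x).card : ℚ)⁻¹ = (s.image f).card := by
  rw [sum_comp (fun b => ((s.filter fun y => f y = b).card : ℚ)⁻¹) f,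
    sum_congr rfl (g := fun _ => 1)]
  · simp
  · intro b hb
    obtain ⟨x, hx, rfl⟩ := mem_image.1 hb
    rw [nsmul_eq_mul, mul_inv_cancel₀]
    refine Nat.cast_ne_zero.2 (Finset.card_ne_zero.2 ⟨x, ?_⟩)
    exact mem_filter.2 ⟨hx, rfl⟩

theorem Half.sum (h : Half P) : ∑ x ∈ pf P, ((cl P x).card : ℚ)⁻¹ = Nat.card P / 2 := by
  rw [← h]
  exact (sum_fib (pf P) ConjClasses.mk).trans (by simp)

theorem Half.not_le (h : Half P) (h2 : ∀ x ∈ P, (cl P x).card ≤ 2) : False := by
  have e1 : cl P (1 : G) = {1} := by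
    ext y; simp [mem_cl, eq_comm, and_iff_right_iff_imp]; rintro rfl; exact P.one_mem
  have : ∑ x ∈ pf P, (2 : ℚ)⁻¹ < ∑ x ∈ pf P, ((cl P x).card : ℚ)⁻¹ := by
    refine sum_lt_sum (fun x hx => ?_) ⟨1, mem_pf.2 P.one_mem, by rw [e1]; norm_num⟩
    refine inv_anti₀ (Nat.cast_pos.2 (card_pos.2 ⟨x, self_cl (mem_pf.1 hx)⟩)) ?_
    exact_mod_cast h2 x (mem_pf.1 hx)
  rw [h.sum, sum_const, card_pf, nsmul_eq_mul] at this
  linarith

/-- three layers `C ≤ E ≤ P` with class sizes at least `1`, `3`, `2` -/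
theorem Half.layers (h : Half P) (hC : C ≤ E) (hE : E ≤ P) (h4 : 4 * Nat.card C ≤ Nat.card E)
    (h3 : ∀ x ∈ E, x ∉ C → 3 ≤ (cl P x).card) (h2 : ∀ x ∈ P, x ∉ E → 2 ≤ (cl P x).card) :
    4 * Nat.card C = Nat.card E ∧ (∀ x ∈ C, (cl P x).card = 1) ∧
      (∀ x ∈ E, x ∉ C → (cl P x).card = 3) ∧ ∀ x ∈ P, x ∉ E → (cl P x).card = 2 := by
  let m : G → ℕ := fun x => if x ∈ C then 1 else if x ∈ E then 3 else 2
  have m0 : ∀ x, (0 : ℚ) < m x := fun x => by
    simp only [m]; split_ifs <;> norm_num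
  have hm : ∀ x ∈ pf P, ((cl P x).card : ℚ)⁻¹ ≤ (m x : ℚ)⁻¹ := fun x hx => by
    refine inv_anti₀ (m0 x) (Nat.cast_le.2 ?_)
    simp only [m]
    split_ifs with a b
    · exact card_pos.2 ⟨x, self_cl (mem_pf.1 hx)⟩
    · exact h3 x b a
    · exact h2 x (mem_pf.1 hx) b
  have s1 : pf C ⊆ pf E := fun x hx => mem_pf.2 (hC (mem_pf.1 hx))
  have s2 : pf E ⊆ pf P := fun x hx => mem_pf.2 (hE (mem_pf.1 hx))
  have hs : ∑ x ∈ pf P, (m x : ℚ)⁻¹ = ((Nat.card P : ℚ) - Nat.card E) / 2 +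
      (((Nat.card E : ℚ) - Nat.card C) / 3 + Nat.card C) := by
    rw [← sum_sdiff s2, ← sum_sdiff s1, sum_congr rfl (g := fun _ => (2 : ℚ)⁻¹),
      sum_congr (s₁ := pf E \ pf C) rfl (g := fun _ => (3 : ℚ)⁻¹),
      sum_congr (s₁ := pf C) rfl (g := fun _ => (1 : ℚ))]
    · simp only [sum_const, nsmul_eq_mul, cast_card_sdiff s1, cast_card_sdiff s2, card_pf]
      ring
    · intro x hx; simp [m, mem_pf.1 hx]
    · intro x hx
      simp only [mem_sdiff, mem_pf] at hx
      simp [m, hx.1, hx.2]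
    · intro x hx
      simp only [mem_sdiff, mem_pf] at hx
      simp [m, hx.2, show x ∉ C from fun e => hx.2 (hC e)]
  have h4' : (4 * Nat.card C : ℚ) ≤ Nat.card E := by exact_mod_cast h4
  have h5 := sum_le_sum hm
  have h6 : ∑ x ∈ pf P, ((cl P x).card : ℚ)⁻¹ = ∑ x ∈ pf P, (m x : ℚ)⁻¹ := by
    refine le_antisymm h5 ?_
    rw [h.sum, hs]; linarith
  have h7 : ∀ x ∈ P, (cl P x).card = m x := fun x hx => by
    exact_mod_cast inv_injective ((sum_eq_sum_iff_of_le hm).1 h6 x (mem_pf.2 hx))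
  refine ⟨?_, fun x hx => ?_, fun x hx hx' => ?_, fun x hx hx' => ?_⟩
  · rw [h.sum, hs] at h6
    have : (4 * Nat.card C : ℚ) = Nat.card E := by linarith
    exact_mod_cast this
  · rw [h7 x (hE (hC hx))]; simp [m, hx]
  · rw [h7 x (hE hx)]; simp [m, hx, hx']
  · rw [h7 x hx]; simp [m, hx', show x ∉ C from fun e => hx' (hC e)]

theorem cls_716 {X : Type*} [Group X] [Finite X]
    (h : 4 ≤ Nat.card (commutator X)) : 16 * Nat.card (ConjClasses X) ≤ 7 * Nat.card X := by
  have h1 : 4 * Nat.card (ConjClasses X) ≤ Nat.card X + 3 * (commutator X).index := by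
    rw [← H17.card_linear_irr, ← H17.card_irr, Nat.card_eq_fintype_card (α := IrrCharacter X),
      Nat.card_eq_fintype_card (α := {χ : IrrCharacter X // _}),
      Fintype.card_subtype (α := IrrCharacter X), Finset.card_filter,
      Finset.mul_sum, ← H21.sum_deg_sq, ← Finset.sum_add_distrib,
      ← Finset.card_univ, Finset.card_eq_sum_ones, Finset.mul_sum]
    refine Finset.sum_le_sum fun χ _ => ?_
    have e := H21.irr_charDegree_cast χ
    split_ifs with h2
    · have : charDegree (χ : X → ℂ) = 1 := by rw [h2] at e; exact_mod_cast e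
      simp only [*, one_pow, mul_one]; omega
    · have h3 := Nat.pos_of_dvd_of_pos (H17.Cfsg.IsIrrCharacter.degree_dvd_card χ.2 e.symm)
        Nat.card_pos
      have h4 : charDegree (χ : X → ℂ) ≠ 1 := fun h3 => h2 (by rw [← e, h3, Nat.cast_one])
      simpa using Nat.pow_le_pow_left (show 2 ≤ charDegree (χ : X → ℂ) by omega) 2
  have h2 := (commutator X).index_mul_card
  have h3 := Nat.mul_le_mul_left (commutator X).index h
  omega

theorem Half.der_le (h : Half P) (hP : IsPGroup 2 P) : Nat.card (⁅P, P⁆ : Subgroup G) ≤ 2 := by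
  by_contra hc
  obtain ⟨k, hk⟩ := IsPGroup.iff_card.1 (hP.to_le (H16.der_le P))
  have h4 : 4 ≤ Nat.card (⁅P, P⁆ : Subgroup G) := by
    rw [hk] at hc ⊢
    rcases k with _ | _ | k
    · omega
    · omega
    · exact Nat.pow_le_pow_right (n := 2) (by norm_num) (show 2 ≤ k + 1 + 1 by omega)
  have h5 := cls_716 (X := P) (by
    rwa [← map_subtype_commutator, card_map_of_injective P.subtype_injective] at h4)
  have h6 : ((pf P).image ConjClasses.mk).card ≤ Nat.card (ConjClasses P) := by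
    rw [Nat.card_eq_fintype_card, ← card_univ]
    refine le_trans (card_le_card fun c hc => ?_) (card_image_le (f := ConjClasses.map P.subtype))
    obtain ⟨x, hx, rfl⟩ := mem_image.1 hc
    exact mem_image.2 ⟨ConjClasses.mk ⟨x, mem_pf.1 hx⟩, mem_univ _, rfl⟩
  have := card_pos' P
  unfold Half at h
  omega

def Concl (X : Type u) [Group X] : Prop :=
  Nonempty (X ≃* alternatingGroup (Fin 4)) ∨ Nonempty (X ≃* Equiv.Perm (Fin 4)) ∨
    ∃ S : Subgroup X, S.Normal ∧ IsSimpleGroup S ∧ ¬ IsMulCommutative S ∧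
      centralizer (S : Set X) = ⊥ ∧ ∃ (F : Type) (_ : Field F) (_ : Fintype F),
        3 < Fintype.card F ∧ (Fintype.card F % 8 = 3 ∨ Fintype.card F % 8 = 5) ∧
          Nonempty (S ≃* Matrix.ProjectiveSpecialLinearGroup (Fin 2) F)

theorem fin {X : Type u} [Group X] [Finite X] (hO : pPrimeCore 2 X = ⊥) (S : Sylow 2 X)
    {V : Subgroup X} (h4 : Nat.card V = 4) (hd : GW.Dih (⊤ : Subgroup X)) (hn : ¬ IsPGroup 2 X)
    (hf : ∀ x ∈ (S : Subgroup X), ∀ u, ⁅x, u⁆ ∈ (S : Subgroup X) → ⁅x, u⁆ ∈ V) : Concl X := by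
  rcases hd.struct (by rw [GW.OO, H5.oppOf_top, hO]) with h | h | h | ⟨E, hE, hs, hk⟩
  · exact absurd h hn
  · exact .inl h
  · exact .inr (.inl h)
  have := hE.normal
  have hc : ¬ IsMulCommutative E := fun hc => by
    have : E = ⊥ := eq_bot_iff.2 ((comm_iff.1 hc).trans hE.cent.le)
    exact (nontrivial_iff_ne_bot E).1 inferInstance this
  have hp : E ≤ commutator X := by
    rcases (inferInstance : (commutator E).Normal).eq_bot_or_eq_top with e | e
    · exact absurd (der_eq_bot.1 (by rw [← map_subtype_commutator, e, Subgroup.map_bot])) hc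
    · have : ⁅E, E⁆ = E := by
        rw [← map_subtype_commutator, e, ← MonoidHom.range_eq_map, range_subtype]
      rw [← this]
      exact commutator_mono le_top le_top
  have h1 : (S : Subgroup X) ⊓ E ≤ V := by
    refine (le_inf (inf_le_right.trans hp) inf_le_left).trans ?_
    rw [Subgroup.commutator_inf_eq_focalSubgroup, focalSubgroup_def, closure_le]
    rintro _ ⟨h, x, hx, u, rfl⟩
    exact hf x hx u h
  have h2 := hl_inf (sy_top_of_sylow S) (L := E) le_top (by rw [normalizer_eq_top]; exact le_top)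
  obtain ⟨F, _, _, a, b, c⟩ := H16.GD.l2d_of_known hk fun h8 => by
    rw [← card_mul_relIndex h2.1] at h8
    have a1 := Nat.le_of_dvd (card_pos' _) ((Nat.Coprime.pow_left 3 ((Nat.Prime.coprime_iff_not_dvd
      Nat.prime_two).2 (sy_not_dvd h2 Nat.prime_two))).dvd_of_dvd_mul_right h8)
    have a2 := Nat.le_of_dvd (card_pos' _) (card_dvd h1)
    omega
  exact .inr (.inr ⟨E, this, hs, hc, hE.cent, F, _, _, b, a, c⟩)

theorem core_quot (hO : pPrimeCore 2 G = ⊥) : pPrimeCore 2 (G ⧸ center G) = ⊥ := by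
  have h1 := H6.comap_pPrimeCore_le_of_central hO (Z := center G) le_rfl
  have h2 : IsPGroup 2 (pPrimeCore 2 (G ⧸ center G)) := by
    rw [← map_comap_eq_self_of_surjective (QuotientGroup.mk'_surjective (center G))
      (pPrimeCore 2 (G ⧸ center G))]
    exact ((H1.isPGroup_pCore (p := 2)).to_le h1).map _
  simpa using H1.inf_eq_bot_of_isPGroup_of_coprime h2 (H1.coprime_card_pPrimeCore 2)

theorem center_le (hO : pPrimeCore 2 G = ⊥) (S : Sylow 2 G) : center G ≤ S := fun z hz =>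
  H1.pCore_le_sylow S (H6.comap_pPrimeCore_le_of_central hO (Z := center G) le_rfl (by
    rw [mem_comap, QuotientGroup.mk'_apply, (QuotientGroup.eq_one_iff z).2 hz]; exact one_mem _))

theorem top_of_quot (hO : pPrimeCore 2 G = ⊥) (S : Sylow 2 G) (h : IsPGroup 2 (G ⧸ center G)) :
    ∀ g, g ∈ (S : Subgroup G) := by
  have : IsPGroup 2 (⊤ : Subgroup G) := by
    have := (h.to_subgroup ⊤).comap_of_ker_isPGroup (QuotientGroup.mk' (center G)) (by
      rw [QuotientGroup.ker_mk']; exact S.isPGroup'.to_le (center_le hO S))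
    rwa [comap_top] at this
  intro g
  rw [← S.3 this le_top]
  exact mem_top g

theorem one_cl (hO : pPrimeCore 2 G = ⊥) (S : Sylow 2 G) (hx : x ∈ (S : Subgroup G))
    (h : (cl (S : Subgroup G) x).card = 1) : x ∈ center G :=
  H6.WC.mem_center ⟨hx, fun _ hg => card_le_one.1 h.le _ (cj_cl hg) _ (self_cl hx)⟩ hO

end H11.KC
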