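import Cfsg.Agent.H11.KA

/-! Groups with `|P| / 2` classes of 2-elements. -/

set_option autoImplicit false
set_option linter.unusedSectionVars false

namespace H11.KC

open Subgroup Finset H16 _root_.Cfsg
open scoped commutatorElement Classical

universe u

variable {G : Type u} [Group G] [Fintype G] {P C E V D : Subgroup G} {x y z g α t a b : G}

theorem card_img (h : center G = C) (hC : C ≤ E) {k : ℕ} (e : k * Nat.card C = Nat.card E) :
    Nat.card (E.map (QuotientGroup.mk' (center G))) = k := by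
  rw [← relIndex_ker, QuotientGroup.ker_mk', h]
  have := card_mul_relIndex hC
  rw [← e, mul_comm] at this
  exact Nat.eq_of_mul_eq_mul_right (card_pos' C) this

theorem mul_mem_two (h : C.relIndex P = 2) (hx : x ∈ P) (hy : y ∈ P) (h1 : x ∉ C) (h2 : y ∉ C) :
    x * y ∈ C :=
  (mul_mem_iff_of_index_two (H := C.subgroupOf P) h (a := ⟨x, hx⟩) (b := ⟨y, hy⟩)).2
    (iff_of_false h1 h2)

theorem case1 (hO : pPrimeCore 2 G = ⊥) (S : Sylow 2 G) (h : Half (S : Subgroup G))
    (hα : α ∈ N[(S : Subgroup G)]) (ho : Odd (orderOf α)) (hc : α ∉ C[(S : Subgroup G)]) :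
    Concl (G ⧸ center G) := by
  set P := (S : Subgroup G) with hP
  have odd : ∀ c ∈ P, c ^ orderOf α = 1 → c = 1 := fun c hc e => by
    obtain ⟨k, hk⟩ := IsPGroup.iff_orderOf.1 S.isPGroup' ⟨c, hc⟩
    rw [← orderOf_coe] at hk
    refine orderOf_eq_one_iff.1 (Nat.eq_one_of_dvd_coprimes ?_ (orderOf_dvd_of_pow_eq_one e) hk.dvd)
    exact (Nat.coprime_two_right.2 ho).pow_right k
  have mc : ∀ x, x ∈ C1[α] ↔ α * x * α⁻¹ = x := fun x => by
    rw [mem_centralizer_singleton_iff, mul_inv_eq_iff_eq_mul, eq_comm]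
  have key : ∀ x, ∀ c ∈ P ⊓ C1[α], α * x * α⁻¹ = x * c → x ∈ C1[α] := fun x c hc e => by
    have e1 : ∀ m : ℕ, α ^ m * x * (α ^ m)⁻¹ = x * c ^ m := fun m => by
      induction m with
      | zero => simp
      | succ m ih =>
        have := (mc _).1 (pow_mem hc.2 m)
        calc _ = α * (α ^ m * x * (α ^ m)⁻¹) * α⁻¹ := by group
          _ = (α * x * α⁻¹) * (α * c ^ m * α⁻¹) := by rw [ih]; group
          _ = _ := by rw [this, e, pow_succ']; group
    have := e1 (orderOf α)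
    rw [pow_orderOf_eq_one] at this
    rw [mc, e, odd c hc.1 (by simpa using this.symm), mul_one]
  have mv : ∀ x, α * x * α⁻¹ ∈ C1[α] → x ∈ C1[α] := fun x hx => by
    rw [mc] at hx ⊢
    exact (MulAut.conj α).injective hx
  obtain ⟨x0, hx0, hx0'⟩ : ∃ x ∈ P, x ∉ C1[α] := by
    by_contra hh
    push Not at hh
    exact hc (mem_centralizer_iff.2 fun x hx => mem_centralizer_singleton_iff.1 (hh x hx))
  have h4 : 4 * Nat.card (P ⊓ C1[α] : Subgroup G) ≤ Nat.card P := by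
    obtain ⟨k, hk⟩ := IsPGroup.index S.isPGroup' ((P ⊓ C1[α]).subgroupOf P)
    change (P ⊓ C1[α]).relIndex P = _ at hk
    rw [← card_mul_relIndex (inf_le_left : P ⊓ C1[α] ≤ P), hk, mul_comm]
    refine Nat.mul_le_mul_left _ ?_
    rcases k with _ | _ | k
    · exact absurd (relIndex_eq_one.1 hk hx0).2 hx0'
    · refine absurd (key x0 _ (mul_mem_two hk (inv_mem hx0) (conj_mem hα hx0)
        (fun e => hx0' (inv_mem_iff.1 e.2)) fun e => hx0' (mv _ e.2)) (by group)) hx0'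
    · exact Nat.pow_le_pow_right (n := 2) (by norm_num) (show 2 ≤ k + 1 + 1 by omega)
  obtain ⟨e1, e2, -⟩ := h.layers (C := P ⊓ C1[α]) inf_le_left le_rfl h4 (fun x hx hx' => by
    have x1 : x ∉ C1[α] := fun e => hx' ⟨hx, e⟩
    refine two_lt_card.2 ⟨x, self_cl hx, _, cj_cl (conj_mem hα hx), _,
      cj_cl (conj_mem (mul_mem hα hα) hx), fun e => x1 ((mc x).2 e.symm), fun e => x1 ?_,
      fun e => x1 (mv _ ((mc _).2 ((show _ = α * α * x * (α * α)⁻¹ by group).trans e.symm)))⟩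
    obtain ⟨m, hm⟩ := exists_pow_eq_self_of_coprime (x := α) (Nat.coprime_two_left.2 ho)
    rw [cent1_comm, ← hm]
    refine pow_mem (mem_centralizer_singleton_iff.2 ?_) m
    rw [pow_two, ← mul_inv_eq_iff_eq_mul, ← e]) fun x hx hx' => absurd hx hx'
  have hZ : center G = P ⊓ C1[α] := le_antisymm (le_inf (center_le hO S) (center_le_centralizer _))
    fun c hc => one_cl hO S hc.1 (e2 c hc)
  have c4 : Nat.card (H6.sylowMk S (center G) : Subgroup (G ⧸ center G)) = 4 :=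
    card_img hZ inf_le_left e1
  exact fin (core_quot hO) (H6.sylowMk S _) c4 (H18.sc_dih (H10.isSylowIn_top _) (.inr c4))
    (fun hp => hc (by rw [odd α (top_of_quot hO S hp α) (pow_orderOf_eq_one α)]; exact one_mem _))
    fun _ _ _ h => h

/-- the normalizer of `P` induces only inner automorphisms -/
def Inner (P : Subgroup G) : Prop := ∀ n ∈ N[P], ∃ p ∈ P, ∀ x ∈ P, n * x * n⁻¹ = p * x * p⁻¹

theorem inner_of (hP : Sy[2] P ⊤) (h : ∀ n ∈ N[P], Odd (orderOf n) → n ∈ C[P]) : Inner P := by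
  intro n hn
  obtain ⟨k, m, hm, e⟩ := Nat.exists_eq_two_pow_mul_odd (orderOf_pos n).ne'
  have h1 : n ^ 2 ^ k ∈ C[P] := h _ (pow_mem hn _) (hm.of_dvd_nat (orderOf_dvd_of_pow_eq_one (by
    rw [← pow_mul, ← e, pow_orderOf_eq_one])))
  have h2 : n ^ m ∈ P := zpowers_le.1 (le_hl_of_norm' hP le_top (zpowers_le.2 (pow_mem hn _))
    (pg_iff.2 (H6.isPGroup_zpowers (k := k) (by rw [← pow_mul, mul_comm, ← e, pow_orderOf_eq_one]))))
  have h3 : n ∈ P ⊔ C[P] := by
    have := Nat.gcd_eq_gcd_ab m (2 ^ k)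
    rw [(Nat.coprime_two_right.2 hm).pow_right k] at this
    rw [← zpow_one n, ← Nat.cast_one, this, zpow_add, zpow_mul, zpow_mul, zpow_natCast, zpow_natCast]
    exact mul_mem (mem_sup_left (zpow_mem h2 _)) (mem_sup_right (zpow_mem h1 _))
  obtain ⟨p, hp, c, hc, rfl⟩ := (mem_sup_l (cent_le_norm P)).1 h3
  refine ⟨p, hp, fun x hx => ?_⟩
  calc _ = p * (c * x) * c⁻¹ * p⁻¹ := by group
    _ = _ := by rw [← mem_centralizer_iff.1 hc x hx]; group

theorem Inner.cent (S : Sylow 2 G) (h : Inner (S : Subgroup G)) (hx : x ∈ (S : Subgroup G))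
    (hc : x ∈ C[(S : Subgroup G)]) (hg : g * x * g⁻¹ ∈ C[(S : Subgroup G)]) : g * x * g⁻¹ = x := by
  obtain ⟨n, hn, e⟩ := S.conj_eq_normalizer_conj_of_mem_centralizer x g⁻¹ hc (by simpa using hg)
  obtain ⟨p, hp, e'⟩ := h n⁻¹ (inv_mem hn)
  rw [inv_inv] at e e'
  rw [e, e' x hx, mem_centralizer_iff.1 hc p hp, mul_inv_cancel_right]

def KK (D : Subgroup G) [hD : D.Normal] (x : G) : Subgroup G where
  carrier := {h | h * x * h⁻¹ * x⁻¹ ∈ D}
  one_mem' := by simp
  mul_mem' := fun {a b} ha hb => by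
    have := D.mul_mem (hD.conj_mem _ hb a) ha
    simpa [mul_assoc] using this
  inv_mem' := fun {a} ha => by
    have := D.inv_mem (hD.conj_mem _ ha a⁻¹)
    simpa [mul_assoc] using this

theorem not_cent (hP : Sy[2] P ⊤) (h : Half P) (hi : Inner P) : ¬ ⁅P, P⁆ ≤ center G := by
  intro hc
  have : (⁅P, P⁆ : Subgroup G).Normal := H6.normal_of_le_center' hc
  refine h.not_le fun x hx => le_trans (card_le_card (t := (pf ⁅P, P⁆).image (· * x)) fun y hy => ?_)
    (card_image_le.trans (card_pf.le.trans (h.der_le (sy_pg hP))))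
  obtain ⟨hy, g, rfl⟩ := mem_cl.1 hy
  have h1 : P ≤ KK ⁅P, P⁆ x := fun p hp => commutator_mem_commutator hp hx
  have h2 : P :^ g⁻¹ ≤ KK ⁅P, P⁆ x := cj_le_forall.2 fun p hp => by
    have := this.conj_mem _ (commutator_mem_commutator hp hy) g⁻¹
    show _ ∈ ⁅P, P⁆
    simpa [commutatorElement_def, mul_assoc] using this
  obtain ⟨k, hk, e⟩ := sy_conj (hl_of_le hP h1 le_top) (hl_of_le (hl_cj_top hP g⁻¹) h2 le_top)
  obtain ⟨p, hp, e'⟩ := hi (g * k) (cj_eq_self_iff.1 (by rw [← cj_cj, e, cj_inv_cj]))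
  have h3 : k⁻¹ * x * k⁻¹⁻¹ * x⁻¹ ∈ ⁅P, P⁆ := inv_mem hk
  have h4 := e' _ (mul_mem (H16.der_le P h3) hx)
  refine mem_image.2 ⟨g * x * g⁻¹ * x⁻¹, mem_pf.2 ?_, by simp⟩
  have h5 := mul_mem (this.conj_mem _ h3 p) (commutator_mem_commutator hp hx)
  convert h5 using 1
  rw [show g * x * g⁻¹ = g * k * (k⁻¹ * x * k⁻¹⁻¹ * x⁻¹ * x) * (g * k)⁻¹ by group, h4,
    commutatorElement_def]
  group

structure C2 (P : Subgroup G) (z : G) : Prop where
  mem : z ∈ P
  ne : z ≠ 1
  cj : ∀ p ∈ P, ∀ q ∈ P, p * q * p⁻¹ = q ∨ p * q * p⁻¹ = z * q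

theorem C2.cent (h : C2 P z) (hx : x ∈ P) : x * z * x⁻¹ = z := by
  rcases h.cj x hx z h.mem with e | e
  · exact e
  rcases h.cj x hx z⁻¹ (inv_mem h.mem) with e' | e'
  · rw [← inv_inj, ← e']; group
  · exact absurd (by simpa using e') h.ne

theorem C2.sq (h : C2 P z) (hx : x ∈ P) (hy : y ∈ P) (e : x * y * x⁻¹ = z * y) : z * z = 1 := by
  have e2 : x * x * y * (x * x)⁻¹ = z * z * y := by
    calc _ = x * (x * y * x⁻¹) * x⁻¹ := by group
      _ = (x * z * x⁻¹) * (x * y * x⁻¹) := by (conv_lhs => rw [e]); group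
      _ = _ := by rw [h.cent hx, e, mul_assoc]
  rcases h.cj _ (mul_mem hx hx) y hy with e1 | e1 <;> rw [e2] at e1
  · simpa using e1
  · exact absurd (by simpa using e1) h.ne

theorem C2.map (h : C2 P z) (g : G) : C2 (P :^ g) (g * z * g⁻¹) := by
  refine ⟨cj_mem h.mem, fun e => h.ne (by simpa using e), ?_⟩
  rintro _ ⟨p, hp, rfl⟩ _ ⟨q, hq, rfl⟩
  simp only [MulEquiv.coe_toMonoidHom, MulAut.conj_apply]
  refine (h.cj p hp q hq).imp (fun e => ?_) fun e => ?_
  · calc _ = g * (p * q * p⁻¹) * g⁻¹ := by group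
      _ = _ := by rw [e]
  · calc _ = g * (p * q * p⁻¹) * g⁻¹ := by group
      _ = _ := by rw [e]; group

theorem ex_c2 (hP : Sy[2] P ⊤) (h : Half P) (hi : Inner P) : ∃ z, C2 P z ∧ z ∉ center G := by
  obtain ⟨z, hz, hz'⟩ := SetLike.not_le_iff_exists.1 (not_cent hP h hi)
  have z1 : z ≠ 1 := fun e => hz' (e ▸ one_mem _)
  refine ⟨z, ⟨H16.der_le P hz, z1, fun p hp q hq => ?_⟩, hz'⟩
  by_contra hc
  rw [not_or] at hc
  have := two_lt_card.2 ⟨1, mem_pf.2 (one_mem _), z, mem_pf.2 hz, _,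
    mem_pf.2 (commutator_mem_commutator hp hq), z1.symm,
    fun e => hc.1 (mul_inv_eq_one.1 e.symm), fun e => hc.2 (mul_inv_eq_iff_eq_mul.1 e.symm)⟩
  have := h.der_le (sy_pg hP)
  rw [card_pf] at *
  omega

theorem mem_c1 : x ∈ C1[t] ↔ x * t * x⁻¹ = t := by
  rw [mem_centralizer_singleton_iff, mul_inv_eq_iff_eq_mul]

theorem mem_c1' : x ∈ C1[t] ↔ t * x * t⁻¹ = x := by rw [cent1_comm, mem_c1]

theorem case2 (hO : pPrimeCore 2 G = ⊥) (S : Sylow 2 G) (h : Half (S : Subgroup G))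
    (hi : Inner (S : Subgroup G)) : Concl (G ⧸ center G) := by
  have hS := sy_top_of_sylow S
  obtain ⟨z, hz, hzZ⟩ := ex_c2 hS h hi
  set P := (S : Subgroup G) with hP
  have zc : z ∈ C[P] := mem_centralizer_iff.2 fun x hx => mul_inv_eq_iff_eq_mul.1 (hz.cent hx)
  obtain ⟨g0, ht, htz⟩ : ∃ g, g * z * g⁻¹ ∈ P ∧ g * z * g⁻¹ ≠ z := by
    by_contra hc
    push Not at hc
    exact hzZ (H6.WC.mem_center ⟨hz.mem, hc⟩ hO)
  obtain ⟨c, hc, hE⟩ := sy_le_conj (hl_of_le (hl_cj_top hS g0) (L := C1[g0 * z * g0⁻¹])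
    (fun x hx => mem_c1.2 ((hz.map g0).cent hx)) le_top) (U := P ⊓ C1[g0 * z * g0⁻¹]) inf_le_right
    (pg_iff.2 (sy_pg hS).to_inf_left)
  have et : c * g0 * z * (c * g0)⁻¹ = g0 * z * g0⁻¹ := by rw [← mem_c1.1 hc]; group
  rw [cj_cj] at hE
  rw [← et] at ht htz hE
  generalize c * g0 = g at ht htz hE
  clear et hc
  have hq := hz.map g
  obtain ⟨a, ha, ea⟩ : ∃ a ∈ P, a * (g * z * g⁻¹) * a⁻¹ = z * (g * z * g⁻¹) := by
    by_contra hc
    push Not at hc
    exact htz (hi.cent S hz.mem zc (mem_centralizer_iff.2 fun x hx => mul_inv_eq_iff_eq_mul.1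
      ((hz.cj x hx _ ht).resolve_right (hc x hx))))
  have zE : z ∈ P ⊓ C1[g * z * g⁻¹] := ⟨hz.mem, mem_c1'.2 (hz.cent ht)⟩
  obtain ⟨b, hb, eb⟩ : ∃ b ∈ P :^ g, b * z * b⁻¹ = g * z * g⁻¹ * z := by
    by_contra hc
    push Not at hc
    have := hi.cent S hz.mem zc (g := g⁻¹) (mem_centralizer_iff.2 fun x hx => by
      have := (hq.cj _ (cj_mem hx) _ (hE zE)).resolve_right (hc _ (cj_mem hx))
      calc _ = g⁻¹ * (g * x * g⁻¹ * z * (g * x * g⁻¹)⁻¹) * g * x := by group
        _ = _ := by rw [this]; group)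
    exact htz (by (conv_lhs => rw [← this]); group)
  generalize g * z * g⁻¹ = t at *
  generalize P :^ g = Q at *
  have z2 := hz.sq ha ht ea
  have t2 := hq.sq hb (hE zE) eb
  have tE : t ∈ P ⊓ C1[t] := ⟨ht, mem_c1.2 (by group)⟩
  have zt : z * t ≠ 1 := fun e => htz (mul_left_cancel (e.trans z2.symm))
  have tz : t * z ≠ 1 := fun e => htz (mul_right_cancel (e.trans z2.symm))
  set E := P ⊓ C1[t] with hE'
  have h4 : 4 * Nat.card (E ⊓ C1[a] ⊓ C1[b] : Subgroup G) ≤ Nat.card E := by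
    have a1 := H18.sc_two_card (inf_le_left : E ⊓ C1[a] ≤ E) tE fun e => hz.ne (by
      simpa [ea] using mem_c1'.1 e.2)
    have a2 := H18.sc_two_card (inf_le_left : E ⊓ C1[a] ⊓ C1[b] ≤ _)
      (u := z) ⟨zE, mem_c1'.2 (hz.cent ha)⟩ fun e => hq.ne (by simpa [eb] using mem_c1'.1 e.2)
    omega
  obtain ⟨e1, e2, e3, e4⟩ := h.layers (C := E ⊓ C1[a] ⊓ C1[b]) (E := E)
    (inf_le_left.trans inf_le_left) inf_le_left h4 (fun x hx hx' => by
      have m1 : ∀ g y, y ∈ P → g * x * g⁻¹ = y → y ∈ cl P x := fun g y hy e => mem_cl.2 ⟨hy, g, e⟩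
      rcases hz.cj a ha x hx.1 with a1 | a1 <;> rcases hq.cj b hb x (hE hx) with b1 | b1
      · exact absurd ⟨⟨hx, mem_c1'.2 a1⟩, mem_c1'.2 b1⟩ hx'
      · refine two_lt_card.2 ⟨x, self_cl hx.1, t * x, m1 b _ (mul_mem ht hx.1) b1, z * t * x,
          m1 (a * b) _ (mul_mem (mul_mem hz.mem ht) hx.1) ?_, by simpa using hq.ne,
          by simpa using zt, by simpa using hz.ne⟩
        calc _ = a * (b * x * b⁻¹) * a⁻¹ := by group
          _ = (a * t * a⁻¹) * (a * x * a⁻¹) := by (conv_lhs => rw [b1]); group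
          _ = _ := by rw [ea, a1]
      · refine two_lt_card.2 ⟨x, self_cl hx.1, z * x, m1 a _ (mul_mem hz.mem hx.1) a1, t * z * x,
          m1 (b * a) _ (mul_mem (mul_mem ht hz.mem) hx.1) ?_, by simpa using hz.ne,
          by simpa using tz, by simpa using hq.ne⟩
        calc _ = b * (a * x * a⁻¹) * b⁻¹ := by group
          _ = (b * z * b⁻¹) * (b * x * b⁻¹) := by (conv_lhs => rw [a1]); group
          _ = _ := by rw [eb, b1]
      · exact two_lt_card.2 ⟨x, self_cl hx.1, z * x, m1 a _ (mul_mem hz.mem hx.1) a1, t * x,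
          m1 b _ (mul_mem ht hx.1) b1, by simpa using hz.ne, by simpa using hq.ne,
          by simpa using htz.symm⟩)
    fun x hx hx' => one_lt_card.2 ⟨x, self_cl hx, _, cj_cl (mul_mem (mul_mem ht hx) (inv_mem ht)),
      fun e => hx' ⟨hx, mem_c1'.2 e.symm⟩⟩
  have hZ : center G = E ⊓ C1[a] ⊓ C1[b] := le_antisymm (le_inf (le_inf (le_inf (center_le hO S)
    (center_le_centralizer _)) (center_le_centralizer _)) (center_le_centralizer _))
    fun c hc => one_cl hO S hc.1.1.1 (e2 c hc)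
  have key : ∀ p ∈ P, Xor (p * a ∈ E) (p ∈ E) := fun p hp => by
    have e : p * a * t * (p * a)⁻¹ = z * (p * t * p⁻¹) := by
      calc _ = p * (a * t * a⁻¹) * p⁻¹ := by group
        _ = (p * z * p⁻¹) * (p * t * p⁻¹) := by rw [ea]; group
        _ = _ := by rw [hz.cent hp]
    rcases hz.cj p hp t ht with e' | e'
    · exact .inr ⟨⟨hp, mem_c1.2 e'⟩, fun k => hz.ne (by
        have := mem_c1.1 k.2
        rw [e] at this
        simpa [e'] using this)⟩
    · refine .inl ⟨⟨mul_mem hp ha, mem_c1.2 (e.trans ?_)⟩, fun k => hz.ne (by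
        simpa [e'] using mem_c1.1 k.2)⟩
      rw [e', ← mul_assoc, z2, one_mul]
  have i2 : E.relIndex P = 2 := index_eq_two_iff.2 ⟨⟨a, ha⟩, fun p => key p p.2⟩
  have c4 := card_img hZ (inf_le_left.trans inf_le_left) e1
  have c8 : Nat.card (H6.sylowMk S (center G) : Subgroup (G ⧸ center G)) = 8 :=
    card_img hZ (inf_le_left.trans (inf_le_left.trans inf_le_left)) (by
      rw [← card_mul_relIndex (inf_le_left : E ≤ P), i2, ← e1]; ring)
  have lift : ∀ x, QuotientGroup.mk' (center G) x ∈ (H6.sylowMk S (center G) : Subgroup _) →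
      x ∈ P := fun x hx => by
    have : x ∈ (P.map (QuotientGroup.mk' (center G))).comap (QuotientGroup.mk' (center G)) := hx
    rwa [comap_map_eq, QuotientGroup.ker_mk', sup_eq_left.2 (center_le hO S)] at this
  have tm : QuotientGroup.mk' (center G) t ∈ (H6.sylowMk S (center G) : Subgroup _) :=
    mem_map_of_mem _ ht
  refine fin (core_quot hO) (H6.sylowMk S _) c4
    (H18.sc_dih (H10.isSylowIn_top (H6.sylowMk S _)) ?_)
    (fun hp => hzZ (mem_center_iff.2 fun x => mem_centralizer_iff.1 zc x (top_of_quot hO S hp x))) ?_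
  · rcases Cfsg.Agent.S3224.result (H6.sylowMk S (center G)).isPGroup' ⟨_, tm⟩ (orderOf_eq_prime
      (Subtype.ext (by
        show (QuotientGroup.mk' (center G) t) ^ 2 = 1
        rw [← map_pow, pow_two, t2, map_one])) fun e => hz.ne (by
          have := mem_center_iff.1 ((QuotientGroup.eq_one_iff t).1 (congrArg Subtype.val e)) a
          rw [this, mul_inv_cancel_right] at ea
          simpa using ea)) (by
        rw [← c4, ← Nat.card_congr (subgroupOfEquivOfLe (H := E.map (QuotientGroup.mk' (center G)))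
          (K := H6.sylowMk S (center G)) (map_mono (inf_le_left : E ≤ P))).toEquiv]
        congr 3
        ext ⟨_, p, hp, rfl⟩
        rw [mem_c1, mem_subgroupOf, Subtype.ext_iff]
        simp only [Subgroup.coe_mul, Subgroup.coe_inv, ← map_mul, ← map_inv]
        constructor
        · intro e
          refine mem_map_of_mem _ ⟨hp, mem_c1.2 ((hz.cj p hp t ht).resolve_right fun e' => ?_)⟩
          rw [e', map_mul, mul_eq_right] at e
          exact hzZ ((QuotientGroup.eq_one_iff z).1 e)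
        · intro e
          have : p ∈ (E.map (QuotientGroup.mk' (center G))).comap (QuotientGroup.mk' _) := e
          rw [comap_map_eq, QuotientGroup.ker_mk',
            sup_eq_left.2 (hZ.le.trans (inf_le_left.trans inf_le_left))] at this
          rw [mem_c1.1 this.2]) with k | ⟨n, hn, k, -⟩ | k
    · exact .inl k
    · rw [c8] at k
      have := Nat.pow_le_pow_right (n := 2) (by norm_num) (show 4 ≤ n + 1 by omega)
      omega
    · exact .inr k
  · rintro _ ⟨x, hx, rfl⟩ u hu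
    obtain ⟨u, rfl⟩ := QuotientGroup.mk'_surjective _ u
    rw [← map_commutatorElement] at hu ⊢
    refine mem_map_of_mem _ ?_
    have y1 : u * x⁻¹ * u⁻¹ ∈ P := by
      have := mul_mem (inv_mem hx) (lift _ hu)
      rwa [commutatorElement_def, mul_assoc x, mul_assoc x, inv_mul_cancel_left] at this
    have y2 := congrArg Finset.card (cl_congr (cj_cl y1))
    have k : ∀ w ∈ E, (cl P w).card ≠ 2 := fun w hw => by
      by_cases hw' : w ∈ E ⊓ C1[a] ⊓ C1[b]
      · rw [e2 w hw']; norm_num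
      · rw [e3 w hw hw']; norm_num
    rw [show ⁅x, u⁆ = x * (u * x⁻¹ * u⁻¹) by rw [commutatorElement_def]; group]
    by_cases hxE : x ∈ E
    · exact mul_mem hxE (by_contra fun e => k _ (inv_mem hxE) (y2 ▸ e4 _ y1 e))
    · exact mul_mem_two i2 hx y1 hxE fun e =>
        k _ e (y2.trans (e4 _ (inv_mem hx) fun e' => hxE (inv_mem_iff.1 e')))

theorem main (hO : pPrimeCore 2 G = ⊥) (S : Sylow 2 G) (h : Half (S : Subgroup G)) :
    Concl (G ⧸ center G) := by
  by_cases hc : ∀ n ∈ N[(S : Subgroup G)], Odd (orderOf n) → n ∈ C[(S : Subgroup G)]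
  · exact case2 hO S h (inner_of (sy_top_of_sylow S) hc)
  · push Not at hc
    obtain ⟨n, h1, h2, h3⟩ := hc
    exact case1 hO S h h1 h2 h3

end H11.KC
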