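import Cfsg.Agent.H11.ZStar
import Cfsg.Agent.H6.ZS
import Cfsg.Agent.H6.Misc
import Cfsg.Agent.H17.FT

/-! Groups in which the normalizer of each nontrivial two-prime subgroup is maximal. -/

set_option autoImplicit false
set_option linter.unusedSectionVars false

namespace H16.H11.MX

open Subgroup Cfsg H1 H15

variable {G : Type*} [Group G] {p q r : ℕ} {H K L M U X N : Subgroup G}
  {a b c g j s t u v w x y z : G}

def MN (G : Type*) [Group G] : Prop :=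
  ∀ (H : Subgroup G) (p q : ℕ), p.Prime → q.Prime → H ≠ ⊥ → Pi[{p, q}] H → IsCoatom N[H]

theorem ceq (hM : IsCoatom M) (hL : L ≠ ⊤) (h : M ≤ L) : L = M :=
  ((hM.le_iff).1 h).resolve_left hL

theorem MN.pg (h : MN G) (hp : p.Prime) (h1 : U ≠ ⊥) (hU : Pg[p] U) : IsCoatom N[U] :=
  h U p p hp hp h1 (hU.mono (by simp))

theorem mem_zp2 (ht : t * t = 1) : x ∈ zpowers t ↔ x = 1 ∨ x = t := by
  constructor
  · rintro ⟨k, rfl⟩
    have h2 : t ^ (2 : ℤ) = 1 := by rw [zpow_two, ht]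
    rcases Int.emod_two_eq_zero_or_one k with e | e
    · left
      show t ^ k = 1
      rw [← Int.emod_add_mul_ediv k 2, e, zero_add, zpow_mul, h2, one_zpow]
    · right
      show t ^ k = t
      rw [← Int.emod_add_mul_ediv k 2, e, zpow_add, zpow_mul, h2, one_zpow, zpow_one, mul_one]
  · rintro (rfl | rfl)
    exacts [one_mem _, mem_zpowers _]

theorem mem_zp3 (hw : w ^ 3 = 1) (hx : x ∈ zpowers w) : x = 1 ∨ x = w ∨ x = w⁻¹ := by
  obtain ⟨k, rfl⟩ := hx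
  have h3 : w ^ (3 : ℤ) = 1 := by exact_mod_cast hw
  have e : w ^ k = w ^ (k % 3) := by
    conv_lhs => rw [← Int.emod_add_mul_ediv k 3, zpow_add, zpow_mul, h3, one_zpow, mul_one]
  show w ^ k = 1 ∨ w ^ k = w ∨ w ^ k = w⁻¹
  have : k % 3 = 0 ∨ k % 3 = 1 ∨ k % 3 = 2 := by omega
  rcases this with h | h | h <;> rw [e, h]
  · simp
  · simp
  · right; right
    rw [eq_inv_iff_mul_eq_one, ← zpow_add_one]
    exact h3

theorem ord2 (ht : t * t = 1) (h1 : t ≠ 1) : orderOf t = 2 :=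
  orderOf_eq_prime (by rw [pow_two, ht]) h1

theorem norm_zp2 (ht : t * t = 1) (h1 : t ≠ 1) : N[zpowers t] = C1[t] := by
  refine le_antisymm (fun g hg => ?_) (by rw [← cent_zpowers]; exact cent_le_norm _)
  rcases (mem_zp2 ht).1 (conj_mem hg (mem_zpowers t)) with e | e
  · exact absurd (conj_eq_one_iff.1 e) h1
  · rw [mem_cent1, ← mul_inv_eq_iff_eq_mul]; exact e

theorem pg_zp (hp : p.Prime) (h : orderOf x = p) : Pg[p] (zpowers x) :=
  isPi_of_card_eq_prime hp (by rw [card_zpowers, h])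

theorem pg_zp2 (ht : t * t = 1) (h1 : t ≠ 1) : Pg[2] (zpowers t) :=
  pg_zp Nat.prime_two (ord2 ht h1)

theorem MN.cent (h : MN G) (ht : t * t = 1) (h1 : t ≠ 1) : IsCoatom C1[t] := by
  rw [← norm_zp2 ht h1]
  exact h.pg Nat.prime_two (zpowers_ne_bot' h1) (pg_zp2 ht h1)

theorem ne_one_of_ord (hp : p.Prime) (h : orderOf x = p) : x ≠ 1 := by
  rintro rfl
  rw [orderOf_one] at h
  exact hp.one_lt.ne h

theorem MN.zp (h : MN G) (hp : p.Prime) (hx : orderOf x = p) : IsCoatom N[zpowers x] :=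
  h.pg hp (zpowers_ne_bot' (ne_one_of_ord hp hx)) (pg_zp hp hx)

theorem MN.congr {G' : Type*} [Group G'] (h : MN G) (e : G ≃* G') : MN G' := by
  intro H p q hp hq h1 hH
  have h2 := h (H.map e.symm.toMonoidHom) p q hp hq
    (fun h0 => h1 ((map_eq_bot_iff_of_injective _ e.symm.injective).1 h0)) (hH.map _)
  rw [← map_equiv_normalizer_eq] at h2
  exact ((MulEquiv.mapSubgroup e.symm).isCoatom_iff _).1 h2

variable [Finite G]

theorem MN.sol (h : MN G) (hn : ⊤ ≤ N[N]) (hs : Group.IsSolvable N) : N = ⊥ := by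
  by_contra h0
  have := normal_of_top hn
  obtain ⟨M, p, hM, h1, -, hp, -, -, hP, -⟩ := H1.exists_minimal_normal_elementary N hs h0
  have := Fact.mk hp
  exact (h.pg hp h1 (IsPGroup.isPi hP)).1 (normalizer_eq_top M)

theorem MN.normB (h : MN G) (ht : t * t = 1) (h1 : t ≠ 1) (hr : r.Prime) (r2 : r ≠ 2)
    (hb : orderOf b = r) (hc : b ∈ C1[t]) : N[zpowers b] = C1[t] := by
  have c : Commute t b := (mem_cent1.1 hc).symm
  obtain ⟨k, hk⟩ := hr.odd_of_ne_two r2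
  have t2 : ∀ n : ℕ, t ^ (2 * n) = 1 := fun n => by rw [pow_mul, pow_two, ht, one_pow]
  have br : b ^ r = 1 := hb ▸ pow_orderOf_eq_one b
  have e1 : (t * b) ^ r = t := by rw [c.mul_pow, br, hk, pow_succ, t2, one_mul, mul_one]
  have e2 : (t * b) ^ (r + 1) = b := by
    rw [c.mul_pow, pow_succ b, br, hk, show 2 * k + 1 + 1 = 2 * (k + 1) by ring, t2, one_mul,
      one_mul]
  have e3 : (t * b) ^ (2 * r) = 1 := by rw [mul_comm 2 r, pow_mul, e1, pow_two, ht]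
  have hm : IsCoatom N[zpowers (t * b)] := by
    refine h _ 2 r Nat.prime_two hr (zpowers_ne_bot' fun e => h1 ?_) fun l hl hd => ?_
    · rw [← e1, e, one_pow]
    · rw [card_zpowers] at hd
      rcases (Nat.Prime.dvd_mul hl).1 (hd.trans (orderOf_dvd_of_pow_eq_one e3)) with e | e
      · left; exact (Nat.prime_dvd_prime_iff_eq hl Nat.prime_two).1 e
      · right; exact (Nat.prime_dvd_prime_iff_eq hl hr).1 e
  have a1 := ceq hm (h.zp hr hb).1 (norm_le_norm_cyclic (cyclic_zpowers _)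
    (zpowers_le.2 ⟨((r + 1 : ℕ) : ℤ), by simpa only [zpow_natCast] using e2⟩))
  have a2 := ceq hm (h.zp Nat.prime_two (ord2 ht h1)).1 (norm_le_norm_cyclic (cyclic_zpowers _)
    (zpowers_le.2 ⟨((r : ℕ) : ℤ), by simpa only [zpow_natCast] using e1⟩))
  rw [a1, ← a2, norm_zp2 ht h1]

theorem MN.fr (h : MN G) (hp : p.Prime) (hq : q.Prime) (hne : p ≠ q) (h1 : U ≠ ⊥)
    (hU : Pg[p] U) (hX : Pg[q] X) (hn : X ≤ N[U]) (hg : g ∈ N[U]) : ∃ v ∈ U, v * g ∈ N[X] := by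
  have := Fact.mk hq
  have hm : IsCoatom N[U ⊔ X] := h _ p q hp hq (ne_bot_of_le h1 le_sup_left)
    ((hU.mono (by simp)).sup_of_le_norm' (hX.mono (by simp)) hn)
  have e := ceq hm (h.pg hp h1 hU).1 (norm_hl_of_normal (hl_sup_left hn hU (hX.compl_of_ne hne.symm))
    (sup_le (le_norm _) hn))
  rw [e] at hg
  obtain ⟨k, hk, n, hn', rfl⟩ := sy_frattini (hl_sup_right hn (hU.compl_of_ne hne) hX) hg
  obtain ⟨v, hv, a, ha, rfl⟩ := (mem_sup_l hn).1 hk
  refine ⟨v⁻¹, inv_mem hv, ?_⟩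
  rw [mul_assoc v, inv_mul_cancel_left]
  exact mul_mem (le_norm _ ha) hn'

theorem MN.norm_cent (h : MN G) (ht : t * t = 1) (h1 : t ≠ 1) : N[C1[t]] = C1[t] := by
  refine ceq (h.cent ht h1) (fun e => ?_) (le_norm _)
  have := h.sol (N := C1[t] ⊓ C[C1[t]]) (norm_inf e.ge (H16.norm_cent e.ge))
    (sol_of_comm (comm_center _))
  exact h1 (eq_one_of_mem_bot this ⟨cent1_self t, le_cent1.1 le_rfl⟩)

theorem MN.cent_nle (h : MN G) (hz : z * z = 1) (h1 : z ≠ 1) (hc : IsConj z u) (hne : u ≠ z) :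
    ¬ C1[z] ≤ C1[u] := by
  obtain ⟨g, rfl⟩ := isConj_iff.1 hc
  intro e
  rw [cent1_cj] at e
  have e2 := ceq (h.cent hz h1) (coatom_cj (h.cent hz h1) g).1 e
  have := cj_eq_self_iff.1 e2
  rw [h.norm_cent hz h1, mem_cent1] at this
  exact hne (by rw [this, mul_inv_cancel_right])

theorem exists_inv (hK : Pg[2] K) (hx : x ∈ K) (h1 : x ≠ 1) :
    ∃ c ∈ zpowers x, c * c = 1 ∧ c ≠ 1 := by
  obtain ⟨c, hc, e⟩ := exists_orderOf Nat.prime_two
    ((hK.of_le (zpowers_le.2 hx)).dvd_of_ne_bot (zpowers_ne_bot' h1))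
  refine ⟨c, hc, by rw [← pow_two, ← e, pow_orderOf_eq_one], ne_one_of_ord Nat.prime_two e⟩

theorem pg_pow (hK : Pg[2] K) (hx : x ∈ K) : ∃ k : ℕ, x ^ 2 ^ k = 1 := by
  have := Fact.mk Nat.prime_two
  obtain ⟨k, hk⟩ := hK.isPGroup ⟨x, hx⟩
  exact ⟨k, congrArg Subtype.val hk⟩

omit [Finite G]

structure FG (z u : G) : Prop where
  z2 : z * z = 1
  u2 : u * u = 1
  c : u * z = z * u
  z1 : z ≠ 1
  u1 : u ≠ 1
  ne : u ≠ z

theorem FG.symm (F : FG z u) : FG u z := ⟨F.u2, F.z2, F.c.symm, F.u1, F.z1, F.ne.symm⟩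
theorem FG.zi (F : FG z u) : z⁻¹ = z := inv_eq_of_mul_eq_one_left F.z2
theorem FG.ui (F : FG z u) : u⁻¹ = u := inv_eq_of_mul_eq_one_left F.u2
theorem FG.zz (F : FG z u) (x : G) : z * (z * x) = x := by rw [← mul_assoc, F.z2, one_mul]
theorem FG.uu (F : FG z u) (x : G) : u * (u * x) = x := by rw [← mul_assoc, F.u2, one_mul]
theorem FG.uz (F : FG z u) (x : G) : u * (z * x) = z * (u * x) := by
  rw [← mul_assoc, F.c, mul_assoc]
theorem FG.zu1 (F : FG z u) : z * u ≠ 1 := fun e => F.ne (by rw [← F.zz u, e, mul_one])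
theorem FG.zuz (F : FG z u) : z * u ≠ z := fun e => F.u1 (by simpa using e)
theorem FG.zuu (F : FG z u) : z * u ≠ u := fun e => F.z1 (by simpa using e)
theorem FG.zu2 (F : FG z u) : z * u * (z * u) = 1 := by
  simp only [mul_assoc, F.uz, F.zz, F.u2]

def FG.V (F : FG z u) : Subgroup G where
  carrier := {x | x = 1 ∨ x = z ∨ x = u ∨ x = z * u}
  one_mem' := Or.inl rfl
  mul_mem' := by
    rintro a b (rfl | rfl | rfl | rfl) (rfl | rfl | rfl | rfl) <;>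
      simp [mul_assoc, F.z2, F.u2, F.c, F.zz, F.uz]
  inv_mem' := by
    rintro a (rfl | rfl | rfl | rfl) <;> simp [F.zi, F.ui, F.c]

theorem FG.mem (F : FG z u) : x ∈ F.V ↔ x = 1 ∨ x = z ∨ x = u ∨ x = z * u := Iff.rfl
theorem FG.zm (F : FG z u) : z ∈ F.V := Or.inr (Or.inl rfl)
theorem FG.um (F : FG z u) : u ∈ F.V := Or.inr (Or.inr (Or.inl rfl))
theorem FG.zum (F : FG z u) : z * u ∈ F.V := Or.inr (Or.inr (Or.inr rfl))
theorem FG.ne_bot (F : FG z u) : F.V ≠ ⊥ := ne_bot_of_mem F.zm F.z1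

theorem FG.le (F : FG z u) (h1 : z ∈ K) (h2 : u ∈ K) : F.V ≤ K := by
  rintro a (rfl | rfl | rfl | rfl)
  exacts [one_mem _, h1, h2, mul_mem h1 h2]

theorem FG.sq (F : FG z u) (hx : x ∈ F.V) : x * x = 1 := by
  rcases hx with rfl | rfl | rfl | rfl
  exacts [mul_one _, F.z2, F.u2, F.zu2]

theorem FG.cent (F : FG z u) : C[F.V] = C1[z] ⊓ C1[u] := by
  refine le_antisymm (le_inf (cent_le_cent1 F.zm) (cent_le_cent1 F.um)) (cent_comm.1 (F.le ?_ ?_))
  · exact le_cent1.1 inf_le_left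
  · exact le_cent1.1 inf_le_right

theorem FG.le_cent (F : FG z u) : F.V ≤ C1[z] ⊓ C1[u] :=
  F.le ⟨cent1_self z, mem_cent1.2 F.c.symm⟩ ⟨mem_cent1.2 F.c, cent1_self u⟩

theorem FG.norm_le (F : FG z u) : N[F.V] ≤ N[C1[z] ⊓ C1[u]] := by
  rw [← F.cent]; exact norm_cent le_rfl

theorem conj_mul' (g x y : G) : g * (x * y) * g⁻¹ = g * x * g⁻¹ * (g * y * g⁻¹) := by group

theorem conj_of_cent (h : g ∈ C1[x]) : g * x * g⁻¹ = x := by
  rw [mem_cent1.1 h, mul_inv_cancel_right]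

theorem cent_of_conj (h : g * x * g⁻¹ = x) : g ∈ C1[x] := by
  rw [mem_cent1, ← mul_inv_eq_iff_eq_mul]; exact h

theorem FG.card (F : FG z u) : Nat.card F.V = 4 := by
  classical
  have : (F.V : Set G) = ({1, z, u, z * u} : Finset G) := by
    ext x; simp [F.mem]
  rw [← SetLike.coe_sort_coe, this, Finset.coe_sort_coe, Nat.card_eq_fintype_card, Fintype.card_coe,
    Finset.card_eq_four]
  exact ⟨_, _, _, _, F.z1.symm, F.u1.symm, F.zu1.symm, F.ne.symm, F.zuz.symm, F.zuu.symm, rfl⟩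

theorem FG.pg (F : FG z u) : Pg[2] F.V :=
  isPi_of_card_eq_pow Nat.prime_two (n := 2) F.card

variable [Finite G]

theorem FG.mem_norm (F : FG z u) (h1 : g * z * g⁻¹ ∈ F.V) (h2 : g * u * g⁻¹ ∈ F.V) :
    g ∈ N[F.V] := by
  refine mem_norm_of_cj_le (cj_le_forall.2 ?_)
  rintro a (rfl | rfl | rfl | rfl)
  · simp
  · exact h1
  · exact h2
  · rw [conj_mul']; exact mul_mem h1 h2

theorem FG.conj_u (F : FG z u) (h1 : g ∈ C1[z]) (h2 : g ∈ N[F.V]) :
    g * u * g⁻¹ = u ∨ g * u * g⁻¹ = z * u := by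
  rcases conj_mem h2 F.um with e | e | e | e
  · exact absurd (conj_eq_one_iff.1 e) F.u1
  · rw [← conj_of_cent h1] at e
    exact absurd (by simpa using e) F.ne
  · exact Or.inl e
  · exact Or.inr e

structure TR (z u w : G) : Prop where
  w3 : w ^ 3 = 1
  wz : w * z * w⁻¹ = u
  wu : w * u * w⁻¹ = z * u

theorem exists_tr (F : FG z u) (hR : Pg[2] (C1[z] ⊓ C1[u])) (h1 : g * z * g⁻¹ = u)
    (h2 : g * u * g⁻¹ = z * u) : ∃ w, TR z u w := by
  have h3 : g * (z * u) * g⁻¹ = z := by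
    rw [conj_mul', h1, h2, F.uz, F.u2, mul_one]
  have e (x : G) : g ^ 3 * x * (g ^ 3)⁻¹ = g * (g * (g * x * g⁻¹) * g⁻¹) * g⁻¹ := by
    rw [pow_succ, pow_two]; group
  have hm : g ^ 3 ∈ C1[z] ⊓ C1[u] :=
    ⟨cent_of_conj (by rw [e, h1, h2, h3]), cent_of_conj (by rw [e, h2, h3, h1])⟩
  obtain ⟨k, hk⟩ := pg_pow hR hm
  obtain ⟨m, hm4⟩ : ∃ m, 4 ^ k = 3 * m + 1 := ⟨4 ^ k / 3, by
    have : 4 ^ k % 3 = 1 := by simp [Nat.pow_mod]
    omega⟩
  have hc : (g ^ 3) ^ m ∈ C1[z] ⊓ C1[u] := pow_mem hm m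
  have e2 (x : G) : g ^ 4 ^ k * x * (g ^ 4 ^ k)⁻¹ =
      (g ^ 3) ^ m * (g * x * g⁻¹) * ((g ^ 3) ^ m)⁻¹ := by
    rw [hm4, pow_succ, pow_mul]; group
  refine ⟨g ^ 4 ^ k, ?_, ?_, ?_⟩
  · rw [← pow_mul, mul_comm, pow_mul, show 4 ^ k = 2 ^ k * 2 ^ k from mul_pow 2 2 k, pow_mul, hk,
      one_pow]
  · rw [e2, h1, conj_of_cent hc.2]
  · rw [e2, h2, conj_mul', conj_of_cent hc.1, conj_of_cent hc.2]

omit [Finite G] in
theorem TR.wzu (T : TR z u w) (F : FG z u) : w * (z * u) * w⁻¹ = z := by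
  rw [conj_mul', T.wz, T.wu, F.uz, F.u2, mul_one]

omit [Finite G] in
theorem TR.ord (T : TR z u w) (F : FG z u) : orderOf w = 3 :=
  have := Fact.mk Nat.prime_three
  orderOf_eq_prime T.w3 (by rintro rfl; exact F.ne (by simpa using T.wz.symm))

theorem TR.norm (T : TR z u w) (F : FG z u) : w ∈ N[F.V] :=
  F.mem_norm (T.wz ▸ F.um) (T.wu ▸ F.zum)

omit [Finite G] in
theorem TR.not_norm (T : TR z u w) (F : FG z u) : z ∉ N[zpowers w] := by
  intro h
  have e : z * w * z⁻¹ = w * u := by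
    have : z * w = w * (z * u) := (mul_inv_eq_iff_eq_mul.1 (T.wzu F)).symm
    rw [this, F.zi, mul_assoc, mul_assoc, F.c, F.zz]
  have h2 := conj_mem h (mem_zpowers w)
  rw [e, mul_mem_cancel_left (mem_zpowers w)] at h2
  have h3 : orderOf u ∣ 3 := T.ord F ▸ orderOf_dvd_of_mem_zpowers h2
  rw [ord2 F.u2 F.u1] at h3
  omega

end H16.H11.MX
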