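import Cfsg.Agent.H11.MN1

/-! The centralizer of a 2-central involution is not a 2-group. -/

set_option autoImplicit false
set_option linter.unusedSectionVars false

namespace H16.H11.MX

open Subgroup Cfsg H1 H15

variable {G : Type*} [Group G] [Finite G] {p q r : ℕ} {H K L M U X N : Subgroup G}
  {a b c g j s t u v w x y z : G}

theorem sy_conj_cent (hz : Sy[2] C1[z] ⊤) (hc : IsConj z u) : Sy[2] C1[u] ⊤ := by
  obtain ⟨g, rfl⟩ := isConj_iff.1 hc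
  rw [cent1_cj]; exact hl_cj_top hz g

theorem MN.normR (h : MN G) (F : FG z u) (hR : Pg[2] (C1[z] ⊓ C1[u])) :
    N[C1[z] ⊓ C1[u]] = N[F.V] :=
  ceq (h.pg Nat.prime_two F.ne_bot F.pg)
    (h.pg Nat.prime_two (ne_bot_of_le F.ne_bot F.le_cent) hR).1 F.norm_le

theorem MN.swap (h : MN G) (F : FG z u) (hz : Sy[2] C1[z] ⊤) (hc : IsConj z u) :
    ∃ s ∈ C1[z], s * u * s⁻¹ = z * u := by
  have := Fact.mk Nat.prime_two
  have hlt : C1[z] ⊓ C1[u] < C1[z] :=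
    lt_of_le_of_ne inf_le_left fun e => h.cent_nle F.z2 F.z1 hc F.ne (inf_eq_left.1 e)
  obtain ⟨s, ⟨h1, h2⟩, h3⟩ := SetLike.exists_of_lt (pg_lt_norm (hl_pi hz) hlt)
  rw [h.normR F (hl_pi hz).inf_left] at h2
  exact ⟨s, h1, (F.conj_u h1 h2).resolve_left fun e => h3 ⟨h1, cent_of_conj e⟩⟩

theorem MN.tr (h : MN G) (F : FG z u) (hz : Sy[2] C1[z] ⊤) (hc : IsConj z u) :
    ∃ w, TR z u w := by
  obtain ⟨s, h1, h2⟩ := h.swap F hz hc
  obtain ⟨t, h3, h4⟩ := h.swap F.symm (sy_conj_cent hz hc) hc.symm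
  have e (x : G) : s * t * x * (s * t)⁻¹ = s * (t * x * t⁻¹) * s⁻¹ := by group
  refine exists_tr F (hl_pi hz).inf_left (g := s * t) ?_ ?_
  · rw [e, h4, conj_mul', h2, conj_of_cent h1, mul_assoc, F.c, F.zz]
  · rw [e, conj_of_cent h3, h2]

theorem cent_of_norms (hp : p.Prime) (hK : Pg[2] K) (hw : orderOf w = p) (p2 : p ≠ 2)
    (h1 : w ∈ N[K]) (hx : x ∈ K) (h2 : x ∈ N[zpowers w]) : x ∈ C1[w] := by
  have a1 : x * w * x⁻¹ * w⁻¹ ∈ zpowers w :=
    mul_mem (conj_mem h2 (mem_zpowers w)) (inv_mem (mem_zpowers w))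
  have a2 : x * w * x⁻¹ * w⁻¹ ∈ K := by
    have := mul_mem hx (conj_mem h1 (inv_mem hx))
    simpa only [mul_assoc] using this
  have := eq_one_of_mem_bot (hK.inf_eq_bot ((pg_zp hp hw).compl_of_ne p2)) ⟨a2, a1⟩
  exact cent_of_conj (mul_inv_eq_one.1 this)

theorem MN.triv (h : MN G) (F : FG z u) (T : TR z u w) (hR : Pg[2] (C1[z] ⊓ C1[u]))
    (hx : x ∈ C1[z] ⊓ C1[u]) (h2 : x ∈ N[zpowers w]) : x = 1 := by
  by_contra h1
  have h3 := cent_of_norms Nat.prime_three hR (T.ord F) (by norm_num) (F.norm_le (T.norm F)) hx h2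
  obtain ⟨c, hc, c2, c1⟩ := exists_inv hR hx h1
  have e := h.normB c2 c1 Nat.prime_three (by norm_num) (T.ord F)
    (cent1_comm.1 (zpowers_le.2 h3 hc))
  exact T.not_norm F (e ▸ cent1_comm.1 (zpowers_le.2 hx hc).1)

theorem MN.frV (h : MN G) (F : FG z u) (T : TR z u w) (hg : g ∈ N[F.V]) :
    ∃ v ∈ F.V, v * g ∈ N[zpowers w] :=
  h.fr Nat.prime_two Nat.prime_three (by norm_num) F.ne_bot F.pg (pg_zp Nat.prime_three (T.ord F))
    (zpowers_le.2 (T.norm F)) hg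

theorem MN.Req (h : MN G) (F : FG z u) (T : TR z u w) (hR : Pg[2] (C1[z] ⊓ C1[u])) :
    C1[z] ⊓ C1[u] ≤ F.V := fun x hx => by
  obtain ⟨v, hv, h2⟩ := h.frV F T (cent_le_norm _ (F.cent ▸ hx))
  have := h.triv F T hR (mul_mem (F.le_cent hv) hx) h2
  rw [eq_inv_of_mul_eq_one_right this]
  exact inv_mem hv

structure JJ (z u w j : G) : Prop where
  j2 : j * j = 1
  jz : j ∈ C1[z]
  ju : j * u * j⁻¹ = z * u
  jw : j * w * j⁻¹ = w⁻¹

theorem MN.jj (h : MN G) (F : FG z u) (hz : Sy[2] C1[z] ⊤) (hc : IsConj z u) (T : TR z u w) :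
    ∃ j, JJ z u w j := by
  obtain ⟨s, h1, h2⟩ := h.swap F hz hc
  obtain ⟨v, hv, h3⟩ := h.frV F T (F.mem_norm (g := s) ((conj_of_cent h1).symm ▸ F.zm) (h2 ▸ F.zum))
  have hv' := F.le_cent hv
  have a1 : v * s ∈ C1[z] := mul_mem hv'.1 h1
  have a2 : v * s * u * (v * s)⁻¹ = z * u := by
    rw [show v * s * u * (v * s)⁻¹ = v * (s * u * s⁻¹) * v⁻¹ by group, h2, conj_mul',
      conj_of_cent hv'.1, conj_of_cent hv'.2]
  generalize v * s = j at h3 a1 a2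
  refine ⟨j, h.triv F T (hl_pi hz).inf_left ⟨mul_mem a1 a1, cent_of_conj ?_⟩ (mul_mem h3 h3),
    a1, a2, ?_⟩
  · rw [show j * j * u * (j * j)⁻¹ = j * (j * u * j⁻¹) * j⁻¹ by group, a2, conj_mul', a2,
      conj_of_cent a1, F.zz]
  · rcases mem_zp3 T.w3 (conj_mem h3 (mem_zpowers w)) with e | e | e
    · exact absurd (conj_eq_one_iff.1 e) (ne_one_of_ord Nat.prime_three (T.ord F))
    · exfalso
      have e1 : j * (w * z * w⁻¹) * j⁻¹ = (j * w * j⁻¹) * (j * z * j⁻¹) * (j * w * j⁻¹)⁻¹ := by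
        group
      rw [e, conj_of_cent a1, T.wz, a2] at e1
      exact F.zuu e1
    · exact e

theorem JJ.cases (J : JJ z u w j) (F : FG z u) (hy : y * y = 1) (h : y * j ∈ F.V) :
    y = j ∨ y = u * j * u⁻¹ := by
  have ji : j⁻¹ = j := inv_eq_of_mul_eq_one_left J.j2
  have e : ∀ v, y * j = v → y = v * j := fun v e => by rw [← e, mul_assoc, J.j2, mul_one]
  have e2 : ∀ v, y * j = v → v * (j * v * j⁻¹) = 1 := fun v e' => by
    rw [← hy, e v e', ji]; simp only [mul_assoc]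
  rcases h with h | h | h | h
  · left; simpa using e _ h
  · right
    have : u * j = j * (z * u) := by
      rw [← J.ju, ji]; simp only [← mul_assoc, J.j2, one_mul]
    rw [e _ h, this, F.ui, mul_assoc, mul_assoc, F.u2, mul_one, mem_cent1.1 J.jz]
  · have := e2 _ h
    rw [J.ju, F.uz, F.u2, mul_one] at this
    exact absurd this F.z1
  · have := e2 _ h
    rw [conj_mul', J.ju, conj_of_cent J.jz, F.zz, mul_assoc, F.u2, mul_one] at this
    exact absurd this F.z1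

theorem FG.isConj (F : FG z u) (T : TR z u w) (hx : x ∈ F.V) (h1 : x ≠ 1) : IsConj z x := by
  rcases hx with rfl | rfl | rfl | rfl
  · exact absurd rfl h1
  · exact IsConj.refl _
  · exact isConj_iff.2 ⟨w, T.wz⟩
  · exact (isConj_iff.2 ⟨w, T.wz⟩).trans (isConj_iff.2 ⟨w, T.wu⟩)

theorem MN.star (h : MN G) (F : FG z u) (hz : Sy[2] C1[z] ⊤) (hc : IsConj z u)
    (hy : y ∈ C1[z] ⊓ N[F.V]) (y2 : y * y = 1) (y1 : y ≠ 1) : IsConj z y := by
  have := Fact.mk Nat.prime_two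
  obtain ⟨w, T⟩ := h.tr F hz hc
  obtain ⟨j, J⟩ := h.jj F hz hc T
  have hR := h.Req F T (hl_pi hz).inf_left
  have hE : ∀ g ∈ C1[z] ⊓ N[F.V], g ∈ F.V ∨ g * j ∈ F.V := fun g hg => by
    refine (F.conj_u hg.1 hg.2).imp (fun e => hR ⟨hg.1, cent_of_conj e⟩)
      fun e => hR ⟨mul_mem hg.1 J.jz, cent_of_conj ?_⟩
    rw [show g * j * u * (g * j)⁻¹ = g * (j * u * j⁻¹) * g⁻¹ by group, J.ju, conj_mul', e,
      conj_of_cent hg.1, F.zz]
  have hj : ∀ y, y * y = 1 → y * j ∈ F.V → IsConj j y := fun y y2 e => by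
    rcases J.cases F y2 e with rfl | rfl
    exacts [IsConj.refl _, isConj_iff.2 ⟨u, rfl⟩]
  have hlt : C1[z] ⊓ N[F.V] < C1[z] := lt_of_le_of_ne inf_le_left fun e => by
    have e2 := ceq (h.cent F.z2 F.z1) (h.pg Nat.prime_two F.ne_bot F.pg).1 (inf_eq_left.1 e)
    exact F.ne (by rw [← T.wz, conj_of_cent (e2 ▸ T.norm F)])
  obtain ⟨s, ⟨h1, h2⟩, h3⟩ := SetLike.exists_of_lt (pg_lt_norm (hl_pi hz) hlt)
  have hu : s * u * s⁻¹ ∈ C1[z] ⊓ N[F.V] := conj_mem h2 ⟨mem_cent1.2 F.c, le_norm _ F.um⟩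
  have hzj : IsConj z j := by
    refine (hc.trans (isConj_iff.2 ⟨s, rfl⟩)).trans (hj _ ?_ ((hE _ hu).resolve_left fun e =>
      h3 ⟨h1, F.mem_norm ((conj_of_cent h1).symm ▸ F.zm) e⟩)).symm
    rw [← conj_mul', F.u2, mul_one, mul_inv_cancel]
  rcases hE y hy with e | e
  exacts [F.isConj T e y1, hzj.trans (hj y y2 e)]

theorem MN.not_sy (h : MN G) (F : FG z u) (hz : Sy[2] C1[z] ⊤) (hc : IsConj z u) : False := by
  obtain ⟨w, T⟩ := h.tr F hz hc
  obtain ⟨j, J⟩ := h.jj F hz hc T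
  have w3 := T.ord F
  have w1 := ne_one_of_ord Nat.prime_three w3
  have wi : w⁻¹ ≠ w := fun e => by
    have : orderOf w ∣ 2 := orderOf_dvd_of_pow_eq_one (by rw [pow_two]; nth_rw 1 [← e]; simp)
    rw [w3] at this; omega
  have jw : j ∉ C1[w] := fun e => wi (by rw [← J.jw, conj_of_cent e])
  have j1 : j ≠ 1 := by rintro rfl; exact jw (one_mem _)
  have jn : j ∈ N[zpowers w] := mem_norm_of_cj_le (by
    rw [← zpowers_cj, J.jw]; exact zpowers_le.2 (inv_mem (mem_zpowers w)))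
  have jV : j ∈ N[F.V] := F.mem_norm ((conj_of_cent J.jz).symm ▸ F.zm) (J.ju ▸ F.zum)
  have hzj : IsConj z j := h.star F hz hc ⟨J.jz, jV⟩ J.j2 j1
  have hj := sy_conj_cent hz hzj
  have hX := h.zp Nat.prime_three w3
  obtain ⟨g, g1, g2⟩ : ∃ g ∈ N[zpowers w], g ∉ N[F.V] := by
    by_contra! e
    exact T.not_norm F (ceq hX (h.pg Nat.prime_two F.ne_bot F.pg).1 e ▸ le_norm _ F.zm)
  obtain ⟨v, hv, h1⟩ := h.fr Nat.prime_three Nat.prime_two (by norm_num) (zpowers_ne_bot' w1)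
    (pg_zp Nat.prime_three w3) (pg_zp2 J.j2 j1) (zpowers_le.2 jn) g1
  rw [norm_zp2 J.j2 j1] at h1
  have h2 : v * g ∈ N[zpowers w] := mul_mem (le_norm _ hv) g1
  have h3 : v * g ∉ N[F.V] := fun e =>
    g2 ((mul_mem_cancel_left (zpowers_le.2 (T.norm F) hv)).1 e)
  generalize v * g = d at h1 h2 h3
  obtain ⟨d, d1, d2, d3⟩ : ∃ d ∈ C1[j], d ∈ C1[w] ∧ d ≠ 1 := by
    rcases mem_zp3 T.w3 (conj_mem h2 (mem_zpowers w)) with e | e | e
    · exact absurd (conj_eq_one_iff.1 e) w1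
    · exact ⟨d, h1, cent_of_conj e, by rintro rfl; exact h3 (one_mem _)⟩
    · refine ⟨d * j, mul_mem h1 (cent1_self j), cent_of_conj ?_, fun e => h3 ?_⟩
      · rw [show d * j * w * (d * j)⁻¹ = d * (j * w * j⁻¹) * d⁻¹ by group, J.jw,
          show d * w⁻¹ * d⁻¹ = (d * w * d⁻¹)⁻¹ by group, e, inv_inv]
      · rw [eq_inv_of_mul_eq_one_left e]; exact inv_mem jV
  obtain ⟨c, hc', c2, c1⟩ := exists_inv (hl_pi hj) d1 d3
  have cj : c ∈ C1[j] := zpowers_le.2 d1 hc'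
  have cw : c ∈ C1[w] := zpowers_le.2 d2 hc'
  have nc : ∀ y, IsConj j y → y ∉ C1[w] := fun y hy e => by
    have := orderOf_dvd_card (cent1_comm.1 e)
    rw [w3] at this
    exact absurd (hl_pi (sy_conj_cent hj hy) 3 Nat.prime_three this) (by simp)
  have F1 : FG c j := ⟨c2, J.j2, (mem_cent1.1 cj).symm, c1, j1, by rintro rfl; exact jw cw⟩
  have hN := h.pg Nat.prime_two F1.ne_bot F1.pg
  obtain ⟨g, g1, g2⟩ : ∃ g ∈ N[F1.V], g ∉ C1[c] := by
    by_contra! e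
    have e2 := conj_mem (ceq hN (h.cent c2 c1).1 e ▸ cent1_comm.1 cw) F1.um
    have e3 : w * j * w⁻¹ * j ∈ F1.V := mul_mem e2 F1.um
    have e4 : w * j * w⁻¹ * j = w⁻¹ := by
      have ji : j⁻¹ = j := inv_eq_of_mul_eq_one_left J.j2
      have : j * w⁻¹ * j⁻¹ = w := by
        rw [show j * w⁻¹ * j⁻¹ = (j * w * j⁻¹)⁻¹ by group, J.jw, inv_inv]
      rw [ji] at this
      rw [mul_assoc w, mul_assoc w, this, eq_inv_iff_mul_eq_one, ← T.w3, pow_succ, pow_two]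
    rw [e4] at e3
    exact wi (inv_eq_of_mul_eq_one_left (F1.sq (inv_mem_iff.1 e3)))
  have hcc : IsConj c (c * j) := by
    rcases conj_mem g1 F1.zm with e | e | e | e
    · exact absurd (conj_eq_one_iff.1 e) c1
    · exact absurd (cent_of_conj e) g2
    · exact absurd cw (nc c (isConj_iff.2 ⟨g, e⟩).symm)
    · exact isConj_iff.2 ⟨g, e⟩
  have hle : N[F1.V] ≤ C1[j] := fun g hg => by
    rcases conj_mem hg F1.um with e | e | e | e
    · exact absurd (conj_eq_one_iff.1 e) j1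
    · exact absurd cw (nc c (isConj_iff.2 ⟨g, e⟩))
    · exact cent_of_conj e
    · exact absurd cw (nc c ((isConj_iff.2 ⟨g, e⟩).trans hcc.symm))
  have zj : z ∈ C1[j] := cent1_comm.1 J.jz
  have zn : z ∈ N[F1.V] := ceq hN (h.cent J.j2 j1).1 hle ▸ zj
  have F2 : FG j z := ⟨J.j2, F.z2, mem_cent1.1 zj, j1, F.z1, fun e => F.zuu (by
    rw [← J.ju, ← e, conj_of_cent (mem_cent1.2 F.c.symm)])⟩
  refine nc c (h.star F2 hj hzj.symm ⟨cj, F2.mem_norm ((conj_of_cent cj).symm ▸ F2.zm) ?_⟩ c2 c1) cw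
  rcases F1.symm.conj_u zj (by
    rw [show F1.symm.V = F1.V from le_antisymm (F1.symm.le F1.um F1.zm)
      (F1.le F1.symm.um F1.symm.zm)]; exact zn) with e | e
  · rw [conj_of_cent (cent1_comm.1 (cent_of_conj e))]; exact F2.um
  · have : c * z * c⁻¹ = j * z := by
      have e2 : z * c = j * c * z := mul_inv_eq_iff_eq_mul.1 e
      rw [F1.zi, mul_assoc, e2, F1.c, mul_assoc c j, F1.zz]
    rw [this]; exact F2.zum

end H16.H11.MX
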