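import Cfsg.Agent.H11.MN2

/-! The Sylow 2-subgroup is a four-group. -/

set_option autoImplicit false
set_option linter.unusedSectionVars false

namespace H16.H11.MX

open Subgroup Cfsg H1 H15

variable {G : Type*} [Group G] [Finite G] {p q r : ℕ} {H K L M U X N : Subgroup G}
  {a b c g i j n s t u v w x y z : G}

theorem inverts (hr : r.Prime) (hb : orderOf b = r) (i2 : i * i = 1) (hi : i ∈ N[zpowers b])
    (h : i ∉ C1[b]) : i * b * i⁻¹ = b⁻¹ := by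
  have h1 := conj_mem hi (mem_zpowers b)
  by_contra e
  have e1 : b * (i * b * i⁻¹) ≠ 1 := fun e1 => e (eq_inv_of_mul_eq_one_right e1)
  have e2 := zpowers_eq_of_prime (K := zpowers b) (by rwa [card_zpowers, hb])
    (mul_mem (mem_zpowers b) h1) e1
  refine h (cent1_comm.1 (zpowers_le.1 (e2 ▸ zpowers_le.2 (cent1_comm.1 (cent_of_conj ?_)))))
  obtain ⟨k, hk⟩ := h1
  have e3 : i * (i * b * i⁻¹) * i⁻¹ = b := by
    rw [show i * (i * b * i⁻¹) * i⁻¹ = i * i * b * (i * i)⁻¹ by group, i2]; simp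
  rw [conj_mul', e3, ← hk]
  exact ((Commute.refl b).zpow_right k).symm

omit [Finite G] in
theorem cent_of_inv (h1 : i * b * i⁻¹ = b⁻¹) (h2 : j * b * j⁻¹ = b⁻¹) : i * j ∈ C1[b] :=
  cent_of_conj (by
    rw [show i * j * b * (i * j)⁻¹ = i * (j * b * j⁻¹) * i⁻¹ by group, h2,
      show i * b⁻¹ * i⁻¹ = (i * b * i⁻¹)⁻¹ by group, h1, inv_inv])

omit [Finite G] in
theorem pg_of_pow (hp : p.Prime) {k : ℕ} (h : x ^ p ^ k = 1) : Pg[p] (zpowers x) := fun l hl hd => by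
  rw [card_zpowers] at hd
  exact (Nat.prime_dvd_prime_iff_eq hl hp).1
    (hl.dvd_of_dvd_pow (hd.trans (orderOf_dvd_of_pow_eq_one h)))

theorem mem_of_sq (hT : Sy[2] K ⊤) (hg : g ∈ N[K]) (h : g * g ∈ K) : g ∈ K := by
  obtain ⟨k, hk⟩ := pg_pow (hl_pi hT) h
  refine zpowers_le.1 (le_hl_of_norm' hT le_top (zpowers_le.2 hg)
    (pg_of_pow Nat.prime_two (k := k + 1) ?_))
  rw [pow_succ', pow_mul, pow_two, hk]

theorem MN.pgR (h : MN G) (F : FG z u) (hc : IsConj z u) : Pg[2] (C1[z] ⊓ C1[u]) :=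
  isPi_of_forall_orderOf fun x hx hp => by
    by_contra e
    exact h.cent_nle F.z2 F.z1 hc F.ne (by
      rw [← h.normB F.z2 F.z1 hp e rfl hx.1, h.normB F.u2 F.u1 hp e rfl hx.2])

structure BB (z u w b : G) (r : ℕ) : Prop where
  F : FG z u
  T : TR z u w
  rp : r.Prime
  r2 : r ≠ 2
  bo : orderOf b = r
  bz : b ∈ C1[z]
  sy : Sy[2] F.V ⊤
  card : Nat.card C1[z] = 4 * r
  nv : C1[z] ⊓ N[F.V] ≤ F.V

theorem MN.bb (h : MN G) (F : FG z u) (hc : IsConj z u) (hS : Sy[2] K ⊤) (hK : K ≤ C1[z])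
    (hr : r.Prime) (r2 : r ≠ 2) (bo : orderOf b = r) (bz : b ∈ C1[z]) : ∃ w, BB z u w b r := by
  have := Fact.mk Nat.prime_two
  have hR := h.pgR F hc
  have hB := h.normB F.z2 F.z1 hr r2 bo bz
  have b1 := ne_one_of_ord hr bo
  have uz : u ∈ C1[z] := mem_cent1.2 F.c
  have hBo : Pg'[2] (zpowers b) := (pg_zp hr bo).compl_of_ne r2
  have hn : C1[z] ⊓ C1[u] ≤ N[zpowers b] := hB ▸ inf_le_left
  have hsup : zpowers b ⊔ (C1[z] ⊓ C1[u]) = C1[z] := by
    refine le_antisymm (sup_le (zpowers_le.2 bz) inf_le_left) fun g hg => ?_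
    obtain ⟨v, hv, e⟩ := h.fr hr Nat.prime_two r2 (zpowers_ne_bot' b1) (pg_zp hr bo)
      (pg_zp2 F.u2 F.u1) (zpowers_le.2 (hB ▸ uz)) (hB ▸ hg)
    rw [norm_zp2 F.u2 F.u1] at e
    exact (mul_mem_cancel_left (mem_sup_left hv)).1
      (mem_sup_right ⟨mul_mem (zpowers_le.2 bz hv) hg, e⟩)
  have hT : Sy[2] (C1[z] ⊓ C1[u]) ⊤ := by
    have e := hl_sup_right hn hBo hR
    rw [hsup] at e
    exact hl_of_card hS le_top (hl_card_eq e (hl_of_le hS hK le_top))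
  obtain ⟨n, nT, nz⟩ : ∃ n ∈ N[C1[z] ⊓ C1[u]], n * z * n⁻¹ = u := by
    obtain ⟨P, hP⟩ := sylow_of_sy_top hT
    rw [← hP]
    exact H6.burnside_fusion_comm P (fun s hs => mem_cent1.1 (hP ▸ hs).1)
      (fun s hs => mem_cent1.1 (hP ▸ hs).2) hc
  have ub : u ∉ C1[b] := fun e =>
    b1 (eq_one_of_mem_bot (hR.inf_eq_bot hBo) ⟨⟨bz, cent1_comm.1 e⟩, mem_zpowers b⟩)
  have iu : ∀ i ∈ C1[z] ⊓ C1[u], i * i = 1 → i ∉ C1[b] → i * u ∈ C1[b] ∧ i * u * (i * u) = 1 :=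
    fun i hi i2 e => ⟨cent_of_inv (inverts hr bo i2 (hn hi) e) (inverts hr bo F.u2 (hB ▸ uz) ub), by
      rw [mul_assoc, ← mul_assoc u, ← mem_cent1.1 hi.2, mul_assoc, F.u2, mul_one, i2]⟩
  have cA : ∀ i, i * i = 1 → i ≠ 1 → i ∈ C1[b] → C1[i] = C1[z] := fun i i2 i1 e => by
    rw [← hB, h.normB i2 i1 hr r2 bo (cent1_comm.1 e)]
  have nle := h.cent_nle F.u2 F.u1 hc.symm F.ne.symm
  have cB : ∀ i ∈ C1[z] ⊓ C1[u], i * i = 1 → i ∈ C1[b] → i = 1 ∨ i = z := fun i hi i2 e => by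
    refine or_iff_not_imp_left.2 fun i1 => ?_
    have e1 : C1[n * i * n⁻¹] = C1[u] := by rw [cent1_cj, cA i i2 i1 e, ← cent1_cj, nz]
    have e2 : n * i * n⁻¹ * (n * i * n⁻¹) = 1 := by rw [← conj_mul', i2]; simp
    obtain ⟨a1, a2⟩ := iu _ (conj_mem nT hi) e2 fun e3 =>
      nle (by rw [← e1, cA _ e2 (conj_eq_one_iff.not.2 i1) e3])
    by_cases e3 : n * i * n⁻¹ * u = 1
    · have e4 := eq_inv_of_mul_eq_one_left e3
      rw [F.ui, ← nz] at e4
      simpa using e4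
    · refine absurd (fun x hx => ?_) nle
      rw [← cA _ a2 e3 a1]
      exact cent1_comm.1 (mul_mem (cent1_comm.1 (e1 ▸ hx)) (cent1_comm.1 hx))
  have cC : ∀ i ∈ C1[z] ⊓ C1[u], i * i = 1 → i ∈ F.V := fun i hi i2 => by
    by_cases e : i ∈ C1[b]
    · rcases cB i hi i2 e with rfl | rfl
      exacts [one_mem _, F.zm]
    · obtain ⟨a1, a2⟩ := iu i hi i2 e
      refine (mul_mem_cancel_right F.um).1 ?_
      rcases cB _ (mul_mem hi (F.le_cent F.um)) a2 a1 with e | e <;> rw [e]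
      exacts [one_mem _, F.zm]
  have nn (g x : G) : g * g * x * (g * g)⁻¹ = g * (g * x * g⁻¹) * g⁻¹ := by group
  have nu : n * u * n⁻¹ = z * u := by
    rcases cC _ (conj_mem nT (F.le_cent F.um)) (by rw [← conj_mul', F.u2]; simp) with e | e | e | e
    · exact absurd (conj_eq_one_iff.1 e) F.u1
    · have := mem_of_sq hT nT ⟨cent_of_conj (by rw [nn, nz, e]), cent_of_conj (by rw [nn, e, nz])⟩
      exact absurd (by rw [← nz, conj_of_cent this.1]) F.ne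
    · nth_rw 2 [← nz] at e
      exact absurd (by simpa using e) F.ne
    · exact e
  have sz : ∀ s ∈ C1[z] ⊓ C1[u], s * s = z → s ∈ C1[b] := fun s hs e => by
    have hs2 : Pg[2] (zpowers s) := hR.of_le (zpowers_le.2 hs)
    have s1 : s ≠ 1 := by rintro rfl; exact F.z1 (by simpa using e.symm)
    have e1 := ceq (h.pg Nat.prime_two (zpowers_ne_bot' s1) hs2)
      (h.zp Nat.prime_two (ord2 F.z2 F.z1)).1 (norm_le_norm_cyclic (cyclic_zpowers s)
        (zpowers_le.2 (e ▸ mul_mem (mem_zpowers s) (mem_zpowers s))))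
    rw [norm_zp2 F.z2 F.z1] at e1
    exact cent_of_norms hr hs2 bo r2 (e1 ▸ bz) (mem_zpowers s) (hn hs)
  have nsz : ∀ s ∈ C1[z] ⊓ C1[u], s * s ≠ z := fun s hs e => by
    refine ub ((mul_mem_cancel_left (sz s hs e)).1 (sz _ (mul_mem hs (F.le_cent F.um)) ?_))
    rw [mul_assoc, ← mul_assoc u, ← mem_cent1.1 hs.2, mul_assoc, F.u2, mul_one, e]
  have sq : ∀ k : ℕ, ∀ s ∈ C1[z] ⊓ C1[u], s ^ 2 ^ k = 1 → s * s = 1 := fun k => by
    induction k with
    | zero => intro s _ e; simp at e; simp [e]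
    | succ k ih =>
      intro s hs e
      rw [pow_succ', pow_mul, pow_two] at e
      rcases cC _ (mul_mem hs hs) (ih _ (mul_mem hs hs) e) with e | e | e | e
      · exact e
      · exact absurd e (nsz s hs)
      · refine absurd ?_ (nsz _ (conj_mem' nT hs))
        rw [show n⁻¹ * s * n * (n⁻¹ * s * n) = n⁻¹ * (s * s) * n by group, e, ← nz]; group
      · refine absurd ?_ (nsz _ (conj_mem nT hs))
        rw [← conj_mul', e, conj_mul', nz, nu, F.uz, F.u2, mul_one]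
  have hV : C1[z] ⊓ C1[u] = F.V := le_antisymm
    (fun s hs => (pg_pow hR hs).elim fun k e => cC s hs (sq k s hs e)) F.le_cent
  obtain ⟨w, T⟩ := exists_tr F hR nz nu
  refine ⟨w, F, T, hr, r2, bo, bz, hV ▸ hT, ?_, fun g hg => ?_⟩
  · rw [← hsup, card_sup_of_inf_bot (Or.inr hn) (hBo.inf_eq_bot' hR), card_zpowers, bo, hV, F.card,
      mul_comm]
  · rcases F.conj_u hg.1 hg.2 with e | e
    · exact hV ▸ ⟨hg.1, cent_of_conj e⟩
    · refine mem_of_sq (hV ▸ hT) hg.2 (hV ▸ ⟨mul_mem hg.1 hg.1, cent_of_conj ?_⟩)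
      rw [nn, e, conj_mul', e, conj_of_cent hg.1, F.zz]

theorem MN.odd (h : MN G) (hn : ⊤ ≤ N[N]) (ho : Pg'[2] N) : N = ⊥ :=
  h.sol hn (H17.odd_solvable (Nat.odd_iff.2 (Nat.two_dvd_ne_zero.1
    (ho.not_dvd Nat.prime_two (by simp)))))

theorem MN.exists_bb (h : MN G) [Nontrivial G] : ∃ (z u w b : G) (r : ℕ), BB z u w b r := by
  have := Fact.mk Nat.prime_two
  obtain ⟨S⟩ : Nonempty (Sylow 2 G) := inferInstance
  have hS := sy_top_of_sylow S
  have S1 : (S : Subgroup G) ≠ ⊥ := fun e =>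
    top_ne_bot (h.odd norm_top.ge (pi_of_hl_bot hS e))
  obtain ⟨x, hx, x1⟩ := exists_ne_one
    (pg_inf_cent_ne_bot Nat.prime_two (hl_pi hS) (hl_pi hS) (le_norm _) S1)
  obtain ⟨z, hz, z2, z1⟩ := exists_inv (hl_pi hS) hx.1 x1
  have hz := zpowers_le.2 hx hz
  have hO : pPrimeCore 2 G = ⊥ := by
    rw [pPrimeCore_eq_piCoreOf]
    exact h.odd (le_norm_piCoreOf_self _ _) (isPi_piCoreOf _ _)
  obtain ⟨g, g1, g2⟩ : ∃ g : G, g * z * g⁻¹ ∈ (S : Subgroup G) ∧ g * z * g⁻¹ ≠ z := by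
    by_contra! e
    have := H6.WC.mem_center ⟨hz.1, e⟩ hO
    exact (h.cent z2 z1).1 (eq_top_iff.2 fun g _ => mem_cent1.2 (mem_center_iff.1 this g))
  have F : FG z (g * z * g⁻¹) := ⟨z2, by rw [← conj_mul', z2]; simp, mem_cent.1 hz.2 _ g1, z1,
    conj_eq_one_iff.not.2 z1, g2⟩
  have hc : IsConj z (g * z * g⁻¹) := isConj_iff.2 ⟨g, rfl⟩
  have hK : (S : Subgroup G) ≤ C1[z] := le_cent1.2 hz.2
  obtain ⟨b, bz, hb, b2⟩ : ∃ b ∈ C1[z], (orderOf b).Prime ∧ orderOf b ≠ 2 := by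
    by_contra! e
    exact h.not_sy F (hl_of_ge hS le_top (isPi_of_forall_orderOf e) hK) hc
  obtain ⟨w, B⟩ := h.bb F hc hS hK hb b2 rfl bz
  exact ⟨_, _, _, _, _, B⟩

theorem BB.conj (B : BB z u w b r) (t2 : t * t = 1) (t1 : t ≠ 1) : IsConj z t := by
  have := Fact.mk Nat.prime_two
  obtain ⟨g, -, hg⟩ := sy_conj_le B.sy le_top (pg_zp2 t2 t1)
  exact (B.F.isConj B.T (hg (cj_mem (mem_zpowers t))) (conj_eq_one_iff.not.2 t1)).trans
    (isConj_iff.2 ⟨g, rfl⟩).symm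

theorem BB.card_cent (B : BB z u w b r) (t2 : t * t = 1) (t1 : t ≠ 1) :
    Nat.card C1[t] = 4 * r := by
  obtain ⟨g, rfl⟩ := isConj_iff.1 (B.conj t2 t1)
  rw [cent1_cj, card_cj, B.card]

theorem BB.norm (B : BB z u w b r) : N[B.F.V] = B.F.V ⊔ zpowers w := by
  have wn := B.T.norm B.F
  refine le_antisymm (fun g hg => ?_) (sup_le (le_norm _) (zpowers_le.2 wn))
  have wm : w ∈ B.F.V ⊔ zpowers w := mem_sup_right (mem_zpowers w)
  rcases conj_mem hg B.F.zm with e | e | e | e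
  · exact absurd (conj_eq_one_iff.1 e) B.F.z1
  · exact mem_sup_left (B.nv ⟨cent_of_conj e, hg⟩)
  · refine (mul_mem_cancel_left (inv_mem wm)).1
      (mem_sup_left (B.nv ⟨cent_of_conj ?_, mul_mem ((normalizer _).inv_mem wn) hg⟩))
    rw [show w⁻¹ * g * z * (w⁻¹ * g)⁻¹ = w⁻¹ * (g * z * g⁻¹) * w by group, e, ← B.T.wz]; group
  · refine (mul_mem_cancel_left wm).1 (mem_sup_left (B.nv ⟨cent_of_conj ?_, mul_mem wn hg⟩))
    rw [show w * g * z * (w * g)⁻¹ = w * (g * z * g⁻¹) * w⁻¹ by group, e, B.T.wzu B.F]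

theorem BB.card_norm (B : BB z u w b r) : Nat.card N[B.F.V] = 12 := by
  rw [B.norm, card_sup_of_inf_bot (Or.inr (zpowers_le.2 (B.T.norm B.F))) (B.F.pg.inf_eq_bot
    ((pg_zp Nat.prime_three (B.T.ord B.F)).compl_of_ne (by norm_num))), B.F.card, card_zpowers,
    B.T.ord B.F]

theorem FG.comm (F : FG z u) : F.V ≤ C[F.V] := F.cent ▸ F.le_cent

theorem BB.norm_le (B : BB z u w b r) (hV : B.F.V ≤ K) (h : Op[{2}ᶜ] K = ⊥) (hK : K ≠ B.F.V) :
    N[B.F.V] ≤ K := by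
  have := Fact.mk Nat.prime_two
  have hw : w ∈ K := by
    by_contra e
    have := burnside_amb (hl_of_le B.sy hV le_top) (fun g hg => B.F.comm ?_)
    · exact hK (hl_eq_self (hl_of_le B.sy hV le_top)
        (by simpa using pi_of_hl_bot this h)).symm
    · obtain ⟨v, hv, a, ha, rfl⟩ := (mem_sup_l (zpowers_le.2 (B.T.norm B.F))).1 (B.norm ▸ hg.2)
      have a1 := (mul_mem_cancel_left (hV hv)).1 hg.1
      rcases mem_zp3 B.T.w3 ha with rfl | rfl | rfl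
      · simpa using hv
      · exact absurd a1 e
      · exact absurd (inv_mem_iff.1 a1) e
  rw [B.norm]
  exact sup_le hV (zpowers_le.2 hw)

theorem MN.simple (h : MN G) (B : BB z u w b r) : IsSimpleGroup G := by
  have := Fact.mk Nat.prime_two
  have : Nontrivial G := nontrivial_of_ne z 1 B.F.z1
  refine ⟨fun N hN => or_iff_not_imp_left.2 fun h0 => ?_⟩
  have hn : ⊤ ≤ N[N] := (normalizer_eq_top N).ge
  obtain ⟨t, ht, t2⟩ := exists_orderOf Nat.prime_two (H := N) (by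
    by_contra e
    exact h0 (h.odd hn (isPi_compl_of_not_dvd e)))
  have t1 := ne_one_of_ord Nat.prime_two t2
  obtain ⟨g, hg⟩ := isConj_iff.1 (B.conj (by rw [← pow_two, ← t2, pow_orderOf_eq_one]) t1).symm
  have zN : z ∈ N := hg ▸ hN.conj_mem t ht g
  have hV : B.F.V ≤ N := B.F.le zN (B.T.wz ▸ hN.conj_mem z zN w)
  have := B.norm_le hV (h.odd (le_norm_piCoreOf _ hn) (isPi_piCoreOf _ _)) fun e =>
    h0 (h.sol hn (e ▸ B.F.pg.solvable))
  rw [← sy_frattini_sup (hl_of_le B.sy hV le_top) le_top hn]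
  exact (sup_eq_left.2 (inf_le_right.trans this)).symm

theorem BB.not_comm (B : BB z u w b r) : ¬ IsMulCommutative G := fun h =>
  B.F.ne (by rw [← B.T.wz, h.1.1 w z, mul_inv_cancel_right])

end H16.H11.MX
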