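import Cfsg.Agent.H11.MN3
import Cfsg.Agent.H1.CIT12
import Cfsg.Agent.H4.Tor5
import Cfsg.Agent.H4.Dk5
import Cfsg.Agent.S0508
import Cfsg.Agent.S2542

/-! Identification with `L₂(13)`. -/

set_option autoImplicit false
set_option linter.unusedSectionVars false

namespace H16.H11.MX

open Subgroup Cfsg H1 H15 H1.CIT
open scoped MatrixGroups

variable {G : Type*} [Group G] [Finite G] {p q r : ℕ} {H K L M U X N : Subgroup G}
  {a b c g i j n s t u v w x y z : G}

omit [Finite G] in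
theorem sq_of_ord (h : orderOf x = 2) : x * x = 1 := by
  have := pow_orderOf_eq_one x
  rwa [h, pow_two] at this

theorem FG.klein (F : FG z u) : IsKleinFour F.V := by
  refine ⟨F.card, ((Nat.dvd_prime Nat.prime_two).1 (Monoid.exponent_dvd_of_forall_pow_eq_one
    fun x => Subtype.ext (by rw [pow_two]; exact F.sq x.2))).resolve_left fun e => ?_⟩
  have := Monoid.exp_eq_one_iff.1 e
  exact F.z1 (congrArg Subtype.val (Subsingleton.elim (⟨z, F.zm⟩ : F.V) 1))

theorem BB.ub (B : BB z u w b r) : u ∉ C1[b] := fun e => by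
  have := B.F.sq (B.nv ⟨B.bz, cent_le_norm _ (B.F.cent ▸ ⟨B.bz, cent1_comm.1 e⟩)⟩)
  exact B.r2 ((Nat.prime_dvd_prime_iff_eq B.rp Nat.prime_two).1
    (B.bo ▸ orderOf_dvd_of_pow_eq_one (by rw [pow_two, this])))

theorem MN.psl (h : MN G) (B : BB z u w b r) :
    ∃ (F : Type) (_ : Field F) (_ : Fintype F), Odd (Fintype.card F) ∧ Nonempty (G ≃* PSL(2, F)) := by
  have := Fact.mk Nat.prime_two
  have := h.simple B
  obtain ⟨S, hS⟩ := sylow_of_sy_top B.sy
  have hB := h.normB B.F.z2 B.F.z1 B.rp B.r2 B.bo B.bz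
  have hc : (Nat.card (zpowers b)).Prime := by rw [card_zpowers, B.bo]; exact B.rp
  have zb : z ∈ C1[b] := cent1_comm.1 B.bz
  have zub : z * u ∉ C1[b] := fun e => B.ub ((mul_mem_cancel_left zb).1 e)
  have e1 : (S : Subgroup G) ⊓ C[zpowers b] = zpowers z := by
    rw [hS, cent_zpowers]
    refine le_antisymm ?_ (zpowers_le.2 ⟨B.F.zm, zb⟩)
    rintro x ⟨rfl | rfl | rfl | rfl, hx⟩
    exacts [one_mem _, mem_zpowers _, absurd hx B.ub, absurd hx zub]
  refine Cfsg.Agent.S0508.result S 2 le_rfl ?_ z (ord2 B.F.z2 B.F.z1) (hS ▸ B.F.zm)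
    (fun s hs => mem_cent1.1 (B.F.le_cent (hS ▸ hs)).1) (zpowers b) ?_ (fun _ => ?_) ?_ ?_
  · have := B.F.klein
    rw [hS]; exact IsKleinFour.nonempty_mulEquiv
  · rw [pPrimeCore_map_subtype]
    refine eq_of_le_of_card (le_piCoreOf (zpowers_le.2 B.bz) hB.ge
      ((pg_zp B.rp B.bo).compl_of_ne B.r2)) ?_
    rw [card_zpowers, B.bo]
    have := card_dvd (piCoreOf_le {2}ᶜ C1[z])
    rw [B.card] at this
    exact Nat.le_of_dvd B.rp.pos
      ((Nat.Coprime.pow_right 2 (isPi_piCoreOf _ _).coprime_p).dvd_of_dvd_mul_left this)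
  · rw [e1]
    refine ⟨cyclic_zpowers z, ?_⟩
    have := card_mul_relIndex (H := zpowers z) (K := S) (e1 ▸ inf_le_left)
    rw [card_zpowers, ord2 B.F.z2 B.F.z1, hS, B.F.card] at this
    rw [hS]; omega
  · intro s hs h1 y hy
    rw [hS] at hs
    rw [cent_zpowers] at h1
    obtain ⟨k, rfl⟩ := hy
    have := inverts B.rp B.bo (B.F.sq hs) (hB ▸ (B.F.le_cent hs).1) h1
    show s * b ^ k * s⁻¹ = (b ^ k)⁻¹
    rw [← conj_zpow, this, inv_zpow]
  · intro Y h1 h2
    rw [(eq_bot_or_eq_of_prime hc h1).resolve_left h2, hB]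

theorem BB.not_dvd (B : BB z u w b r) (hp : p.Prime) (p2 : p ≠ 2) (pr : p ≠ r) (hx : orderOf x = p)
    (t2 : t * t = 1) (t1 : t ≠ 1) : x ∉ C1[t] := fun e => by
  have := orderOf_dvd_card e
  rw [hx, B.card_cent t2 t1] at this
  rcases (Nat.Prime.dvd_mul hp).1 this with e | e
  · exact p2 ((Nat.prime_dvd_prime_iff_eq hp Nat.prime_two).1 (hp.dvd_of_dvd_pow (n := 2) e))
  · exact pr ((Nat.prime_dvd_prime_iff_eq hp B.rp).1 e)

theorem MN.selfc (h : MN G) (B : BB z u w b r) (hp : p.Prime) (p2 : p ≠ 2) (pr : p ≠ r)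
    (hx : orderOf x = p) (j2 : j * j = 1) (j1 : j ≠ 1) (hj : j ∈ N[zpowers x]) :
    C1[x] ≤ zpowers x := fun g hg => by
  obtain ⟨v, hv, e⟩ := h.fr hp Nat.prime_two p2 (zpowers_ne_bot' (ne_one_of_ord hp hx))
    (pg_zp hp hx) (pg_zp2 j2 j1) (zpowers_le.2 hj) (cent_le_norm _ (cent_zpowers x ▸ hg))
  rw [norm_zp2 j2 j1] at e
  have e2 : v * g ∈ C1[x] := mul_mem (zpowers_le.2 (cent1_self x) hv) hg
  by_contra e3
  obtain ⟨l, hl, hd⟩ := exists_prime_dvd (zpowers_ne_bot' (x := v * g) fun e4 =>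
    e3 (eq_inv_of_mul_eq_one_right e4 ▸ inv_mem hv))
  obtain ⟨d, d1, d2⟩ := exists_orderOf hl hd
  have d3 : d ∈ C1[x] := zpowers_le.2 e2 d1
  by_cases l2 : l = 2
  · subst l2
    exact B.not_dvd hp p2 pr hx (sq_of_ord d2) (ne_one_of_ord hl d2) (cent1_comm.1 d3)
  · refine B.not_dvd hp p2 pr hx j2 j1 ?_
    rw [← h.normB j2 j1 hl l2 d2 (zpowers_le.2 e d1)]
    exact cent_le_norm _ (cent_zpowers d ▸ cent1_comm.1 d3)

theorem BB.even (B : BB z u w b r) {m : ℕ} (h : El G m) (h2 : 2 * r ∣ m) : m = 2 * r := by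
  have := Fact.mk Nat.prime_two
  have h4 : ¬ 4 ∣ m := fun e => by
    obtain ⟨y, hy⟩ := h.dvd e
    obtain ⟨g, -, hg⟩ := sy_conj_le B.sy le_top
      (pg_of_pow Nat.prime_two (k := 2) (x := y) (orderOf_dvd_iff_pow_eq_one.1 hy.dvd))
    have := B.F.sq (hg (cj_mem (mem_zpowers y)))
    rw [← conj_mul', conj_eq_one_iff, ← pow_two] at this
    have := orderOf_dvd_of_pow_eq_one this
    rw [hy] at this; omega
  obtain ⟨x, rfl⟩ := h
  have e := ord_pow_div ((dvd_mul_right 2 r).trans h2)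
  have e2 := orderOf_dvd_card (H := C1[x ^ (orderOf x / 2)]) (x := x)
    (mem_cent1.2 ((Commute.refl x).pow_right _))
  rw [B.card_cent (sq_of_ord e) (ne_one_of_ord Nat.prime_two e)] at e2
  obtain ⟨k, hk⟩ := h2
  rw [hk, show 4 * r = 2 * r * 2 by ring,
    Nat.mul_dvd_mul_iff_left (by have := B.rp.pos; omega)] at e2
  rcases (Nat.dvd_prime Nat.prime_two).1 e2 with rfl | rfl
  · omega
  · exact absurd ⟨r, by omega⟩ h4

theorem BB.el (B : BB z u w b r) : El G (2 * r) :=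
  el_mul (x := z) (y := b) (mem_cent1.1 B.bz).symm (ord2 B.F.z2 B.F.z1).symm.dvd B.bo.symm.dvd
    ((Nat.coprime_primes Nat.prime_two B.rp).2 B.r2.symm)

theorem op_simple (hs : IsSimpleGroup K) (hz : z ∈ K) (z2 : z * z = 1) (z1 : z ≠ 1) :
    Op[{2}ᶜ] K = ⊥ := by
  have hn : ((Op[{2}ᶜ] K).subgroupOf K).Normal :=
    normal_subgroupOf_of_le_normalizer (le_norm_piCoreOf_self _ _)
  rcases hn.eq_bot_or_eq_top with e | e
  · rw [subgroupOf_eq_bot, disjoint_iff, inf_eq_left.2 (piCoreOf_le _ _)] at e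
    exact e
  · have := orderOf_dvd_card (subgroupOf_eq_top.1 e hz)
    rw [ord2 z2 z1] at this
    exact absurd this ((isPi_piCoreOf {2}ᶜ K).not_dvd Nat.prime_two (by simp))

theorem MN.not3 (h : MN G) (B : BB z u w b r) (r3 : r ≠ 3) {n : ℕ} (hq : q = 3 ^ n) (h4 : 4 ≤ q)
    (hc : 2 * Nat.card G = q * (q ^ 2 - 1)) (P : Sylow 3 G)
    (c2 : N[(P : Subgroup G)].index ≤ q + 1) (el : ∀ l, 2 ≤ l → ¬ El G (l * 3)) : False := by
  have := Fact.mk Nat.prime_three
  have n0 : n ≠ 0 := by rintro rfl; omega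
  have q3 : 3 ∣ q := hq ▸ dvd_pow_self 3 n0
  have hS := sy_top_of_sylow P
  have c1 : q ∣ Nat.card P := by
    have e : q ∣ 2 * Nat.card G := hc ▸ dvd_mul_right _ _
    rw [hq] at e ⊢
    exact P.pow_dvd_card_of_pow_dvd_card
      ((Nat.Coprime.pow_left n (by norm_num : Nat.Coprime 3 2)).dvd_of_dvd_mul_left e)
  obtain ⟨x0, hx, x1⟩ := exists_ne_one (pg_inf_cent_ne_bot Nat.prime_three (hl_pi hS) (hl_pi hS)
    (le_norm _) (ne_bot_of_dvd Nat.prime_three (q3.trans c1)))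
  obtain ⟨x, hx0, x3⟩ := exists_orderOf Nat.prime_three
    (((hl_pi hS).of_le (zpowers_le.2 hx.1)).dvd_of_ne_bot (zpowers_ne_bot' x1))
  have hPx : (P : Subgroup G) ≤ C1[x] := le_cent1.2 (zpowers_le.2 hx hx0).2
  have hN : Pg[3] N[zpowers x] := isPi_of_forall_orderOf fun g hg hl => by
    by_contra l3
    by_cases l2 : orderOf g = 2
    · have := card_le (hPx.trans (h.selfc B Nat.prime_three (by norm_num) r3.symm x3
        (sq_of_ord l2) (ne_one_of_ord hl rfl) hg))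
      rw [card_zpowers, x3] at this
      have := Nat.le_of_dvd Nat.card_pos c1
      omega
    have hg2 : g ^ 2 ∈ C1[x] := by
      rw [pow_two]
      rcases mem_zp3 (orderOf_dvd_iff_pow_eq_one.1 x3.dvd) (conj_mem hg (mem_zpowers x))
        with e | e | e
      · exact absurd (conj_eq_one_iff.1 e) (ne_one_of_ord Nat.prime_three x3)
      · exact mul_mem (cent_of_conj e) (cent_of_conj e)
      · exact cent_of_inv e e
    exact el _ hl.two_le (el_mul (mem_cent1.1 hg2)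
      (((Nat.coprime_primes hl Nat.prime_two).2 l2).orderOf_pow).symm.dvd x3.symm.dvd
      ((Nat.coprime_primes hl Nat.prime_three).2 l3))
  have e1 := hl_max hS le_top hN (hPx.trans (cent_zpowers x ▸ cent_le_norm _))
  have hX := h.zp Nat.prime_three x3
  rw [e1] at hX
  have e2 := ceq hX (h.pg Nat.prime_three (ne_bot_of_dvd Nat.prime_three (q3.trans c1))
    (hl_pi hS)).1 (le_norm _)
  rw [e2] at c2
  have c3 : Nat.card P ∣ q := by
    obtain ⟨k, hk⟩ := (hl_pi hS).exists_card_eq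
    have e := (card_subgroup_dvd_card (P : Subgroup G)).mul_left 2
    rw [hc] at e
    refine Nat.Coprime.dvd_of_dvd_mul_right ?_ e
    rw [hk]
    refine Nat.Coprime.pow_left _ ((Nat.Prime.coprime_iff_not_dvd Nat.prime_three).2 fun e => ?_)
    have : 3 ∣ q ^ 2 := q3.pow two_ne_zero
    have : 1 ≤ q ^ 2 := Nat.one_le_pow _ _ (by omega)
    omega
  have c4 := (P : Subgroup G).card_mul_index
  rw [Nat.dvd_antisymm c3 c1] at c4
  rw [← c4, ← mul_assoc, mul_comm 2, mul_assoc] at hc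
  have c5 := Nat.eq_of_mul_eq_mul_left (by omega) hc
  have : 1 ≤ q ^ 2 := Nat.one_le_pow _ _ (by omega)
  have : q ^ 2 = q * q := pow_two _
  have : 4 * q ≤ q * q := Nat.mul_le_mul_right _ h4
  omega

variable {F : Type*} [Field F] [Fintype F]

theorem psl_real (p : ℕ) [Fact p.Prime] [CharP F p] {x : PSL(2, F)} (h1 : x ≠ 1)
    (h : ¬ p ∣ orderOf x) : ∃ t : PSL(2, F), t * t = 1 ∧ t * x * t⁻¹ = x⁻¹ := by
  obtain ⟨u, rfl⟩ := QuotientGroup.mk_surjective x
  have hd := H4.disc_of_not_dvd p h1 h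
  rw [← H4.sl_disc] at hd
  obtain ⟨s, h2, h3⟩ := SetLike.exists_of_lt (lt_of_le_of_ne (H4.sT_le_sN (H4.sgl u)) fun e => by
    have := H4.card_sN hd
    have h0 := card_pos' (H4.sT (H4.sgl u))
    rw [← e] at this
    omega)
  refine ⟨s, ?_, ?_⟩
  · rw [← QuotientGroup.mk_mul, H4.sN_sq hd h2 h3, H4.psl_neg]; rfl
  · exact congrArg (QuotientGroup.mk' _) (H4.sN_inv hd h2 h3 (H4.mem_sT_self u))

theorem not11 (h : MN PSL(2, F)) {z u w b : PSL(2, F)} (B : BB z u w b r) :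
    Fintype.card F ≠ 11 := fun e => by
  have := Fact.mk Nat.prime_two
  obtain ⟨H, h1, ⟨f⟩, -⟩ := Cfsg.Agent.S2542.result e
  obtain ⟨Q, hQ⟩ := sy_exists 2 H
  obtain ⟨g, -, hg⟩ := sy_conj (hl_of_idx hQ le_top (by
    rw [relIndex_top_right, h1]
    intro l hl hd
    rw [(Nat.prime_dvd_prime_iff_eq hl (by norm_num)).1 hd]; simp)) B.sy
  have hV : B.F.V ≤ H :^ g := hg ▸ cj_mono g hQ.1
  have hc : Nat.card (H :^ g) = 60 := by
    rw [card_cj, Nat.card_congr f.toEquiv, Nat.card_eq_fintype_card]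
    have := two_mul_card_alternatingGroup (α := Fin 5)
    rw [Fintype.card_perm, Fintype.card_fin] at this
    simp only [Nat.factorial] at this
    omega
  have hs : IsSimpleGroup (H :^ g) :=
    (((MulAut.conj g).subgroupMap H).symm.trans f).isSimpleGroup
  have := ceq (h.pg Nat.prime_two B.F.ne_bot B.F.pg) (fun e2 => by
    rw [cj_eq_top.1 e2, index_top] at h1; omega)
    (B.norm_le hV (op_simple hs (hV B.F.zm) B.F.z2 B.F.z1) fun e2 => by
      rw [e2, B.F.card] at hc; omega)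
  rw [this, B.card_norm] at hc
  omega

theorem not3 (h : MN PSL(2, F)) {z u w b : PSL(2, F)} (B : BB z u w b r) (r3 : r ≠ 3) {n : ℕ}
    [CharP F 3] (hq : Fintype.card F = 3 ^ n) (h4 : 4 ≤ Fintype.card F) : False := by
  have := Fact.mk Nat.prime_three
  have hc := H4.card_psl (F := F)
  have n0 : n ≠ 0 := by rintro rfl; omega
  have q3 : 3 ∣ Fintype.card F := hq ▸ dvd_pow_self 3 n0
  have q2 : Fintype.card F % 2 = 1 := by rw [hq]; simp [Nat.pow_mod]
  rw [H4.gcd_eq_two q2] at hc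
  obtain ⟨P, -, hP⟩ := H4.exists_sylow_stab (F := F) 3 (Projectivization.mk F ![1, 0] (by simp))
  have c2 := index_dvd_of_le hP
  rw [H4.index_stab_psl] at c2
  refine h.not3 B r3 hq h4 hc P (Nat.le_of_dvd (by omega) c2) fun l l1 e => ?_
  rcases (el_psl_odd Nat.prime_three (by norm_num) hq h4).1 e with e | e | e
  · have := Nat.le_of_dvd (by norm_num) e; omega
  · have := (Dvd.intro_left (2 * l) (by ring) : 3 ∣ 2 * (l * 3)).trans e; omega
  · have := (Dvd.intro_left (2 * l) (by ring) : 3 ∣ 2 * (l * 3)).trans e; omega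

theorem psl13 (h : MN PSL(2, F)) [Nontrivial PSL(2, F)] (ho : Odd (Fintype.card F)) :
    Fintype.card F = 13 := by
  obtain ⟨z, u, w, b, r, B⟩ := h.exists_bb
  obtain ⟨p, hp', n, hp, hq⟩ := FiniteField.card' F
  have := Fact.mk hp
  have hc := H4.card_psl (F := F)
  have q2 := Nat.odd_iff.1 ho
  rw [H4.gcd_eq_two q2] at hc
  have p2 : p ≠ 2 := by
    rintro rfl
    have : 2 ∣ Fintype.card F := hq ▸ dvd_pow_self 2 n.ne_zero
    omega
  have h4 : 4 ≤ Fintype.card F := by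
    by_contra e
    have : 1 < Fintype.card F := Fintype.one_lt_card
    have e3 : Fintype.card F = 3 := by omega
    rw [e3] at hc
    exact (h.pg Nat.prime_two B.F.ne_bot B.F.pg).1
      (eq_top_of_card_eq _ (by rw [B.card_norm]; omega))
  have el := @el_psl_odd F _ _ p n hp p2 hq h4
  have r2 := B.rp.two_le
  have key : ∃ m, El PSL(2, F) m ∧ (Fintype.card F = 4 * r + 1 ∧ m = 2 * r + 1 ∨
      Fintype.card F + 1 = 4 * r ∧ m + 1 = 2 * r) := by
    rcases el.1 B.el with e | e | e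
    · exact absurd ((Nat.prime_dvd_prime_iff_eq Nat.prime_two hp).1
        ((dvd_mul_right 2 r).trans e)).symm p2
    · obtain ⟨k, hk⟩ := e
      have := B.even (m := 2 * r * k) (el.2 (Or.inr (Or.inl ⟨1, by rw [hk]; ring⟩))) ⟨k, rfl⟩
      have e2 : Fintype.card F = 4 * r + 1 := by rw [mul_assoc, this] at hk; omega
      exact ⟨2 * r + 1, el.2 (Or.inr (Or.inr ⟨1, by omega⟩)), Or.inl ⟨e2, rfl⟩⟩
    · obtain ⟨k, hk⟩ := e
      have := B.even (m := 2 * r * k) (el.2 (Or.inr (Or.inr ⟨1, by rw [hk]; ring⟩))) ⟨k, rfl⟩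
      have e2 : Fintype.card F + 1 = 4 * r := by rw [mul_assoc, this] at hk; omega
      exact ⟨2 * r - 1, el.2 (Or.inr (Or.inl ⟨1, by omega⟩)), Or.inr ⟨e2, by omega⟩⟩
  obtain ⟨m, ⟨y, hy⟩, hm⟩ := key
  by_cases r3 : r = 3
  · have := not11 h B
    omega
  exfalso
  by_cases p3 : p = 3
  · subst p3
    exact not3 h B r3 hq h4
  have a1 : ¬ 3 ∣ r := fun e => r3 ((Nat.prime_dvd_prime_iff_eq Nat.prime_three B.rp).1 e).symm
  have a2 : ¬ 3 ∣ Fintype.card F := fun e => p3 ((Nat.prime_dvd_prime_iff_eq Nat.prime_three hp).1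
    (Nat.prime_three.dvd_of_dvd_pow (hq ▸ e))).symm
  have x3 := ord_pow_div (x := y) (k := 3) (by
    obtain ⟨k, hk⟩ : ∃ k, r = 3 * k + 1 ∨ r = 3 * k + 2 := ⟨r / 3, by omega⟩
    rcases hk with hk | hk <;> rcases hm with hm | hm <;> omega)
  have hyx : y ∈ C1[y ^ (orderOf y / 3)] := mem_cent1.2 ((Commute.refl y).pow_right _)
  generalize y ^ (orderOf y / 3) = x at x3 hyx
  have x1 := ne_one_of_ord Nat.prime_three x3
  obtain ⟨t, t2, ht⟩ := psl_real p x1 fun e =>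
    p3 ((Nat.prime_dvd_prime_iff_eq hp Nat.prime_three).1 (x3 ▸ e))
  have := orderOf_dvd_of_mem_zpowers (h.selfc B Nat.prime_three (by norm_num) (Ne.symm r3) x3 t2
    (by
      rintro rfl
      have e : orderOf x ∣ 2 := orderOf_dvd_of_pow_eq_one (by
        rw [pow_two, mul_eq_one_iff_eq_inv]; simpa using ht)
      rw [x3] at e
      omega)
    (mem_norm_of_cj_le (by
      rw [← zpowers_cj, ht]; exact zpowers_le.2 (inv_mem (mem_zpowers x)))) hyx)
  have := Nat.le_of_dvd (by omega) this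
  have := B.r2
  omega

theorem MN.l213 (h : MN G) [Nontrivial G] : ∃ (F : Type) (_ : Field F) (_ : Fintype F),
    Fintype.card F = 13 ∧ Nonempty (G ≃* PSL(2, F)) := by
  obtain ⟨z, u, w, b, r, B⟩ := h.exists_bb
  obtain ⟨F, i1, i2, ho, ⟨e⟩⟩ := h.psl B
  have := e.symm.toEquiv.nontrivial
  exact ⟨F, i1, i2, psl13 (h.congr e) ho, ⟨e⟩⟩

end H16.H11.MX
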