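import Cfsg.Agent.H11.MN4
import Cfsg.Agent.H8.SL2Cov
import Cfsg.Agent.H3.Transfer2
import Cfsg.Agent.S0144
import Cfsg.Agent.S0498
import Cfsg.Agent.S4211

/-! Lifting through the solvable radical. -/

set_option autoImplicit false
set_option linter.unusedSectionVars false

namespace H16.H11.MX

open Subgroup Cfsg H1 H15
open scoped MatrixGroups commutatorElement

variable {G : Type*} [Group G] [Finite G] {p q : ℕ} {H K M U X N R : Subgroup G} {g j r x y : G}

theorem sl2_cover {F : Type*} [Field F] [Fintype F] (hX : Group.IsPerfect G)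
    (ho : Odd (Fintype.card F)) (h3 : 3 < Fintype.card F) (f : G →* PSL(2, F))
    (hf : Function.Surjective f) (hk : f.ker ≤ center G) (h2 : IsPGroup 2 f.ker)
    (h1 : f.ker ≠ ⊥) : Nonempty (G ≃* SL(2, F)) := by
  let π : SL(2, F) →* PSL(2, F) := QuotientGroup.mk' _
  let Y : Subgroup (G × SL(2, F)) :=
    (f.comp (MonoidHom.fst G SL(2, F))).eqLocus (π.comp (MonoidHom.snd G SL(2, F)))
  let ξ : Y →* SL(2, F) := (MonoidHom.snd G SL(2, F)).comp Y.subtype
  let η : Y →* G := (MonoidHom.fst G SL(2, F)).comp Y.subtype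
  have hξ : Function.Surjective ξ := fun s => (hf (π s)).elim fun x hx => ⟨⟨(x, s), hx⟩, rfl⟩
  have hη : Function.Surjective η := fun x =>
    (QuotientGroup.mk'_surjective _ (f x)).elim fun s hs => ⟨⟨(x, s), hs.symm⟩, rfl⟩
  have hker : ∀ y ∈ ξ.ker, y.1.2 = 1 ∧ y.1.1 ∈ f.ker := fun y hy =>
    ⟨hy, (y.2.trans (congrArg π hy)).trans (map_one π)⟩
  have hc : ξ.ker ≤ center Y := fun y hy => mem_center_iff.2 fun g =>
    Subtype.ext (Prod.ext (mem_center_iff.1 (hk (hker y hy).2) _) (by simp [(hker y hy).1]))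
  have b1 : Function.Bijective (ξ.comp (commutator Y).subtype) := by
    refine ⟨(injective_iff_map_eq_one _).2 fun y hy => Subtype.ext ?_,
      H8.commutator_surj_of_perfect ⟨H22.commutator_SL_fin_eq_top 2 fun _ => h3⟩ hξ⟩
    obtain ⟨m, hm⟩ := h2 ⟨_, (hker y hy).2⟩
    exact H8.sl2_mult_two ho hξ hc ⟨hy, y.2⟩ (m := m)
      (Subtype.ext (Prod.ext (congrArg Subtype.val hm) (by simp [(hker y hy).1])))
  let g : SL(2, F) →* G :=
    (η.comp (commutator Y).subtype).comp (MulEquiv.ofBijective _ b1).symm.toMonoidHom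
  have hg : Function.Surjective g :=
    (H8.commutator_surj_of_perfect hX hη).comp (MulEquiv.surjective _)
  refine ⟨(MulEquiv.ofBijective g (hg.bijective_of_nat_card_le ?_)).symm⟩
  rw [H8.card_SL2_eq ho, ← f.ker.card_mul_index, index_ker, MonoidHom.range_eq_top.2 hf, card_top]
  exact Nat.mul_le_mul_right _ ((one_lt_card_iff_ne_bot _).2 h1)

theorem dvd1092 (hp : p.Prime) (h : p ∣ 1092) : p = 2 ∨ p = 3 ∨ p = 7 ∨ p = 13 := by
  rw [show 1092 = 2 * (2 * (3 * (7 * 13))) from rfl] at h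
  simp only [hp.dvd_mul] at h
  rcases h with h | h | h | h | h <;> rw [Nat.prime_dvd_prime_iff_eq hp (by norm_num)] at h <;>
    simp [h]

theorem pg_dvd (hc : Nat.card G = 1092) (hp : p.Prime) (p2 : p ≠ 2) (h : Pg[p] U) :
    Nat.card U ∣ p := by
  have := Fact.mk hp
  obtain ⟨k, hk⟩ := h.exists_card_eq
  have h1 := card_subgroup_dvd_card U
  rw [hk, hc] at h1
  rw [hk]
  rcases k with _ | _ | k
  · simp
  · simp
  · have h2 : p ^ 2 ∣ 1092 := (pow_dvd_pow p (by omega)).trans h1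
    rcases dvd1092 hp ((dvd_pow_self p two_ne_zero).trans h2) with e | e | e | e <;> subst e <;>
      omega

theorem ker_two {L : Type*} [Group L] [Finite L] (hc : Nat.card L = 1092)
    (hX : commutator G = ⊤) (f : G →* L) (hk : f.ker ≤ center G) : Pg[2] f.ker :=
  isPi_of_forall_orderOf fun x hx hp => by
    by_contra p2
    have := Fact.mk hp
    obtain ⟨P, hP, h1⟩ := sy_exists_ge le_top (pg_zp hp rfl)
    have : IsCyclic (P.map f) := isCyclic_of_card_dvd_prime (pg_dvd hc hp p2 ((hl_pi hP).map f))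
    have : IsMulCommutative P := (f.subgroupMap P).isMulCommutative_of_isCyclic_of_ker_le_center
      fun y hy => mem_center_iff.2 fun g => Subtype.ext
        (mem_center_iff.1 (hk (congrArg Subtype.val hy)) g)
    exact ne_one_of_ord hp rfl (H3.eq_one_of_mem_abelian_hall
      (by simpa using hl_coprime hP) (h1 (mem_zpowers x)) (hX ▸ mem_top x) (hk hx))

theorem pi2_sol (hp : p.Prime) (hq : q.Prime) (h : Pi[{p, q}] H) : Group.IsSolvable H := by
  have := Fact.mk hp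
  have := Fact.mk hq
  obtain ⟨P, hP⟩ := sy_exists p H
  obtain ⟨a, ha⟩ := (hl_pi hP).exists_card_eq
  obtain ⟨b, hb⟩ : ∃ b, P.relIndex H = q ^ b := ⟨_, Nat.eq_prime_pow_of_unique_prime_dvd
    (relIndex_pos P H).ne' fun hl hd => (h _ hl (hd.trans (relIndex_dvd_card P H))).resolve_left
      fun e => sy_not_dvd hP hp (e ▸ hd)⟩
  exact Cfsg.Agent.S0144.result p q a b hp hq (by rw [← card_mul_relIndex hP.1, ha, hb])

/-- the hypothesis relative to the radical -/
def RN (R : Subgroup G) : Prop := ∀ (H : Subgroup G) (p q : ℕ), p.Prime → q.Prime →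
  Pi[{p, q}] H → ¬ H ≤ R → IsCoatom N[H] ∧ N[H ⊔ R] = N[H]

theorem exists_rad (h : ∀ H : Subgroup G, ¬ H.IsSubnormal →
      (∃ p q : ℕ, p.Prime ∧ q.Prime ∧ ∀ r : ℕ, r.Prime → r ∣ Nat.card H → r = p ∨ r = q) →
      IsCoatom N[H]) : ∃ R : Subgroup G, R.Normal ∧ Group.IsSolvable R ∧ RN R := by
  obtain ⟨R, -, ⟨h1, h2⟩, h3⟩ := exists_max_of
    (C := fun N : Subgroup G => ⊤ ≤ N[N] ∧ Group.IsSolvable N) (X := ⊥)
    ⟨norm_bot.ge, sol_of_comm comm_bot⟩
  have key : ∀ H : Subgroup G, Group.IsSolvable H → ⊤ ≤ N[H ⊔ R] → H ≤ R := fun H a b =>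
    h3 _ ⟨b, isSolvable_sup a h2 (le_top.trans h1)⟩ le_sup_right ▸ le_sup_left
  refine ⟨R, normal_of_top h1, h2, fun H p q hp hq hH hR => ?_⟩
  have hm := h H (fun e => hR ((subnormal_le_piCore (π := {p, q}) e hH).trans (by
    rw [← piCoreOf_top]
    exact key _ (pi2_sol hp hq (isPi_piCoreOf _ _)) (norm_sup (le_norm_piCoreOf_self _ _) h1))))
    ⟨p, q, hp, hq, hH⟩
  exact ⟨hm, ceq hm (fun e => hR (key H (pi2_sol hp hq hH) e.ge))
    (norm_sup le_rfl (le_top.trans h1))⟩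

variable {L : Type*} [Group L] [Finite L] {f : G →* L}

theorem RN.mn (h : RN f.ker) (hs : Group.IsSolvable f.ker) (hf : Function.Surjective f) :
    MN L := fun H p q hp hq h1 hH => by
  obtain ⟨A, hA⟩ := hl_exists {p, q} (isSolvable_comap (pi2_sol hp hq hH) f hs)
  have e : f.ker ⊔ A = H.comap f := sup_eq_of_idx (π := {p, q}) (ker_le_comap f H) hA.1 (by
    rw [← MonoidHom.comap_bot, relIndex_comap, map_comap_eq_self_of_surjective hf, relIndex_bot_left]
    exact hH) (hl_idx hA)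
  obtain ⟨a, b⟩ := h A p q hp hq (hl_pi hA) fun e2 => h1 (by
    rw [← map_comap_eq_self_of_surjective hf H, ← e, sup_eq_left.2 e2, map_ker_self])
  rw [← b, sup_comm, e, ← comap_normalizer_eq_of_surjective _ hf] at a
  refine ⟨fun e => a.1 (by rw [e, comap_top]), fun M hM => comap_injective hf ?_⟩
  exact a.2 _ ((comap_lt_comap_of_surjective hf).2 hM)

theorem RN.le (h : RN R) (hp : p.Prime) (hq : q.Prime) (hH : Pi[{p, q}] H) (hR : ¬ H ≤ R) :
    R ≤ N[H] := (h H p q hp hq hH hR).2 ▸ norm_of_le le_sup_right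

theorem RN.stab (h : RN f.ker) (hf : Function.Surjective f) [IsSimpleGroup L] (hp : p.Prime)
    (hd : p ∣ Nat.card L) : ∃ N : Subgroup G, N.Normal ∧ N.map f = ⊤ ∧
      ⁅N, f.ker⁆ ≤ Op[{p}] f.ker := by
  have := Fact.mk hp
  obtain ⟨P, hP⟩ := sy_exists p (⊤ : Subgroup G)
  have h1 : ¬ P ≤ f.ker := fun e => sy_not_dvd hP hp (by
    rw [relIndex_top_right]
    refine .trans ?_ (index_dvd_of_le e)
    rwa [index_ker, MonoidHom.range_eq_top.2 hf, card_top])
  have h2 := h.le hp hp ((hl_pi hP).mono (by simp)) h1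
  have hO : ⊤ ≤ N[Op[{p}] f.ker] := le_norm_piCoreOf _ (normalizer_eq_top _).ge
  have hn : (H10.stabMod f.ker (Op[{p}] f.ker)).Normal := ⟨fun g hg a => ⟨hO (mem_top _),
    fun v hv => by
      rw [show ⁅a * g * a⁻¹, v⁆ = a * ⁅g, a⁻¹ * v * a⁆ * a⁻¹ by simp only [commutatorElement_def]; group]
      exact conj_mem (hO (mem_top _)) (hg.2 _ (f.normal_ker.conj_mem' v hv a))⟩⟩
  refine ⟨_, hn, ((hn.map f hf).eq_bot_or_eq_top).resolve_left fun e => h1 ?_,
    (H10.le_stabMod.1 le_rfl).2⟩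
  refine .trans (H10.le_stabMod.2 ⟨le_top.trans hO, ?_⟩) ((Subgroup.map_eq_bot_iff _).1 e)
  exact (le_inf (comm_le_left h2) (comm_le_right (le_top.trans (normalizer_eq_top _).ge))).trans
    (le_piCoreOf inf_le_right (norm_inf h2 (le_norm _)) (hl_pi hP).inf_left)

theorem sup_ker (h : K.map f = ⊤) : K ⊔ f.ker = ⊤ := by
  rw [← comap_map_eq, h, comap_top]

theorem RN.exists_K (h : RN f.ker) (hf : Function.Surjective f) [IsSimpleGroup L]
    (hc : Nat.card L = 1092) (hL : ⁅(⊤ : Subgroup L), (⊤ : Subgroup L)⁆ = ⊤) :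
    ∃ K : Subgroup G, K.Normal ∧ K.map f = ⊤ ∧ K ≤ C[f.ker] ∧ ⁅K, K⁆ = K := by
  obtain ⟨A, a1, a2, a3⟩ := h.stab hf (p := 7) (by norm_num) (by rw [hc]; norm_num)
  obtain ⟨B, b1, b2, b3⟩ := h.stab hf (p := 13) (by norm_num) (by rw [hc]; norm_num)
  have e1 : (C[f.ker]).map f = ⊤ := by
    rw [eq_top_iff, ← hL]
    nth_rw 1 [← a2]
    rw [← b2, ← map_commutator]
    refine map_mono (comm_eq_bot.1 (eq_bot_of_le ((isPi_piCoreOf {7} f.ker).inf_eq_bot
      ((isPi_piCoreOf {13} f.ker).compl_of_ne (by norm_num))) (le_inf ?_ ?_)))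
    · exact (commutator_mono (commutator_le_left A B) le_rfl).trans a3
    · exact (commutator_mono (commutator_le_right A B) le_rfl).trans b3
  have e2 : (⁅C[f.ker], C[f.ker]⁆).map f = ⊤ := by rw [map_commutator, e1, hL]
  refine ⟨_, inferInstance, e2, der_le _, ?_⟩
  have e3 := modl' (B := f.ker) (der_le C[f.ker]) (Or.inl (le_top.trans (normalizer_eq_top _).ge))
  rw [sup_ker e2, inf_top_eq] at e3
  have e4 := der_sup_cent ((der_le C[f.ker]).trans (cent_anti (inf_le_right (a := C[f.ker]))))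
  have e5 := der_eq_bot.2 (comm_center f.ker)
  rw [inf_comm] at e5
  rw [← e3, e5, sup_bot_eq] at e4
  exact e4.symm

structure KK (f : G →* L) (K : Subgroup G) : Prop where
  h : RN f.ker
  n : K.Normal
  m : K.map f = ⊤
  c : K ≤ C[f.ker]
  z : Pg[2] (K ⊓ f.ker)
  card : Nat.card L = 1092

theorem KK.dvd (k : KK f K) : 1092 ∣ Nat.card K := by
  rw [← k.card, ← card_top, ← k.m]
  exact card_map_dvd K f

theorem KK.exists (k : KK f K) (hp : p.Prime) (p2 : p ≠ 2) (hd : p ∣ 1092) :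
    ∃ x ∈ K, orderOf x = p ∧ x ∉ f.ker := by
  obtain ⟨x, h1, h2⟩ := exists_orderOf hp (hd.trans k.dvd)
  exact ⟨x, h1, h2, fun e => p2 (k.z p hp (h2 ▸ orderOf_dvd_card ⟨h1, e⟩))⟩

theorem KK.norm (k : KK f K) (hq : q.Prime) (hU : U ≤ f.ker) (h : Pg[q] U) : f.ker ≤ N[U] := by
  obtain ⟨p, hp, p2, pq, hd⟩ : ∃ p : ℕ, p.Prime ∧ p ≠ 2 ∧ p ≠ q ∧ p ∣ 1092 := by
    by_cases e : q = 7
    · exact ⟨13, by norm_num, by norm_num, by omega, by norm_num⟩
    · exact ⟨7, by norm_num, by norm_num, by omega, by norm_num⟩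
  obtain ⟨x, h1, h2, h3⟩ := k.exists hp p2 hd
  have hn : zpowers x ≤ N[U] := norm_of_cent (zpowers_le.2 (cent_anti hU (k.c h1)))
  exact (k.h.le hq hp ((h.mono (by simp)).sup_of_le_norm' ((pg_zp hp h2).mono (by simp)) hn)
    fun e => h3 (e (mem_sup_right (mem_zpowers x)))).trans (norm_hl_of_normal
      (hl_sup_left hn h ((pg_zp hp h2).compl_of_ne pq)) (sup_le (le_norm _) hn))

theorem KK.odd (k : KK f K) [hs : IsSimpleGroup L] (hp : p.Prime) (p2 : p ≠ 2) (hd : p ∣ 1092)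
    (hr : r ∈ f.ker) (ho : orderOf r = p) : False := by
  have := Fact.mk hp
  obtain ⟨x, h1, h2, h3⟩ := k.exists hp p2 hd
  have fx : orderOf (f x) = p := orderOf_eq_prime (by rw [← map_pow, ← h2, pow_orderOf_eq_one,
    map_one]) h3
  have hS : Sy[p] (zpowers (f x)) ⊤ := sy_of_max le_top (pg_zp hp fx) fun Q _ hQ e =>
    (eq_of_le_of_card e (by
      rw [card_zpowers, fx]; exact Nat.le_of_dvd hp.pos (pg_dvd k.card hp p2 hQ))).symm
  obtain ⟨i, i1, i2⟩ : ∃ i ∈ N[zpowers (f x)], i ∉ C1[f x] := by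
    by_contra! e
    have hb := burnside_amb hS fun g hg => cent_zpowers (f x) ▸ e g hg.2
    rcases (normal_of_top (le_norm_piCoreOf_self {p}ᶜ (⊤ : Subgroup L))).eq_bot_or_eq_top
      with e | e
    · exact pi_of_hl_bot hb e 2 Nat.prime_two (by rw [card_top, k.card]; norm_num) p2.symm
    · exact (hl_pi hb).not_dvd hp (by simp) (by rwa [e, card_top, k.card])
  obtain ⟨j, j1, rfl⟩ : i ∈ K.map f := k.m ▸ mem_top i
  have c : ∀ y ∈ K, Commute y r := fun y hy => (mem_cent.1 (k.c hy) r hr).symm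
  have fr : f (x * r) = f x := by rw [map_mul, hr, mul_one]
  have e := (k.h (zpowers (x * r)) p p hp hp ((pg_of_pow hp (k := 1) (by
    rw [pow_one, (c x h1).mul_pow, ← h2, pow_orderOf_eq_one, h2, ← ho, pow_orderOf_eq_one,
      mul_one])).mono (by simp)) fun e => h3 (by
        rw [MonoidHom.mem_ker, ← fr]; exact e (mem_zpowers _))).2
  rw [← comap_map_eq, MonoidHom.map_zpowers, fr] at e
  obtain ⟨n, hn⟩ := conj_mem (e ▸ le_normalizer_comap f i1) (mem_zpowers (x * r))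
  simp only [(c x h1).mul_zpow, conj_mul', conj_of_cent (mem_cent1.2 (c j j1))] at hn
  have e1 : (x ^ n)⁻¹ * (j * x * j⁻¹) = r ^ n * r⁻¹ := by
    rw [inv_mul_eq_iff_eq_mul, ← mul_assoc, hn, mul_inv_cancel_right]
  have e2 : r ^ n * r⁻¹ = 1 := eq_one_of_mem_bot (k.z.inf_eq_bot ((pg_zp hp ho).compl_of_ne p2))
    (mem_inf.2 ⟨mem_inf.2 ⟨e1 ▸ mul_mem (inv_mem (zpow_mem h1 n)) (k.n.conj_mem x h1 j),
      mul_mem (zpow_mem hr n) (inv_mem hr)⟩,
      mul_mem (zpow_mem (mem_zpowers r) n) (inv_mem (mem_zpowers r))⟩)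
  rw [e2, inv_mul_eq_one] at e1
  rw [← zpow_sub_one, ← orderOf_dvd_iff_zpow_eq_one, ho, ← h2, orderOf_dvd_iff_zpow_eq_one,
    zpow_sub_one, mul_inv_eq_one, e1] at e2
  exact i2 (cent_of_conj (by rw [← map_inv, ← map_mul, ← map_mul, e2]))

theorem KK.two (k : KK f K) {z u w : L} (F : FG z u) (T : TR z u w) (hr : r ∈ f.ker) {a : ℕ}
    (ho : r ^ 2 ^ a = 1) : r ∈ K := by
  have := k.n
  obtain ⟨x, x1, rfl⟩ : z ∈ K.map f := k.m ▸ mem_top z
  obtain ⟨y, y1, rfl⟩ : w ∈ K.map f := k.m ▸ mem_top w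
  have c : ∀ y ∈ K, Commute y r := fun y hy => (mem_cent.1 (k.c hy) r hr).symm
  have fr : f (x * r) = f x := by rw [map_mul, hr, mul_one]
  have hA : Pg[2] (K ⊓ (zpowers u).comap f) := isPi_of_forall_orderOf fun g hg hp => by
    obtain ⟨b, hb⟩ := pg_pow k.z (x := g * g) (mem_inf.2 ⟨mul_mem hg.1 hg.1, by
      rw [MonoidHom.mem_ker, map_mul]
      rcases (mem_zp2 F.u2).1 hg.2 with e | e <;> rw [e]
      exacts [mul_one _, F.u2]⟩)
    exact pg_of_pow Nat.prime_two (k := b + 1) (x := g) (by rw [pow_succ', pow_mul, pow_two, hb]) _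
      hp (card_zpowers g).symm.dvd
  have hn : zpowers (x * r) ≤ N[K ⊓ (zpowers u).comap f] :=
    norm_inf (le_top.trans (normalizer_eq_top K).ge) (zpowers_le.2 (le_normalizer_comap f (by
      rw [mem_comap, fr, norm_zp2 F.u2 F.u1]; exact mem_cent1.2 F.c.symm)))
  have hx : Pg[2] (zpowers (x * r)) := by
    obtain ⟨b, hb⟩ := pg_pow k.z (x := x * x) (mem_inf.2 ⟨mul_mem x1 x1, by
      rw [MonoidHom.mem_ker, map_mul, F.z2]⟩)
    refine pg_of_pow Nat.prime_two (k := b + 1 + a) ?_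
    rw [(c x x1).mul_pow, pow_add 2, pow_mul, pow_succ', pow_mul, pow_two, hb, one_pow, one_mul,
      mul_comm, pow_mul, ho, one_pow]
  have hu : y * x * y⁻¹ ∈ K ⊓ (zpowers u).comap f := mem_inf.2 ⟨k.n.conj_mem x x1 y, by
    rw [mem_comap, map_mul, map_mul, map_inv, T.wz]; exact mem_zpowers u⟩
  have e := (k.h _ 2 2 Nat.prime_two Nat.prime_two ((hA.sup_of_le_norm' hx hn).mono (by simp))
    fun e => F.z1 (by rw [← fr]; exact e (mem_sup_right (mem_zpowers _)))).2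
  have e1 : (K ⊓ (zpowers u).comap f ⊔ zpowers (x * r)).map f = F.V := by
    refine le_antisymm (map_le_iff_le_comap.2 (sup_le (inf_le_right.trans
      (comap_mono (zpowers_le.2 F.um))) (zpowers_le.2 (by rw [mem_comap, fr]; exact F.zm))))
      (F.le ⟨_, mem_sup_right (mem_zpowers _), fr⟩ ⟨_, mem_sup_left hu, ?_⟩)
    rw [map_mul, map_mul, map_inv, T.wz]
  rw [← comap_map_eq, e1] at e
  have e2 := conj_mem (e ▸ le_normalizer_comap f (T.norm F)) (mem_sup_right (mem_zpowers (x * r)))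
  rw [conj_mul', conj_of_cent (mem_cent1.2 (c y y1)), mul_mem_cancel_left (mem_sup_left hu)] at e2
  obtain ⟨d, d1, _, d2, e3⟩ := (mem_sup_l hn).1 e2
  obtain ⟨n, rfl⟩ := (mem_powers_iff_mem_zpowers.2 d2 : _ ∈ Submonoid.powers _)
  obtain ⟨m, rfl | rfl⟩ := Nat.even_or_odd' n
  · let π := QuotientGroup.mk' K
    have p1 : ∀ g ∈ K, π g = 1 := fun g hg => (QuotientGroup.eq_one_iff g).2 hg
    have e4 := congrArg π e3
    simp only [map_mul, map_pow, p1 d d1.1, p1 x x1, one_mul] at e4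
    have e5 : ∀ b : ℕ, π r ^ (2 * m) ^ b = π r := fun b => by
      induction b with
      | zero => simp
      | succ b ih => rw [pow_succ, pow_mul, ih, e4]
    refine (QuotientGroup.eq_one_iff r).1 ((e5 a).symm.trans ?_)
    rw [mul_pow, pow_mul, ← map_pow, ho, map_one, one_pow]
  · exfalso
    have e4 := congrArg f e3
    rw [map_mul f d, map_pow, fr, pow_succ, pow_mul, pow_two, F.z2, one_pow, one_mul, hr] at e4
    rcases (mem_zp2 F.u2).1 d1.2 with e | e <;> rw [e] at e4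
    · exact F.z1 (by simpa using e4)
    · exact F.zu1 (F.c ▸ e4)

theorem KK.comm (k : KK f K) : IsMulCommutative (Op[{2}ᶜ] f.ker) := by
  by_contra e
  obtain ⟨Q, -, -, ⟨e⟩, -⟩ := Cfsg.Agent.S4211.result e fun H => by
    rw [← subgroupOf_map H]
    have hH := (map_subtype_le H).trans (piCoreOf_le _ _)
    refine normal_subgroupOf_of_le_normalizer ((piCoreOf_le _ _).trans fun g hg =>
      mem_norm_of_cj_le (cj_le_iff.2 (le_of_sy fun l hl _ => ?_)))
    have := Fact.mk hl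
    obtain ⟨P, hP⟩ := sy_exists l (H.map (Op[{2}ᶜ] f.ker).subtype)
    exact ⟨P, hP, le_cj_iff.2 (by
      rw [inv_inv, cj_norm (k.norm hl (hP.1.trans hH) (hl_pi hP) hg)]; exact hP.1)⟩
  refine (isPi_piCoreOf {2}ᶜ f.ker).not_dvd Nat.prime_two (by simp)
    (.trans ?_ (card_subgroup_dvd_card Q))
  rw [Nat.card_congr e.toEquiv, Nat.card_eq_fintype_card, QuaternionGroup.card]
  norm_num

theorem KK.fin (k : KK f K) [IsSimpleGroup L] {z u w : L} (F : FG z u) (T : TR z u w) :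
    K ⊔ Op[{2}ᶜ] f.ker = ⊤ ∧ (Nat.card K).Coprime (Nat.card (Op[{2}ᶜ] f.ker)) := by
  constructor
  · have hn : Group.IsNilpotent f.ker :=
      nil_of_sy_normal fun l hl P hP => k.norm hl hP.1 (hl_pi hP)
    rw [eq_top_iff, ← sup_ker k.m]
    refine sup_le le_sup_left ((piCoreOf_sup_compl hn {2}).ge.trans (sup_le_sup_right ?_ _))
    intro r hr
    obtain ⟨a, ha⟩ := pg_pow (isPi_piCoreOf _ _) hr
    exact k.two F T (piCoreOf_le _ _ hr) ha
  · refine Nat.coprime_of_dvd fun l hl h1 h2 => ?_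
    have l2 : l ≠ 2 := isPi_piCoreOf {2}ᶜ f.ker l hl h2
    obtain ⟨r, r1, r2⟩ := exists_orderOf hl h2
    refine k.odd hl l2 ?_ (piCoreOf_le _ _ r1) r2
    rw [← card_inf_mul_relIndex f.ker K, inf_comm, relIndex_ker, k.m, card_top, k.card] at h1
    exact ((Nat.Prime.dvd_mul hl).1 h1).resolve_left fun e => l2 (k.z l hl e)

theorem main (hG : ¬ Group.IsSolvable G)
    (h : ∀ H : Subgroup G, ¬ H.IsSubnormal →
      (∃ p q : ℕ, p.Prime ∧ q.Prime ∧ ∀ r : ℕ, r.Prime → r ∣ Nat.card H → r = p ∨ r = q) →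
      IsCoatom N[H]) :
    ∃ K S : Subgroup G, K.Normal ∧ S.Normal ∧ K ⊓ S = ⊥ ∧ K ⊔ S = ⊤ ∧
      (Nonempty (K ≃* PSL(2, ZMod 13)) ∨ Nonempty (K ≃* SL(2, ZMod 13))) ∧
      IsMulCommutative S ∧ (Nat.card K).Coprime (Nat.card S) := by
  obtain ⟨R, hn, hs, hR⟩ := exists_rad h
  have : Fact (Nat.Prime 13) := ⟨by norm_num⟩
  have hm : MN (G ⧸ R) := RN.mn (f := QuotientGroup.mk' R) (by rwa [QuotientGroup.ker_mk'])
    (by rwa [QuotientGroup.ker_mk']) (QuotientGroup.mk'_surjective R)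
  have : Nontrivial (G ⧸ R) := QuotientGroup.nontrivial_iff.2 (by
    rintro rfl; exact hG (Group.isSolvable_of_surjective (f := (⊤ : Subgroup G).subtype)
      topEquiv.surjective))
  obtain ⟨F, _, _, hF, ⟨e0⟩⟩ := hm.l213
  obtain ⟨z0, u0, w0, b0, r0, B0⟩ := hm.exists_bb
  have := hm.simple B0
  have hc : Nat.card (G ⧸ R) = 1092 := by
    have := H4.card_psl (F := F)
    rw [hF, ← Nat.card_congr e0.toEquiv] at this
    norm_num at this; omega
  obtain ⟨e⟩ := Cfsg.Agent.S0498.result (G := G ⧸ R) 13 (Or.inr rfl) (by rw [hc]; norm_num)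
    (F := ZMod 13) (ZMod.card 13)
  have := e.symm.isSimpleGroup
  obtain ⟨z, u, w, b, r, B⟩ := (hm.congr e).exists_bb
  rw [Nat.card_congr e.toEquiv] at hc
  let f : G →* PSL(2, ZMod 13) := e.toMonoidHom.comp (QuotientGroup.mk' R)
  have hf : Function.Surjective f := e.surjective.comp (QuotientGroup.mk'_surjective R)
  have hk : f.ker = R := by
    ext g; simp [f]
  rw [← hk] at hR
  obtain ⟨K, k1, k2, k3, k4⟩ := hR.exists_K hf hc
    ((commutator_normal ⊤ ⊤).eq_bot_or_eq_top.resolve_left fun e =>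
      B.not_comm ((commutator_eq_bot_iff _).1 e))
  have hp : commutator K = ⊤ := map_injective K.subtype_injective (by
    rw [map_subtype_commutator, k4, ← MonoidHom.range_eq_map, range_subtype])
  have hz : (f.comp K.subtype).ker ≤ center K := fun y hy => mem_center_iff.2 fun g =>
    Subtype.ext (mem_cent.1 (k3 g.2) y hy).symm
  have h2 := ker_two hc hp _ hz
  have k : KK f K := ⟨hR, k1, k2, k3, by
    have := h2.map K.subtype
    rwa [← MonoidHom.comap_ker, comap_subtype, subgroupOf_map_subtype, inf_comm] at this, hc⟩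
  obtain ⟨a1, a2⟩ := k.fin B.F B.T
  have hg : Function.Surjective (f.comp K.subtype) := fun y => by
    obtain ⟨x, hx, rfl⟩ : y ∈ K.map f := k2 ▸ mem_top y
    exact ⟨⟨x, hx⟩, rfl⟩
  refine ⟨K, _, k1, normal_of_top (le_norm_piCoreOf _ (normalizer_eq_top _).ge),
    inf_bot_of_coprime a2, a1, ?_, k.comm, a2⟩
  by_cases e : (f.comp K.subtype).ker = ⊥
  · exact Or.inl ⟨MulEquiv.ofBijective _ ⟨(MonoidHom.ker_eq_bot_iff _).1 e, hg⟩⟩
  · have := Fact.mk Nat.prime_two
    exact Or.inr (sl2_cover ⟨hp⟩ (by rw [ZMod.card]; decide) (by rw [ZMod.card]; norm_num) _ hg hz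
      h2.isPGroup e)

end H16.H11.MX
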