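import Cfsg.Agent.H11.MN5
import Cfsg.Agent.H1.Super
import Cfsg.Agent.H2.Sm1
import Cfsg.Agent.H13.SL2Syl

/-! Normalizers in `L₂(13)` are maximal. -/

set_option autoImplicit false
set_option linter.unusedSectionVars false

namespace H16.H11.MX

open Subgroup Cfsg H1 H15 H1.CIT
open scoped MatrixGroups commutatorElement

variable {G : Type*} [Group G] [Finite G] {l : ℕ} {H K M N : Subgroup G} {t u v w x y z : G}

structure LL (G : Type*) [Group G] : Prop where
  s : IsSimpleGroup G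
  nc : ¬ IsMulCommutative G
  card : Nat.card G = 1092
  el : ∀ m, El G m → m ∣ 13 ∨ m ∣ 6 ∨ m ∣ 7
  six : El G 6

theorem norm_of_two (h : H ≤ M) (hc : Nat.card M = 2 * Nat.card H) : M ≤ N[H] := by
  have := card_mul_relIndex h
  rw [hc, mul_comm 2] at this
  exact (normal_subgroupOf_iff_le_normalizer h).1
    (normal_of_index_eq_two (Nat.eq_of_mul_eq_mul_left Nat.card_pos this))

theorem FG.eq (F : FG z u) (hc : Nat.card K = 4) (h1 : z ∈ K) (h2 : u ∈ K) : F.V = K :=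
  eq_of_le_of_card (F.le h1 h2) (by rw [hc, F.card])

theorem FG.mk' (h : ∀ x ∈ K, x * x = 1) (h1 : z ∈ K) (h2 : u ∈ K) (z1 : z ≠ 1)
    (e : u ∉ zpowers z) : FG z u :=
  ⟨h z h1, h u h2, by
    rw [← inv_eq_of_mul_eq_one_left (h _ (mul_mem h2 h1)), mul_inv_rev,
      inv_eq_of_mul_eq_one_left (h z h1), inv_eq_of_mul_eq_one_left (h u h2)], z1,
    fun e1 => e (e1 ▸ one_mem _), fun e1 => e (e1 ▸ mem_zpowers _)⟩

theorem exists_fg (h : ∀ x ∈ K, x * x = 1) (h4 : 4 ∣ Nat.card K) (h1 : z ∈ K) (z1 : z ≠ 1) :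
    ∃ u ∈ K, FG z u := by
  obtain ⟨u, a, b⟩ : ∃ u ∈ K, u ∉ zpowers z := by
    by_contra! e
    have := h4.trans (card_dvd e)
    rw [card_zpowers, ord2 (h z h1) z1] at this
    omega
  exact ⟨u, a, FG.mk' h h1 a z1 b⟩

namespace LL

theorem dvd (h : LL G) (M : Subgroup G) : Nat.card M ∣ 1092 := h.card ▸ card_subgroup_dvd_card M

theorem small (h : LL G) (hM : M ≠ ⊤) : Nat.card M ≤ 84 := by
  have := h.s
  have e := H2.sm_two_card_dvd h.nc M hM
  rw [h.card] at e
  have e2 := (Nat.Prime.dvd_factorial (p := 13) (by norm_num)).1 (.trans (by norm_num) e)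
  have e3 := M.card_mul_index
  rw [h.card] at e3
  nlinarith

theorem norm_ne (h : LL G) (h1 : H ≠ ⊥) (h2 : H ≠ ⊤) : N[H] ≠ ⊤ := fun e =>
  (h.s.eq_bot_or_eq_top_of_normal H (normal_of_top e.ge)).elim h1 h2

theorem ne_top (h : LL G) (hc : Nat.card H ≤ 84) : H ≠ ⊤ := fun e => by
  rw [e, card_top, h.card] at hc; omega

theorem sy (h : LL G) (hp : l.Prime) (l2 : l ≠ 2) (hx : orderOf x = l) : Sy[l] (zpowers x) ⊤ :=
  have := Fact.mk hp
  sy_of_max le_top (pg_zp hp hx) fun _ _ hQ e => (eq_of_le_of_card e (by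
    rw [card_zpowers, hx]; exact Nat.le_of_dvd hp.pos (pg_dvd h.card hp l2 hQ))).symm

theorem selfc (h : LL G) (hl : l = 7 ∨ l = 13) (hx : orderOf x = l) : C1[x] ≤ zpowers x := by
  have hp : l.Prime := by rcases hl with rfl | rfl <;> norm_num
  refine (hl_max (h.sy hp (by omega) hx) le_top (isPi_of_forall_orderOf fun g hg hq => ?_)
    (zpowers_le.2 (cent1_self x))).le
  by_contra e
  have := h.el _ (el_mul (mem_cent1.1 hg) dvd_rfl hx.symm.dvd ((Nat.coprime_primes hq hp).2 e))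
  have := hq.two_le
  rcases hl with rfl | rfl <;> rcases this with e | e | e <;> have := Nat.le_of_dvd (by omega) e <;>
    omega

theorem normal (h : LL G) (hl : l = 7 ∨ l = 13) (hx : orderOf x = l) (hM : M ≠ ⊤) (e : x ∈ M) :
    M ≤ N[zpowers x] := by
  have hp : l.Prime := by rcases hl with rfl | rfl <;> norm_num
  have := Fact.mk hp
  have h1 := relIndex_normalizer_modEq_one
    (hl_of_le (h.sy hp (by omega) hx) (zpowers_le.2 e) le_top)
  have h2 := card_mul_relIndex (zpowers_le.2 e)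
  obtain ⟨k, hk⟩ := relIndex_dvd_of_le_left M (le_norm (zpowers x))
  rw [card_zpowers, hx, hk] at h2
  have h3 := h.small hM
  have h4 : l * N[zpowers x].relIndex M ∣ 1092 := .trans ⟨k, by rw [← h2, mul_assoc]⟩ (h.dvd M)
  have h5 : l * N[zpowers x].relIndex M ≤ 84 :=
    (Nat.le_of_dvd Nat.card_pos ⟨k, by rw [← h2, mul_assoc]⟩).trans h3
  rw [← relIndex_eq_one]
  generalize N[zpowers x].relIndex M = n at h1 h4 h5
  rw [Nat.ModEq] at h1
  rcases hl with rfl | rfl
  · obtain rfl | rfl : n = 1 ∨ n = 8 := by omega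
    · rfl
    · omega
  · omega

theorem big (h : LL G) (hl : l = 7 ∨ l = 13) (hx : orderOf x = l) (hH : H ≠ ⊤) (e : x ∈ H) :
    IsCoatom N[H] := by
  have x1 : x ≠ 1 := by rintro rfl; rw [orderOf_one] at hx; omega
  have hN := h.norm_ne (zpowers_ne_bot' x1) (h.ne_top (by rw [card_zpowers]; omega))
  have hc : IsCoatom N[zpowers x] := ⟨hN, fun M hM => by
    by_contra e
    exact hM.not_ge (h.normal hl hx e (hM.le (le_norm _ (mem_zpowers x))))⟩
  rwa [ceq hc (h.norm_ne (ne_bot_of_mem e x1) hH) (norm_of_der_le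
    ((der_cent_cyclic (cyclic_zpowers x) le_rfl).trans
      (cent_zpowers x ▸ (h.selfc hl hx).trans (zpowers_le.2 e))) (h.normal hl hx hH e))]

theorem sq (h : LL G) (hK : Pg[2] K) (hx : x ∈ K) : x * x = 1 := by
  obtain ⟨k, hk⟩ := pg_pow hK hx
  obtain ⟨j, -, hj⟩ := (Nat.dvd_prime_pow Nat.prime_two).1 (orderOf_dvd_of_pow_eq_one hk)
  rw [← pow_two, ← orderOf_dvd_iff_pow_eq_one, hj]
  rcases j with _ | _ | j
  · simp
  · simp
  · have := h.el 4 (El.dvd ⟨x, hj⟩ (pow_dvd_pow 2 (by omega : 2 ≤ j + 1 + 1)))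
    omega

theorem fg (h : LL G) (h4 : 4 ∣ Nat.card M) (h1 : z ∈ M) (z2 : z * z = 1) (z1 : z ≠ 1) :
    ∃ u ∈ M, FG z u := by
  have := Fact.mk Nat.prime_two
  obtain ⟨P, hP, e⟩ := sy_exists_ge (zpowers_le.2 h1) (pg_zp2 z2 z1)
  rw [← card_mul_relIndex hP.1] at h4
  obtain ⟨u, a, b⟩ := exists_fg (fun _ => h.sq (hl_pi hP)) (Nat.Coprime.dvd_of_dvd_mul_right
    (Nat.Coprime.pow_left 2 ((Nat.Prime.coprime_iff_not_dvd Nat.prime_two).2
      (sy_not_dvd hP Nat.prime_two))) h4) (e (mem_zpowers z)) z1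
  exact ⟨u, hP.1 a, b⟩

theorem fg' (h : LL G) (h4 : 4 ∣ Nat.card M) : ∃ z ∈ M, ∃ u ∈ M, FG z u := by
  obtain ⟨z, a, b⟩ := exists_orderOf Nat.prime_two (.trans (by norm_num) h4)
  exact ⟨z, a, h.fg h4 a (sq_of_ord b) (ne_one_of_ord Nat.prime_two b)⟩

theorem d12 (h : LL G) (h7 : ¬ 7 ∣ Nat.card M) (h13 : ¬ 13 ∣ Nat.card M) : Nat.card M ∣ 12 :=
  Nat.Coprime.dvd_of_dvd_mul_right (Nat.Coprime.mul_right
    ((Nat.Prime.coprime_iff_not_dvd (by norm_num)).2 h7).symm
    ((Nat.Prime.coprime_iff_not_dvd (by norm_num)).2 h13).symm) (h.dvd M)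

theorem four (h : LL G) (hM : M ≠ ⊤) (h4 : 4 ∣ Nat.card M) : Nat.card M ∣ 12 := by
  obtain ⟨z, a, u, b, F⟩ := h.fg' h4
  have key : ∀ l, l = 7 ∨ l = 13 → ¬ l ∣ Nat.card M := fun l hl hd => by
    have hp : l.Prime := by rcases hl with rfl | rfl <;> norm_num
    obtain ⟨x, c, hx⟩ := exists_orderOf hp hd
    have n : ∀ t, t * t = 1 → t ≠ 1 → t ∉ C1[x] := fun t t2 t1 e => by
      have := orderOf_dvd_of_mem_zpowers (h.selfc hl hx e)
      rw [ord2 t2 t1, hx] at this
      omega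
    exact n _ F.zu2 F.zu1 (cent_of_inv
      (inverts hp hx F.z2 (h.normal hl hx hM c a) (n _ F.z2 F.z1))
      (inverts hp hx F.u2 (h.normal hl hx hM c b) (n _ F.u2 F.u1)))
  exact h.d12 (key 7 (Or.inl rfl)) (key 13 (Or.inr rfl))

theorem c12 (h : LL G) (hN : N ≠ ⊤) (hd : 12 ∣ Nat.card N) : Nat.card N = 12 :=
  Nat.dvd_antisymm (h.four hN (.trans (by norm_num) hd)) hd

theorem coat (h : LL G) (hN : N ≠ ⊤) (hd : 12 ∣ Nat.card N) : IsCoatom N := ⟨hN, fun M hM => by
  by_contra e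
  have := card_lt hM
  rw [h.c12 hN hd, h.c12 e (hd.trans (card_dvd hM.le))] at this
  omega⟩

theorem syV (h : LL G) (F : FG z u) : Sy[2] F.V ⊤ := sy_mk le_top F.pg (by
  have := card_mul_relIndex (le_top (a := F.V))
  rw [F.card, card_top, h.card] at this
  omega)

theorem normV (h : LL G) (F : FG z u) : 12 ∣ Nat.card N[F.V] ∧
    ∃ w ∈ N[F.V], orderOf w = 3 ∧ w ∉ C[F.V] := by
  have := Fact.mk Nat.prime_two
  have n : ¬ N[F.V] ≤ C[F.V] := fun e => by
    have hb := burnside_amb (h.syV F) (inf_le_right.trans e)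
    have := h.s
    rw [op_simple topEquiv.isSimpleGroup (mem_top z) F.z2 F.z1] at hb
    exact pi_of_hl_bot hb rfl 3 Nat.prime_three (by rw [card_top, h.card]; norm_num) (by simp)
  have h4 : 4 ∣ Nat.card N[F.V] := F.card ▸ card_dvd (le_norm _)
  have h12 := h.four (h.norm_ne F.ne_bot (h.ne_top (by rw [F.card]; omega))) h4
  have h3 : Nat.card N[F.V] = 12 := by
    have : Nat.card N[F.V] ≠ 4 := fun e =>
      n ((eq_of_le_of_card (le_norm _) (by rw [e, F.card])).ge.trans F.comm)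
    have := Nat.le_of_dvd (by norm_num) h12
    generalize Nat.card N[F.V] = m at *
    interval_cases m <;> omega
  obtain ⟨w, a, b⟩ := exists_orderOf Nat.prime_three (H := N[F.V]) (by rw [h3]; norm_num)
  refine ⟨h3.symm.dvd, w, a, b, fun e => n (.trans ?_ (sup_le F.comm (zpowers_le.2 e)))⟩
  refine (eq_of_le_of_card (sup_le (le_norm _) (zpowers_le.2 a)) ?_).ge
  rw [h3, card_sup_of_inf_bot (Or.inr (zpowers_le.2 a)) (F.pg.inf_eq_bot
    ((pg_zp Nat.prime_three b).compl_of_ne (by norm_num))), F.card, card_zpowers, b]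

theorem conj (h : LL G) (z2 : z * z = 1) (z1 : z ≠ 1) (t2 : t * t = 1) (t1 : t ≠ 1) :
    IsConj z t := by
  have := Fact.mk Nat.prime_two
  obtain ⟨u, -, F⟩ := h.fg (M := ⊤) (by rw [card_top, h.card]; norm_num) (mem_top z) z2 z1
  obtain ⟨-, w, a, b, c⟩ := h.normV F
  have w3 : w ^ 3 = 1 := orderOf_dvd_iff_pow_eq_one.1 b.dvd
  have mv : ∀ v ∈ F.V, v ≠ 1 → w * v * w⁻¹ ≠ v := fun v hv v1 e => by
    obtain ⟨y, hy, F'⟩ := exists_fg (fun _ => F.sq) F.card.symm.dvd hv v1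
    have e1 := F'.eq F.card hv hy
    rw [← e1] at a c
    refine c (F'.cent ▸ ⟨cent_of_conj e, ?_⟩)
    rcases F'.conj_u (cent_of_conj e) a with e2 | e2
    · exact cent_of_conj e2
    · have : w * w ∈ C1[y] := cent_of_conj (by
        rw [show w * w * y * (w * w)⁻¹ = w * (w * y * w⁻¹) * w⁻¹ by group, e2, conj_mul', e2, e,
          F'.zz])
      have e3 := mul_mem this this
      rwa [show w * w * (w * w) = w ^ 3 * w by rw [pow_succ, pow_two]; group, w3, one_mul] at e3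
  have hu := conj_mem a F.zm
  have F' : FG z (w * z * w⁻¹) := FG.mk' (fun _ => F.sq) F.zm hu z1 fun e =>
    ((mem_zp2 z2).1 e).elim (conj_eq_one_iff.not.2 z1) (mv z F.zm z1)
  have e1 := F'.eq F.card F.zm hu
  have T : TR z (w * z * w⁻¹) w := ⟨w3, rfl, by
    rcases (e1 ▸ conj_mem a hu : _ ∈ F'.V) with e | e | e | e
    · exact absurd (conj_eq_one_iff.1 e) F'.u1
    · exact absurd (by rw [conj_mul', e, F'.c]) (mv _ (mul_mem F.zm hu) F'.zu1)
    · exact absurd e (mv _ hu F'.u1)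
    · exact e⟩
  obtain ⟨g, -, hg⟩ := sy_conj_le (h.syV F') le_top (pg_zp2 t2 t1)
  exact (F'.isConj T (hg (cj_mem (mem_zpowers t))) (conj_eq_one_iff.not.2 t1)).trans
    (isConj_iff.2 ⟨g, rfl⟩).symm

theorem cent_ne (h : LL G) (t2 : t * t = 1) (t1 : t ≠ 1) : C1[t] ≠ ⊤ := by
  rw [← norm_zp2 t2 t1]
  exact h.norm_ne (zpowers_ne_bot' t1) (h.ne_top (by rw [card_zpowers, ord2 t2 t1]; omega))

theorem base (h : LL G) : ∃ z b : G, orderOf z = 2 ∧ orderOf b = 3 ∧ Nat.card C1[z] = 12 ∧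
    C1[z] ≤ N[zpowers b] := by
  obtain ⟨y, hy⟩ := h.six
  have z2 := ord_pow_div (x := y) (k := 2) (by omega)
  have b3 := ord_pow_div (x := y) (k := 3) (by omega)
  have z1 := ne_one_of_ord Nat.prime_two z2
  have yz : y ∈ C1[y ^ (orderOf y / 2)] := mem_cent1.2 ((Commute.refl y).pow_right _)
  obtain ⟨u, -, F⟩ := h.fg (M := ⊤) (by rw [card_top, h.card]; norm_num) (mem_top _)
    (sq_of_ord z2) z1
  have h4 := card_dvd (F.le_cent.trans inf_le_left)
  have h6 := orderOf_dvd_card yz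
  rw [F.card] at h4
  nth_rw 1 [hy] at h6
  have e := h.c12 (h.cent_ne (sq_of_ord z2) z1) (by omega)
  exact ⟨_, _, z2, b3, e, (norm_of_two (zpowers_le.2 yz) (by rw [e, card_zpowers, hy])).trans
    (norm_le_norm_cyclic (cyclic_zpowers y) (zpowers_le.2 (pow_mem (mem_zpowers y) _)))⟩

theorem three (h : LL G) (hx : orderOf x = 3) : 12 ∣ Nat.card N[zpowers x] := by
  have := Fact.mk Nat.prime_three
  obtain ⟨z, b, -, b3, e1, e2⟩ := h.base
  obtain ⟨g, -, hg⟩ := sy_conj (h.sy Nat.prime_three (by norm_num) b3)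
    (h.sy Nat.prime_three (by norm_num) hx)
  rw [← hg, norm_cj, card_cj, ← e1]
  exact card_dvd e2

theorem main (h : LL G) (h1 : H ≠ ⊥) (h2 : H ≠ ⊤) : IsCoatom N[H] := by
  by_cases h7 : 7 ∣ Nat.card H
  · obtain ⟨x, a, b⟩ := exists_orderOf (by norm_num) h7
    exact h.big (Or.inl rfl) b h2 a
  by_cases h13 : 13 ∣ Nat.card H
  · obtain ⟨x, a, b⟩ := exists_orderOf (by norm_num) h13
    exact h.big (Or.inr rfl) b h2 a
  refine h.coat (h.norm_ne h1 h2) ?_
  have hd := h.d12 h7 h13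
  have := Nat.le_of_dvd (by norm_num) hd
  have := (one_lt_card_iff_ne_bot _).2 h1
  have c : Nat.card H = 2 ∨ Nat.card H = 3 ∨ Nat.card H = 4 ∨ Nat.card H = 6 ∨
      Nat.card H = 12 := by
    generalize Nat.card H = n at *
    interval_cases n <;> omega
  rcases c with c | c | c | c | c
  · obtain ⟨t, a, b⟩ := exists_orderOf Nat.prime_two c.symm.dvd
    have t1 := ne_one_of_ord Nat.prime_two b
    obtain ⟨z, -, z2, -, e, -⟩ := h.base
    obtain ⟨g, rfl⟩ := isConj_iff.1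
      (h.conj (sq_of_ord z2) (ne_one_of_ord Nat.prime_two z2) (sq_of_ord b) t1)
    rw [← zpowers_eq_of_prime (c ▸ Nat.prime_two) a t1, norm_zp2 (sq_of_ord b) t1, cent1_cj,
      card_cj, e]
  · obtain ⟨x, a, b⟩ := exists_orderOf Nat.prime_three c.symm.dvd
    rw [← zpowers_eq_of_prime (c ▸ Nat.prime_three) a (ne_one_of_ord Nat.prime_three b)]
    exact h.three b
  · obtain ⟨z, a, u, b, F⟩ := h.fg' c.symm.dvd
    rw [← F.eq c a b]
    exact (h.normV F).1
  · obtain ⟨x, a, b⟩ := exists_orderOf Nat.prime_three (H := H) (by omega)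
    have e := h.c12 (h.norm_ne (zpowers_ne_bot' (ne_one_of_ord Nat.prime_three b))
      (h.ne_top (by rw [card_zpowers]; omega))) (h.three b)
    rw [← e]
    exact card_dvd (norm_of_two (norm_of_two (zpowers_le.2 a) (by rw [c, card_zpowers, b]))
      (by rw [e, c]))
  · rw [← c]; exact card_dvd (le_norm _)

end LL

instance fact13 : Fact (Nat.Prime 13) := ⟨by norm_num⟩

theorem ll13 : LL PSL(2, ZMod 13) := by
  have el := @el_psl_odd (ZMod 13) _ _ 13 1 (by norm_num) (by norm_num) (by rw [ZMod.card]; rfl)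
    (by rw [ZMod.card]; norm_num)
  rw [ZMod.card] at el
  have hc : Nat.card PSL(2, ZMod 13) = 1092 := by
    have := H4.card_psl (F := ZMod 13)
    rw [ZMod.card] at this
    exact Nat.eq_of_mul_eq_mul_left two_pos this
  have hs := H22.PSL_fin_isSimpleGroup (F := ZMod 13) 2 le_rfl fun _ => by rw [ZMod.card]; norm_num
  refine ⟨hs, fun e => ?_, hc, fun m hm => ?_, el.2 (Or.inr (Or.inl (by norm_num)))⟩
  · have := (Group.is_simple_iff_prime_card (α := PSL(2, ZMod 13))).1 hs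
    rw [hc] at this
    norm_num at this
  · exact (el.1 hm).imp_right fun e => e.imp
      (fun e => Nat.dvd_of_mul_dvd_mul_left two_pos e) fun e => Nat.dvd_of_mul_dvd_mul_left two_pos e

theorem prod_main {K S L : Type*} [Group K] [CommGroup S] [Finite K] [Finite S] [Group L] [Finite L]
    (hL : LL L) (f : K →* L) (hf : Function.Surjective f)
    (hc : f.ker ≤ center K) (h2 : ∀ a ∈ f.ker, a * a = 1)
    (h3 : ∀ t : K, orderOf t = 2 → ∀ a ∈ f.ker, a = 1 ∨ a = t)
    (hKS : (Nat.card K).Coprime (Nat.card S)) (H : Subgroup (K × S)) (hH : ¬ H.Normal) :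
    IsCoatom N[H] := by
  let φ : K × S →* L := f.comp (MonoidHom.fst K S)
  have hφ : Function.Surjective φ := hf.comp Prod.fst_surjective
  have hz : φ.ker ≤ center (K × S) := fun x hx => mem_center_iff.2 fun g =>
    Prod.ext (mem_center_iff.1 (hc hx) _) (mul_comm _ _)
  have h1 : H.map φ ≠ ⊥ := fun e => hH (normal_of_le_center
    (((Subgroup.map_eq_bot_iff _).1 e).trans hz))
  have h4 : H.map φ ≠ ⊤ := fun e => hH (normal_of_top (norm_of_der_le ?_ le_top))
  swap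
  · rw [← sup_ker e, der_sup_cent fun x _ => mem_cent.2 fun y hy => (mem_center_iff.1 (hz hy) x).symm,
      der_eq_bot.2 (comm_iff.2 fun x _ => mem_cent.2 fun y hy => (mem_center_iff.1 (hz hy) x).symm),
      sup_bot_eq]
    exact der_le H
  have sp : ∀ k s, (k, s) ∈ H → (k, (1 : S)) ∈ H := fun k s e => by
    obtain ⟨n, n1, n2⟩ := Nat.chineseRemainder hKS 1 0
    have := pow_mem e n
    rwa [Prod.pow_mk, pow_eq_pow_iff_modEq.2 (n1.of_dvd (orderOf_dvd_natCard k)),
      pow_eq_pow_iff_modEq.2 (n2.of_dvd (orderOf_dvd_natCard s)), pow_one, pow_zero] at this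
  have e : N[H] = N[H.map φ].comap φ := by
    refine le_antisymm (map_le_iff_le_comap.1 (le_normalizer_map φ)) fun g hg =>
      mem_norm_of_cj_le (cj_le_forall.2 ?_)
    rintro ⟨k, s⟩ hx
    have hk := sp k s hx
    obtain ⟨⟨k', s'⟩, a, b⟩ := conj_mem hg (mem_map_of_mem φ hx)
    have a' := sp k' s' a
    have c : k'⁻¹ * (g.1 * k * g.1⁻¹) ∈ f.ker := by
      rw [MonoidHom.mem_ker, map_mul, map_inv, inv_mul_eq_one, map_mul, map_mul, map_inv]
      exact b
    have d : (k'⁻¹ * (g.1 * k * g.1⁻¹), (1 : S)) ∈ H := by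
      let A := H.comap (MonoidHom.inl K S)
      by_cases o : 2 ∣ Nat.card A
      · obtain ⟨t, t1, t2⟩ := exists_orderOf Nat.prime_two o
        rcases h3 t t2 _ c with e | e <;> rw [e]
        exacts [one_mem _, t1]
      · obtain ⟨m, hm⟩ : Odd (Nat.card A) := Nat.odd_iff.2 (Nat.two_dvd_ne_zero.1 o)
        have p1 : k ^ Nat.card A = 1 := orderOf_dvd_iff_pow_eq_one.1 (orderOf_dvd_card (H := A) hk)
        have p2 : k' ^ Nat.card A = 1 := orderOf_dvd_iff_pow_eq_one.1 (orderOf_dvd_card (H := A) a')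
        have p3 : (k' * (k'⁻¹ * (g.1 * k * g.1⁻¹))) ^ Nat.card A = 1 := by
          rw [mul_inv_cancel_left, conj_pow, p1]; simp
        rw [Commute.mul_pow (mem_center_iff.1 (hc c) k'), p2, one_mul, hm, pow_succ, pow_mul,
          pow_two, h2 _ c, one_pow, one_mul] at p3
        rw [p3]; exact one_mem _
    have := mul_mem (mul_mem a' d) (mul_mem (inv_mem hk) hx)
    convert this using 1
    ext <;> simp
  rw [e]
  exact isCoatom_comap_of_surjective hφ (hL.main h1 h4)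

theorem s4234 {K S : Type*} [Group K] [CommGroup S] [Finite K] [Finite S]
    (hK : Nonempty (K ≃* PSL(2, ZMod 13)) ∨ Nonempty (K ≃* SL(2, ZMod 13)))
    (hKS : (Nat.card K).Coprime (Nat.card S)) (H : Subgroup (K × S)) (hH : ¬ H.Normal) :
    IsCoatom N[H] := by
  have ho : Odd (Fintype.card (ZMod 13)) := by rw [ZMod.card]; decide
  rcases hK with ⟨⟨e⟩⟩ | ⟨⟨e⟩⟩
  · have k : ∀ a ∈ e.toMonoidHom.ker, a = 1 := fun a ha => e.map_eq_one_iff.1 ha
    exact prod_main ll13 e.toMonoidHom e.surjective (fun a ha => k a ha ▸ one_mem _)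
      (fun a ha => by rw [k a ha, mul_one]) (fun _ _ a ha => Or.inl (k a ha)) hKS H hH
  · let f : K →* PSL(2, ZMod 13) := (QuotientGroup.mk' _).comp e.toMonoidHom
    have k : ∀ a ∈ f.ker, e a ∈ center SL(2, ZMod 13) := fun a ha =>
      (QuotientGroup.eq_one_iff _).1 ha
    refine prod_main ll13 f ((QuotientGroup.mk'_surjective _).comp e.surjective)
      (fun a ha => mem_center_iff.2 fun g => e.injective ?_) (fun a ha => e.injective ?_)
      (fun t ht a ha => ?_) hKS H hH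
    · rw [map_mul, map_mul, mem_center_iff.1 (k a ha)]
    · rcases (H13.mem_center_sl2 ho).1 (k a ha) with h | h <;> rw [map_mul, h] <;> simp
    · refine ((H13.mem_center_sl2 ho).1 (k a ha)).imp e.map_eq_one_iff.1 fun h => e.injective ?_
      rw [h, H13.sl2_eq_neg_one ho (e.map_eq_one_iff.not.2 (ne_one_of_ord Nat.prime_two ht))
        (by rw [← map_mul, sq_of_ord ht, map_one])]

end H16.H11.MX
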