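import Cfsg.Agent.H6.OT2
import Cfsg.Agent.H6.Inv2
import Cfsg.Agent.H1.Cores

/-! Lined classes of odd transpositions: `E(d) = E_d ∪ {1}`. -/

set_option autoImplicit false
set_option linter.unusedSectionVars false
set_option linter.style.haveILetI false
set_option linter.unusedVariables false

namespace H11.Ot

open Subgroup Cfsg H16 H16.H11 H12.RD H6.OT

universe u

theorem surj_mod {α : Type*} [Finite α] (s : Setoid α) (φ : α → α) (h : ∀ a b, s (φ a) (φ b) → s a b)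
    (b : α) : ∃ a, s (φ a) b := by
  have hi : Function.Injective fun A : Quotient s => Quotient.mk s (φ A.out) := fun A B e =>
    Quotient.out_equiv_out.1 (h _ _ (Quotient.exact e))
  obtain ⟨A, hA⟩ := Finite.injective_iff_surjective.1 hi (Quotient.mk s b)
  exact ⟨_, Quotient.exact hA⟩

theorem r1 {X : Type u} [Group X] [Finite X] {D : Set X} (hD : IsRootInvolutionSet D) (hC : Cls D)
    (dd : (D ∩ commutingProducts D).Nonempty) {a c : X} (ha : a ∈ D) (hc : c ∈ D) (hn : ¬ Cn D a c)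
    {L : Type*} [Group L] {π : X →* L} (hk : π.ker = pCore 2 X) {v : X} (hv : π v * π v = 1) :
    π v = 1 ∨ ∃ u ∈ D, π u = π v := by
  haveI : Fact (Nat.Prime 2) := ⟨Nat.prime_two⟩
  have h := ri_of hD
  obtain ⟨-, -, M, hM⟩ := zd.dc hD dd ha hc hn
  have h0 := not_mem_core hD hC (h.lined hC dd)
  set ρ := QuotientGroup.mk' (pCore 2 X) with hρ
  have eq : ∀ n, π n = 1 ↔ ρ n = 1 := fun n => by
    rw [← MonoidHom.mem_ker, hk, hρ, QuotientGroup.mk'_apply, QuotientGroup.eq_one_iff]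
  have key : ∀ n ∈ twoZCore X, ρ n * ρ n = 1 → π n = 1 := fun n hn h2 => by
    have hz : ρ n ∈ center _ := hn
    haveI : (zpowers (ρ n)).Normal := ⟨fun s hs g => by
      rwa [mem_center_iff.1 (zpowers_le.2 hz hs) g, mul_inv_cancel_right]⟩
    have := H1.le_pCore (p := 2) (N := zpowers (ρ n)) fun ⟨_, i, rfl⟩ => ⟨1, Subtype.ext (by
      show (ρ n ^ i) ^ 2 ^ 1 = 1
      rw [← zpow_natCast, ← zpow_mul, mul_comm, zpow_mul, zpow_natCast, pow_one, pow_two, h2, one_zpow])⟩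
    rw [H1.pCore_quotient_pCore, le_bot_iff, zpowers_eq_bot] at this
    exact (eq n).2 this
  have hv' : ρ v * ρ v = 1 := by rw [← map_mul, ← eq, map_mul, hv]
  set f := QuotientGroup.mk' (twoZCore X) with hf
  have fe : ∀ n, f n = 1 ↔ n ∈ twoZCore X := fun n => QuotientGroup.eq_one_iff n
  by_cases h1 : f v = 1
  · exact Or.inl (key v ((fe v).1 h1) hv')
  have f2 : f v * f v = 1 := by
    rw [← map_mul, fe]
    show ρ (v * v) ∈ center _
    rw [map_mul, hv']; exact one_mem _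
  obtain ⟨g, hg⟩ := isConj_iff.1 (H6.se_isConj hM (a := f c) (b := f v)
    (orderOf_eq_prime (by rw [pow_two, ← map_mul, h.sq c hc, map_one]) fun e => h0 c hc ((fe c).1 e))
    (orderOf_eq_prime (by rw [pow_two, f2]) h1))
  obtain ⟨g, rfl⟩ := QuotientGroup.mk'_surjective _ g
  have hu := hD.conj_mem c hc g
  have e : f (g * c * g⁻¹) = f v := by rw [map_mul, map_mul, map_inv]; exact hg
  generalize g * c * g⁻¹ = u at hu e
  have n1 : v * u ∈ twoZCore X := (fe _).1 (by rw [map_mul, e, f2])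
  have n2 := key _ n1 (by
    have hz : ρ (v * u) ∈ center _ := n1
    have uu : ρ u * ρ u = 1 := by rw [← map_mul, h.sq u hu, map_one]
    have e2 := mem_center_iff.1 hz (ρ u)
    rw [map_mul] at e2 ⊢
    calc ρ v * ρ u * (ρ v * ρ u) = ρ v * (ρ u * (ρ v * ρ u)) := by group
      _ = ρ v * ρ v * (ρ u * ρ u) := by rw [e2]; group
      _ = 1 := by rw [hv', uu, one_mul])
  refine Or.inr ⟨u, hu, ?_⟩
  rw [map_mul] at n2
  rw [← mul_one (π v), ← n2, ← mul_assoc, hv, one_mul]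

variable {G : Type u} [Group G] [Finite G] {D : Set G} {a b c d e g p q t u v w x y z : G} {X P : Subgroup G}

local notation "E[" D "]" => sameCommutingClass D
local notation "EG[" D "]" => sameCommutingSubgroup D

/-- a `2`-subgroup normalized by `X` -/
structure NP (X P : Subgroup G) : Prop where
  pg : IsPGroup 2 P
  nm : ∀ g ∈ X, ∀ p ∈ P, g * p * g⁻¹ ∈ P

/-- `O₂(X)` -/
def O2 (X : Subgroup G) : Subgroup G := (pCore 2 X).map X.subtype

theorem np_O2 (X : Subgroup G) : NP X (O2 X) :=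
  ⟨(H1.isPGroup_pCore 2).map _, by
    rintro g hg _ ⟨p, hp, rfl⟩
    exact ⟨_, (inferInstance : (pCore 2 X).Normal).conj_mem p hp ⟨g, hg⟩, rfl⟩⟩

theorem O2_le (X : Subgroup G) : O2 X ≤ X := map_subtype_le _

theorem mem_O2 {s : X} : (s : G) ∈ O2 X ↔ s ∈ pCore 2 X := mem_map_iff_mem X.subtype_injective

theorem NP.mono {Y : Subgroup G} (h : NP Y P) (l : X ≤ Y) : NP X P := ⟨h.pg, fun g hg => h.nm g (l hg)⟩

theorem E_le_EG (he : e ∈ E[D] d) : e ∈ EG[D] d := subset_closure he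

theorem EG_comm (hv : v ∈ EG[D] d) (hc : c ∈ D) (h : Commute c d) : Commute c v := by
  have : EG[D] d ≤ centralizer {c} := (closure_le _).2 fun s hs =>
    mem_centralizer_singleton_iff.2 (E_comm hs hc h).symm
  exact (show Commute v c from mem_centralizer_singleton_iff.1 (this hv)).symm

theorem EG_E (hd : d ∈ D) (hv : v ∈ EG[D] d) (he : e ∈ E[D] d) : Commute e v :=
  EG_comm hv he.1 (E_comm' he (self_E hd))

theorem EG_comm' (hd : d ∈ D) (hv : v ∈ EG[D] d) (hw : w ∈ EG[D] d) : Commute v w := by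
  have : EG[D] d ≤ centralizer {w} := (closure_le _).2 fun s hs =>
    mem_centralizer_singleton_iff.2 (EG_E hd hw hs)
  exact mem_centralizer_singleton_iff.1 (this hv)

theorem EG_eq (he : e ∈ E[D] d) : EG[D] e = EG[D] d := by
  unfold sameCommutingSubgroup; rw [E_eq he]

theorem comm_closure {S : Set G} (h : ∀ s ∈ S, Commute z s) (hg : g ∈ closure S) : Commute z g := by
  have : closure S ≤ centralizer {z} := (closure_le _).2 fun s hs =>
    mem_centralizer_singleton_iff.2 (h s hs).symm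
  exact (show Commute g z from mem_centralizer_singleton_iff.1 (this hg)).symm

variable (hD : IsOddTranspositionSet D)
include hD

theorem EG_sq (hd : d ∈ D) (hv : v ∈ EG[D] d) : v * v = 1 := by
  induction hv using closure_induction with
  | mem s hs => exact (ri_of hD.1).sq s hs.1
  | one => simp
  | mul s t hs ht h1 h2 => rw [← pow_two, (EG_comm' hd hs ht).mul_pow, pow_two, pow_two, h1, h2, one_mul]
  | inv s _ h => rw [← mul_inv_rev, h, inv_one]

theorem EG_cj (hv : v ∈ EG[D] d) (g : G) : g * v * g⁻¹ ∈ EG[D] (g * d * g⁻¹) := by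
  have : EG[D] d ≤ (EG[D] (g * d * g⁻¹)).comap (MulAut.conj g).toMonoidHom :=
    (closure_le _).2 fun s hs => E_le_EG (E_cj hD.1 hs g)
  exact this hv

theorem cm (hP : IsPGroup 2 P) (ha : a ∈ D) (hb : b ∈ D) (h : a * b * (a * b) ∈ P) : Commute a b := by
  refine (ot_cases hD ha hb).resolve_right fun o => o.1 ?_
  obtain ⟨k, hk⟩ := hP ⟨_, h⟩
  have h1 : (a * b) ^ 2 ^ (k + 1) = 1 := by
    rw [pow_succ', pow_mul, pow_two]; exact congrArg Subtype.val hk
  have h2 : a * b = 1 := orderOf_eq_one_iff.1 (Nat.Coprime.eq_one_of_dvd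
    (Nat.Coprime.pow_right _ (Nat.coprime_two_right.2 o.2)) (orderOf_dvd_of_pow_eq_one h1))
  rw [← mul_one a, ← (ri_of hD.1).sq b hb, ← mul_assoc, h2, one_mul]

theorem cm1 (hP : IsPGroup 2 P) (ha : a ∈ D) (hb : b ∈ D) (h : a * b ∈ P) : Commute a b :=
  cm hD hP ha hb (mul_mem h h)

theorem NP.mul_cj (h : NP X P) (hu : u ∈ D) (uX : u ∈ X) (hp : p ∈ P) : u * (p * u * p⁻¹) ∈ P := by
  have := mul_mem (h.nm u uX p hp) (inv_mem hp)
  rwa [(ri_of hD.1).inv hu, mul_assoc, mul_assoc, ← mul_assoc p] at this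

theorem NP.comm_cj (h : NP X P) (hu : u ∈ D) (uX : u ∈ X) (hp : p ∈ P) : Commute u (p * u * p⁻¹) :=
  cm1 hD h.pg hu (hD.1.conj_mem u hu p) (h.mul_cj hD hu uX hp)

theorem NP.comm_of_mem (h : NP X P) (hb : b ∈ D) (bX : b ∈ X) (hu : u ∈ D) (uP : u ∈ P) : Commute u b := by
  refine cm hD h.pg hu hb ?_
  have := mul_mem uP (h.nm b bX u uP)
  rwa [(ri_of hD.1).inv hb, ← mul_assoc, ← mul_assoc, mul_assoc _ u b] at this

theorem cmπ {L : Type*} [Group L] {π : X →* L} (hk : π.ker = pCore 2 X) {s t : X} (hs : (s : G) ∈ D)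
    (ht : (t : G) ∈ D) (h : Commute (π s) (π t)) : Commute (s : G) t := by
  refine cm hD (np_O2 X).pg hs ht ((mem_O2 (s := s * t * (s * t))).2 ?_)
  have s2 : s * s = 1 := Subtype.ext ((ri_of hD.1).sq _ hs)
  have t2 : t * t = 1 := Subtype.ext ((ri_of hD.1).sq _ ht)
  rw [← hk, MonoidHom.mem_ker, map_mul, map_mul, ← pow_two, h.mul_pow, pow_two, pow_two, ← map_mul, ← map_mul,
    s2, t2, map_one, one_mul]

theorem od_EE (hd : d ∈ D) (hx : x ∈ D) (o : Od x d) (he : e ∈ E[D] d) (hy : y ∈ E[D] x) : Od y e :=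
  (od_E hD he.1 hx (od_E hD hx hd o he).symm hy).symm

theorem not_comm_E (hd : d ∈ D) (hx : x ∈ D) (o : Od x d) (he : e ∈ E[D] d) : ¬ Commute x e :=
  (ri_of hD.1).od_not_comm hx he.1 (od_E hD hx hd o he)

variable (hC : Cls D) (hl : Lined D)
include hC hl

section X
variable (hd : d ∈ D) (hx : x ∈ D) (o : Od x d) (hX : closure (E[D] d ∪ {x}) = X)
include hd hx o hX

theorem EX (he : e ∈ E[D] d) : e ∈ X := hX ▸ subset_closure (Or.inl he)

theorem xX : x ∈ X := hX ▸ subset_closure (Or.inr rfl)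

theorem EGX (hv : v ∈ EG[D] d) : v ∈ X := (closure_le _).2 (fun _ he => EX hD hC hl hd hx o hX he) hv

theorem cl_E {s : X} (hs : s ∈ Cl X x) (h : Commute (s : G) d) : (s : G) ∈ E[D] d := by
  obtain ⟨g, hg, e⟩ := hs
  rw [← e] at h ⊢
  exact j1 hD hC hl hd hx o (hX ▸ hg) h

theorem X_set : IsOddTranspositionSet (Cl X x) ∧ Cls (Cl X x) ∧ (Cl X x ∩ commutingProducts (Cl X x)).Nonempty :=
  have := cl_set hD hx (fun s hs => ⟨hs.1, od_E hD hx hd o hs⟩) hX
  ⟨this.1, this.2, dd_cl hD hl hd hx o (xX hD hC hl hd hx o hX) fun _ => EX hD hC hl hd hx o hX⟩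

theorem r1X {L : Type*} [Group L] {π : X →* L} (hk : π.ker = pCore 2 X) {v : X} (hv : π v * π v = 1)
    (h1 : π v ≠ 1) : ∃ u ∈ Cl X x, π u = π v := by
  obtain ⟨h2, h3, h4⟩ := X_set hD hC hl hd hx o hX
  have x1 := xX hD hC hl hd hx o hX
  have d1 := EX hD hC hl hd hx o hX (self_E hd)
  refine (r1 h2.1 h3 h4 (a := ⟨d, d1⟩) (c := ⟨x, x1⟩) (mem_cl hD hx x1 hd o) ⟨1, one_mem _, by simp⟩
    (fun k => ?_) hk hv).resolve_left h1
  have : ∀ b : X, Cn (Cl X x) ⟨d, d1⟩ b → (b : G) ∈ E[D] d := fun b k => by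
    induction k with
    | refl => exact self_E hd
    | tail _ k ih =>
      exact cl_E hD hC hl hd hx o hX k.2.1 (E_comm (E_eq ih ▸ self_E hd) (cl_mem hD hx k.2.1)
        (congrArg Subtype.val k.2.2.2).symm)
  exact not_comm_E hD hd hx o (this _ k) (Commute.refl x)

theorem liftE {L : Type*} [Group L] {π : X →* L} (hk : π.ker = pCore 2 X) {v : X} (hv : π v * π v = 1)
    (h1 : π v ≠ 1) {d' : X} (hd' : (d' : G) ∈ E[D] d) (hc : Commute (π v) (π d')) :
    ∃ e : X, (e : G) ∈ E[D] d ∧ π e = π v := by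
  obtain ⟨u, hu, e⟩ := r1X hD hC hl hd hx o hX hk hv h1
  have := cmπ hD hk (cl_mem hD hx hu) hd'.1 (e ▸ hc)
  exact ⟨u, cl_E hD hC hl hd hx o hX hu (E_comm (E_eq hd' ▸ self_E hd) (cl_mem hD hx hu) this), e⟩

theorem cj_E (he : e ∈ E[D] d) (hq : q ∈ O2 X) : q * e * q⁻¹ ∈ E[D] d := by
  have e1 := EX hD hC hl hd hx o hX he
  obtain ⟨g, hg, e2⟩ := mem_cl hD hx (xX hD hC hl hd hx o hX) (b := ⟨e, e1⟩) he.1 (od_E hD hx hd o he)
  have q1 := O2_le X hq
  refine cl_E hD hC hl hd hx o hX (s := ⟨_, mul_mem (mul_mem q1 e1) (inv_mem q1)⟩)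
    ⟨q * g, mul_mem q1 hg, by simp only at e2 ⊢; rw [← e2]; group⟩ ?_
  exact E_comm (E_eq he ▸ self_E hd) (hD.1.conj_mem e he.1 q) ((np_O2 X).comm_cj hD he.1 e1 hq).symm

theorem cent_X (he : e ∈ E[D] d) (h1 : Commute z e) (h2 : ∀ y ∈ E[D] x, Commute z y) (hg : g ∈ X) :
    Commute z g := by
  refine comm_closure (fun s hs => ?_) (hX ▸ hg)
  rcases hs with hs | rfl
  · refine comm_closure (S := E[D] x ∪ {e}) ?_ (E_le hD hx he.1 (od_E hD hx hd o he).symm (E_eq he ▸ hs))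
    rintro s (hs | rfl); exacts [h2 s hs, h1]
  · exact h2 _ (self_E hx)

theorem cent_X' (hz : z ∈ EG[D] d) (h : Commute z x) (hg : g ∈ X) : Commute z g := by
  refine comm_closure (fun s hs => ?_) (hX ▸ hg)
  rcases hs with hs | rfl; exacts [(EG_E hd hz hs).symm, h]

theorem Z_EG (hz : z ∈ EG[D] d) (h : Commute z x) : z ∈ EG[D] x := by
  obtain ⟨t, ht, e⟩ := cj_of_od (ri_of hD.1) hd hx o.symm (EX hD hC hl hd hx o hX (self_E hd))
    (xX hD hC hl hd hx o hX)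
  have := EG_cj hD hz t
  rwa [e, cj_eq (cent_X' hD hC hl hd hx o hX hz h ht).symm] at this

theorem pigeon (he : e ∈ E[D] d) (hw : w ∈ EG[D] d) (wQ : w ∈ O2 X) :
    ∃ q ∈ O2 X, Commute (e * (q * e * q⁻¹) * w) x := by
  have h := ri_of hD.1
  obtain ⟨t, ht, et⟩ := cj_of_od h hd hx o.symm (EX hD hC hl hd hx o hX (self_E hd)) (xX hD hC hl hd hx o hX)
  have e1 := EX hD hC hl hd hx o hX he
  let Q0 : Subgroup G := EG[D] d ⊓ O2 X
  let s : Setoid Q0 := ⟨fun a b => Commute ((a : G) * b) x, fun a => by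
      rw [EG_sq hD hd a.2.1]; exact Commute.one_left _,
    fun {a b} k => by rwa [(EG_comm' hd b.2.1 a.2.1).eq], fun {a b c} k k' => by
      have := k.mul_left k'
      rwa [mul_assoc, ← mul_assoc (b : G), EG_sq hD hd b.2.1, one_mul] at this⟩
  have tq : ∀ a : Q0, t * a * t⁻¹ ∈ O2 X := fun a => (np_O2 X).nm t ht _ a.2.2
  have tx : ∀ a : Q0, t * a * t⁻¹ ∈ EG[D] x := fun a => et ▸ EG_cj hD a.2.1 t
  let φ : Q0 → Q0 := fun a => ⟨e * ((t * a * t⁻¹) * e * (t * a * t⁻¹)⁻¹),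
    mul_mem (E_le_EG he) (E_le_EG (cj_E hD hC hl hd hx o hX he (tq a))), (np_O2 X).mul_cj hD he.1 e1 (tq a)⟩
  refine (surj_mod s φ (fun a b k => ?_) ⟨w, hw, wQ⟩).elim fun a ha => ⟨_, tq a, ha⟩
  have m1 := cj_E hD hC hl hd hx o hX he (tq a)
  have m2 := cj_E hD hC hl hd hx o hX he (tq b)
  have k1 : Commute ((t * a * t⁻¹) * e * (t * a * t⁻¹)⁻¹ * ((t * b * t⁻¹) * e * (t * b * t⁻¹)⁻¹)) x := by
    have k' : Commute (e * ((t * a * t⁻¹) * e * (t * a * t⁻¹)⁻¹) * (e * ((t * b * t⁻¹) * e * (t * b * t⁻¹)⁻¹))) x := k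
    rwa [(E_comm' he m1).eq, mul_assoc, h.mul_mul he.1] at k'
  have k2 : (t * b * t⁻¹) * e * (t * b * t⁻¹)⁻¹ = (t * a * t⁻¹) * e * (t * a * t⁻¹)⁻¹ := by
    by_contra n
    exact not_comm_E hD hd hx o m1 (comm_of_mul hD m1.1 m2.1 (E_comm' m1 m2) n hx k1).symm
  have k3 : Commute ((t * a * t⁻¹)⁻¹ * (t * b * t⁻¹)) e := by
    generalize t * a * t⁻¹ = A at k2 ⊢
    generalize t * b * t⁻¹ = B at k2 ⊢
    show A⁻¹ * B * e = e * (A⁻¹ * B)
    calc A⁻¹ * B * e = A⁻¹ * (B * e * B⁻¹) * B := by group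
      _ = _ := by rw [k2]; group
  have k4 := cent_X hD hC hl hd hx o hX he k3
    (fun y hy => (EG_E hx (mul_mem (inv_mem (tx a)) (tx b)) hy).symm)
    (mul_mem (mul_mem ht (xX hD hC hl hd hx o hX)) (inv_mem ht))
  have k5 := commute_cj k4 t⁻¹
  show Commute ((a : G) * b) x
  rw [← inv_eq_of_mul_eq_one_right (EG_sq hD hd a.2.1)]
  simpa [mul_assoc] using k5

theorem starX (hv : v ∈ EG[D] d) (hn : ¬ Commute x (v * x * v⁻¹)) :
    ∃ e ∈ E[D] d, ∃ z ∈ EG[D] x, v = e * z ∧ z ∈ EG[D] d ∧ Commute z x := by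
  have h := ri_of hD.1
  have v1 := EGX hD hC hl hd hx o hX hv
  have d1 := EX hD hC hl hd hx o hX (self_E hd)
  have hk := QuotientGroup.ker_mk' (pCore 2 X)
  have vv : (⟨v, v1⟩ : X) * ⟨v, v1⟩ = 1 := Subtype.ext (EG_sq hD hd hv)
  obtain ⟨e, he, e2⟩ := liftE hD hC hl hd hx o hX hk (v := ⟨v, v1⟩) (by rw [← map_mul, vv, map_one])
    (fun k => hn ((np_O2 X).comm_cj hD hx (xX hD hC hl hd hx o hX)
      ((mem_O2 (s := ⟨v, v1⟩)).2 ((QuotientGroup.eq_one_iff _).1 k)))) (d' := ⟨d, d1⟩) (self_E hd)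
    (Commute.map (show Commute (⟨v, v1⟩ : X) ⟨d, d1⟩ from Subtype.ext (EG_E hd hv (self_E hd)).symm.eq) _)
  have w1 : (e : G) * v ∈ O2 X := (mem_O2 (s := e * ⟨v, v1⟩)).2 ((QuotientGroup.eq_one_iff _).1 (by
    change QuotientGroup.mk' _ _ = 1
    rw [map_mul, e2, ← map_mul, vv, map_one]))
  obtain ⟨q, hq, k⟩ := pigeon hD hC hl hd hx o hX he (mul_mem (E_le_EG he) hv) w1
  have m := cj_E hD hC hl hd hx o hX he hq
  rw [(E_comm' he m).eq, mul_assoc, h.mul_mul he.1] at k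
  have z1 := mul_mem (E_le_EG m) hv
  exact ⟨_, m, _, Z_EG hD hC hl hd hx o hX z1 k, (h.mul_mul m.1 v).symm, z1, k⟩

end X

end H11.Ot
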