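import Cfsg.Agent.H11.OtA

/-! Lined classes of odd transpositions: `E(d) = E_d ∪ {1}`, and triples. -/

set_option autoImplicit false
set_option linter.unusedSectionVars false
set_option linter.style.haveILetI false
set_option linter.unusedVariables false

namespace H11.Ot

open Subgroup Cfsg H16 H16.H11 H12.RD H6.OT

universe u

variable {G : Type u} [Group G] [Finite G] {D : Set G} {a b c d e g p q t u v w x y z : G} {X P : Subgroup G}

local notation "E[" D "]" => sameCommutingClass D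
local notation "EG[" D "]" => sameCommutingSubgroup D

theorem core_bot (hO : pCore 2 G = ⊥) (hZ : center G = ⊥) : twoZCore G = ⊥ := by
  refine eq_bot_iff.2 fun g hg => hZ ▸ mem_center_iff.2 fun k => ?_
  have h1 := mem_center_iff.1 (show QuotientGroup.mk' (pCore 2 G) g ∈ center _ from hg) (QuotientGroup.mk' _ k)
  rw [← map_mul, ← map_mul, QuotientGroup.mk'_apply, QuotientGroup.mk'_apply, QuotientGroup.eq, hO, mem_bot] at h1
  exact inv_mul_eq_one.1 h1

/-- the standing hypotheses -/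
structure Hp (D : Set G) : Prop where
  ot : IsOddTranspositionSet D
  cl : Cls D
  li : Lined D
  o2 : pCore 2 G = ⊥
  zb : center G = ⊥
  cn : IsConnectedSet (CommAdj D) D

namespace Hp

variable (H : Hp D)
include H

theorem ri : RI D := ri_of H.ot.1

theorem exists_od (hd : d ∈ D) : ∃ x ∈ D, Od x d := by
  by_contra! hn
  refine H.ri.ne d hd (mem_bot.1 (H.zb ▸ mem_center_iff.2 fun g => ?_))
  exact (comm_closure (fun s hs => ((ot_cases H.ot hs hd).resolve_right (hn s hs)).symm)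
    (H.ot.1.generates ▸ mem_top g)).symm

theorem eq_one (h : ∀ y ∈ D, g * y * g⁻¹ ∈ E[D] y) : g = 1 := by
  let N : Subgroup G :=
    { carrier := {g | ∀ y ∈ D, g * y * g⁻¹ ∈ E[D] y}
      one_mem' := fun y hy => by simpa using self_E hy
      mul_mem' := fun {a b} ha hb y hy => by
        have := ha _ (H.ot.1.conj_mem y hy b)
        rwa [E_eq (hb y hy), show a * (b * y * b⁻¹) * a⁻¹ = a * b * y * (a * b)⁻¹ by group] at this
      inv_mem' := fun {a} ha y hy => by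
        have h1 := H.ot.1.conj_mem y hy a⁻¹
        have := ha _ h1
        rw [show a * (a⁻¹ * y * a⁻¹⁻¹) * a⁻¹ = y by group] at this
        rw [E_eq this]; exact self_E h1 }
  haveI : N.Normal := ⟨fun n hn k y hy => by
    have := E_cj H.ot.1 (hn _ (H.ot.1.conj_mem y hy k⁻¹)) k
    rwa [show k * (k⁻¹ * y * k⁻¹⁻¹) * k⁻¹ = y by group,
      show k * (n * (k⁻¹ * y * k⁻¹⁻¹) * n⁻¹) * k⁻¹ = k * n * k⁻¹ * y * (k * n * k⁻¹)⁻¹ by group] at this⟩
  have := le_twoZCore H.ot.1 H.li (N := N) fun d hd k => by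
    obtain ⟨x, hx, o⟩ := H.exists_od hd
    exact H.ri.od_not_comm hx (k x hx).1 (H.ri.od_cj hd hx o.symm) (E_comm' (self_E hx) (k x hx))
  rw [core_bot H.o2 H.zb] at this
  exact mem_bot.1 (this h)

theorem EG_one (hd : d ∈ D) (hv : v ∈ EG[D] d) (h : ∀ y ∈ D, Commute y (v * y * v⁻¹)) : v = 1 :=
  H.eq_one fun y hy => by
    rcases ot_cases H.ot hy hd with k | o
    · rw [cj_eq (EG_comm hv hy k).symm]; exact self_E hy
    · exact j2 H.ot H.cl H.li hd hy o (EGX H.ot H.cl H.li hd hy o rfl hv) (h y hy).symm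

theorem od_of_move (hd : d ∈ D) (hv : v ∈ EG[D] d) (hy : y ∈ D) (h : ¬ Commute y (v * y * v⁻¹)) : Od y d :=
  (ot_cases H.ot hy hd).resolve_left fun k => h (by rw [cj_eq (EG_comm hv hy k).symm])

theorem Z_one (hd : d ∈ D) (hx : x ∈ D) (o : Od x d) (hz : z ∈ EG[D] d) (h : Commute z x) : z = 1 := by
  refine H.EG_one hd hz fun y hy => by_contra fun hn => ?_
  have hz' := Z_EG H.ot H.cl H.li hd hx o rfl hz h
  obtain ⟨e, he, z1, h1, e1, -⟩ := starX H.ot H.cl H.li hd hy (H.od_of_move hd hz hy hn) rfl hz hn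
  obtain ⟨e', he', z2, h2, e2, -⟩ := starX H.ot H.cl H.li hx hy (H.od_of_move hx hz' hy hn) rfl hz' hn
  refine H.ri.od_not_comm he'.1 he.1 (od_EE H.ot hd hx o he he') ?_
  have h3 : e' * e = z2 * z1⁻¹ := by
    rw [eq_mul_inv_iff_mul_eq, mul_assoc, ← e1, e2, H.ri.mul_mul he'.1]
  have h4 := EG_sq H.ot hy (h3 ▸ mul_mem h2 (inv_mem h1))
  show e' * e = e * e'
  rw [← inv_eq_of_mul_eq_one_right h4, mul_inv_rev, H.ri.inv he.1, H.ri.inv he'.1]

theorem main1 (hd : d ∈ D) (hv : v ∈ EG[D] d) : v = 1 ∨ v ∈ E[D] d := by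
  by_cases h : ∀ y ∈ D, Commute y (v * y * v⁻¹)
  · exact Or.inl (H.EG_one hd hv h)
  push Not at h
  obtain ⟨y, hy, hn⟩ := h
  have o := H.od_of_move hd hv hy hn
  obtain ⟨e, he, z, -, e1, h1, h2⟩ := starX H.ot H.cl H.li hd hy o rfl hv hn
  rw [e1, H.Z_one hd hy o h1 h2, mul_one]
  exact Or.inr he

theorem EP (hP : NP X P) (ha : a ∈ D) (hc : c ∈ D) (cX : c ∈ X) (o : Od c a) (hw : w ∈ EG[D] a) (wP : w ∈ P) :
    w = 1 :=
  (H.main1 ha hw).resolve_right fun k => not_comm_E H.ot ha hc o k (hP.comm_of_mem H.ot hc cX k.1 wP).symm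

theorem eq_of_EP (hP : NP X P) (ha : a ∈ D) (hc : c ∈ D) (cX : c ∈ X) (o : Od c a) (he : e ∈ E[D] a)
    (hu : u ∈ E[D] a) (wP : e * u ∈ P) : u = e := by
  have := H.EP hP ha hc cX o (mul_mem (E_le_EG he) (E_le_EG hu)) wP
  rw [← H.ri.mul_mul he.1 u, this, mul_one]

theorem comm_of_cj (hP : NP X P) (ha : a ∈ D) (hc : c ∈ D) (cX : c ∈ X) (o : Od c a) (he : e ∈ E[D] a)
    (eX : e ∈ X) (hp : p ∈ P) (h : p * e * p⁻¹ ∈ E[D] a) : Commute p e :=
  mul_inv_eq_iff_eq_mul.1 (H.eq_of_EP hP ha hc cX o he h (hP.mul_cj H.ot he.1 eX hp))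

theorem Q_cent (hd : d ∈ D) (hx : x ∈ D) (o : Od x d) (hX : closure (E[D] d ∪ {x}) = X) (hq : q ∈ O2 X)
    (hg : g ∈ X) : Commute q g := by
  have x1 := xX H.ot H.cl H.li hd hx o hX
  have d1 := EX H.ot H.cl H.li hd hx o hX (self_E hd)
  refine comm_closure (fun s hs => ?_) (hX ▸ hg)
  rcases hs with hs | rfl
  · exact H.comm_of_cj (np_O2 X) hd hx x1 o hs (EX H.ot H.cl H.li hd hx o hX hs) hq
      (cj_E H.ot H.cl H.li hd hx o hX hs hq)
  · exact H.comm_of_cj (np_O2 X) hx hd d1 o.symm (self_E hx) x1 hq (j2 H.ot H.cl H.li hd hx o (hX ▸ O2_le X hq)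
      ((np_O2 X).comm_cj H.ot hx x1 hq).symm)

theorem YP (ha : a ∈ D) (hy : y ∈ D) (hc : c ∈ D) (hay : Commute a y) (h1 : Od c a) (h2 : Od c y)
    (hX : closure (E[D] a ∪ E[D] y ∪ {c}) = X) (ht : t ∈ E[D] y) : ∃ e ∈ E[D] a, e * t ∈ O2 X := by
  have hD := H.ot
  have eX : ∀ s ∈ E[D] a, s ∈ X := fun s hs => hX ▸ subset_closure (Or.inl (Or.inl hs))
  have eX' : ∀ s ∈ E[D] y, s ∈ X := fun s hs => hX ▸ subset_closure (Or.inl (Or.inr hs))
  have cX : c ∈ X := hX ▸ subset_closure (Or.inr rfl)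
  have at' : Commute a t := E_comm ht ha hay
  obtain ⟨e, he, k⟩ := star hD H.cl H.li ha ht.1 hc at' h1 (od_E hD hc hy h2 ht)
  refine ⟨e, he, ?_⟩
  obtain ⟨e0, he0, hn⟩ := nonexc hD H.li ha hy hc hay h1
  have o0 := od_E hD hc ha h1 he0
  have nc := disc hD he0.1 hy hc (E_comm he0 hy hay.symm).symm o0 h2 hn (by rw [E_eq he0]; exact hX)
    (eX e0 he0) cX
  obtain ⟨hD', hC'⟩ := cl_set2 hD ha hy hc h1 h2 hX
  have m0 := mem_cl hD hc cX (b := ⟨e0, eX e0 he0⟩) he0.1 o0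
  have mc : (⟨c, cX⟩ : X) ∈ Cl X c := ⟨1, one_mem _, by simp⟩
  have hk := QuotientGroup.ker_mk' (pCore 2 X)
  have et : Commute e t := (E_comm he ht.1 at'.symm).symm
  set v : X := ⟨e * t, mul_mem (eX e he) (eX' t ht)⟩ with hv
  have vv : v * v = 1 := Subtype.ext (by
    show e * t * (e * t) = 1
    rw [← pow_two, et.mul_pow, pow_two, pow_two, H.ri.sq e he.1, H.ri.sq t ht.1, one_mul])
  rcases r1 hD'.1 hC' (dd_cl hD H.li ha hc h1 cX eX) m0 mc nc hk (v := v) (by rw [← map_mul, vv, map_one])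
    with k1 | ⟨u, hu, k1⟩
  · exact (mem_O2 (s := v)).2 ((QuotientGroup.eq_one_iff _).1 k1)
  exfalso
  have uD := cl_mem hD hc hu
  have c1 : Commute (u : G) e0 := cmπ hD hk (t := ⟨e0, eX e0 he0⟩) uD he0.1 (k1 ▸ Commute.map
    (show Commute v ⟨e0, _⟩ from Subtype.ext ((E_comm' he he0).mul_left (E_comm he0 ht.1 at'.symm)).eq) _)
  have c2 : Commute c (u * c * (u : G)⁻¹) := cmπ hD hk (s := ⟨c, cX⟩) (t := u * ⟨c, cX⟩ * u⁻¹) hc
    (hD.1.conj_mem c hc u) (by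
      rw [map_mul, map_mul, map_inv, k1, ← map_inv, ← map_mul, ← map_mul]
      exact Commute.map (show Commute (⟨c, cX⟩ : X) (v * ⟨c, cX⟩ * v⁻¹) from Subtype.ext k.eq) _)
  have c3 : Commute (u : G) c := (ot_cases hD uD hc).resolve_right fun o =>
    H.ri.od_not_comm hc (hD.1.conj_mem c hc u) (H.ri.od_cj uD hc o) c2
  exact nc ((cn_of_comm m0 hu (Subtype.ext c1.symm.eq)).trans (cn_of_comm hu mc (Subtype.ext c3.eq)))

theorem exists_W (hd : d ∈ D) : ∃ y ∈ D, Commute y d ∧ y ∉ E[D] d := by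
  by_contra! hn
  obtain ⟨x, hx, o⟩ := H.exists_od hd
  have : ∀ b, Cn D d b → b ∈ E[D] d := fun b k => by
    induction k with
    | refl => exact self_E hd
    | tail _ k ih => exact hn _ k.2.1 (E_comm (E_eq ih ▸ self_E hd) k.2.1 (k.2.2.2).symm)
  exact not_comm_E H.ot hd hx o (this x (H.cn d hd x hx)) (Commute.refl x)

theorem triple (hd : d ∈ D) :
    ∃ a ∈ D, ∃ y ∈ D, ∃ c ∈ D, Commute a y ∧ y ∉ E[D] a ∧ Od c a ∧ Od c y := by
  by_contra! hn
  obtain ⟨y, hy, h1, h2⟩ := H.exists_W hd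
  have step : ∀ b ∈ D, ∀ c ∈ D, Commute b y → y ∉ E[D] b → Od c b → Commute c y ∧ y ∉ E[D] c :=
    fun b hb c hc k1 k2 o => ⟨(ot_cases H.ot hc hy).resolve_right (hn b hb y hy c hc k1 k2 o), fun k =>
      H.ri.od_not_comm hc hb o (E_comm (E_eq k ▸ self_E hc) hb k1).symm⟩
  have key : ∀ g ∈ closure D, ∀ b ∈ D, Commute b y → y ∉ E[D] b →
      Commute (g * b * g⁻¹) y ∧ y ∉ E[D] (g * b * g⁻¹) := fun g hg => by
    induction hg using closure_induction with
    | mem s hs =>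
      intro b hb k1 k2
      rcases ot_cases H.ot hs hb with k | o
      · rw [cj_eq k]; exact ⟨k1, k2⟩
      · exact step b hb _ (H.ot.1.conj_mem b hb s) k1 k2 (H.ri.od_cj hs hb o).symm
    | one => intro b hb k1 k2; simpa using ⟨k1, k2⟩
    | mul s t _ _ i1 i2 =>
      intro b hb k1 k2
      obtain ⟨k3, k4⟩ := i2 b hb k1 k2
      have := i1 _ (H.ot.1.conj_mem b hb t) k3 k4
      rwa [show s * (t * b * t⁻¹) * s⁻¹ = s * t * b * (s * t)⁻¹ by group] at this
    | inv s hs i =>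
      intro b hb k1 k2
      have e : s⁻¹ = s ^ (orderOf s - 1) := by
        rw [eq_comm, eq_inv_iff_mul_eq_one, ← pow_succ, Nat.sub_add_cancel (orderOf_pos s), pow_orderOf_eq_one]
      rw [e]
      generalize orderOf s - 1 = n
      induction n with
      | zero => simpa using ⟨k1, k2⟩
      | succ n ih =>
        have := i _ (H.ot.1.conj_mem b hb (s ^ n)) ih.1 ih.2
        rwa [show s * (s ^ n * b * (s ^ n)⁻¹) * s⁻¹ = s ^ (n + 1) * b * (s ^ (n + 1))⁻¹ by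
          rw [pow_succ']; group] at this
  obtain ⟨g, hg, e⟩ := H.cl d hd y hy
  exact (key g hg d hd h1.symm h2).2 (by rw [e]; exact self_E hy)

theorem ne_E (hy : y ∈ D) (hn : y ∉ E[D] a) (he : e ∈ E[D] a) (ht : t ∈ E[D] y) : t ≠ e := fun k =>
  hn (by rw [← E_eq he, ← k, E_eq ht]; exact self_E hy)

theorem not_comm_v (ha : a ∈ D) (hy : y ∈ D) (hc : c ∈ D) (h1 : Od c a) (hn : y ∉ E[D] a) (he : e ∈ E[D] a)
    (ht : t ∈ E[D] y) (et : Commute e t) : ¬ Commute (e * t) c := fun k =>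
  not_comm_E H.ot ha hc h1 he (comm_of_mul H.ot he.1 ht.1 et (H.ne_E hy hn he ht) hc k).symm

theorem swap {a' : G} (hP : NP X P) (ha : a ∈ D) (hy : y ∈ D) (hc : c ∈ D) (h1 : Od c a) (hn : y ∉ E[D] a)
    (cX : c ∈ X) (ha' : a' ∈ D) (o' : Od a' a) (hW : ∀ w ∈ D, Commute w a → w ∉ E[D] a → Commute w a')
    (he : e ∈ E[D] a) (eX : e ∈ X) (ht : t ∈ E[D] y) (tX : t ∈ X) (hv : e * t ∈ P)
    (hp : p = c * (e * t * c * (e * t)⁻¹)) : p * t * p⁻¹ = e := by
  have hD := H.ot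
  have h := H.ri
  have back : ∀ s ∈ D, Commute s e → Commute s a := fun s hs k => E_comm (E_eq he ▸ self_E ha) hs k
  have et := cm1 hD hP.pg he.1 ht.1 hv
  have pP : p ∈ P := hp ▸ hP.mul_cj hD hc cX hv
  have cc := hP.comm_cj hD hc cX hv
  have vv : e * t * (e * t) = 1 := by
    rw [← pow_two, et.mul_pow, pow_two, pow_two, h.sq e he.1, h.sq t ht.1, one_mul]
  have pv : p * (e * t) * p⁻¹ = e * t := by
    rw [hp]
    generalize e * t = v at cc vv ⊢
    have vi : v⁻¹ = v := inv_eq_of_mul_eq_one_right vv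
    refine cj_eq (?_ : _ = _)
    rw [vi] at cc ⊢
    calc c * (v * c * v) * v = c * v * c * (v * v) := by group
      _ = (v * v) * c * v * c := by rw [vv]; group
      _ = v * (v * c * v * c) := by group
      _ = _ := by rw [← cc.eq]
  have e1 : p * e * p⁻¹ ∉ E[D] a := fun k => by
    have k1 := H.comm_of_cj hP ha hc cX h1 he eX pP k
    rw [hp] at k1
    refine not_comm_E hD ha hc h1 he (comm_of_mul hD hc (hD.1.conj_mem c hc _) cc (fun k2 => ?_) he.1 k1)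
    exact H.not_comm_v ha hy hc h1 hn he ht et (mul_inv_eq_iff_eq_mul.1 k2)
  have m1 := hD.1.conj_mem e he.1 p
  have m2 := hD.1.conj_mem t ht.1 p
  have w1 := hW _ m1 (back _ m1 (hP.comm_cj hD he.1 eX pP).symm) e1
  have q1 : e * (p * t * p⁻¹) ∈ P := by
    have := mul_mem hv (hP.mul_cj hD ht.1 tX pP)
    rwa [mul_assoc, h.mul_mul ht.1] at this
  refine H.eq_of_EP hP ha hc cX h1 he (by_contra fun k => ?_) q1
  have w2 := hW _ m2 (back _ m2 (cm1 hD hP.pg he.1 m2 q1).symm) k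
  have w3 := hW t ht.1 (back t ht.1 et.symm) fun k => H.ne_E hy hn k ht rfl
  have w4 := (w1.mul_left w2).mul_left w3
  rw [conj_mul', pv, mul_assoc, h.sq t ht.1, mul_one] at w4
  exact not_comm_E hD ha ha' o' he w4.symm

/-- every pair extends to a triple -/
theorem exists_y (hd : d ∈ D) (hx : x ∈ D) (o : Od x d) : ∃ y ∈ D, Commute d y ∧ y ∉ E[D] d ∧ Od x y := by
  have hD := H.ot
  have h := H.ri
  by_contra! h0
  obtain ⟨a, ha, y, hy, c, hc, hay, hn, h1, h2⟩ := H.triple hd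
  obtain ⟨g, -, rfl⟩ := H.cl d hd a ha
  have hW : ∀ w ∈ D, Commute w (g * d * g⁻¹) → w ∉ E[D] (g * d * g⁻¹) → Commute w (g * x * g⁻¹) :=
    fun w hw k1 k2 => by
      have m := hD.1.conj_mem w hw g⁻¹
      have k3 : Commute d (g⁻¹ * w * g⁻¹⁻¹) := by simpa [mul_assoc] using commute_cj k1.symm g⁻¹
      have k4 := (ot_cases hD hx m).resolve_right (h0 _ m k3 fun k => k2 (by
        simpa [mul_assoc] using E_cj hD.1 k g))
      simpa [mul_assoc] using commute_cj k4.symm g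
  have o' := o.cj g
  have ha' := hD.1.conj_mem x hx g
  generalize g * x * g⁻¹ = a' at hW o' ha'
  generalize g * d * g⁻¹ = a at *
  obtain ⟨X, hX⟩ : ∃ X, closure (E[D] a ∪ E[D] y ∪ {c}) = X := ⟨_, rfl⟩
  have eX : ∀ s ∈ E[D] a, s ∈ X := fun s hs => hX ▸ subset_closure (Or.inl (Or.inl hs))
  have eX' : ∀ s ∈ E[D] y, s ∈ X := fun s hs => hX ▸ subset_closure (Or.inl (Or.inr hs))
  have cX : c ∈ X := hX ▸ subset_closure (Or.inr rfl)
  have hP := np_O2 X
  obtain ⟨t, ht, yt⟩ := line hD H.li hy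
  have y0 := self_E hy
  obtain ⟨e1, he1, v1⟩ := H.YP ha hy hc hay h1 h2 hX y0
  obtain ⟨e2, he2, v2⟩ := H.YP ha hy hc hay h1 h2 hX ht
  have s1 := H.swap hP ha hy hc h1 hn cX ha' o' hW he1 (eX _ he1) y0 (eX' _ y0) v1 rfl
  have s2 := H.swap hP ha hy hc h1 hn cX ha' o' hW he2 (eX _ he2) ht (eX' _ ht) v2 rfl
  have p1 := hP.mul_cj hD hc cX v1
  have p2 := hP.mul_cj hD hc cX v2
  have c1 := hD.1.conj_mem c hc (e1 * y)
  have c2 := hD.1.conj_mem c hc (e2 * t)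
  have k1 := hP.comm_cj hD hc cX v1
  have k2 := hP.comm_cj hD hc cX v2
  have hu : ∀ s ∈ E[D] a, ∀ r ∈ E[D] y, Commute s r := fun s hs r hr =>
    E_comm hr hs.1 (E_comm hs hy hay.symm).symm
  have od : Od (e2 * t * c * (e2 * t)⁻¹) y := by
    have := h2.cj (e2 * t)
    rwa [cj_eq ((hu e2 he2 y y0).mul_left (E_comm' ht y0))] at this
  have e3 : e1 * y * c * (e1 * y)⁻¹ = e2 * t * c * (e2 * t)⁻¹ := by
    generalize e1 * y * c * (e1 * y)⁻¹ = b1 at *
    generalize e2 * t * c * (e2 * t)⁻¹ = b2 at *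
    by_contra k
    have m : c * b2 * y * (c * b2)⁻¹ ∈ E[D] a := by
      have := E_cj hD.1 (E_eq ht ▸ y0 : y ∈ E[D] t) (c * b2)
      rwa [s2, E_eq he2] at this
    have q : e1 * (c * b2 * y * (c * b2)⁻¹) ∈ O2 X := by
      have := mul_mem v1 (hP.mul_cj hD hy (eX' y y0) p2)
      rwa [mul_assoc, h.mul_mul hy] at this
    have k3 := (H.eq_of_EP hP ha hc cX h1 he1 m q).trans s1.symm
    have q2 : b2 * b1 ∈ O2 X := by
      have := mul_mem (inv_mem p2) p1
      rwa [mul_inv_rev, h.inv hc, h.inv c2, mul_assoc, h.mul_mul hc] at this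
    refine h.od_not_comm c2 hy od (comm_of_mul hD c2 c1 (cm1 hD hP.pg c2 c1 q2) k hy ?_)
    have k4 : b2 * y * b2⁻¹ = b1 * y * b1⁻¹ := by
      have := congrArg (fun s => c⁻¹ * s * c) k3
      simpa [mul_assoc] using this
    show b2 * b1 * y = y * (b2 * b1)
    calc b2 * b1 * y = b2 * (b1 * y * b1⁻¹) * b1 := by group
      _ = b2 * b2 * y * b2⁻¹ * b1 := by rw [← k4]; group
      _ = _ := by rw [h.sq b2 c2, h.inv c2, one_mul, mul_assoc]
  have e4 : Commute ((e2 * t)⁻¹ * (e1 * y)) c := by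
    generalize e1 * y = A at e3 ⊢
    generalize e2 * t = B at e3 ⊢
    show B⁻¹ * A * c = c * (B⁻¹ * A)
    calc B⁻¹ * A * c = B⁻¹ * (A * c * A⁻¹) * A := by group
      _ = _ := by rw [e3]; group
  have e5 : (e2 * t)⁻¹ * (e1 * y) = e2 * e1 * (y * t) := by
    rw [mul_inv_rev, h.inv ht.1, h.inv he2.1, ← mul_assoc, ← mul_assoc, mul_assoc t e2, mul_assoc t]
    exact (((hu e2 he2 t ht).mul_left (hu e1 he1 t ht)).mul_left (E_comm' y0 ht)).symm.eq
  rw [e5] at e4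
  rcases H.main1 ha (mul_mem (E_le_EG he2) (E_le_EG he1)) with k | k
  · rw [k, one_mul] at e4
    exact not_comm_E hD hy hc h2 yt e4.symm
  · exact H.not_comm_v ha hy hc h1 hn k yt (hu _ k _ yt) e4

end Hp

end H11.Ot
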