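import Cfsg.Agent.H5.Mt4
import Cfsg.Agent.H2.BG26

/-! Suzuki groups acting on `2`-groups: tools. -/

set_option autoImplicit false
set_option linter.unusedSectionVars false
set_option linter.style.haveILetI false
set_option linter.unusedVariables false

namespace H11.Ot

open Subgroup Cfsg H26 H5Mt
open scoped commutatorElement

universe u

section alg
variable {L : Type*} [Group L] {F : Type*} [Field F] [Fintype F] {m : ℕ} {M : SzModel L F m} {N : Type*}
  [AddCommGroup N] [Finite N] {φ : Representation ℤ L N}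

theorem alg (h5 : P5 M φ) (h2 : ∀ n : N, n + n = 0) {A : Type*} [Group A] (β : N → N → A)
    (hl : ∀ y y' z, β (y + y') z = β y z * β y' z) (sym : ∀ y z, β y z = β z y) (alt : ∀ y, β y y = 1)
    (inv : ∀ l y z, β (φ l y) (φ l z) = β y z)
    (hq : ∀ b y z, β (φ (M.u 0 b) y + y) (φ (M.u 0 b) z + z) = 1)
    (hs : ∀ b y, β y (φ (M.u 0 b) y) = 1) (a b : F) (y : N) :
    β (φ (M.u 0 b) y + y) (φ (M.u a 0) y + y) = 1 := by
  have sub : ∀ l y, (φ l - 1) y = φ l y + y := fun l y => by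
    rw [LinearMap.sub_apply, Module.End.one_apply, sub_eq_add_neg, neg_eq_of_add_eq_zero_right (h2 y)]
  have b0 : ∀ z, β 0 z = 1 := fun z => by
    have := hl 0 0 z
    rw [add_zero] at this
    exact (mul_eq_left.1 this.symm)
  have sq : ∀ y z, β y z * β y z = 1 := fun y z => by rw [← hl, h2, b0]
  have hr : ∀ y z z', β y (z + z') = β y z * β y z' := fun y z z' => by rw [sym, hl, sym z, sym z']
  have s1 : ∀ z, β (φ (M.u 0 b) y + y) z = β y (φ (M.u 0 b) z + z) := fun z => by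
    have e := inv (M.u 0 b) y z
    have e1 : ∀ v, φ (M.u 0 b) v = φ (M.u 0 b) v + v + v := fun v => by rw [add_assoc, h2, add_zero]
    rw [e1 y, e1 z, hl, hr _ (_ + z), hq, one_mul, hr y (_ + z), ← mul_assoc, mul_eq_right] at e
    rw [← mul_one (β (_ + y) z), ← sq y (φ (M.u 0 b) z + z), ← mul_assoc, e, one_mul]
  obtain ⟨c, hc⟩ := M.sq_mul_σ_surj (a * b)
  have e2 : φ (M.u 0 b) (φ (M.u a 0) y + y) + (φ (M.u a 0) y + y) =
      (φ (M.u c 0) - 1) ((φ (M.u 0 (M.σ c * c)) - 1) y) := by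
    rw [zmn h5 h2 c, show c * (M.σ c * c) = a * b by rw [← hc]; ring, ← zmn h5 h2 a b, sub, sub, map_add, map_add,
      ← rmul, ← rmul, M.u_zero_comm]
    abel
  rw [s1, e2, sub, sub, map_add, hr, hr, hr, alt, hs, mul_one, mul_one, ← inv (M.u c 0) y, ← rmul, ← rmul,
    M.u_sq, M.u_zero_sq, map_one, Module.End.one_apply, sym, sq]

theorem exists_pair (h5 : P5 M φ) (h2 : ∀ n : N, n + n = 0) [Nontrivial N] {b : F} (hb : b ≠ 0) :
    ∃ y z, φ (M.u 0 b) y + y = φ (M.u 0 1) z + z ∧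
      φ (M.u 1 0) (φ (M.u 0 b) y + y) + (φ (M.u 0 b) y + y) ≠ 0 := by
  have sub : ∀ l y, (φ l - 1) y = φ l y + y := fun l y => by
    rw [LinearMap.sub_apply, Module.End.one_apply, sub_eq_add_neg, neg_eq_of_add_eq_zero_right (h2 y)]
  obtain ⟨y, hy⟩ : ∃ y, (φ (M.u 1 0) - 1) ((φ (M.u 0 b) - 1) y) ≠ 0 := by
    by_contra! h
    refine hb (zmn_ne h5 h2 fun y => ?_)
    have := h y
    rw [zmn h5 h2, one_mul] at this
    rw [this, M.u_zero, map_one, sub_self, LinearMap.zero_apply]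
  obtain ⟨z, hz⟩ := zfree h5 h2 (zquad h5 h2 1 b y)
  exact ⟨y, z, by rw [← sub, ← sub, hz], by rwa [← sub, ← sub]⟩

theorem p5_of_fix (h : ∀ n, φ (a5 M) n = n → n = 0) : P5 M φ := fun y => by
  have e := a5_ord M
  refine h _ ?_
  have : φ (a5 M) (φ (a5 M) (φ (a5 M) (φ (a5 M) (φ (a5 M) y)))) = y := by
    have := pow_orderOf_eq_one (a5 M)
    rw [e] at this
    simp only [pow_succ, pow_zero, one_mul, mul_assoc] at this
    simp only [← rmul, this, map_one, Module.End.one_apply]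
  simp only [map_add, this]; abel

theorem inv_B (M : SzModel L F m) {l : L} (h : l • M.inf = M.inf) (h2 : l * l = 1) : ∃ b, l = M.u 0 b := by
  have := M.charP
  obtain ⟨a, b, s, rfl⟩ := (M.smul_inf_iff l).1 h
  have e : M.u a b * M.h s * (M.u a b * M.h s) = M.u 0 0 * M.h 1 := by rw [h2, M.u_zero, map_one, one_mul]
  rw [mul_assoc, ← mul_assoc (M.h s), M.h_mul_u, mul_assoc, ← map_mul, ← mul_assoc, M.u_mul] at e
  have s1 : s = 1 := by
    have h3 : (s : F) ^ 2 = 1 ^ 2 := by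
      rw [one_pow, pow_two, ← Units.val_mul, (M.uh_inj e).2.2, Units.val_one]
    exact Units.ext (frobenius_inj F 2 h3)
  subst s1
  rw [map_one, mul_one] at h2 ⊢
  rw [M.u_sq, M.u_eq_one_iff, mul_eq_zero] at h2
  obtain rfl : a = 0 := h2.2.elim (fun k => by_contra fun n => M.σ_ne_zero n k) id
  exact ⟨b, rfl⟩

theorem exists_fix (M : SzModel L F m) {l : L} (h2 : l * l = 1) : ∃ p : M.Pt, l • p = p := by
  haveI := M.finite
  haveI : Fact (Nat.Prime 2) := ⟨Nat.prime_two⟩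
  have hp : IsPGroup 2 (zpowers l) := fun ⟨_, i, rfl⟩ => ⟨1, Subtype.ext (by
    show (l ^ i) ^ 2 ^ 1 = 1
    rw [← zpow_natCast, ← zpow_mul, mul_comm, zpow_mul, zpow_natCast, pow_one, pow_two, h2, one_zpow])⟩
  obtain ⟨p, hp⟩ := hp.nonempty_fixed_point_of_prime_not_dvd_card M.Pt (by
    rw [M.card_pt]; exact M.odd_card_sq_add_one.not_two_dvd_nat)
  exact ⟨p, hp ⟨l, mem_zpowers l⟩⟩

theorem exists_std (M : SzModel L F m) {l l' : L} (h : l * l = 1) (h' : l' * l' = 1) (hn : ¬ Commute l l') :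
    ∃ g b c, g⁻¹ * l * g = M.u 0 b ∧ g⁻¹ * l' * g = M.w * M.u 0 c * M.w := by
  obtain ⟨p, hp⟩ := exists_fix M h
  obtain ⟨p', hp'⟩ := exists_fix M h'
  have sq : ∀ g l : L, l * l = 1 → g⁻¹ * l * g * (g⁻¹ * l * g) = 1 := fun g l k => by
    rw [show g⁻¹ * l * g * (g⁻¹ * l * g) = g⁻¹ * (l * l) * g by group, k]; group
  have fx : ∀ (g l : L) (p : M.Pt), l • p = p → g • M.inf = p → ∃ b, l * l = 1 → g⁻¹ * l * g = M.u 0 b :=
    fun g l p k1 k2 => by
      by_cases k : l * l = 1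
      · exact (inv_B M (by rw [mul_smul, mul_smul, k2, k1, ← k2, inv_smul_smul]) (sq g l k)).imp fun b e _ => e
      · exact ⟨0, fun e => absurd e k⟩
  by_cases e : p = p'
  · obtain ⟨g, hg⟩ := M.exists_smul_inf p
    obtain ⟨b, hb⟩ := fx g l p hp hg
    obtain ⟨c, hc⟩ := fx g l' p (e ▸ hp') hg
    have : Commute (g⁻¹ * l * g) (g⁻¹ * l' * g) := by rw [hb h, hc h']; exact M.u_zero_comm _ _ _
    exact absurd (by simpa [mul_assoc] using this.map (MulAut.conj g)) hn
  obtain ⟨g, hg, hg'⟩ := M.exists_smul_inf_zero e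
  obtain ⟨b, hb⟩ := fx g l p hp hg
  obtain ⟨c, hc⟩ := fx (g * M.w) l' p' hp' (by rw [mul_smul, M.w_smul_inf, hg'])
  refine ⟨g, b, c, hb h, ?_⟩
  rw [← hc h', mul_inv_rev, M.w_inv]
  simp only [← mul_assoc, M.w_mul_w, one_mul]
  rw [mul_assoc _ M.w M.w, M.w_mul_w, mul_one]

end alg

variable {G : Type u} [Group G] [Finite G] {X P R : Subgroup G}

/-- invariance under conjugation -/
def Iv (X A : Subgroup G) : Prop := ∀ g ∈ X, ∀ a ∈ A, g * a * g⁻¹ ∈ A

theorem Iv.comm {A B : Subgroup G} (h1 : Iv X A) (h2 : Iv X B) : Iv X ⁅A, B⁆ := fun g hg a ha => by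
  have : (⁅A, B⁆).map (MulAut.conj g).toMonoidHom ≤ ⁅A, B⁆ := by
    rw [map_commutator]
    exact commutator_mono (by rintro _ ⟨a, ha, rfl⟩; exact h1 g hg a ha) (by rintro _ ⟨a, ha, rfl⟩; exact h2 g hg a ha)
  exact this ⟨a, ha, rfl⟩

theorem Iv.le_norm {A : Subgroup G} (h : Iv X A) : X ≤ normalizer (A : Set G) := fun g hg =>
  mem_normalizer_iff.2 fun a => ⟨h g hg a, fun k => by simpa [mul_assoc] using h _ (inv_mem hg) _ k⟩

/-- a minimal subgroup with nontrivial action -/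
structure MR (X R : Subgroup G) : Prop where
  iv : Iv X R
  nt : ¬ R ≤ centralizer (X : Set G)
  sq : ∀ r ∈ R, r * r ∈ centralizer (X : Set G)
  cm : ∀ r ∈ R, ∀ s ∈ R, ⁅r, s⁆ ∈ centralizer (X : Set G)
  ce : ∀ z ∈ R, z ∈ centralizer (X : Set G) → ∀ r ∈ R, Commute z r
  kr : ∀ Q ≤ X, IsPGroup 2 Q → Iv X Q → ∀ q ∈ Q, ∀ r ∈ R, ⁅r, q⁆ ∈ centralizer (X : Set G)

theorem exists_MR (hP : IsPGroup 2 P) (h1 : Iv X P) (hX : ⁅X, X⁆ = X) (hn : ¬ P ≤ centralizer (X : Set G)) :
    ∃ R ≤ P, MR X R := by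
  haveI : Fact (Nat.Prime 2) := ⟨Nat.prime_two⟩
  obtain ⟨R, ⟨l, iv, nt⟩, hmin⟩ := (wellFounded_lt (α := Subgroup G)).has_min
    {R | R ≤ P ∧ Iv X R ∧ ¬ R ≤ centralizer (X : Set G)} ⟨P, le_rfl, h1, hn⟩
  have key : ∀ A < R, Iv X A → A ≤ centralizer (X : Set G) := fun A hA i =>
    by_contra fun k => hmin A ⟨hA.le.trans l, i, k⟩ hA
  have hR := hP.to_le l
  have R0 : R ≠ ⊥ := fun e => nt (e ▸ bot_le)
  have ivX : Iv X X := fun g hg a ha => mul_mem (mul_mem hg ha) (inv_mem hg)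
  have RX : ⁅R, X⁆ = R := by
    have l1 : ⁅R, X⁆ ≤ R := commutator_le.2 fun r hr g hg => by
      rw [commutatorElement_def, mul_assoc, mul_assoc, ← mul_assoc g]
      exact mul_mem hr (iv g hg _ (inv_mem hr))
    refine l1.eq_or_lt.resolve_right fun k => nt ?_
    have k1 := commutator_eq_bot_iff_le_centralizer.2 (key _ k (iv.comm ivX))
    have k2 := commutator_commutator_eq_bot_of_rotate (H₁ := X) (H₂ := X) (H₃ := R)
      (by rwa [commutator_comm X R]) k1
    rwa [hX, commutator_comm, commutator_eq_bot_iff_le_centralizer] at k2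
  have c1 := key _ (H2.comm_lt_of_pgroup hR hR le_normalizer R0) (iv.comm iv)
  refine ⟨R, l, iv, nt, fun r hr => ?_, fun r hr s hs => c1 (commutator_mem_commutator hr hs), fun z hz k r hr => ?_,
    fun Q hQ h2 i q hq r hr => key _ (H2.comm_lt_of_pgroup hR h2 (hQ.trans iv.le_norm) R0) (iv.comm i)
      (commutator_mem_commutator hr hq)⟩
  · obtain ⟨n, hn⟩ := IsPGroup.iff_card.1 hR
    obtain ⟨n, rfl⟩ : ∃ k, n = k + 1 := Nat.exists_eq_succ_of_ne_zero fun e => R0 (by
      rwa [e, pow_zero, card_eq_one] at hn)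
    obtain ⟨T, hT⟩ := Sylow.exists_subgroup_card_pow_prime (G := R) 2 (n := n) (hn ▸ pow_dvd_pow 2 n.le_succ)
    have i2 : T.index = 2 := by
      have := T.card_mul_index
      rw [hT, hn, pow_succ] at this
      exact Nat.eq_of_mul_eq_mul_left (by positivity) this
    have l2 : closure {s | ∃ r ∈ R, s = r * r} ≤ T.map R.subtype := (closure_le _).2 (by
      rintro _ ⟨r, hr, rfl⟩
      exact ⟨⟨r, hr⟩ * ⟨r, hr⟩, mul_self_mem_of_index_two i2 _, rfl⟩)
    refine key (closure {s | ∃ r ∈ R, s = r * r}) (l2.trans_lt ((map_subtype_le T).lt_of_ne fun e => ?_))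
      (fun g hg a ha => ?_) (subset_closure ⟨r, hr, rfl⟩)
    · have := congrArg (fun K : Subgroup G => Nat.card K) e
      simp only [card_subtype, hT, hn] at this
      exact absurd (Nat.pow_right_injective le_rfl this) n.succ_ne_self.symm
    · have : closure {s | ∃ r ∈ R, s = r * r} ≤
          (closure {s | ∃ r ∈ R, s = r * r}).comap (MulAut.conj g).toMonoidHom := (closure_le _).2 (by
        rintro _ ⟨r, hr, rfl⟩
        exact subset_closure ⟨_, iv g hg r hr, map_mul _ r r⟩)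
      exact this ha
  · have k1 : ⁅X, R ⊓ centralizer (X : Set G)⁆ = ⊥ := by
      rw [commutator_comm, commutator_eq_bot_iff_le_centralizer]; exact inf_le_right
    have k2 := commutator_commutator_eq_bot_of_rotate (H₁ := R) (H₂ := X) (H₃ := R ⊓ centralizer (X : Set G))
      (by rw [k1, commutator_bot_left])
      (commutator_eq_bot_iff_le_centralizer.2 ((commutator_mono inf_le_left le_rfl).trans c1))
    rw [RX, commutator_eq_bot_iff_le_centralizer] at k2
    exact k2 hr z ⟨hz, k⟩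

theorem MR.exists_mod (h : MR X R) {L : Type*} [Group L] {π : X →* L} (hs : Function.Surjective π)
    (hk : ∀ q ∈ π.ker, ∀ r ∈ R, ⁅r, (q : G)⁆ ∈ centralizer (X : Set G)) :
    ∃ (N : Type u) (_ : AddCommGroup N) (_ : Finite N) (φ : Representation ℤ L N) (μ : R → N),
      Function.Surjective μ ∧ (∀ r s, μ (r * s) = μ r + μ s) ∧
      (∀ r s, μ r = μ s ↔ ((r : G)⁻¹ * s) ∈ centralizer (X : Set G)) ∧
      ∀ (g : X) (r : R), φ (π g) (μ r) = μ ⟨g * r * (g : G)⁻¹, h.iv g g.2 r r.2⟩ := by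
  set Z := (centralizer (X : Set G)).subgroupOf R with hZ
  haveI : Z.Normal := ⟨fun z hz g => by
    have : g * z * g⁻¹ = z := Subtype.ext (by
      show (g : G) * z * (g : G)⁻¹ = z
      rw [← (h.ce z z.2 hz g g.2).eq, mul_inv_cancel_right])
    rwa [this]⟩
  let _ : CommGroup (R ⧸ Z) := { (inferInstance : Group (R ⧸ Z)) with
    mul_comm := fun a b => by
      obtain ⟨a, rfl⟩ := QuotientGroup.mk_surjective a
      obtain ⟨b, rfl⟩ := QuotientGroup.mk_surjective b
      rw [← QuotientGroup.mk_mul, ← QuotientGroup.mk_mul, QuotientGroup.eq]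
      have := h.cm _ (inv_mem b.2) _ (inv_mem a.2)
      simpa [hZ, mem_subgroupOf, commutatorElement_def, mul_assoc] using this }
  let c : X → (R →* R) := fun g => ((MulAut.conj (g : G)).toMonoidHom.comp R.subtype).codRestrict R
    fun r => h.iv g g.2 r r.2
  let act : X → (R ⧸ Z →* R ⧸ Z) := fun g => QuotientGroup.map Z Z (c g) fun z hz => by
    show (g : G) * z * (g : G)⁻¹ ∈ centralizer (X : Set G)
    rwa [show (g : G) * z = z * g from hz g g.2, mul_inv_cancel_right]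
  have ha : ∀ (g : X) (r : R), act g (r : R ⧸ Z) = ((⟨g * r * (g : G)⁻¹, h.iv g g.2 r r.2⟩ : R) : R ⧸ Z) :=
    fun g r => rfl
  have amul : ∀ g g' y, act (g * g') y = act g (act g' y) := fun g g' y => by
    obtain ⟨r, rfl⟩ := QuotientGroup.mk_surjective y
    rw [ha, ha, ha]
    congr 2
    simp [mul_assoc]
  have aone : ∀ g, π g = 1 → ∀ y, act g y = y := fun g hg y => by
    obtain ⟨r, rfl⟩ := QuotientGroup.mk_surjective y
    rw [ha, eq_comm, QuotientGroup.eq]
    have := hk g hg _ (inv_mem r.2)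
    simpa [hZ, mem_subgroupOf, commutatorElement_def, mul_assoc] using this
  have aeq : ∀ g g', π g = π g' → act g = act g' := fun g g' e => MonoidHom.ext fun y => by
    rw [← mul_inv_cancel_left g' g, amul, aone (g'⁻¹ * g) (by rw [map_mul, map_inv, e, inv_mul_cancel])]
  let σ := Function.surjInv hs
  have hσ : ∀ l, π (σ l) = l := Function.surjInv_eq hs
  let φ : Representation ℤ L (Additive (R ⧸ Z)) :=
    { toFun := fun l => (MonoidHom.toAdditive (act (σ l))).toIntLinearMap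
      map_one' := LinearMap.ext fun y => aone _ (hσ 1) y.toMul
      map_mul' := fun a b => LinearMap.ext fun y => by
        show act (σ (a * b)) y.toMul = act (σ a) (act (σ b) y.toMul)
        rw [← amul, aeq (σ (a * b)) (σ a * σ b) (by rw [map_mul, hσ, hσ, hσ])] }
  refine ⟨Additive (R ⧸ Z), inferInstance, inferInstance, φ, fun r => .ofMul (r : R ⧸ Z),
    fun y => QuotientGroup.mk_surjective y.toMul, fun _ _ => rfl, fun r s => QuotientGroup.eq, fun g r => ?_⟩
  show act (σ (π g)) r = _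
  rw [aeq _ g (hσ _)]; rfl

end H11.Ot
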