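import Cfsg.Agent.H11.OtB
import Cfsg.Agent.H11.OtC

/-! Lined classes of odd transpositions: no Suzuki root subgroups. -/

set_option autoImplicit false
set_option linter.unusedSectionVars false
set_option linter.style.haveILetI false
set_option linter.unusedVariables false

namespace H11.Ot

open Subgroup Cfsg H16 H16.H11 H12.RD H6.OT H26 H5Mt
open scoped commutatorElement

universe u

variable {G : Type u} [Group G] [Finite G] {D : Set G} {a b c d e g p q r t u v w x y z : G} {X P R : Subgroup G}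

local notation "E[" D "]" => sameCommutingClass D
local notation "EG[" D "]" => sameCommutingSubgroup D

theorem eq_one_of_odd (hP : IsPGroup 2 P) (hz : z ∈ P) {k : ℕ} (hk : Odd k) (h : z ^ k = 1) : z = 1 := by
  obtain ⟨n, hn⟩ := hP ⟨z, hz⟩
  exact orderOf_eq_one_iff.1 (Nat.eq_one_of_dvd_coprimes (Nat.Coprime.pow_right n (Nat.coprime_two_right.2 hk))
    (orderOf_dvd_of_pow_eq_one h) (orderOf_dvd_of_pow_eq_one (congrArg Subtype.val hn)))

theorem comm_of_central (hP : IsPGroup 2 P) (hz : z ∈ P) (ho : Odd (orderOf g)) (h1 : g * r * g⁻¹ = r * z)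
    (h2 : Commute g z) : Commute g r := by
  have : ∀ k : ℕ, g ^ k * r * (g ^ k)⁻¹ = r * z ^ k := fun k => by
    induction k with
    | zero => simp
    | succ k ih =>
      rw [pow_succ', show g * g ^ k * r * (g * g ^ k)⁻¹ = g * (g ^ k * r * (g ^ k)⁻¹) * g⁻¹ by group, ih,
        ← conj_mul', h1, cj_eq (h2.pow_right k), pow_succ', mul_assoc]
  have h3 := this (orderOf g)
  rw [pow_orderOf_eq_one, one_mul, inv_one, mul_one, eq_comm, mul_eq_left] at h3
  rw [eq_one_of_odd hP hz ho h3, mul_one] at h1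
  exact mul_inv_eq_iff_eq_mul.1 h1

namespace Hp

variable (H : Hp D)
include H

theorem cent_prod (hP : NP X P) (ha : a ∈ D) (hb : b ∈ D) (aX : a ∈ X) (bX : b ∈ X) (o : Od a b) (hp : p ∈ P)
    (h : Commute (a * b) p) : Commute p a := by
  have k1 := hP.comm_cj H.ot ha aX hp
  have k2 := hP.comm_cj H.ot hb bX hp
  have m := H.ot.1.conj_mem a ha p
  have e : a * (p * a * p⁻¹) = b * (p * b * p⁻¹) := by
    have h3 : p * a * p⁻¹ * (p * b * p⁻¹) = a * b := by rw [conj_mul', cj_eq h.symm]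
    calc a * (p * a * p⁻¹) = p * a * p⁻¹ * (a * b) * b := by rw [k1.eq, mul_assoc _ _ b, mul_assoc a, H.ri.sq b hb, mul_one]
      _ = _ := by rw [← h3, H.ri.mul_mul m, k2.eq]
  have := H.ri.cent_mul ha hb o ((Commute.refl a).mul_left k1.symm) (e ▸ (Commute.refl b).mul_left k2.symm)
    (by rw [k1.eq, mul_assoc, H.ri.sq a ha, mul_one]; exact m)
  exact mul_inv_eq_iff_eq_mul.1 (by rw [← H.ri.mul_mul ha (p * a * p⁻¹), this, mul_one])

theorem perfect (hd : d ∈ D) (hx : x ∈ D) (o : Od x d) (hX : closure (E[D] d ∪ {x}) = X) : commutator X = ⊤ := by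
  obtain ⟨h2, h3, h4⟩ := X_set H.ot H.cl H.li hd hx o hX
  exact perfect_of_lined h2.1 h3 ((ri_of h2.1).lined h3 h4)

theorem inj_D (hd : d ∈ D) (hx : x ∈ D) (o : Od x d) (hX : closure (E[D] d ∪ {x}) = X) {L : Type*} [Group L]
    {π : X →* L} (hk : π.ker = pCore 2 X) {s s' : X} (hs : (s : G) ∈ D) (hs' : (s' : G) ∈ D) (hb : b ∈ D)
    (bX : b ∈ X) (n : ¬ Commute (s : G) b) (e : π s' = π s) : s' = s := by
  by_contra k
  have q : (s : G) * s' ∈ O2 X := (mem_O2 (s := s * s')).2 (by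
    rw [← hk, MonoidHom.mem_ker, map_mul, e, ← map_mul, show s * s = 1 from Subtype.ext (H.ri.sq _ hs), map_one])
  exact n (comm_of_mul H.ot hs hs' (cm1 H.ot (np_O2 X).pg hs hs' q) (fun e => k (Subtype.ext e)) hb
    (H.Q_cent hd hx o hX q bX))

theorem not_sz0 (hd : d ∈ D) (hx : x ∈ D) (o : Od x d) (hX : closure (E[D] d ∪ {x}) = X) {L : Type*} [Group L]
    {π : X →* L} (hs : Function.Surjective π) (hk : π.ker = pCore 2 X) {F : Type*} [Field F] [Fintype F] {m : ℕ}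
    (M : SzModel L F m) {d' x' : X} (ed : (d' : G) = d) (ex : (x' : G) = x) {b0 c0 : F} (h1 : π d' = M.u 0 b0)
    (h2 : π x' = M.w * M.u 0 c0 * M.w) : False := by
  have hD := H.ot
  have h := H.ri
  have x1 := xX hD H.cl H.li hd hx o hX
  have inj : ∀ {b : G} {s s' : X}, (s : G) ∈ D → (s' : G) ∈ D → b ∈ D → b ∈ X → ¬ Commute (s : G) b →
      π s' = π s → s' = s := fun h1 h2 h3 h4 h5 h6 => H.inj_D hd hx o hX hk h1 h2 h3 h4 h5 h6
  have lift : ∀ b ≠ 0, ∃ e : X, (e : G) ∈ E[D] d ∧ π e = M.u 0 b := fun b hb => by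
    obtain ⟨v, hv⟩ := hs (M.u 0 b)
    rw [← hv]
    exact liftE hD H.cl H.li hd hx o hX hk (hv ▸ M.u_zero_sq b) (hv ▸ fun e => hb (M.u_eq_one_iff.1 e).2)
      (d' := d') (by rw [ed]; exact self_E hd) (by rw [hv, h1]; exact M.u_zero_comm _ _ _)
  obtain ⟨t, ht, πt⟩ : ∃ t : X, (t : G) ∈ D ∧ π t = M.w := by
    obtain ⟨v, hv⟩ := hs M.w
    obtain ⟨t, ht, e⟩ := r1X hD H.cl H.li hd hx o hX hk (hv ▸ M.w_mul_w)
      (hv ▸ fun e => M.w_not_mem_B (e ▸ one_mem _))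
    exact ⟨t, cl_mem hD hx ht, e.trans hv⟩
  obtain ⟨y, hy, dy, ny, oy⟩ := H.exists_y hd hx o
  obtain ⟨Y, hY⟩ : ∃ Y, closure (E[D] d ∪ E[D] y ∪ {x}) = Y := ⟨_, rfl⟩
  have hP : NP X (O2 Y) := (np_O2 Y).mono (hX ▸ hY ▸ closure_mono (Set.union_subset_union_left _ Set.subset_union_left))
  obtain ⟨e0, he0, v0⟩ := H.YP hd hy hx dy o oy hY (self_E hy)
  have XX : ⁅X, X⁆ = X := by
    rw [← map_subtype_commutator, H.perfect hd hx o hX, ← MonoidHom.range_eq_map, range_subtype]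
  obtain ⟨R, RP, hR⟩ := exists_MR hP.pg hP.nm XX fun k => H.not_comm_v hd hy hx o ny he0 (self_E hy)
    (cm1 hD hP.pg he0.1 hy v0) (k v0 x x1).symm
  generalize O2 Y = P at hP RP
  clear hY v0 he0 oy ny dy hy
  obtain ⟨N, _, _, φ, μ, μs, μm, μe, μφ⟩ := hR.exists_mod hs fun q hq r hr =>
    hR.kr _ (O2_le X) (np_O2 X).pg (np_O2 X).nm q (mem_O2.2 (hk ▸ hq)) r hr
  have μ1 : μ 1 = 0 := by simpa using μm 1 1
  have μ0 : ∀ r, μ r = 0 ↔ (r : G) ∈ centralizer (X : Set G) := fun r => by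
    rw [← μ1, eq_comm, μe]; simp
  have h22 : ∀ n : N, n + n = 0 := fun n => by
    obtain ⟨r, rfl⟩ := μs n
    rw [← μm, μ0]; exact hR.sq r r.2
  have μi : ∀ r, μ r⁻¹ = μ r := fun r => by
    rw [← add_zero (μ r⁻¹), ← h22 (μ r), ← add_assoc, ← μm, inv_mul_cancel, μ1, zero_add]
  have cmm : ∀ (g : X) (r : R), (g : G) * r * (g : G)⁻¹ * (r : G)⁻¹ ∈ R := fun g r =>
    mul_mem (hR.iv g g.2 r r.2) (inv_mem r.2)
  have μc : ∀ (g : X) (r : R), φ (π g) (μ r) + μ r = μ ⟨_, cmm g r⟩ := fun g r => by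
    rw [μφ, ← μi r, ← μm]; rfl
  haveI : Nontrivial N := by
    obtain ⟨r, hr, n⟩ := SetLike.not_le_iff_exists.1 hR.nt
    exact ⟨⟨μ ⟨r, hr⟩, 0, fun e => n ((μ0 _).1 e)⟩⟩
  obtain ⟨e1, he1, π1⟩ := lift 1 one_ne_zero
  have h5 : P5 M φ := p5_of_fix fun n hn => by
    obtain ⟨r, rfl⟩ := μs n
    have e : a5 M = π (e1 * t) := by rw [a5, x_sq, map_mul, π1, πt]
    have o1 : Od (e1 : G) t := (ot_cases hD he1.1 ht).resolve_left fun k => by
      have k1 : (e1 * t) ^ 2 = 1 := Subtype.ext (by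
        show ((e1 : G) * t) ^ 2 = 1
        rw [k.mul_pow, pow_two, pow_two, h.sq _ he1.1, h.sq _ ht, one_mul])
      have := orderOf_dvd_of_pow_eq_one (show a5 M ^ 2 = 1 by rw [e, ← map_pow, k1, map_one])
      rw [a5_ord] at this
      omega
    rw [e, μφ, eq_comm, μe] at hn
    have k1 := comm_of_central hP.pg (RP (mul_mem (inv_mem r.2) (hR.iv _ (e1 * t).2 r r.2))) o1.2
      (mul_inv_cancel_left _ _).symm (hn _ (e1 * t).2)
    have k2 := H.cent_prod hP he1.1 ht e1.2 t.2 o1 (RP r.2) k1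
    have k3 : Commute (r : G) t := by
      have := k2.mul_right k1.symm
      rwa [h.mul_mul he1.1] at this
    have k4 : ∀ s ∈ E[D] d, Commute (r : G) s := fun s hs =>
      H.comm_of_cj hP hd hx x1 o hs (EX hD H.cl H.li hd hx o hX hs) (RP r.2) (by
        have := E_cj hD.1 (E_eq he1 ▸ hs : s ∈ E[D] e1) r
        rwa [cj_eq k2, E_eq he1] at this)
    obtain ⟨e2, he2, π2⟩ := lift c0 fun k => by
      rw [k, M.u_zero, mul_one, M.w_mul_w] at h2
      exact h.od_not_comm hx hd o (ex ▸ H.Q_cent hd hx o hX (mem_O2.2 (hk ▸ h2)) (ed ▸ d'.2))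
    have k5 := inj (s := x') (s' := t * e2 * t⁻¹) (ex ▸ hx) (hD.1.conj_mem _ he2.1 t) hd (ed ▸ d'.2)
      (ex ▸ h.od_not_comm hx hd o) (by rw [map_mul, map_mul, map_inv, πt, π2, M.w_inv, h2])
    rw [μ0]
    intro g hg
    refine (comm_closure (fun s hs => ?_) (hX ▸ hg)).symm
    rcases hs with hs | rfl
    · exact k4 s hs
    · rw [← ex, ← k5]; exact (k3.mul_right (k4 _ he2)).mul_right k3.inv_right
  let σ := Function.surjInv μs
  let β : N → N → G := fun y z => ⁅(σ y : G), (σ z : G)⁆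
  have hβ : ∀ r s : R, β (μ r) (μ s) = ⁅(r : G), (s : G)⁆ := fun r s => by
    have k : ∀ r : R, ∀ s ∈ R, Commute ((r : G)⁻¹ * σ (μ r)) s := fun r s hs =>
      hR.ce _ (mul_mem (inv_mem r.2) (σ (μ r)).2) ((μe _ _).1 (Function.surjInv_eq μs _).symm) s hs
    have k1 := k r _ (σ (μ s)).2
    have k2 := k s _ r.2
    show ⁅(σ (μ r) : G), (σ (μ s) : G)⁆ = _
    generalize (σ (μ r) : G) = A at k1
    generalize (σ (μ s) : G) = B at k1 k2
    calc ⁅A, B⁆ = r * ((r : G)⁻¹ * A * B) * A⁻¹ * B⁻¹ := by rw [commutatorElement_def]; group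
      _ = r * s * ((s : G)⁻¹ * B * (r : G)⁻¹) * B⁻¹ := by rw [k1.eq]; group
      _ = _ := by rw [k2.inv_right.eq, commutatorElement_def]; group
  have cR : ∀ r s : R, ⁅(r : G), (s : G)⁆ ∈ R := fun r s =>
    mul_mem (mul_mem (mul_mem r.2 s.2) (inv_mem r.2)) (inv_mem s.2)
  have bl : ∀ r r' s : R, ⁅(r : G) * r', (s : G)⁆ = ⁅(r : G), (s : G)⁆ * ⁅(r' : G), (s : G)⁆ := fun r r' s => by
    have k := hR.ce _ (cR r' s) (hR.cm _ r'.2 _ s.2)
    rw [← (k _ (cR r s)).eq, show ⁅(r : G) * r', (s : G)⁆ = r * ⁅(r' : G), (s : G)⁆ * (r : G)⁻¹ * ⁅(r : G), (s : G)⁆ by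
      simp only [commutatorElement_def]; group, cj_eq (k _ r.2).symm]
  have ee : ∀ e : X, (e : G) ∈ D → ∀ r : R, (e : G) * r * (e : G)⁻¹ * (r : G)⁻¹ = e * (r * e * (r : G)⁻¹) :=
    fun e he r => by rw [h.inv he]; group
  have key := alg h5 h22 β (fun y y' z => by
      obtain ⟨r, rfl⟩ := μs y; obtain ⟨r', rfl⟩ := μs y'; obtain ⟨s, rfl⟩ := μs z
      rw [← μm, hβ, hβ, hβ]; exact bl r r' s)
    (fun y z => by
      obtain ⟨r, rfl⟩ := μs y; obtain ⟨s, rfl⟩ := μs z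
      rw [hβ, hβ, ← commutatorElement_inv (r : G), eq_inv_iff_mul_eq_one, ← bl,
        commutatorElement_eq_one_iff_commute]
      exact hR.ce _ (mul_mem r.2 r.2) (hR.sq r r.2) s s.2)
    (fun y => commutatorElement_self _)
    (fun l y z => by
      obtain ⟨r, rfl⟩ := μs y; obtain ⟨s, rfl⟩ := μs z; obtain ⟨g, rfl⟩ := hs l
      rw [μφ, μφ, hβ, hβ, ← cj_eq (show Commute (g : G) _ from hR.cm _ r.2 _ s.2 g g.2)]
      simp only [commutatorElement_def]; group)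
    (fun b y z => by
      obtain ⟨r, rfl⟩ := μs y; obtain ⟨s, rfl⟩ := μs z
      by_cases hb : b = 0
      · rw [hb, M.u_zero, map_one, Module.End.one_apply, Module.End.one_apply, h22, h22]
        exact commutatorElement_self _
      obtain ⟨e, he, πe⟩ := lift b hb
      rw [← πe, μc, μc, hβ, commutatorElement_eq_one_iff_commute]
      simp only [ee e he.1]
      have k1 := hP.comm_cj hD he.1 e.2 (RP r.2)
      have k2 := hP.comm_cj hD he.1 e.2 (RP s.2)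
      have m1 := hD.1.conj_mem _ he.1 r
      have k3 := cm1 hD hP.pg m1 (hD.1.conj_mem _ he.1 s) (by
        have := mul_mem (inv_mem (hP.mul_cj hD he.1 e.2 (RP r.2))) (hP.mul_cj hD he.1 e.2 (RP s.2))
        rwa [mul_inv_rev, h.inv he.1, h.inv m1, mul_assoc, h.mul_mul he.1] at this)
      exact ((Commute.refl _).mul_right k2).mul_left (k1.symm.mul_right k3))
    (fun b y => by
      obtain ⟨r, rfl⟩ := μs y
      by_cases hb : b = 0
      · rw [hb, M.u_zero, map_one, Module.End.one_apply]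
        exact commutatorElement_self _
      obtain ⟨e, he, πe⟩ := lift b hb
      rw [← πe, μφ, hβ, commutatorElement_eq_one_iff_commute]
      have k1 := (hP.comm_cj hD he.1 e.2 (RP r.2)).eq
      have k2 : (e : G) * (r * r) = r * r * e := hR.sq r r.2 e e.2
      show (r : G) * (e * r * (e : G)⁻¹) = e * r * (e : G)⁻¹ * r
      rw [h.inv he.1]
      calc (r : G) * (e * r * e) = r * e * (r : G)⁻¹ * (r * r * e) := by group
        _ = r * e * (r : G)⁻¹ * e * r * r := by rw [← k2]; group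
        _ = _ := by rw [← k1]; group)
  obtain ⟨b, b0, b1⟩ := M.exists_ne
  obtain ⟨y, z, k1, k2⟩ := exists_pair h5 h22 b0
  obtain ⟨r, rfl⟩ := μs y
  obtain ⟨r', rfl⟩ := μs z
  obtain ⟨e, he, πe⟩ := lift b b0
  obtain ⟨s, πs⟩ := hs (M.u 1 0)
  have fin : ∀ (e : X) (b : F) (r : R), (e : G) ∈ E[D] d → π e = M.u 0 b → ∃ k ∈ P, (e : G) * (k * e * k⁻¹) =
      s * (e * r * (e : G)⁻¹ * (r : G)⁻¹) * (s : G)⁻¹ * ((e : G) * r * (e : G)⁻¹ * (r : G)⁻¹)⁻¹ := fun e b r he πe => by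
    have c1 := key 1 b (μ r)
    rw [← πe, ← πs, μc, μc, hβ, commutatorElement_eq_one_iff_commute] at c1
    have c2 : (s : G) * e * (s : G)⁻¹ = e := congrArg Subtype.val (inj (s := e) (s' := s * e * s⁻¹) he.1
      (hD.1.conj_mem _ he.1 s) hx x1 (fun k => not_comm_E hD hd hx o he k.symm) (by
        rw [map_mul, map_mul, map_inv, πs, πe, ← M.u_zero_comm, mul_inv_cancel_right]))
    refine ⟨_, RP (cmm s r), ?_⟩
    rw [← ee e he.1 ⟨_, cmm s r⟩]
    have c3 : (e : G) * s = s * e := (mul_inv_eq_iff_eq_mul.1 c2).symm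
    have c4 := c1.inv_left.eq
    simp only at c4 ⊢
    generalize (e : G) = A at c3 c4 ⊢
    generalize (s : G) = S at c3 c4 ⊢
    generalize (r : G) = B at c4 ⊢
    calc A * (S * B * S⁻¹ * B⁻¹) * A⁻¹ * (S * B * S⁻¹ * B⁻¹)⁻¹ = (A * S) * B * (A * S)⁻¹ * (S * B * S⁻¹)⁻¹ *
          ((S * B * S⁻¹ * B⁻¹) * (A * B * A⁻¹ * B⁻¹)⁻¹) * (S * B * S⁻¹ * B⁻¹)⁻¹ := by group
      _ = _ := by rw [← c4, c3]; group
  obtain ⟨k, hk1, f1⟩ := fin e b r he πe
  obtain ⟨k', hk2, f2⟩ := fin e1 1 r' he1 π1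
  rw [← πe, ← πs, μc, μc] at k2
  rw [← πe, ← π1, μc, μc, μe] at k1
  have z1 : Commute (s : G) _ := k1 s s.2
  have f3 : (e1 : G) * (k' * e1 * k'⁻¹) = e * (k * e * k⁻¹) := by
    rw [f1, f2]
    simp only at z1
    generalize (e : G) * r * (e : G)⁻¹ * (r : G)⁻¹ = A at z1 ⊢
    generalize (e1 : G) * r' * (e1 : G)⁻¹ * (r' : G)⁻¹ = B at z1 ⊢
    calc s * B * (s : G)⁻¹ * B⁻¹ = s * A * (A⁻¹ * B * (s : G)⁻¹) * B⁻¹ := by group
      _ = _ := by rw [← z1.inv_left.eq]; group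
  have m1 : (e1 : G) * e ∈ E[D] d := (H.main1 hd (mul_mem (E_le_EG he1) (E_le_EG he))).resolve_left fun k => by
    have : e = e1 := Subtype.ext (by rw [← h.mul_mul he1.1 e, k, mul_one])
    rw [this, π1] at πe
    exact b1 (M.u_inj πe).2.symm
  have m2 := hD.1.conj_mem _ he.1 k
  have m3 := mem_E_of_mul hD m1.1 m2 (E_comm (E_eq he ▸ m1) m2 (hP.comm_cj hD he.1 e.2 hk1).symm).symm
    (by rw [mul_assoc, ← f3, h.mul_mul he1.1]; exact hD.1.conj_mem _ he1.1 k')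
  rw [E_eq m1] at m3
  rw [cj_eq (H.comm_of_cj hP hd hx x1 o he e.2 hk1 m3), h.sq _ he.1] at f1
  exact k2 (μ1 ▸ congrArg μ (Subtype.ext f1.symm))

theorem not_sz (hd : d ∈ D) (hx : x ∈ D) (o : Od x d) (hX : closure (E[D] d ∪ {x}) = X) {L : Type*} [Group L]
    {π : X →* L} (hs : Function.Surjective π) (hk : π.ker = pCore 2 X) {F : Type*} [Field F] [Fintype F] {m : ℕ}
    (M : SzModel L F m) : False := by
  have x1 := xX H.ot H.cl H.li hd hx o hX
  have d1 := EX H.ot H.cl H.li hd hx o hX (self_E hd)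
  obtain ⟨g, b, c, h1, h2⟩ := exists_std M (l := π ⟨d, d1⟩) (l' := π ⟨x, x1⟩)
    (by rw [← map_mul, show (⟨d, d1⟩ : X) * ⟨d, d1⟩ = 1 from Subtype.ext (H.ri.sq d hd), map_one])
    (by rw [← map_mul, show (⟨x, x1⟩ : X) * ⟨x, x1⟩ = 1 from Subtype.ext (H.ri.sq x hx), map_one])
    fun k => H.ri.od_not_comm hx hd o (cmπ H.ot hk hd hx k).symm
  refine H.not_sz0 hd hx o hX (π := (MulAut.conj g⁻¹).toMonoidHom.comp π) ((MulAut.conj g⁻¹).surjective.comp hs)
    (by rw [← hk, ← MonoidHom.comap_ker, (MonoidHom.ker_eq_bot_iff _).2 (MulAut.conj g⁻¹).injective]; rfl) M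
    (d' := ⟨d, d1⟩) (x' := ⟨x, x1⟩) rfl rfl (b0 := b) (c0 := c) (by simpa using h1) (by simpa using h2)

end Hp

end H11.Ot
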