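import Cfsg.Agent.H11.OtD
import Cfsg.Agent.H22.GL2
import Cfsg.Agent.H3.Transfer2
import Cfsg.Agent.H26.SzInst

/-! Lined classes of odd transpositions: the rank one subgroups are `L₂(q)`. -/

set_option autoImplicit false
set_option linter.unusedSectionVars false
set_option linter.style.haveILetI false
set_option linter.unusedVariables false

namespace H11.Ot

open Subgroup Cfsg H16 H16.H11 H12.RD H6.OT H26
open scoped MatrixGroups

universe u

theorem psl_sl {F : Type*} [Field F] [CharP F 2] : Nonempty (PSL(2, F) ≃* SL(2, F)) := by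
  refine ⟨(QuotientGroup.quotientMulEquivOfEq (eq_bot_iff.2 fun g hg => ?_)).trans
    QuotientGroup.quotientBot⟩
  obtain ⟨r, h1, hr⟩ := Matrix.SpecialLinearGroup.mem_center_iff.1 hg
  have : r = 1 := by
    rw [Fintype.card_fin, ← one_pow 2] at h1
    exact (frobenius_inj F 2) h1
  exact Subtype.ext (by rw [← hr, this, map_one]; rfl)

theorem sl_sq {F : Type*} [Field F] [Fintype F] [CharP F 2] (P : Sylow 2 SL(2, F)) {g : SL(2, F)}
    (hg : g ∈ (P : Subgroup SL(2, F))) : g * g = 1 := by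
  haveI : Fact (Nat.Prime 2) := ⟨Nat.prime_two⟩
  have key : ∀ s : (H22.slSylow F 2 : Subgroup SL(2, F)), s * s = 1 := fun s => by
    obtain ⟨h1, h2, h3⟩ := H22.mem_slU.1 s.2
    refine Subtype.ext (Subtype.ext (H22.fin2_ext ?_ ?_ ?_ ?_)) <;>
      simp [H22.mul_fin2, h1, h2, h3, CharTwo.add_self_eq_zero]
  have := key (P.equiv _ ⟨g, hg⟩)
  rw [← map_mul, EmbeddingLike.map_eq_one_iff] at this
  exact congrArg Subtype.val this

theorem dih_not_perfect (n : ℕ) : commutator (DihedralGroup n) ≠ ⊤ := fun h => by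
  let f : DihedralGroup n →* ℤˣ :=
    { toFun := fun g => match g with
        | .r _ => 1
        | .sr _ => -1
      map_one' := rfl
      map_mul' := by rintro (a | a) (b | b) <;> simp }
  have := Abelianization.commutator_subset_ker f (h ▸ mem_top (DihedralGroup.sr 0))
  exact absurd (show (-1 : ℤˣ) = 1 from this) (by decide)

variable {G : Type u} [Group G] [Finite G] {D : Set G} {d x : G} {X : Subgroup G}

local notation "E[" D "]" => sameCommutingClass D
local notation "EG[" D "]" => sameCommutingSubgroup D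

theorem Hp.l2 (H : Hp D) (hd : d ∈ D) (hx : x ∈ D) (o : Od x d) (hX : closure (E[D] d ∪ {x}) = X) :
    ∃ (F : Type) (_ : Field F) (_ : Fintype F), Fintype.card F = Nat.card (EG[D] d) ∧
      Nonempty (X ≃* PSL(2, F)) := by
  haveI : Fact (Nat.Prime 2) := ⟨Nat.prime_two⟩
  have hD := H.ot
  have hp := H.perfect hd hx o hX
  have hf := QuotientGroup.mk'_surjective (pCore 2 X)
  have hk0 := QuotientGroup.ker_mk' (pCore 2 X)
  obtain ⟨D', d', x', h1, h2, h3, -⟩ := exists_hy hD hd hx o.symm hX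
  obtain ⟨h4, h5, h6⟩ := h3.quot h1 h2
  rcases zd.hy h4 (H1.pCore_quotient_pCore 2) h5 h6 with ⟨⟨F, _, _, _, -, ⟨e⟩⟩ | ⟨F, _, _, m, k1, k2, ⟨e⟩⟩, -⟩ |
    ⟨-, ⟨e⟩⟩
  rotate_left
  · exact (H.not_sz hd hx o hX hf hk0 ((Sz.lieModel k1 k2).ofEquiv e)).elim
  · refine (dih_not_perfect (orderOf (QuotientGroup.mk' (pCore 2 X) d' * QuotientGroup.mk' (pCore 2 X) x')) ?_).elim
    have hs : Function.Surjective (e.toMonoidHom.comp (QuotientGroup.mk' (pCore 2 X))) := e.surjective.comp hf
    rw [commutator_def, ← map_top_of_surjective _ hs, ← map_commutator, ← commutator_def, hp]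
  obtain ⟨e'⟩ := psl_sl (F := F)
  set π := (e.trans e').toMonoidHom.comp (QuotientGroup.mk' (pCore 2 X)) with hπ
  have hs : Function.Surjective π := (e.trans e').surjective.comp hf
  have hk : π.ker = pCore 2 X := by
    rw [← hk0, hπ, ← MonoidHom.comap_ker, (MonoidHom.ker_eq_bot_iff _).2 (e.trans e').injective]; rfl
  clear_value π
  have l : EG[D] d ≤ X := fun v hv => EGX hD H.cl H.li hd hx o hX hv
  have hE : IsPGroup 2 ((EG[D] d).subgroupOf X) := fun v => ⟨1, Subtype.ext (Subtype.ext (by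
    simpa [pow_two] using EG_sq hD hd v.2))⟩
  obtain ⟨T, hT⟩ := hE.exists_le_sylow
  have d1 := EX hD H.cl H.li hd hx o hX (self_E hd)
  have sq : ∀ t ∈ (T : Subgroup X), π t * π t = 1 := fun t ht => sl_sq (T.mapSurjective hs) ⟨t, ht, rfl⟩
  have key : ∀ t ∈ (T : Subgroup X), ∃ v : X, (v : G) ∈ EG[D] d ∧ v⁻¹ * t ∈ pCore 2 X := fun t ht => by
    by_cases k : π t = 1
    · exact ⟨1, one_mem _, by rw [inv_one, one_mul, ← hk]; exact k⟩
    have dT : (⟨d, d1⟩ : X) ∈ (T : Subgroup X) := hT (E_le_EG (self_E hd))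
    obtain ⟨v, hv, k1⟩ := liftE hD H.cl H.li hd hx o hX hk (sq t ht) k (d' := ⟨d, d1⟩) (self_E hd) (by
      have := sq _ (mul_mem ht dT)
      rw [map_mul] at this
      show _ * _ = _ * _
      rw [← inv_eq_of_mul_eq_one_right this, mul_inv_rev, inv_eq_of_mul_eq_one_right (sq t ht),
        inv_eq_of_mul_eq_one_right (sq _ dT)])
    exact ⟨v, E_le_EG hv, by rw [← hk, MonoidHom.mem_ker, map_mul, map_inv, k1, inv_mul_cancel]⟩
  have cq : ∀ q ∈ pCore 2 X, ∀ g, Commute q g := fun q hq g => Subtype.ext (H.Q_cent hd hx o hX (mem_O2.2 hq) g.2).eq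
  have TT : ⁅(T : Subgroup X), (T : Subgroup X)⁆ = ⊥ := by
    rw [commutator_eq_bot_iff_le_centralizer]
    intro s hs t ht
    obtain ⟨v, hv, k1⟩ := key s hs
    obtain ⟨w, hw, k2⟩ := key t ht
    have c : Commute w v := Subtype.ext (EG_comm' hd hw hv).eq
    have := (c.mul_right (cq _ k1 w).symm).mul_left (cq _ k2 (v * (v⁻¹ * s)))
    rwa [mul_inv_cancel_left, mul_inv_cancel_left] at this
  have Q0 : pCore 2 X = ⊥ := eq_bot_iff.2 fun q hq => TT ▸ H3.mem_commutator_sylow_of_central T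
    (H1.pCore_le_sylow T hq) (hp ▸ mem_top q) (mem_center_iff.2 fun g => (cq q hq g).symm)
  have inj : Function.Injective π := (MonoidHom.ker_eq_bot_iff _).1 (hk.trans Q0)
  have eT : (T : Subgroup X) = (EG[D] d).subgroupOf X := le_antisymm (fun t ht => by
    obtain ⟨v, hv, k⟩ := key t ht
    rw [Q0, mem_bot, inv_mul_eq_one] at k
    exact k ▸ hv) hT
  refine ⟨F, inferInstance, inferInstance, ?_, ⟨(MulEquiv.ofBijective π ⟨inj, hs⟩).trans e'.symm⟩⟩
  rw [← H22.card_sylow_SL_two 2 (T.mapSurjective hs), ← Nat.card_congr (subgroupOfEquivOfLe l).toEquiv, ← eT]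
  exact card_map_of_injective inj

end H11.Ot
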