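import Cfsg.Agent.H4.Dickson

/-! `SL₂(k(a))` is generated by the unitriangular matrices with entries in `k` and `k a`. -/

set_option autoImplicit false
set_option linter.unusedSectionVars false

open Matrix Polynomial H4
open scoped MatrixGroups

namespace H16.H11

theorem fin_bad {k V W : Type*} [Field k] [AddCommGroup V] [Module k V] [AddCommGroup W] [Module k W]
    [FiniteDimensional k V] (L₀ L₁ : V →ₗ[k] W) (h : ∀ v, L₀ v = 0 → v = 0) :
    {t : k | ¬ ∀ v, L₀ v + t • L₁ v = 0 → v = 0}.Finite := by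
  obtain ⟨π, hπ⟩ := L₀.exists_leftInverse_of_injective (LinearMap.ker_eq_bot'.2 h)
  refine ((Module.End.finite_hasEigenvalue (π ∘ₗ L₁)).image fun μ => -μ⁻¹).subset fun t ht => ?_
  simp only [Set.mem_ofPred_eq, not_forall] at ht
  obtain ⟨v, h1, h2⟩ := ht
  have h3 : v + t • π (L₁ v) = 0 := by
    have := congrArg π h1
    rwa [map_add, map_smul, map_zero, ← LinearMap.comp_apply, hπ] at this
  have t0 : t ≠ 0 := by rintro rfl; exact h2 (by simpa using h3)
  refine ⟨-t⁻¹, Module.End.hasEigenvalue_of_hasEigenvector (x := v) ⟨Module.End.mem_eigenspace_iff.2 ?_, h2⟩, by simp⟩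
  rw [LinearMap.comp_apply]
  conv_rhs => rw [eq_neg_of_add_eq_zero_left h3, smul_neg, neg_smul, neg_neg, smul_smul, inv_mul_cancel₀ t0, one_smul]

theorem exists_generic {k K ι : Type*} [Field k] [Infinite k] [AddCommGroup K] [Module k K] (C : ι → K → Prop)
    (h1 : ∀ i y v, C i y → {t : k | ¬ C i (y + t • v)}.Finite) (s : Finset ι) (h2 : ∀ i ∈ s, ∃ y, C i y) :
    ∃ y, ∀ i ∈ s, C i y := by
  classical
  induction s using Finset.induction_on with
  | empty => exact ⟨0, by simp⟩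
  | insert j s _ ih =>
    obtain ⟨y, hy⟩ := ih fun i hi => h2 i (Finset.mem_insert_of_mem hi)
    obtain ⟨z, hz⟩ := h2 j (Finset.mem_insert_self _ _)
    have f1 := s.finite_toSet.biUnion fun i hi => h1 i y (z - y) (hy i hi)
    have f2 := (h1 j z (y - z) hz).image fun t => 1 - t
    obtain ⟨t, ht⟩ := (f1.union f2).exists_notMem
    refine ⟨y + t • (z - y), fun i hi => ?_⟩
    by_contra hc
    rcases Finset.mem_insert.1 hi with rfl | hi
    · refine ht (Or.inr ⟨1 - t, ?_, by simp⟩)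
      rwa [Set.mem_ofPred_eq, show z + (1 - t) • (y - z) = y + t • (z - y) by module]
    · exact ht (Or.inl (Set.mem_biUnion hi hc))

variable {k K : Type*} [Field k] [Field K] [Algebra k K]

/-- values of polynomials of degree `< j` -/
noncomputable def Pd (k : Type*) [Field k] [Algebra k K] (a : K) (j : ℕ) : Submodule k K :=
  (degreeLT k j).map (aeval a).toLinearMap

variable {a x y : K} {j : ℕ}

theorem mem_Pd : x ∈ Pd k a j ↔ ∃ f : k[X], f.degree < j ∧ aeval a f = x := by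
  simp [Pd, mem_degreeLT]

instance : FiniteDimensional k (Pd k a j) := by unfold Pd; infer_instance

theorem Pd_mono (h : x ∈ Pd k a j) : x ∈ Pd k a (j + 1) :=
  Submodule.map_mono (degreeLT_mono j.le_succ) h

theorem Pd_zero (h : x ∈ Pd k a 0) : x = 0 := by
  obtain ⟨f, hf, rfl⟩ := mem_Pd.1 h
  rw [degree_eq_bot.1 (Nat.WithBot.lt_zero_iff.1 hf), map_zero]

theorem Pd_one (h : x ∈ Pd k a 1) : ∃ c, algebraMap k K c = x := by
  obtain ⟨f, hf, rfl⟩ := mem_Pd.1 h
  exact ⟨f.coeff 0, by rw [eq_C_of_degree_le_zero (Nat.WithBot.lt_one_iff_le_zero.1 hf)]; simp⟩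

theorem Pd_mul (h : x ∈ Pd k a j) : a * x ∈ Pd k a (j + 1) := by
  obtain ⟨f, hf, rfl⟩ := mem_Pd.1 h
  refine mem_Pd.2 ⟨X * f, ?_, by simp⟩
  rw [degree_mul, degree_X, add_comm, Nat.cast_succ]
  exact WithBot.add_lt_add_right WithBot.one_ne_bot hf

theorem Pd_split (h : x ∈ Pd k a (j + 1)) : ∃ c : k, x - c • a ^ j ∈ Pd k a j := by
  obtain ⟨f, hf, rfl⟩ := mem_Pd.1 h
  refine ⟨f.coeff j, mem_Pd.2 ⟨f - C (f.coeff j) * X ^ j, (degree_lt_iff_coeff_zero _ _).2 fun m hm => ?_,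
    by simp [Algebra.smul_def]⟩⟩
  rcases hm.eq_or_lt with rfl | hm
  · simp
  · rw [coeff_sub, (degree_lt_iff_coeff_zero _ _).1 hf m hm, coeff_C_mul_X_pow, if_neg hm.ne', sub_zero]

theorem Pd_red (hx : x ∈ Pd k a (j + 1)) (hy : y ∈ Pd k a (j + 1)) (hy' : y ∉ Pd k a j) :
    ∃ c : k, x + c • y ∈ Pd k a j := by
  obtain ⟨c, hc⟩ := Pd_split hx
  obtain ⟨d, hd⟩ := Pd_split hy
  have d0 : d ≠ 0 := by rintro rfl; exact hy' (by simpa using hd)
  refine ⟨-(c / d), ?_⟩
  have := sub_mem hc (Submodule.smul_mem _ (c / d) hd)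
  rwa [smul_sub, smul_smul, div_mul_cancel₀ _ d0, sub_sub_sub_cancel_right, sub_eq_add_neg, ← neg_smul] at this

theorem Pd_new {c : k} (hx : x ∈ Pd k a j) (hy : y ∉ Pd k a j) (hc : c ≠ 0) : x + c • y ∉ Pd k a j := fun h =>
  hy ((Submodule.smul_mem_iff _ hc).1 ((Submodule.add_mem_iff_right _ hx).1 h))

variable (pb : PowerBasis k K)

theorem Pd_top (x : K) : x ∈ Pd k pb.gen pb.dim := by
  obtain ⟨f, hf, rfl⟩ := pb.exists_eq_aeval x
  exact mem_Pd.2 ⟨f, degree_le_natDegree.trans_lt (by exact_mod_cast hf), rfl⟩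

theorem aeval_inj {f : k[X]} (hf : f.degree < pb.dim) (h : aeval pb.gen f = 0) : f = 0 := by
  by_contra h0; exact (pb.dim_le_degree_of_root h0 h).not_gt hf

theorem pow_not_mem (hj : j < pb.dim) : pb.gen ^ j ∉ Pd k pb.gen j := fun h => by
  obtain ⟨f, hf, e⟩ := mem_Pd.1 h
  have h1 : (X ^ j - f).degree = (j : WithBot ℕ) := by rw [degree_sub_eq_left_of_degree_lt (by rwa [degree_X_pow]), degree_X_pow]
  have := aeval_inj pb (f := X ^ j - f) (by rw [h1]; exact_mod_cast hj) (by simp [e])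
  rw [this] at h1; simp at h1

theorem Pd_mul_not (hj : j + 1 < pb.dim) (hx : x ∈ Pd k pb.gen (j + 1)) (hx' : x ∉ Pd k pb.gen j) :
    pb.gen * x ∉ Pd k pb.gen (j + 1) := by
  obtain ⟨c, hc⟩ := Pd_split hx
  have c0 : c ≠ 0 := by rintro rfl; exact hx' (by simpa using hc)
  have := Pd_new (Pd_mul hc) (pow_not_mem pb hj) c0
  rwa [mul_sub, mul_smul_comm, ← pow_succ', sub_add_cancel] at this

/-- the genericity condition -/
def GenC (i : ℕ) (y : K) : Prop := ∀ d ∈ Pd k pb.gen i, d * y ∈ Pd k pb.gen (pb.dim - i) → d = 0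

theorem genC_open (i : ℕ) (y v : K) (h : GenC pb i y) : {t : k | ¬ GenC pb i (y + t • v)}.Finite := by
  let L : K → Pd k pb.gen i →ₗ[k] K ⧸ Pd k pb.gen (pb.dim - i) := fun y =>
    (Submodule.mkQ _) ∘ₗ LinearMap.mulRight k y ∘ₗ (Submodule.subtype _)
  refine (fin_bad (L y) (L v) fun d hd => Subtype.ext (h d d.2 ((Submodule.Quotient.mk_eq_zero _).1 hd))).subset
    fun t ht hc => ht fun d hd h1 => congrArg Subtype.val (hc ⟨d, hd⟩ ?_)
  rw [← Submodule.Quotient.mk_eq_zero, mul_add, mul_smul_comm] at h1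
  exact h1

theorem genC_pow {i : ℕ} (hi : i ≤ pb.dim) : GenC pb i (pb.gen ^ (pb.dim - i)) := fun d hd h => by
  obtain ⟨f, hf, rfl⟩ := mem_Pd.1 hd
  obtain ⟨g, hg, e⟩ := mem_Pd.1 h
  by_cases f0 : f = 0
  · simp [f0]
  have h1 : (f * X ^ (pb.dim - i)).degree = (f.natDegree : WithBot ℕ) + (pb.dim - i : ℕ) := by
    rw [degree_mul, degree_X_pow, degree_eq_natDegree f0]
  have h2 : g.degree < (f * X ^ (pb.dim - i)).degree := by
    rw [h1]; exact hg.trans_le (by exact_mod_cast Nat.le_add_left _ _)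
  have h3 := degree_sub_eq_left_of_degree_lt h2
  have h4 : f.natDegree < i := by rwa [degree_eq_natDegree f0, Nat.cast_lt] at hf
  have := aeval_inj pb (f := f * X ^ (pb.dim - i) - g) (by rw [h3, h1]; norm_cast; omega) (by simp [e])
  rw [this, h1] at h3
  exact absurd h3.symm (by norm_cast)

/-- generic elements -/
def Gen (y : K) : Prop := ∀ i ≤ pb.dim, GenC pb i y ∧ GenC pb i (pb.gen * y)

theorem gen_open1 (i : ℕ) (y v : K) (h : GenC pb i y ∧ GenC pb i (pb.gen * y)) :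
    {t : k | ¬ (GenC pb i (y + t • v) ∧ GenC pb i (pb.gen * (y + t • v)))}.Finite := by
  refine ((genC_open pb i y v h.1).union (genC_open pb i _ (pb.gen * v) h.2)).subset fun t ht => ?_
  simpa only [Set.mem_ofPred_eq, not_and_or, mul_add, mul_smul_comm, Set.mem_union] using ht

theorem gen_open (y v : K) (h : Gen pb y) : {t : k | ¬ Gen pb (y + t • v)}.Finite := by
  refine ((Set.finite_le_nat pb.dim).biUnion fun i hi => gen_open1 pb i y v (h i hi)).subset fun t ht => ?_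
  simp only [Gen, Set.mem_ofPred_eq, not_forall] at ht
  obtain ⟨i, hi, ht⟩ := ht
  exact Set.mem_biUnion hi ht

theorem exists_gen [Infinite k] (h0 : pb.gen ≠ 0) : ∃ y, Gen pb y := by
  obtain ⟨y, hy⟩ := exists_generic (k := k) (fun (i : ℕ × Bool) y => GenC pb i.1 (if i.2 then y else pb.gen * y))
    (fun i y v h => by
      rcases i with ⟨i, _ | _⟩
      · simpa [mul_add] using genC_open pb i (pb.gen * y) (pb.gen * v) h
      · exact genC_open pb i y v h) (Finset.range (pb.dim + 1) ×ˢ Finset.univ) (by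
      rintro ⟨i, _ | _⟩ hi
      · exact ⟨pb.gen⁻¹ * pb.gen ^ (pb.dim - i), by
          simpa [h0] using genC_pow pb (Nat.lt_succ_iff.1 (by simpa using hi))⟩
      · exact ⟨_, genC_pow pb (Nat.lt_succ_iff.1 (by simpa using hi))⟩)
  exact ⟨y, fun i hi => ⟨hy (i, true) (by simp [hi]), hy (i, false) (by simp [hi])⟩⟩

variable {H : Subgroup SL(2, K)} (hU : ∀ c : k, upT (algebraMap k K c) ∈ H)
  (hL : ∀ c : k, loT (algebraMap k K c * pb.gen) ∈ H)
include hU hL

theorem euclid (hy : Gen pb y) (i : ℕ) : ∀ m, i + 1 + m = pb.dim → ∃ g ∈ H, g.1 0 1 ∈ Pd k pb.gen (i + 1) ∧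
    g.1 0 1 ∉ Pd k pb.gen i ∧ g.1 1 1 ∈ Pd k pb.gen (i + 1) ∧ g.1 1 1 ∉ Pd k pb.gen i ∧
    g.1 0 1 * (pb.gen * y) ∈ Pd k pb.gen (m + 1) ∧ g.1 1 1 * y ∈ Pd k pb.gen (m + 1) := by
  induction i with
  | zero =>
    intro m hm
    have h1 : (1 : K) ∈ Pd k pb.gen 1 := mem_Pd.2 ⟨1, by simp, by simp⟩
    have h2 : (1 : K) ∉ Pd k pb.gen 0 := fun h => one_ne_zero (Pd_zero h)
    have h3 : ∀ x, x ∈ Pd k pb.gen (m + 1) := fun x => by rw [show m + 1 = pb.dim by omega]; exact Pd_top pb x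
    exact ⟨upT (algebraMap k K 1), hU 1, by simpa [coe_upT] using h1, by simpa [coe_upT] using h2,
      by simpa [coe_upT] using h1, by simpa [coe_upT] using h2, h3 _, h3 _⟩
  | succ i ih =>
    intro m hm
    obtain ⟨g, hg, b1, b2, d1, d2, a1, y1⟩ := ih (m + 1) (by omega)
    have z : ∀ {x j}, x ∉ Pd k pb.gen j → x ≠ 0 := fun h e => h (e ▸ zero_mem _)
    have e1 : pb.dim - (i + 1) = m + 1 := by omega
    have e2 : pb.dim - (i + 1 + 1) = m := by omega
    have a2 : g.1 0 1 * (pb.gen * y) ∉ Pd k pb.gen (m + 1) := fun h => z b2 ((hy (i + 1) (by omega)).2 _ b1 (e1 ▸ h))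
    have y2 : g.1 1 1 * y ∉ Pd k pb.gen (m + 1) := fun h => z d2 ((hy (i + 1) (by omega)).1 _ d1 (e1 ▸ h))
    obtain ⟨c, hc⟩ := Pd_red y1 a1 a2
    have c0 : c ≠ 0 := by rintro rfl; exact y2 (by simpa using hc)
    set d := g.1 1 1 + c • (pb.gen * g.1 0 1) with hd
    have d3 : d ∈ Pd k pb.gen (i + 1 + 1) := add_mem (Pd_mono d1) (Submodule.smul_mem _ _ (Pd_mul b1))
    have d4 : d ∉ Pd k pb.gen (i + 1) := Pd_new d1 (Pd_mul_not pb (by omega) b1 b2) c0
    have y3 : d * y ∈ Pd k pb.gen (m + 1) := by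
      convert hc using 1; rw [hd, add_mul, smul_mul_assoc]; congr 2; ring
    have y4 : d * y ∉ Pd k pb.gen m := fun h => z d4 ((hy (i + 1 + 1) (by omega)).1 _ d3 (e2 ▸ h))
    obtain ⟨e, he⟩ := Pd_red a1 (Pd_mul y3) (Pd_mul_not pb (by omega) y3 y4)
    have e0 : e ≠ 0 := by rintro rfl; exact a2 (by simpa using he)
    have f1 : (upT (algebraMap k K e) * (loT (algebraMap k K c * pb.gen) * g)).1 1 1 = d := by
      simp [sl2_mul_apply, coe_upT, coe_loT, hd, Algebra.smul_def]; ring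
    have f0 : (upT (algebraMap k K e) * (loT (algebraMap k K c * pb.gen) * g)).1 0 1 = g.1 0 1 + e • d := by
      simp [sl2_mul_apply, coe_upT, coe_loT, hd, Algebra.smul_def]; left; ring
    refine ⟨_, mul_mem (hU e) (mul_mem (hL c) hg), ?_⟩
    rw [f0, f1]
    refine ⟨add_mem (Pd_mono b1) (Submodule.smul_mem _ _ d3), Pd_new b1 d4 e0, d3, d4, ?_, y3⟩
    convert he using 1; rw [add_mul, smul_mul_assoc]; congr 2; ring

theorem exists_weyl (hy : Gen pb y) : ∃ g ∈ H, ∃ c : k, c ≠ 0 ∧ g.1 1 1 = 0 ∧ g.1 0 1 * (pb.gen * y) = algebraMap k K c := by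
  obtain ⟨g, hg, b1, b2, d1, d2, a1, y1⟩ := euclid pb hU hL hy (pb.dim - 1) 0 (by have := pb.dim_pos; omega)
  have e : pb.dim - 1 + 1 = pb.dim := by have := pb.dim_pos; omega
  have y0 : y ≠ 0 := by
    rintro rfl
    exact one_ne_zero ((hy _ le_rfl).1 1 (Pd_top pb 1) (by simp))
  have a2 : g.1 0 1 * (pb.gen * y) ∉ Pd k pb.gen 0 := fun h =>
    b2 ((hy _ le_rfl).2 _ (Pd_top pb _) (by simpa using h) ▸ zero_mem _)
  obtain ⟨c, hc⟩ := Pd_red y1 a1 a2
  obtain ⟨e, he⟩ := Pd_one a1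
  refine ⟨_, mul_mem (hL c) hg, e, fun h => a2 (by rw [← he, h, map_zero]; exact zero_mem _), ?_, ?_⟩
  · apply mul_right_cancel₀ y0
    rw [zero_mul, ← Pd_zero hc]
    simp [sl2_mul_apply, coe_loT, Algebra.smul_def]; ring
  · simpa [sl2_mul_apply, coe_loT] using he.symm

omit hU hL in
theorem weyl_conj {g : SL(2, K)} (hg : g ∈ H) (h : g.1 1 1 = 0) (m : K) : loT m ∈ H ↔ upT (g.1 0 1 ^ 2 * m) ∈ H := by
  have hd := sl2_det g
  have : upT (g.1 0 1 ^ 2 * m) * g = g * (loT m)⁻¹ := by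
    rw [loT_inv]
    apply sl2_ext <;> simp [sl2_mul_apply, coe_upT, coe_loT, h]
    rw [h] at hd
    linear_combination (-(g.1 0 1 * m)) * hd
  rw [← mul_mem_cancel_right hg (y := upT _), this, mul_mem_cancel_left hg, inv_mem_iff]

theorem sl2_gen_inf [Infinite k] (h2 : (2 : k) ≠ 0) (h0 : pb.gen ≠ 0) : H = ⊤ := by
  obtain ⟨y, hy⟩ := exists_gen pb h0
  obtain ⟨g, hg, c, c0, g1, g2⟩ := exists_weyl pb hU hL hy
  have inj := (algebraMap k K).injective
  have n0 : ∀ {b y : K} {c : k}, c ≠ 0 → b * (pb.gen * y) = algebraMap k K c → b ≠ 0 ∧ y ≠ 0 := by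
    intro b y c c0 h
    constructor <;> rintro rfl <;> exact c0 (inj (by simpa using h.symm))
  let S : Submodule k K :=
    { carrier := {r | ∀ e : k, upT (e • r) ∈ H}
      zero_mem' := fun e => by simpa using hU 0
      add_mem' := fun h1 h2 e => by rw [smul_add, upT_add]; exact mul_mem (h1 e) (h2 e)
      smul_mem' := fun c r h e => by rw [smul_smul]; exact h _ }
  have s1 : (1 : K) ∈ S := fun e => by simpa [Algebra.smul_def] using hU e
  have hup : ∀ x, upT x ∈ H := by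
    intro x
    have key : ∀ t : k, Gen pb (y + t • (y * x)) → (1 + t • x) ^ 2 ∈ S := by
      intro t ht e
      obtain ⟨g', hg', c', c0', g1', g2'⟩ := exists_weyl pb hU hL ht
      obtain ⟨b0, -⟩ := n0 c0' g2'
      obtain ⟨-, y0⟩ := n0 c0 g2
      have := (weyl_conj hg g1 _).1 ((weyl_conj hg' g1' (algebraMap k K (e * (c' / c) ^ 2) / g'.1 0 1 ^ 2)).2
        (by rw [mul_div_cancel₀ _ (pow_ne_zero 2 b0)]; exact hU _))
      convert this using 2
      have c1 : algebraMap k K c ≠ 0 := (_root_.map_ne_zero _).2 c0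
      rw [map_mul, map_pow, map_div₀, ← g2', ← g2, Algebra.smul_def, Algebra.smul_def, Algebra.smul_def]
      obtain ⟨b1, -⟩ := n0 c0 g2
      field_simp
    have hf := (gen_open pb y (y * x) hy).union (Set.finite_singleton 0)
    obtain ⟨t, ht⟩ := hf.exists_notMem
    obtain ⟨u, hu⟩ := (hf.union (Set.finite_singleton t)).exists_notMem
    simp only [Set.mem_union, Set.mem_ofPred_eq, Set.mem_singleton_iff, not_or, not_not] at ht hu
    have h3 := sub_mem (sub_mem (S.smul_mem (u ^ 2) (key t ht.1)) (S.smul_mem (t ^ 2) (key u hu.1.1)))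
      (S.smul_mem (u ^ 2 - t ^ 2) s1)
    have h4 : (2 * t * u * (u - t)) ≠ 0 := by simp [h2, ht.2, hu.1.2, sub_eq_zero, hu.2]
    have h5 : x ∈ S := by
      refine (S.smul_mem_iff h4).1 ?_
      convert h3 using 1
      simp only [Algebra.smul_def, map_mul, map_sub, map_pow, map_ofNat]; ring
    simpa using h5 1
  exact sl2_eq_top_of_upT_loT hup fun t => (weyl_conj hg g1 t).2 (hup _)

end H16.H11

namespace H16.H11

open MulAction
open scoped LinearAlgebra.Projectivization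

variable {K : Type*} [Field K] {H : Subgroup SL(2, K)}

theorem fix_unip {p : ℕ} [hp : Fact p.Prime] [CharP K p] (hp2 : p ≠ 2) {W : SL(2, K)} {v : Fin 2 → K} (hv : v ≠ 0) {c : K}
    (hc : W • v = c • v) (hc2 : c ^ 2 = 1) (x : ℙ K (Fin 2 → K)) :
    (W ^ (p + 1)) • v = v ∧ (W ^ (p + 1)) • x = W • x := by
  obtain ⟨k, hk⟩ := hp.out.odd_of_ne_two hp2
  constructor
  · rw [eig_pow hc, hk, show 2 * k + 1 + 1 = 2 * (k + 1) by ring, pow_mul, hc2, one_pow, one_smul]
  · obtain ⟨r, -, hr⟩ := eig_of_mem_center (pow_char_mem_center_of_eig (p := p) hv hc hc2)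
    induction x using Projectivization.ind with | _ w hw =>
    rw [pow_succ', mul_smul, (sl2_fix_iff hw).2 ⟨r, hr _⟩]

theorem inv_or {p : ℕ} [hp : Fact p.Prime] [CharP K p] [IsAlgClosed K] (hp2 : p ≠ 2) [Finite H] {l : K} (hl : l ≠ 0)
    (h1 : upT 1 ∈ H) (h2 : loT l ∈ H) :
    ((∀ r, r ≠ 0 → upT r ∈ H → loT r⁻¹ ∈ H) ∧ ∀ r, r ≠ 0 → loT r ∈ H → upT r⁻¹ ∈ H) ∨
      (p = 3 ∧ ∀ g ∈ H, g ^ 2 ∈ Subgroup.center SL(2, K) ∨ g ^ 3 ∈ Subgroup.center SL(2, K) ∨
        g ^ 5 ∈ Subgroup.center SL(2, K)) := by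
  let G := H.map (QuotientGroup.mk' (Subgroup.center SL(2, K)))
  have : Finite G := Finite.of_surjective _ ((QuotientGroup.mk' _).subgroupMap_surjective H)
  let L := (pslLineAct p (K := K)).restrict G
  have e0 : (![1, 0] : Fin 2 → K) ≠ 0 := by simp
  have e1 : (![0, 1] : Fin 2 → K) ≠ 0 := by simp
  have hU : ∀ M ∈ H, M ≠ 1 → ∀ (v : Fin 2 → K) (hv : v ≠ 0), M • v = v →
      L.U (Projectivization.mk K v hv) ≠ ⊥ := by
    intro M hM hM1 v hv h hb
    have h3 : (⟨M, M, hM, rfl⟩ : G) ∈ L.U (Projectivization.mk K v hv) :=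
      ⟨(psl_fix_iff hv).2 ⟨1, h.trans (one_smul K _).symm⟩,
        (psl_isP_iff hv (h.trans (one_smul K _).symm)).2 (one_pow 2)⟩
    rw [hb, Subgroup.mem_bot, Subtype.ext_iff] at h3
    exact hM1 (eq_one_of_mem_center_of_fix (psl_mk_eq_one_iff.1 h3) hv h)
  have hx := hU _ h1 (mt upT_eq_one_iff.1 one_ne_zero) _ e0 (upT_smul 1)
  have hy := hU _ h2 (mt loT_eq_one_iff.1 hl) _ e1 (loT_smul l)
  by_cases hc : p = 3 ∧ ∀ g : G, g ^ 2 = 1 ∨ g ^ 3 = 1 ∨ g ^ 5 = 1
  · refine Or.inr ⟨hc.1, fun g hg => ?_⟩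
    simpa only [Subtype.ext_iff, Subgroup.coe_pow, Subgroup.coe_one, ← QuotientGroup.mk_pow,
      QuotientGroup.eq_one_iff] using hc.2 ⟨g, g, hg, rfl⟩
  refine Or.inl ⟨fun r hr h3 => ?_, fun r hr h3 => ?_⟩
  · have e2 : (![r, 1] : Fin 2 → K) ≠ 0 := by simp
    have h4 : upT r • (![0, 1] : Fin 2 → K) = ![r, 1] := by
      apply vec2_ext <;> simp [sl2_smul_zero, sl2_smul_one, coe_upT]
    have h5 := hU _ (mul_mem (mul_mem h3 h2) (inv_mem h3))
      (by rw [Ne, mul_inv_eq_one, mul_eq_left, loT_eq_one_iff]; exact hl) _ e2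
      (by rw [← h4, mul_smul, mul_smul, inv_smul_smul, loT_smul])
    obtain ⟨⟨_, W, hW, rfl⟩, hw, hw'⟩ := (L.transitive_or hp2 (x := Projectivization.mk K _ e1)
      (y₀ := Projectivization.mk K _ e0) (by rw [Ne, mk_eq_mk_iff_det2]; simp [det2]) hy hx).resolve_right hc _ h5
      (by rw [Ne, mk_eq_mk_iff_det2]; simpa [det2] using hr)
    obtain ⟨c, hc⟩ := (psl_fix_iff e1).1 hw.1
    obtain ⟨h6, h7⟩ := fix_unip hp2 e1 hc ((psl_isP_iff e1 hc).1 hw.2) (Projectivization.mk K _ e0)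
    replace h7 := h7.trans hw'
    rw [Projectivization.smul_mk, mk_eq_mk_iff_det2, eq_loT_of_fix h6] at h7
    simp only [det2, sl2_smul_zero, sl2_smul_one, coe_loT, of_apply, cons_val', cons_val_zero, cons_val_one,
      cons_val_fin_one] at h7
    rw [← eq_inv_of_mul_eq_one_left (show (W ^ (p + 1)).1 1 0 * r = 1 by linear_combination -h7), ← eq_loT_of_fix h6]
    exact pow_mem hW _
  · have e2 : (![1, r] : Fin 2 → K) ≠ 0 := by simp
    have h4 : loT r • (![1, 0] : Fin 2 → K) = ![1, r] := by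
      apply vec2_ext <;> simp [sl2_smul_zero, sl2_smul_one, coe_loT]
    have h5 := hU _ (mul_mem (mul_mem h3 h1) (inv_mem h3))
      (by rw [Ne, mul_inv_eq_one, mul_eq_left, upT_eq_one_iff]; exact one_ne_zero) _ e2
      (by rw [← h4, mul_smul, mul_smul, inv_smul_smul, upT_smul])
    obtain ⟨⟨_, W, hW, rfl⟩, hw, hw'⟩ := (L.transitive_or hp2 (x := Projectivization.mk K _ e0)
      (y₀ := Projectivization.mk K _ e1) (by rw [Ne, mk_eq_mk_iff_det2]; simp [det2]) hx hy).resolve_right hc _ h5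
      (by rw [Ne, mk_eq_mk_iff_det2]; simpa [det2] using hr)
    obtain ⟨c, hc⟩ := (psl_fix_iff e0).1 hw.1
    obtain ⟨h6, h7⟩ := fix_unip hp2 e0 hc ((psl_isP_iff e0 hc).1 hw.2) (Projectivization.mk K _ e1)
    replace h7 := h7.trans hw'
    rw [Projectivization.smul_mk, mk_eq_mk_iff_det2, eq_upT_of_fix h6] at h7
    simp only [det2, sl2_smul_zero, sl2_smul_one, coe_upT, of_apply, cons_val', cons_val_zero, cons_val_one,
      cons_val_fin_one] at h7
    rw [← eq_inv_of_mul_eq_one_left (show (W ^ (p + 1)).1 0 1 * r = 1 by linear_combination h7), ← eq_upT_of_fix h6]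
    exact pow_mem hW _

/-- the unitriangular entries form a subring -/
theorem exists_subring (h1 : upT (1 : K) ∈ H) (h2 : upT (2⁻¹ : K) ∈ H) (h0 : (2 : K) ≠ 0)
    (hi : ∀ r, r ≠ 0 → upT r ∈ H → loT r⁻¹ ∈ H) :
    ∃ S : Subring K, (∀ r, r ∈ S ↔ upT r ∈ H) ∧ ∀ r, r ∈ S ↔ loT r ∈ H := by
  have hw : ∀ r, r ≠ 0 → upT r ∈ H → ∀ m, loT m ∈ H ↔ upT (r ^ 2 * m) ∈ H := by
    intro r hr h m
    have h3 := weyl_conj (mul_mem (inv_mem (hi r hr h)) h) (by
      simp [loT_inv, sl2_mul_apply, coe_upT, coe_loT, hr]) m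
    simpa [loT_inv, sl2_mul_apply, coe_upT, coe_loT] using h3
  have e : ∀ m, loT m ∈ H ↔ upT m ∈ H := fun m => by simpa using hw 1 one_ne_zero h1 m
  have sq : ∀ r, upT r ∈ H → upT (r ^ 2 * 2⁻¹) ∈ H := fun r h => by
    by_cases hr : r = 0
    · simp [hr, upT_zero]
    · exact (hw r hr h _).1 ((e _).2 h2)
  refine ⟨{ carrier := {r | upT r ∈ H}
            zero_mem' := by simp [upT_zero]
            one_mem' := h1
            add_mem' := fun ha hb => by rw [Set.mem_ofPred_eq, upT_add]; exact mul_mem ha hb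
            neg_mem' := fun ha => by rw [Set.mem_ofPred_eq, ← upT_inv]; exact inv_mem ha
            mul_mem' := fun {a b} ha hb => ?_ }, fun r => Iff.rfl, fun r => (e r).symm⟩
  have := mul_mem (mul_mem (sq (a + b) (by rw [upT_add]; exact mul_mem ha hb)) (inv_mem (sq a ha))) (inv_mem (sq b hb))
  rw [upT_inv, upT_inv, ← upT_add, ← upT_add] at this
  rwa [show (a + b) ^ 2 * 2⁻¹ + -(a ^ 2 * 2⁻¹) + -(b ^ 2 * 2⁻¹) = a * b by field_simp; ring] at this

theorem exists_sq_ne {k : Type*} [Field k] (hk2 : ringChar k ≠ 2) (hk3 : Nat.card k ≠ 3) :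
    ∃ c : k, c ≠ 0 ∧ c ≠ 1 ∧ c ≠ -1 := by
  by_contra h
  have h2 : (2 : k) ≠ 0 := Ring.two_ne_zero hk2
  have : (Set.univ : Set k) = {0, 1, -1} := (Set.eq_univ_of_forall fun c => by
    by_contra hc; exact h ⟨c, by simpa [not_or] using hc⟩).symm
  refine hk3 ?_
  rw [← Set.ncard_univ, this, Set.ncard_eq_three]
  exact ⟨_, _, _, zero_ne_one, by simp, fun e => h2 (by linear_combination e), rfl⟩

theorem sl2_gen {k : Type*} [Field k] [Algebra k K] (pb : PowerBasis k K) (hk2 : ringChar k ≠ 2) (hk3 : Nat.card k ≠ 3)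
    (h0 : pb.gen ≠ 0) (hU : ∀ c : k, upT (algebraMap k K c) ∈ H) (hL : ∀ c : k, loT (algebraMap k K c * pb.gen) ∈ H) :
    H = ⊤ := by
  have h2 : (2 : k) ≠ 0 := Ring.two_ne_zero hk2
  rcases finite_or_infinite k with hk | hk
  swap
  · exact sl2_gen_inf pb hU hL h2 h0
  have := pb.finite
  have : Finite K := Module.finite_of_finite k
  obtain ⟨p, hp⟩ := CharP.exists k
  have : Fact p.Prime := ⟨CharP.char_is_prime k p⟩
  let E := AlgebraicClosure K
  let f := algebraMap K E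
  have : CharP K p := charP_of_injective_algebraMap (algebraMap k K).injective p
  let F := Matrix.SpecialLinearGroup.map (n := Fin 2) f
  have : Finite (H.map F) := Finite.of_surjective _ (F.subgroupMap_surjective H)
  have mu : ∀ r, upT (f r) ∈ H.map F ↔ upT r ∈ H := fun r => by
    rw [← map_upT, Subgroup.mem_map_iff_mem (sl2_map_injective f)]
  have ml : ∀ r, loT (f r) ∈ H.map F ↔ loT r ∈ H := fun r => by
    rw [← map_loT, Subgroup.mem_map_iff_mem (sl2_map_injective f)]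
  have u1 : upT (1 : K) ∈ H := by simpa using hU 1
  have k2 : (2 : K) ≠ 0 := by simpa only [map_ofNat] using (_root_.map_ne_zero (algebraMap k K)).2 h2
  rcases inv_or (H := H.map F) (p := p) (fun e => hk2 (e ▸ ringChar.eq k p)) ((_root_.map_ne_zero f).2 h0)
    (by simpa using (mu 1).2 u1) ((ml _).2 (by simpa using hL 1)) with h | ⟨h3, h⟩
  · obtain ⟨S, s1, s2⟩ := exists_subring u1 (by simpa only [map_inv₀, map_ofNat] using hU 2⁻¹) k2 fun r hr h1 =>
      (ml _).1 (by rw [map_inv₀]; exact h.1 _ ((_root_.map_ne_zero f).2 hr) ((mu r).2 h1))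
    have : ∀ x, x ∈ S := fun x => by
      obtain ⟨g, rfl⟩ := pb.exists_eq_aeval' x
      rw [aeval_eq_sum_range]
      refine sum_mem fun i _ => ?_
      rw [Algebra.smul_def]
      exact mul_mem ((s1 _).2 (hU _)) (pow_mem ((s2 _).2 (by simpa using hL 1)) _)
    exact sl2_eq_top_of_upT_loT (fun t => (s1 t).1 (this t)) fun t => (s2 t).1 (this t)
  exfalso
  have h30 : (3 : K) = 0 := by
    have := CharP.cast_eq_zero K p
    rw [h3] at this; exact_mod_cast this
  have key : ∀ m : K, m ≠ 0 → loT m ∈ H → m ^ 2 = 1 ∨ (m - 1) ^ 4 + 1 = 0 := by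
    intro m hm0 hm
    have h4 := h _ (mul_mem ((mu 1).2 u1) ((ml m).2 hm))
    have h5 := trace_cases (by simp [sl2_mul_apply, coe_upT, coe_loT]) h4
    simp only [sl2_mul_apply, coe_upT, coe_loT, of_apply, cons_val', cons_val_zero, cons_val_one,
      cons_val_fin_one, map_one] at h5
    have h30' : (3 : E) = 0 := by simpa only [map_ofNat, map_zero] using congrArg f h30
    rcases h5 with h5 | h5 | h5
    · exact Or.inl (f.injective (by
        rw [map_pow, map_one]; linear_combination (f m + 1) * h5 - (f m + 1) * h30'))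
    · refine Or.inl (f.injective (mul_left_cancel₀ ((_root_.map_ne_zero f).2 hm0) ?_))
      rw [map_pow, map_one]
      linear_combination (f m - 1) * h5 - (f m ^ 2 - 1) * h30'
    · refine Or.inr (f.injective ?_)
      simp only [map_add, map_pow, map_sub, map_one, map_zero]
      linear_combination h5 + (-4 * f m ^ 3 - 5 * f m ^ 2 - 8 * f m - 1) * h30'
  have key2 : ∀ c : k, c ≠ 0 → (algebraMap k K c * pb.gen) ^ 4 = 1 := by
    intro c hc
    have m0 := mul_ne_zero ((_root_.map_ne_zero (algebraMap k K)).2 hc) h0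
    have h4 := key _ m0 (hL c)
    have h5 := key _ (neg_ne_zero.2 m0) (loT_inv (K := K) _ ▸ inv_mem (hL c))
    generalize algebraMap k K c * pb.gen = l at m0 h4 h5
    rcases h4 with h4 | h4
    · linear_combination (l ^ 2 + 1) * h4
    rcases h5 with h5 | h5
    · linear_combination (l ^ 2 + 1) * h5
    have h6 : l ^ 2 = -1 := by
      apply mul_left_cancel₀ m0
      linear_combination h4 - h5 + (3 * l ^ 3 + 3 * l) * h30
    linear_combination (l ^ 2 - 1) * h6
  have key3 : ∀ c : k, c ≠ 0 → c ≠ 1 → c ≠ -1 → c ^ 2 = -1 := by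
    intro c h1 h2 h3
    have h4 := key2 c h1
    have h5 := key2 1 one_ne_zero
    rw [map_one, one_mul] at h5
    rw [mul_pow, h5, mul_one, ← map_pow, ← map_one (algebraMap k K), (algebraMap k K).injective.eq_iff] at h4
    apply mul_left_cancel₀ (mul_ne_zero (sub_ne_zero.2 h2) (sub_ne_zero.2 h3))
    linear_combination h4
  have k30 : (3 : k) = 0 := (algebraMap k K).injective (by simpa [map_ofNat] using h30)
  obtain ⟨c, c0, c1, c2⟩ := exists_sq_ne hk2 hk3
  have h4 := key3 c c0 c1 c2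
  have h5 := key3 (c + 1) (fun e => c2 (by linear_combination e)) (by simpa using c0)
    (fun e => c1 (by linear_combination e - k30))
  exact c1 (mul_left_cancel₀ h2 (by linear_combination h5 - h4 - k30))

end H16.H11
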