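import Cfsg.Agent.H11.Unip
import Cfsg.Agent.H11.SL2Gen

/-! Quadratic pairs: two quadratic elements. -/

set_option autoImplicit false
set_option linter.unusedSectionVars false
set_option linter.unusedSimpArgs false

open Subgroup Cfsg H16 Module Polynomial

namespace H16.H11

variable {k M : Type*} [Field k] [AddCommGroup M] [Module k M] {G : Subgroup (GLm k M)}
  {s t q u v w x y : End k M} {g : GLm k M} {m : M}

/-- square zero endomorphisms whose one parameter group lies in `G` -/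
def QS (G : Subgroup (GLm k M)) (s : End k M) : Prop := s * s = 0 ∧ ∀ c : k, ∃ g ∈ G, (g : End k M) = 1 + c • s

theorem mul_mul_zero (h : s * t = 0) (y : End k M) : s * (t * y) = 0 := by rw [← mul_assoc, h, zero_mul]

theorem inv_val {c : k} (hs : s * s = 0) (e : (g : End k M) = 1 + c • s) : (g⁻¹ : GLm k M).1 = 1 - c • s :=
  Units.inv_eq_of_mul_eq_one_right (by simp [e, mul_sub, add_mul, hs])

theorem QS.zero : QS G 0 := ⟨by simp, fun _ => ⟨1, one_mem _, by simp⟩⟩

theorem QS.smul (h : QS G s) (c : k) : QS G (c • s) := ⟨by simp [h.1], fun e => by rw [smul_smul]; exact h.2 _⟩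

theorem QS.neg (h : QS G s) : QS G (-s) := by simpa using h.smul (-1)

theorem QS.of_smul {c : k} (h : QS G (c • s)) (hc : c ≠ 0) : QS G s := by simpa [hc] using h.smul c⁻¹

theorem QS.add (hs : QS G s) (ht : QS G t) (h1 : s * t = 0) (h2 : t * s = 0) : QS G (s + t) :=
  ⟨by simp [mul_add, add_mul, hs.1, ht.1, h1, h2], fun c => by
    obtain ⟨a, ha, e1⟩ := hs.2 c
    obtain ⟨b, hb, e2⟩ := ht.2 c
    exact ⟨a * b, mul_mem ha hb, by simp [e1, e2, mul_add, add_mul, h1, add_assoc]⟩⟩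

theorem QS.sub (hs : QS G s) (ht : QS G t) (h1 : s * t = 0) (h2 : t * s = 0) : QS G (s - t) := by
  simpa [sub_eq_add_neg] using hs.add ht.neg (by simp [h1]) (by simp [h2])

theorem QS.conj (hs : QS G s) (hg : g ∈ G) : QS G (g.1 * s * g⁻¹.1) :=
  ⟨by simp [mul_assoc, mul_mul_zero hs.1], fun c => by
    obtain ⟨a, ha, e⟩ := hs.2 c
    exact ⟨g * a * g⁻¹, mul_mem (mul_mem hg ha) (inv_mem hg), by simp [e, mul_add, add_mul]⟩⟩

theorem QS.cj (hs : QS G s) (ht : QS G t) (c : k) : QS G ((1 + c • t) * s * (1 - c • t)) := by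
  obtain ⟨g, hg, e⟩ := ht.2 c
  rw [← e, ← inv_val ht.1 e]; exact hs.conj hg

theorem QS.mono {G' : Subgroup (GLm k M)} (hs : QS G s) (h : G ≤ G') : QS G' s :=
  ⟨hs.1, fun c => let ⟨g, hg, e⟩ := hs.2 c; ⟨g, h hg, e⟩⟩

theorem QS.br (h2 : (2 : k) ≠ 0) (hs : QS G s) (hq : QS G q) (h : s * (q * s) = 0) :
    QS G (q * s - s * q) ∧ QS G (q * (s * q)) := by
  have h1 := hs.cj hq 1
  have h3 := hs.cj hq (-1)
  have h' : ∀ y, s * (q * (s * y)) = 0 := fun y => by rw [← mul_assoc q, ← mul_assoc, h, zero_mul]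
  have e1 : (1 + (1 : k) • q) * s * (1 - (1 : k) • q) = s + (q * s - s * q) - q * (s * q) := by
    simp only [one_smul]; noncomm_ring
  have e2 : (1 + (-1 : k) • q) * s * (1 - (-1 : k) • q) = s - (q * s - s * q) - q * (s * q) := by
    simp only [neg_smul, one_smul]; noncomm_ring
  rw [e1] at h1
  rw [e2] at h3
  have z1 := hs.1
  have z2 := mul_mul_zero hs.1
  have z3 := hq.1
  have z4 := mul_mul_zero hq.1
  have h4 := h1.sub h3 (by simp [mul_add, add_mul, mul_sub, sub_mul, mul_assoc, z1, z2, z3, z4, h, h'])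
    (by simp [mul_add, add_mul, mul_sub, sub_mul, mul_assoc, z1, z2, z3, z4, h, h'])
  have h5 : QS G (q * s - s * q) := QS.of_smul (by convert h4 using 1; module) h2
  refine ⟨h5, ?_⟩
  have h6 := (hs.add h5 (by simp [mul_sub, z2, h]) (by simp [sub_mul, mul_assoc, z1, h])).sub h1
    (by simp [mul_add, add_mul, mul_sub, sub_mul, mul_assoc, z1, z2, z3, z4, h, h'])
    (by simp [mul_add, add_mul, mul_sub, sub_mul, mul_assoc, z1, z2, z3, z4, h, h'])
  simpa using h6

theorem QS.three {c : k} (h2 : (2 : k) ≠ 0) (c0 : c ≠ 0) (c1 : c ^ 2 ≠ 1) (h : ∀ e : k, e ≠ 0 → QS G (u + e • v + e ^ 2 • w))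
    (uu : u * u = 0) (uv : u * v = 0) (uw : u * w = 0) (vu : v * u = 0) (vv : v * v = 0) (vw : v * w = 0)
    (wu : w * u = 0) (wv : w * v = 0) (ww : w * w = 0) : QS G u := by
  have h1 : ∀ e : k, e ≠ 0 → QS G (u + e ^ 2 • w) := fun e he => QS.of_smul (by
    convert (h e he).add (h (-e) (neg_ne_zero.2 he)) (by simp [mul_add, add_mul, *]) (by simp [mul_add, add_mul, *]) using 1
    module) h2
  refine QS.of_smul (c := c ^ 2 - 1) ?_ (sub_ne_zero.2 c1)
  convert ((h1 1 one_ne_zero).smul (c ^ 2)).sub (h1 c c0) (by simp [mul_add, add_mul, *])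
    (by simp [mul_add, add_mul, *]) using 1
  module

/-- the rank -/
noncomputable def rk (s : End k M) : ℕ := finrank k (LinearMap.range s)

/-- quadratic elements of minimal rank -/
structure Mn (G : Subgroup (GLm k M)) (s : End k M) : Prop where
  qs : QS G s
  ne : s ≠ 0
  min : ∀ t, QS G t → t ≠ 0 → rk s ≤ rk t

theorem range_mul_le (s t : End k M) : LinearMap.range (s * t) ≤ LinearMap.range s := LinearMap.range_comp_le_range t s

theorem ker_le_mul (s t : End k M) : LinearMap.ker t ≤ LinearMap.ker (s * t) := LinearMap.ker_le_ker_comp t s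

variable [FiniteDimensional k M]

theorem rk_le (h : LinearMap.range s ≤ LinearMap.range t) : rk s ≤ rk t := Submodule.finrank_mono h

theorem rk_ker (s : End k M) : rk s + finrank k (LinearMap.ker s) = finrank k M := LinearMap.finrank_range_add_finrank_ker s

theorem rk_le' (h : LinearMap.ker t ≤ LinearMap.ker s) : rk s ≤ rk t := by
  have := rk_ker s; have := rk_ker t; have := Submodule.finrank_mono h; omega

theorem rk_conj (g : GLm k M) : rk (g.1 * s * g⁻¹.1) = rk s := by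
  have key : ∀ (s : End k M) (g : GLm k M), rk (g.1 * s * g⁻¹.1) ≤ rk s := fun s g =>
    (rk_le (range_mul_le _ _)).trans (rk_le' (ker_le_mul _ _))
  exact (key s g).antisymm (by simpa [mul_assoc] using key (g.1 * s * g⁻¹.1) g⁻¹)

theorem Mn.of_le (hs : Mn G s) (ht : QS G t) (h0 : t ≠ 0) (h : rk t ≤ rk s) : Mn G t :=
  ⟨ht, h0, fun u hu u0 => h.trans (hs.min u hu u0)⟩

theorem Mn.rk_eq (hs : Mn G s) (ht : Mn G t) : rk s = rk t := (hs.min t ht.qs ht.ne).antisymm (ht.min s hs.qs hs.ne)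

theorem Mn.range_eq (hs : Mn G s) (ht : QS G t) (h0 : t ≠ 0) (h : LinearMap.range t ≤ LinearMap.range s) :
    LinearMap.range t = LinearMap.range s := Submodule.eq_of_le_of_finrank_le h (hs.min t ht h0)

theorem Mn.ker_eq (hs : Mn G s) (ht : QS G t) (h0 : t ≠ 0) (h : LinearMap.ker s ≤ LinearMap.ker t) :
    LinearMap.ker s = LinearMap.ker t := Submodule.eq_of_le_of_finrank_le h (by
  have := rk_ker s; have := rk_ker t; have := hs.min t ht h0; omega)

theorem Mn.inj (hs : Mn G s) (h : QS G (y * s)) (h0 : y * s ≠ 0) (hm : y (s m) = 0) : s m = 0 :=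
  (hs.ker_eq h h0 (ker_le_mul y s)).ge hm

theorem Mn.conj (hs : Mn G s) (hg : g ∈ G) : Mn G (g.1 * s * g⁻¹.1) :=
  hs.of_le (hs.qs.conj hg) (fun h => hs.ne (by simpa using h)) (rk_conj g).le

theorem Mn.cj (hs : Mn G s) (ht : QS G t) (c : k) : Mn G ((1 + c • t) * s * (1 - c • t)) := by
  obtain ⟨g, hg, e⟩ := ht.2 c
  rw [← e, ← inv_val ht.1 e]; exact hs.conj hg

theorem Mn.smul (hs : Mn G s) {c : k} (hc : c ≠ 0) : Mn G (c • s) :=
  hs.of_le (hs.qs.smul c) (smul_ne_zero hc hs.ne) (rk_le (LinearMap.range_smul _ _ hc).le)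

theorem Mn.neg (hs : Mn G s) : Mn G (-s) := by simpa using hs.smul (c := -1) (by simp)

omit [FiniteDimensional k M] in
theorem eq_zero_of_inj (hc : Commute y s) (hn : IsNilpotent y) (h : ∀ m, y (s m) = 0 → s m = 0) : s = 0 := by
  obtain ⟨n, hn⟩ := hn
  suffices ∀ j m, (y ^ j) (s m) = 0 → s m = 0 from LinearMap.ext fun m => this n m (by simp [hn])
  intro j
  induction j with
  | zero => exact fun m h => h
  | succ j ih =>
    refine fun m hm => h m (by
      rw [← End.mul_apply, hc.eq]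
      exact ih (y m) (by rwa [← End.mul_apply s, ← hc.eq, End.mul_apply, ← End.mul_apply, ← pow_succ]))

omit [FiniteDimensional k M] in
theorem z_comm (hs : s * s = 0) : Commute (s * t + t * s) s := by
  simp [Commute, SemiconjBy, mul_add, add_mul, mul_assoc, hs, mul_mul_zero hs]

omit [FiniteDimensional k M] in
theorem z_comm' (ht : t * t = 0) : Commute (s * t + t * s) t := add_comm (s * t) _ ▸ z_comm ht

omit [FiniteDimensional k M] in
theorem z_mul (hs : s * s = 0) : (s * t + t * s) * s = s * (t * s) := by simp [add_mul, mul_assoc, hs]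

/-- nilpotent pairs -/
theorem Mn.nil (h2 : (2 : k) ≠ 0) (hs : Mn G s) (hq : QS G q) (hn : IsNilpotent (s * q + q * s)) : s * (q * s) = 0 := by
  obtain ⟨n, hn⟩ := hn
  replace hn : (s * q + q * s) ^ (n + 1) = 0 := by rw [pow_succ, hn, zero_mul]
  have z1 := hs.qs.1
  have z2 := mul_mul_zero z1
  induction n generalizing q with
  | zero => rw [← z_mul z1, ← pow_one (s * q + q * s), hn, zero_mul]
  | succ n ih =>
    have z3 := hq.1
    have z4 := mul_mul_zero z3
    have key : ∀ c : k, s * ((1 + c • q) * s * (1 - c • q) * s) = 0 := fun c => ih (hs.qs.cj hq c) (by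
      rw [show s * ((1 + c • q) * s * (1 - c • q)) + (1 + c • q) * s * (1 - c • q) * s =
        (-c ^ 2) • (s * q + q * s) ^ 2 by
          simp [pow_two, mul_add, add_mul, mul_sub, sub_mul, mul_assoc, z1, z2, z3, z4, smul_sub, smul_smul]; module,
        _root_.smul_pow, ← pow_mul, show 2 * (n + 1) = n + 1 + 1 + n by ring, pow_add _ _ n, hn, zero_mul, smul_zero])
    have w1 : s * (q * (s * (q * s))) = 0 := by
      simpa [mul_add, add_mul, mul_sub, sub_mul, mul_assoc, z1, z2, z3, z4] using key 1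
    have w2 : ∀ y, s * (q * (s * (q * (s * y)))) = 0 := fun y => by simpa [mul_assoc] using congrArg (· * y) w1
    have h3 := ((hs.qs.br h2 (hs.qs.cj hq _) (key (-1))).1).sub (hs.qs.br h2 (hs.qs.cj hq _) (key 1)).1
      (by simp [mul_add, add_mul, mul_sub, sub_mul, mul_assoc, z1, z2, z3, z4, w1, w2])
      (by simp [mul_add, add_mul, mul_sub, sub_mul, mul_assoc, z1, z2, z3, z4, w1, w2])
    have h4 : QS G ((s * q + q * s) * s) := QS.of_smul (c := 2 * 2) (by
      convert h3 using 1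
      simp [mul_add, add_mul, mul_sub, sub_mul, mul_assoc, z1, z2, z3, z4]; module) (mul_ne_zero h2 h2)
    rw [← z_mul z1]
    by_contra h0
    exact hs.ne (eq_zero_of_inj (z_comm z1) ⟨_, hn⟩ fun m => hs.inj h4 h0)

/-- first columns of the generic group -/
inductive Om : k[X] → k[X] → Prop
  | base : Om 1 0
  | up (e : k) {a c : k[X]} : Om a c → Om (a + C e * X * c) c
  | lo (e : k) {a c : k[X]} : Om a c → Om a (c + C e * a)

variable {a b c d p r : k[X]}

omit [FiniteDimensional k M]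

theorem Om.scale (h : Om a c) {e : k} (he : e ≠ 0) : Om a (C e * c) := by
  induction h with
  | base => simpa using Om.base
  | up f _ ih =>
    convert ih.up (f / e) using 2
    rw [← mul_assoc, mul_right_comm (C (f / e)), ← C_mul, div_mul_cancel₀ _ he]
  | lo f _ ih => convert ih.lo (e * f) using 1; rw [C_mul]; ring

theorem Om.cop (h : Om a c) : IsCoprime a (X * c) := by
  induction h with
  | base => exact isCoprime_one_left
  | up f _ ih => rw [mul_assoc]; exact ih.add_mul_right_left (C f)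
  | lo f _ ih => rw [mul_add, ← mul_assoc]; exact ih.add_mul_right_right (X * C f)

theorem Om.dvd (h : Om a c) : X ∣ a - 1 := by
  induction h with
  | base => simp
  | up f _ ih => rw [add_sub_right_comm]; exact ih.add ((dvd_mul_left _ _).mul_right _)
  | lo f _ ih => exact ih

open Matrix H4 in
open scoped MatrixGroups in
theorem exists_om {K : Type*} [Field K] [Algebra k K] (pb : PowerBasis k K) (hk2 : ringChar k ≠ 2) (hk3 : Nat.card k ≠ 3)
    (h0 : pb.gen ≠ 0) {μ : K} (hμ : μ ≠ 0) : ∃ a c : k[X], Om a c ∧ aeval pb.gen a = μ ∧ aeval pb.gen c = 0 := by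
  let S : Set SL(2, K) := {g | ∃ e : k, g = upT (algebraMap k K e) ∨ g = loT (algebraMap k K e * pb.gen)}
  have h1 : closure S = ⊤ := sl2_gen pb hk2 hk3 h0 (fun e => subset_closure ⟨e, Or.inl rfl⟩)
    fun e => subset_closure ⟨e, Or.inr rfl⟩
  have key : ∀ g ∈ closure S, ∃ a c : k[X], Om a c ∧ aeval pb.gen a = g.1 0 0 ∧ pb.gen * aeval pb.gen c = g.1 1 0 := by
    have step : ∀ x ∈ S, ∀ g : SL(2, K), (∃ a c : k[X], Om a c ∧ aeval pb.gen a = g.1 0 0 ∧
        pb.gen * aeval pb.gen c = g.1 1 0) → ∃ a c : k[X], Om a c ∧ aeval pb.gen a = (x * g).1 0 0 ∧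
        pb.gen * aeval pb.gen c = (x * g).1 1 0 := by
      rintro _ ⟨e, rfl | rfl⟩ g ⟨a, c, h, h1, h2⟩
      · exact ⟨_, _, h.up e, by simp [sl2_mul_apply, coe_upT, ← h1, ← h2, mul_assoc],
          by simp [sl2_mul_apply, coe_upT, ← h2]⟩
      · exact ⟨_, _, h.lo e, by simp [sl2_mul_apply, coe_loT, ← h1],
          by simp [sl2_mul_apply, coe_loT, ← h1, ← h2]; ring⟩
    intro g hg
    induction hg using closure_induction_left with
    | one => exact ⟨1, 0, Om.base, by simp, by simp⟩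
    | mul_left x hx g _ ih => exact step x hx g ih
    | inv_mul_cancel x hx g _ ih =>
      refine step _ ?_ g ih
      obtain ⟨e, rfl | rfl⟩ := hx
      · exact ⟨-e, Or.inl (by rw [upT_inv, map_neg])⟩
      · exact ⟨-e, Or.inr (by rw [loT_inv, map_neg, neg_mul])⟩
  obtain ⟨a, c, h, h2, h3⟩ := key ⟨!![μ, 0; 0, μ⁻¹], by simp [det_fin_two, hμ]⟩ (h1 ▸ mem_top _)
  exact ⟨a, c, h, h2, (mul_eq_zero.1 h3).resolve_left h0⟩

/-- polynomials in `s t + t s` -/
noncomputable def pz (s t : End k M) : k[X] →ₐ[k] End k M := aeval (s * t + t * s)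

theorem pz_X : pz s t X = s * t + t * s := aeval_X _

theorem pz_symm (s t : End k M) : pz t s = pz s t := by rw [pz, pz, add_comm]

theorem commute_aeval {z : End k M} (h : Commute z y) (p : k[X]) : Commute (aeval z p) y := by
  induction p using Polynomial.induction_on' with
  | add p q hp hq => rw [map_add]; exact hp.add_left hq
  | monomial n a => rw [aeval_monomial]; exact Commute.mul_left (Algebra.commutes a y) (h.pow_left n)

theorem s_pz (hs : s * s = 0) (p : k[X]) : s * pz s t p = pz s t p * s := (commute_aeval (z_comm hs) p).symm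

theorem t_pz (ht : t * t = 0) (p : k[X]) : t * pz s t p = pz s t p * t := (commute_aeval (z_comm' ht) p).symm

theorem s_pz' (hs : s * s = 0) (p : k[X]) (y : End k M) : s * (pz s t p * y) = pz s t p * (s * y) := by
  rw [← mul_assoc, s_pz hs, mul_assoc]

theorem t_pz' (ht : t * t = 0) (p : k[X]) (y : End k M) : t * (pz s t p * y) = pz s t p * (t * y) := by
  rw [← mul_assoc, t_pz ht, mul_assoc]

theorem pz_pz (p q : k[X]) (y : End k M) : pz s t p * (pz s t q * y) = pz s t (p * q) * y := by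
  rw [map_mul, mul_assoc]

theorem sts (hs : s * s = 0) : s * (t * s) = pz s t X * s := by rw [pz_X, z_mul hs]

theorem tst (ht : t * t = 0) : t * (s * t) = pz s t X * t := by rw [← pz_symm, sts ht]

theorem sts' (hs : s * s = 0) (y : End k M) : s * (t * (s * y)) = pz s t X * (s * y) := by
  rw [← mul_assoc t, ← mul_assoc, sts hs, mul_assoc]

theorem tst' (ht : t * t = 0) (y : End k M) : t * (s * (t * y)) = pz s t X * (t * y) := by
  rw [← pz_symm, sts' ht]

theorem pz_C (e : k) (y : End k M) : pz s t (C e * p) * y = e • (pz s t p * y) := by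
  rw [map_mul, pz, aeval_C, mul_assoc, Algebra.smul_def]

/-- the trace zero elements -/
noncomputable def Fz (s t : End k M) (a b c : k[X]) : End k M :=
  pz s t a * s - pz s t b * (s * t - t * s) - pz s t c * t

theorem Fz_s (hs : s * s = 0) (e : k) : (1 + e • s) * Fz s t a b c * (1 - e • s) =
    Fz s t (a + C e * (2 * X * b) + C e * (C e * (X * c))) (b + C e * c) c := by
  simp only [Fz, map_add, add_mul, pz_C, mul_add, mul_sub, sub_mul, mul_one, one_mul, smul_mul_assoc, mul_smul_comm,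
    mul_assoc, s_pz' hs, hs, mul_mul_zero hs, sts hs, pz_pz, mul_zero, two_mul, mul_comm b X, mul_comm c X]
  module

theorem Fz_t (ht : t * t = 0) (e : k) : (1 + e • t) * Fz s t a b c * (1 - e • t) =
    Fz s t a (b + C e * a) (c + C e * (2 * X * b) + C e * (C e * (X * a))) := by
  simp only [Fz, map_add, add_mul, pz_C, mul_add, mul_sub, sub_mul, mul_one, one_mul, smul_mul_assoc, mul_smul_comm,
    mul_assoc, t_pz' ht, ht, mul_mul_zero ht, tst ht, pz_pz, mul_zero, two_mul, mul_comm b X, mul_comm a X]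
  module

theorem Om.conj (h : Om a c) (hs : s * s = 0) (ht : t * t = 0) (P : End k M → Prop) (h0 : P s)
    (h1 : ∀ y (e : k), P y → P ((1 + e • s) * y * (1 - e • s))) (h2 : ∀ y (e : k), P y → P ((1 + e • t) * y * (1 - e • t))) :
    P (Fz s t (a ^ 2) (a * c) (X * c ^ 2)) := by
  induction h with
  | base => simpa [Fz] using h0
  | up e _ ih => convert h1 _ e ih using 1; rw [Fz_s hs]; congr 1 <;> ring
  | lo e _ ih => convert h2 _ e ih using 1; rw [Fz_t ht]; congr 1 <;> ring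

theorem Fz_z (hs : s * s = 0) : s * Fz s t a b c + Fz s t a b c * s = -pz s t (c * X) := by
  simp only [Fz, mul_sub, sub_mul, mul_assoc, s_pz' hs, hs, mul_mul_zero hs, sts hs, mul_zero, map_mul, pz_X, mul_add]
  abel

theorem Fz_br (hs : s * s = 0) : Fz s t a b c * s - s * Fz s t a b c =
    pz s t c * (s * t - t * s) - (2 : k) • (pz s t (b * X) * s) := by
  simp only [Fz, mul_sub, sub_mul, mul_assoc, s_pz' hs, hs, mul_mul_zero hs, sts hs, mul_zero, pz_pz]
  module

/-- an eigenvalue of `z` on the image of `s` -/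
structure Eig (s z : End k M) (p : k[X]) : Prop where
  irr : Irreducible p
  ne : ¬ p ∣ X
  ex : ∃ m, s m ≠ 0 ∧ aeval z p (s m) = 0

theorem Eig.dvd {z : End k M} (h : Eig s z p) (hr : ∀ m, aeval z p (s m) = 0 → aeval z r (s m) = 0) : p ∣ r := by
  by_contra hc
  obtain ⟨m, h1, h2⟩ := h.ex
  obtain ⟨a, b, e⟩ := h.irr.coprime_iff_not_dvd.2 hc
  refine h1 ?_
  simpa [h2, hr m h2] using (congrArg (fun f => aeval z f (s m)) e).symm

theorem exists_eig [FiniteDimensional k M] (hs : s * s = 0) (ht : t * t = 0) (hn : ¬ IsNilpotent (s * t + t * s)) :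
    ∃ p, Eig s (s * t + t * s) p := by
  have key : ∀ {s z : End k M}, Commute z s → (¬ ∃ p, Eig s z p) → ∀ m, ∃ n, (z ^ n) (s m) = 0 := by
    intro s z hc h
    suffices ∀ f : k[X], f ≠ 0 → ∀ m, aeval z f (s m) = 0 → ∃ n, (z ^ n) (s m) = 0 from fun m =>
      this _ (minpoly.ne_zero (Algebra.IsIntegral.isIntegral (R := k) z)) m (by simp)
    intro f
    induction f using WfDvdMonoid.induction_on_irreducible with
    | zero => exact fun h => absurd rfl h
    | unit u hu =>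
      obtain ⟨v, hv⟩ := hu.exists_left_inv
      exact fun _ m hm => ⟨0, by simpa [hm] using (congrArg (fun f => aeval z f (s m)) hv).symm⟩
    | mul f p f0 hp ih =>
      intro _ m hm
      have e : ∀ m, aeval z f (s m) = s (aeval z f m) := fun m => congrArg (· m) (commute_aeval hc f).eq
      by_cases h1 : aeval z f (s m) = 0
      · exact ih f0 m h1
      rw [map_mul, End.mul_apply, e] at hm
      obtain ⟨v, hv⟩ : p ∣ X := by_contra fun h2 => h ⟨p, hp, h2, _, e m ▸ h1, hm⟩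
      obtain ⟨n, hn⟩ := ih f0 (z m) (by
        rw [← End.mul_apply s, ← hc.eq, End.mul_apply, ← End.mul_apply, (commute_aeval (Commute.refl z) f).eq,
          End.mul_apply, e]
        have : z = aeval z v * aeval z p := by rw [← map_mul, mul_comm, ← hv, aeval_X]
        nth_rewrite 1 [this]
        rw [End.mul_apply, hm, map_zero])
      exact ⟨n + 1, by rwa [pow_succ, End.mul_apply, ← End.mul_apply _ s, hc.eq]⟩
  by_contra h
  refine hn (End.isNilpotent_iff_of_finite.2 fun m => ?_)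
  obtain ⟨n, h1⟩ := key (z_comm hs) h (t m)
  obtain ⟨j, h2⟩ := key (z_comm hs) h m
  refine ⟨n + j + 1, ?_⟩
  rw [pow_succ, End.mul_apply, LinearMap.add_apply, map_add, End.mul_apply, End.mul_apply,
    ← End.mul_apply _ t (s m), ((z_comm' ht).pow_left _).eq, End.mul_apply]
  nth_rewrite 1 [add_comm n]
  rw [pow_add, pow_add, End.mul_apply, End.mul_apply, h1, h2]
  simp

variable [FiniteDimensional k M] (hk2 : ringChar k ≠ 2) (hk3 : Nat.card k ≠ 3)

theorem pz_comm (hs : s * s = 0) (p : k[X]) (m : M) : pz s t p (s m) = s (pz s t p m) := (congrArg (· m) (s_pz hs p)).symm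

include hk2 in
theorem Om.kill (h : Om a c) (hs : Mn G s) (ht : QS G t) (hp : Eig s (s * t + t * s) p) (hc : p ∣ c)
    (ih : ∀ q, QS G q → LinearMap.ker (s * t + t * s) < LinearMap.ker (s * q + q * s) → ¬ IsNilpotent (s * q + q * s) →
      ∀ m, (s * q + q * s) (s m) = 0 → s m = 0) : pz s t (X * c) * s = 0 := by
  have h2 : (2 : k) ≠ 0 := Ring.two_ne_zero hk2
  have z1 := hs.qs.1
  obtain ⟨m, m0, hm⟩ := hp.ex
  have kp : ∀ {r}, p ∣ r → pz s t r (s m) = 0 := by
    rintro _ ⟨r, rfl⟩; rw [mul_comm, map_mul, End.mul_apply, pz, hm, map_zero]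
  have key : ∀ {c}, Om a c → p ∣ c → QS G (Fz s t (a ^ 2) (a * c) (X * c ^ 2)) ∧ pz s t (X * c ^ 2 * X) * s = 0 := by
    intro c h hc
    have hN := h.conj z1 ht.1 (QS G) hs.qs (fun y e hy => hy.cj hs.qs e) fun y e hy => hy.cj ht e
    have h3 : pz s t (X * c ^ 2 * X) (s m) = 0 := kp ((hc.pow two_ne_zero).mul_left X |>.mul_right X)
    have h4 := hs.nil h2 hN (by
      by_contra hn
      refine m0 (ih _ hN (lt_of_le_of_ne ?_ fun e => ?_) hn m (by rw [Fz_z z1]; exact neg_eq_zero.2 h3))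
      · rw [Fz_z z1, LinearMap.ker_neg, map_mul, pz_X]; exact ker_le_mul _ _
      · have h5 : (s * t + t * s) (s m) = 0 := e.ge (by rw [Fz_z z1]; exact neg_eq_zero.2 h3)
        obtain ⟨u, v, e⟩ := hp.irr.coprime_iff_not_dvd.2 hp.ne
        refine m0 ?_
        simpa [hm, h5] using (congrArg (fun f => aeval (s * t + t * s) f (s m)) e).symm)
    refine ⟨hN, ?_⟩
    rw [← z_mul z1, Fz_z z1, neg_mul, neg_eq_zero] at h4
    exact h4
  have br : ∀ {c}, Om a c → p ∣ c →
      QS G (pz s t (X * c ^ 2) * (s * t - t * s) - (2 : k) • (pz s t (a * c * X) * s)) := fun h hc => by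
    rw [← Fz_br z1]
    exact (hs.qs.br h2 (key h hc).1 (by rw [← z_mul z1, Fz_z z1, neg_mul, (key h hc).2, neg_zero])).1
  have h3 := (key h hc).2
  have h4 : ∀ r y, X * c ^ 2 * X ∣ r → pz s t r * (s * y) = 0 ∧ pz s t r * (t * (s * y)) = 0 := by
    rintro _ y ⟨r, rfl⟩
    rw [← t_pz' ht.1, mul_comm _ r, ← pz_pz, ← mul_assoc _ s, h3]; simp
  have h5 := br (h.scale (e := -1) (by simp)) (hc.mul_left _)
  rw [show X * (C (-1) * c) ^ 2 = X * c ^ 2 by simp, show a * (C (-1) * c) * X = -(a * c * X) by simp, map_neg] at h5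
  have e1 : pz s t (X * c ^ 2 * (X * c ^ 2)) * ((s * t - t * s) * (s * t - t * s)) = 0 := by
    simp only [mul_sub, sub_mul, mul_assoc s, mul_assoc t, fun y => (h4 _ y ⟨c ^ 2, (mul_assoc _ _ _).symm⟩).1,
      fun y => (h4 _ y ⟨c ^ 2, (mul_assoc _ _ _).symm⟩).2, sub_self]
  have e2 : pz s t (X * c ^ 2 * (a * c * X)) * ((s * t - t * s) * s) = 0 := by
    simp only [mul_sub, sub_mul, mul_assoc s, mul_assoc t, z1, mul_zero, sub_zero]; exact (h4 _ _ ⟨a * c, by ring⟩).1
  have e3 : pz s t (a * c * X * (X * c ^ 2)) * (s * (s * t - t * s)) = 0 := (h4 _ _ ⟨a * c, by ring⟩).1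
  have x1 : ∀ p y, (s * t - t * s) * (pz s t p * y) = pz s t p * ((s * t - t * s) * y) := fun p y => by
    simp only [sub_mul, mul_sub, mul_assoc, s_pz' z1, t_pz' ht.1]
  have h6 := h5.sub (br h hc)
    (by simp only [sub_mul _ (_ • _), mul_sub _ _ (_ • _), neg_mul, mul_neg, smul_mul_assoc, mul_smul_comm,
      mul_assoc (pz s t _), x1, s_pz' z1, pz_pz, e1, e2, e3, z1]; simp)
    (by simp only [sub_mul _ (_ • _), mul_sub _ _ (_ • _), neg_mul, mul_neg, smul_mul_assoc, mul_smul_comm,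
      mul_assoc (pz s t _), x1, s_pz' z1, pz_pz, e1, e2, e3, z1]; simp)
  have h7 : QS G (pz s t (a * c * X) * s) := QS.of_smul (c := 2 * 2) (by convert h6 using 1; rw [neg_mul]; module)
    (mul_ne_zero h2 h2)
  have h8 : pz s t (a * c * X) * s = 0 := by
    by_contra h0; exact m0 (hs.inj h7 h0 (kp ((hc.mul_left a).mul_right X)))
  obtain ⟨u, v, e⟩ := h.cop
  rw [show X * c = u * (a * c * X) + v * (X * c ^ 2 * X) by linear_combination -(X * c) * e, map_add, add_mul,
    ← pz_pz u, ← pz_pz v, h3, h8]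
  simp

include hk2 hk3 in
theorem Om.sq (h : Om a c) (hs : QS G s) (ht : QS G t) (hc : pz s t (X * c) * s = 0) : QS G (pz s t (a ^ 2) * s) := by
  have z1 := hs.1
  obtain ⟨e, e0, e1, e2⟩ := exists_sq_ne hk2 hk3
  have h4 : ∀ r y, X * c ∣ r → pz s t r * (s * y) = 0 ∧ pz s t r * (t * (s * y)) = 0 := by
    rintro _ y ⟨r, rfl⟩
    rw [← t_pz' ht.1, mul_comm _ r, ← pz_pz, ← mul_assoc _ s, hc]; simp
  have h5 : ∀ r, X * c ∣ r → pz s t r * s = 0 ∧ pz s t r * (t * s) = 0 := fun r hr => by simpa using h4 r 1 hr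
  have h6 : ∀ r, X * c * X ∣ r → pz s t r * t = 0 := by
    rintro _ ⟨r, rfl⟩
    rw [mul_right_comm, ← pz_pz, ← tst ht.1, (h4 _ t (dvd_mul_right _ r)).2]
  refine QS.three (v := -(pz s t (a * c) * (s * t - t * s))) (w := -(pz s t (X * c ^ 2) * t)) (Ring.two_ne_zero hk2) e0
    (fun h => (sq_eq_sq_iff_eq_or_eq_neg.1 (h.trans (one_pow 2).symm)).elim e1 e2) (fun f hf => ?_) ?_ ?_ ?_ ?_ ?_ ?_ ?_ ?_ ?_
  · convert (h.scale hf).conj z1 ht.1 (QS G) hs (fun y e hy => hy.cj hs e) fun y e hy => hy.cj ht e using 1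
    rw [Fz, show a * (C f * c) = C f * (a * c) by ring, show X * (C f * c) ^ 2 = C (f ^ 2) * (X * c ^ 2) by
      rw [C_pow]; ring, pz_C, pz_C]
    module
  all_goals
    simp only [neg_mul, mul_neg, neg_neg, neg_eq_zero, mul_sub, sub_mul, mul_assoc (pz s t _), mul_assoc s, mul_assoc t,
      s_pz' z1, t_pz' ht.1, pz_pz, z1, ht.1, mul_mul_zero z1, mul_mul_zero ht.1, mul_zero, sts z1, tst ht.1, sts' z1,
      tst' ht.1, sub_zero, zero_sub]
  · exact (h5 _ ⟨a ^ 3, by ring⟩).1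
  · exact (h4 _ _ ⟨a ^ 2 * c, by ring⟩).1
  · exact (h5 _ ⟨a ^ 3, by ring⟩).1
  · rw [(h4 _ _ ⟨a ^ 2 * c, by ring⟩).1, (h5 _ ⟨a ^ 2 * c, by ring⟩).2]; simp
  · exact h6 _ ⟨a * c ^ 2, by ring⟩
  · exact (h5 _ ⟨a ^ 2 * c, by ring⟩).2
  · rw [h6 _ ⟨a * c ^ 2, by ring⟩]; simp

include hk2 hk3

theorem Eig.sq (hp : Eig s (s * t + t * s) p) (hs : QS G s) (ht : QS G t)
    (h : ∀ a c : k[X], Om a c → p ∣ c → pz s t (X * c) * s = 0) (r : k[X]) (hr : ¬ p ∣ r) :
    ∃ a, X ∣ a - 1 ∧ p ∣ a - r ∧ QS G (pz s t (a ^ 2) * s) := by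
  have := Fact.mk hp.irr
  obtain ⟨a, c, h1, h2, h3⟩ := exists_om (AdjoinRoot.powerBasis hp.irr.ne_zero) hk2 hk3
    (fun e => hp.ne (AdjoinRoot.mk_eq_zero.1 e)) (μ := AdjoinRoot.mk p r) (mt AdjoinRoot.mk_eq_zero.1 hr)
  rw [AdjoinRoot.powerBasis_gen, AdjoinRoot.aeval_eq] at h2 h3
  exact ⟨a, h1.dvd, AdjoinRoot.mk_eq_mk.1 h2, h1.sq hk2 hk3 hs ht (h a c h1 (AdjoinRoot.mk_eq_zero.1 h3))⟩

omit hk2 hk3 [FiniteDimensional k M] in
theorem QS.psub (hs : s * s = 0) (h1 : QS G (pz s t a * s)) (h2 : QS G (pz s t b * s)) : QS G (pz s t (a - b) * s) := by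
  rw [map_sub, sub_mul]
  exact h1.sub h2 (by simp [mul_assoc, s_pz' hs, hs]) (by simp [mul_assoc, s_pz' hs, hs])

omit hk2 hk3 [FiniteDimensional k M] in
theorem Eig.ne_zero (hp : Eig s (s * t + t * s) p) (hr : ¬ p ∣ r) : pz s t r * s ≠ 0 := fun h =>
  hr (hp.dvd fun m _ => congrArg (· m) h)

/-- `s t + t s` is nilpotent or injective on the image of `s` -/
theorem Mn.inj_z (hs : Mn G s) (ht : QS G t) (hn : ¬ IsNilpotent (s * t + t * s)) (m : M) (hm : (s * t + t * s) (s m) = 0) :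
    s m = 0 := by
  generalize hW : LinearMap.ker (s * t + t * s) = W
  induction W using IsNoetherian.induction generalizing t m with | hgt W ih =>
  obtain ⟨p, hp⟩ := exists_eig hs.qs.1 ht.1 hn
  obtain ⟨e, e0, e1, e2⟩ := exists_sq_ne hk2 hk3
  have u : ∀ {e : k}, e ≠ 0 → ¬ p ∣ C e := fun h h1 => hp.irr.not_isUnit (isUnit_of_dvd_unit h1 (isUnit_C.2 h.isUnit))
  obtain ⟨a, ⟨b, h1⟩, h2, h3⟩ := hp.sq hk2 hk3 hs.qs ht (fun a c h hc => h.kill hk2 hs ht hp hc fun q hq h1 h2 m h3 =>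
    ih _ (hW ▸ h1) hq h2 m h3 rfl) (C e) (u e0)
  have h4 := QS.psub hs.qs.1 (b := 1) h3 (by simpa using hs.qs)
  refine hs.inj h4 (hp.ne_zero fun h => u (e := e ^ 2 - 1) (sub_ne_zero.2 fun h =>
    (sq_eq_sq_iff_eq_or_eq_neg.1 (h.trans (one_pow 2).symm)).elim e1 e2) ?_) ?_
  · convert h.sub (h2.mul_right (a + C e)) using 1
    simp only [C_sub, C_pow, C_1]; ring
  · rw [show a ^ 2 - 1 = (a + 1) * b * X by linear_combination (a + 1) * h1, map_mul, End.mul_apply, pz_X, hm, map_zero]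

theorem Om.kill' (h : Om a c) (hs : Mn G s) (ht : QS G t) (hp : Eig s (s * t + t * s) p) (hc : p ∣ c) :
    pz s t (X * c) * s = 0 := h.kill hk2 hs ht hp hc fun _ hq _ hn => hs.inj_z hk2 hk3 hq hn

theorem Eig.onto (hp : Eig s (s * t + t * s) p) (hs : Mn G s) (ht : QS G t) (r : k[X]) :
    ∃ a, p ∣ a - r ∧ QS G (pz s t a * s) := by
  have key : ∀ r, ∃ a, p ∣ a - r ^ 2 ∧ QS G (pz s t a * s) := fun r => by
    by_cases hr : p ∣ r
    · exact ⟨0, by simpa using hr.pow two_ne_zero, by simpa using QS.zero⟩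
    obtain ⟨a, -, h1, h2⟩ := hp.sq hk2 hk3 hs.qs ht (fun a c h => h.kill' hk2 hk3 hs ht hp) r hr
    exact ⟨_, by rw [sq_sub_sq]; exact h1.mul_left _, h2⟩
  obtain ⟨a, a1, a2⟩ := key (C 2⁻¹ * (r + 1))
  obtain ⟨b, b1, b2⟩ := key (C 2⁻¹ * (r - 1))
  refine ⟨a - b, ?_, QS.psub hs.qs.1 a2 b2⟩
  convert a1.sub b1 using 1
  have : C (2⁻¹ : k) * 2 = 1 := by rw [← map_ofNat C, ← C_mul, inv_mul_cancel₀ (Ring.two_ne_zero hk2), C_1]
  linear_combination (r * (C 2⁻¹ * 2 + 1)) * this

/-- the normalized partner -/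
theorem Mn.norm (hs : Mn G s) (ht : QS G t) (hn : ¬ IsNilpotent (s * t + t * s)) :
    ∃ r, Mn G (pz s t r * s) ∧ pz s t (r * X) * s = s := by
  have z1 := hs.qs.1
  obtain ⟨p, hp⟩ := exists_eig z1 ht.1 hn
  obtain ⟨u, v, e⟩ := hp.irr.coprime_iff_not_dvd.2 hp.ne
  obtain ⟨r, h1, h2⟩ := hp.onto hk2 hk3 hs ht v
  have h3 : p ∣ r * X - 1 := by
    convert (h1.mul_right X).sub (dvd_mul_left p u) using 1; linear_combination e
  have r0 : pz s t r * s ≠ 0 := hp.ne_zero fun h =>
    hp.irr.not_isUnit (isUnit_of_dvd_one (by simpa using (h.mul_right X).sub h3))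
  have h4 := hs.of_le h2 r0 (rk_le' (ker_le_mul _ _))
  refine ⟨r, h4, ?_⟩
  have e1 : pz s t r * s * t + t * (pz s t r * s) = pz s t (r * X) := by
    rw [map_mul, pz_X, t_pz' ht.1, mul_add, mul_assoc]
  obtain ⟨m, m0, hm⟩ := hp.ex
  have e2 : pz s t (r * X) (s m) = s m := by
    obtain ⟨w, hw⟩ := h3
    rw [eq_add_of_sub_eq hw, mul_comm, map_add, map_mul, LinearMap.add_apply, End.mul_apply, pz, hm]; simp
  have e3 : (pz s t r * s) ((s * t + t * s) m) = s m := by
    rw [End.mul_apply, ← End.mul_apply s, ← (z_comm z1).eq, ← e2, map_mul, pz_X]; rfl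
  have hp' : Eig (pz s t r * s) (pz s t r * s * t + t * (pz s t r * s)) (X - C 1) :=
    ⟨irreducible_X_sub_C 1, by rw [dvd_iff_isRoot]; simp, _, e3 ▸ m0, by
      rw [e3, e1, map_sub, aeval_X, LinearMap.sub_apply, e2]; simp⟩
  have h5 := (((Om.base.lo 1).up (-2)).lo 1).kill' hk2 hk3 h4 ht hp' ⟨-2, by simp [map_ofNat]; ring⟩
  have inj : ∀ {r}, (∀ m, pz s t r (s m) = 0 → s m = 0) → ∀ q, pz s t (r * q) * s = 0 → pz s t q * s = 0 :=
    fun h q h1 => LinearMap.ext fun m => by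
      have := congrArg (· m) h1
      simp only [map_mul, End.mul_apply, pz_comm z1 q] at this ⊢
      exact h _ this
  have h6 := inj (fun m => hs.inj h2 r0) _ (inj (r := X) (fun m h => hs.inj_z hk2 hk3 ht hn m (by rwa [← pz_X])) _
    (inj (fun m => hs.inj h2 r0) (X * (r * (C 2 * (1 - r * X)))) (by
      have e4 : ∀ q, pz (pz s t r * s) t q = pz s t (q.comp (r * X)) := fun q => by
        rw [pz, e1]; exact (aeval_comp _).symm
      rw [← h5, e4, pz_pz]
      congr 2
      simp [map_ofNat]; ring)))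
  rw [pz_C, smul_eq_zero, map_sub, map_one, sub_mul, one_mul, sub_eq_zero] at h6
  exact (h6.resolve_left (Ring.two_ne_zero hk2)).symm

omit hk2 hk3 [FiniteDimensional k M] in
theorem pz_mul (ht : t * t = 0) : pz s t r * s * t + t * (pz s t r * s) = pz s t (r * X) := by
  rw [map_mul, pz_X, t_pz' ht, mul_add, mul_assoc]

omit hk2 hk3 in
/-- the part of `t` opposite to `s` -/
theorem Mn.part (hs : Mn G s) (ht : QS G t) (h : s * (t * s) = s) : Mn G (t * (s * t)) := by
  have h1 := ((hs.cj ht (-1)).cj hs.qs 1).neg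
  have h2 := mul_mul_zero hs.qs.1
  have h3 : ∀ y, s * (t * (s * y)) = s * y := fun y => by rw [← mul_assoc t, ← mul_assoc, h]
  convert h1 using 1
  simp [mul_add, add_mul, mul_sub, sub_mul, mul_assoc, hs.qs.1, h, h2, h3]

omit hk2 hk3 in
theorem Mn.part_eq (hs : Mn G s) (ht : Mn G t) (h : s * (t * s) = s) : t * (s * t) = t := by
  have h1 := hs.part ht.qs h
  ext m
  obtain ⟨v, hv⟩ := (ht.range_eq h1.qs h1.ne (range_mul_le _ _)).ge ⟨m, rfl⟩
  have := congrArg (fun f => t (f (t v))) h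
  simp only [End.mul_apply] at this hv ⊢
  rw [← hv, this]

theorem Mn.norm' (hs : Mn G s) (ht : QS G t) (hn : ¬ IsNilpotent (s * t + t * s)) :
    ∃ r, Mn G (pz s t r * s) ∧ pz s t (r * X) * s = s ∧ pz s t r * s * (t * (pz s t r * s)) = pz s t r * s := by
  obtain ⟨r, h1, h2⟩ := hs.norm hk2 hk3 ht hn
  exact ⟨r, h1, h2, by rw [← z_mul h1.qs.1, pz_mul ht.1, pz_pz, mul_comm, ← pz_pz, h2]⟩

theorem Mn.step (hs : Mn G s) (ht : Mn G t) (hn : ¬ IsNilpotent (s * t + t * s)) (h : QS G (pz s t a * s)) :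
    QS G (pz s t (X * a) * t) := by
  obtain ⟨r, h1, h2, h3⟩ := hs.norm' hk2 hk3 ht.qs hn
  have h4 := h1.part_eq ht h3
  have e : pz s t a * s = pz s t (X * a) * (pz s t r * s) := by
    rw [pz_pz, show X * a * r = a * (r * X) by ring, ← pz_pz, h2]
  have c1 : ∀ y, pz s t r * s * (pz s t (X * a) * y) = pz s t (X * a) * (pz s t r * s * y) := fun y => by
    simp only [mul_assoc, s_pz' hs.qs.1, pz_pz, mul_comm r]
  have c2 := t_pz' (s := s) ht.qs.1 (X * a)
  have h5 := ((h.cj ht.qs (-1)).cj h1.qs 1).neg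
  have z1 := h1.qs.1
  rw [e] at h5
  generalize pz s t r * s = s' at *
  have z2 := mul_mul_zero z1
  have z3 : ∀ y, s' * (t * (s' * y)) = s' * y := fun y => by rw [← mul_assoc t, ← mul_assoc, h3]
  have z4 : ∀ y, t * (s' * (t * y)) = t * y := fun y => by rw [← mul_assoc s', ← mul_assoc, h4]
  convert h5 using 1
  simp [mul_add, add_mul, mul_sub, sub_mul, mul_assoc, z1, z2, z3, z4, h3, h4, c1, c2, -map_mul]

theorem Mn.all (hs : Mn G s) (ht : Mn G t) (hn : ¬ IsNilpotent (s * t + t * s)) (a : k[X]) : QS G (pz s t a * s) := by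
  have key : ∀ n, QS G (pz s t (X ^ n) * s) ∧ QS G (pz s t (X ^ n) * t) := fun n => by
    induction n with
    | zero => simpa using ⟨hs.qs, ht.qs⟩
    | succ n ih =>
      rw [pow_succ']
      exact ⟨pz_symm s t ▸ ht.step hk2 hk3 hs (by rwa [add_comm]) (pz_symm t s ▸ ih.2), hs.step hk2 hk3 ht hn ih.1⟩
  induction a using Polynomial.induction_on' with
  | add p q hp hq => simpa using QS.psub hs.qs.1 hp (b := -q) (by simpa using hq.neg)
  | monomial n e => rw [← C_mul_X_pow_eq_monomial, pz_C]; exact (key n).1.smul e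

theorem Eig.kill (hp : Eig s (s * t + t * s) p) (hs : Mn G s) (ht : Mn G t) (hn : ¬ IsNilpotent (s * t + t * s)) :
    pz s t p * s = 0 := by
  obtain ⟨m, m0, hm⟩ := hp.ex
  by_contra h
  exact m0 (hs.inj (hs.all hk2 hk3 ht hn p) h hm)

end H16.H11
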