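import Cfsg.Agent.H11.R1b
import Cfsg.Agent.H11.SL2St

/-! `SL₂(K)` as a rank one group, and images of `SL₂(K)`. -/

set_option autoImplicit false
set_option linter.unusedSectionVars false

open Subgroup Cfsg H16 Cfsg.IsRankOnePair Matrix H4
open scoped commutatorElement MatrixGroups

namespace H16.H11

variable {K : Type*} [Field K] {G : Type*} [Group G] {A B : Subgroup G} {a b : G}

/-- the range of a map `x : K → G` with `x (t + u) = x t * x u` -/
def rng {x : K → G} (hx : ∀ t u, x (t + u) = x t * x u) : Subgroup G where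
  carrier := Set.range x
  one_mem' := ⟨0, by simpa using hx 0 0⟩
  mul_mem' := by rintro _ _ ⟨t, rfl⟩ ⟨u, rfl⟩; exact ⟨t + u, hx t u⟩
  inv_mem' := by
    rintro _ ⟨t, rfl⟩
    refine ⟨-t, eq_inv_of_mul_eq_one_left ?_⟩
    rw [← hx, neg_add_cancel]; simpa using hx 0 0

theorem mem_rng {x : K → G} {hx : ∀ t u, x (t + u) = x t * x u} : a ∈ rng hx ↔ ∃ t, x t = a := Iff.rfl

theorem mem_upper {g : SL(2, K)} : g ∈ upperUnipotentSL2 K ↔ ∃ t, upT t = g := by
  constructor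
  · intro hg
    refine (closure_le (rng upT_add)).2 (fun g hg => ?_) hg
    exact ⟨g.1 0 1, sl2_ext hg.2.1.symm rfl hg.1.symm hg.2.2.symm⟩
  · rintro ⟨t, rfl⟩
    exact subset_closure ⟨rfl, rfl, rfl⟩

theorem mem_lower {g : SL(2, K)} : g ∈ lowerUnipotentSL2 K ↔ ∃ t, loT t = g := by
  constructor
  · intro hg
    refine (closure_le (rng loT_add)).2 (fun g hg => ?_) hg
    exact ⟨g.1 1 0, sl2_ext hg.2.1.symm hg.1.symm rfl hg.2.2.symm⟩
  · rintro ⟨t, rfl⟩
    exact subset_closure ⟨rfl, rfl, rfl⟩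

theorem rng_comm {x : K → G} (hx : ∀ t u, x (t + u) = x t * x u) : IsMulCommutative (rng hx) :=
  comm_iff.2 (by
    rintro _ ⟨t, rfl⟩
    refine mem_cent.2 ?_
    rintro _ ⟨u, rfl⟩
    rw [← hx, ← hx, add_comm])

theorem sl2_st : St2 (upT (K := K)) loT := by
  refine ⟨upT_add, loT_add, fun t u ht => ?_, fun t u ht => ?_⟩ <;>
  · rw [mul_inv_eq_iff_eq_mul]
    apply sl2_ext <;> simp only [sl2_mul_apply, coe_upT, coe_loT, of_apply, cons_val', cons_val_zero, cons_val_one,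
      cons_val_fin_one] <;> field_simp <;> ring

theorem St2.symm {x y : K → G} (S : St2 x y) : St2 y x := ⟨S.yadd, S.xadd, S.wy, S.wx⟩

theorem St2.map {x y : K → G} (S : St2 x y) {H : Type*} [Group H] (f : G →* H) :
    St2 (fun t => f (x t)) (fun t => f (y t)) :=
  ⟨fun t u => by rw [S.xadd, map_mul], fun t u => by rw [S.yadd, map_mul],
    fun t u ht => by rw [← S.wx t u ht]; simp, fun t u ht => by rw [← S.wy t u ht]; simp⟩

theorem St2.cj_eq {x y : K → G} (S : St2 x y) {t : K} (ht : t ≠ 0) :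
    rng S.xadd :^ (y t⁻¹) = rng S.yadd :^ (x t) := by
  have h1 : rng S.yadd :^ (St2.w x y t) = rng S.xadd := by
    ext g
    constructor
    · rintro ⟨_, ⟨u, rfl⟩, rfl⟩
      exact ⟨_, eq_mul_inv_of_mul_eq (S.w_y ht u).symm⟩
    · rintro ⟨u, rfl⟩
      exact mem_cj.2 ⟨_, by rw [mul_assoc, S.x_w ht, inv_mul_cancel_left]⟩
  rw [← h1, cj_cj, S.w_eq ht, S.yneg, show y t⁻¹ * ((y t⁻¹)⁻¹ * x t * (y t⁻¹)⁻¹) = x t * (y t⁻¹)⁻¹ by group,
    ← cj_cj, cj_self (inv_mem (mem_rng.2 ⟨_, rfl⟩))]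

theorem St2.special {x y : K → G} (S : St2 x y) (hne : rng S.xadd ≠ rng S.yadd) :
    IsSpecialRankOnePair (rng S.xadd) (rng S.yadd) := by
  have key : ∀ {x y : K → G} (S : St2 x y), rng S.xadd ≠ rng S.yadd → ∀ t, x t ≠ 1 →
      RP (rng S.xadd) (rng S.yadd) (x t) (y t⁻¹) := by
    intro x y S hne t h1
    have ht : t ≠ 0 := by rintro rfl; exact h1 S.x0
    refine ⟨⟨_, rfl⟩, ⟨_, rfl⟩, h1, fun e => hne ?_, S.cj_eq ht⟩
    have := S.cj_eq ht
    rw [e, cj_one, eq_comm, cj_eq_iff, cj_self (inv_mem (mem_rng.2 ⟨_, rfl⟩))] at this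
    exact this.symm
  have h : IsRankOnePair (rng S.xadd) (rng S.yadd) := by
    refine of_ex hne (nil_of_comm (rng_comm _)) (nil_of_comm (rng_comm _)) ?_ ?_
    · rintro _ ⟨t, rfl⟩ h1
      have r := key S hne t h1
      exact ⟨_, r.mb, r.b1, r.eq⟩
    · rintro _ ⟨t, rfl⟩ h1
      have r := key S.symm hne.symm t h1
      exact ⟨_, r.mb, r.b1, r.eq.symm⟩
  refine special_iff.2 ⟨h, ?_⟩
  rintro a b r
  obtain ⟨t, rfl⟩ := r.ma
  have ht : t ≠ 0 := by rintro rfl; exact r.a1 S.x0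
  rw [RP.uniq' h r (key S hne t r.a1)]
  have := S.w_eq ht
  rw [St2.w, S.yneg] at this
  calc _ = y t⁻¹ * (x t * (y t⁻¹)⁻¹ * x t) * (x t)⁻¹ := by group
    _ = _ := by rw [this]; group

theorem upper_eq : upperUnipotentSL2 K = rng (upT_add (K := K)) := by ext; exact mem_upper

theorem lower_eq : lowerUnipotentSL2 K = rng (loT_add (K := K)) := by ext; exact mem_lower

theorem sl2_special : IsSpecialRankOnePair (upperUnipotentSL2 K) (lowerUnipotentSL2 K) := by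
  rw [upper_eq, lower_eq]
  refine sl2_st.special fun e => ?_
  obtain ⟨t, ht⟩ : upT (1 : K) ∈ rng (loT_add (K := K)) := e ▸ ⟨1, rfl⟩
  simpa [coe_upT, coe_loT] using congrArg (fun g : SL(2, K) => g.1 0 1) ht

theorem sl2_sup : upperUnipotentSL2 K ⊔ lowerUnipotentSL2 K = ⊤ :=
  sl2_eq_top_of_upT_loT (fun t => mem_sup_left (mem_upper.2 ⟨t, rfl⟩))
    fun t => mem_sup_right (mem_lower.2 ⟨t, rfl⟩)

theorem psl2_of_hom (φ : SL(2, K) →* G) (hA : (upperUnipotentSL2 K).map φ = A)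
    (hB : (lowerUnipotentSL2 K).map φ = B) (hne : ¬ B ≤ A) : IsPSL2PairOver K A B := by
  refine ⟨φ, by rw [← hA, ← hB, ← Subgroup.map_sup, sl2_sup, MonoidHom.range_eq_map], ?_, hA, hB⟩
  rcases sl2_special.1.normal_cases (N := φ.ker) le_normalizer_of_normal (by rw [sl2_sup]; exact le_top) with h | h
  · refine absurd ?_ hne
    rw [← hA, ← hB, ← bot_sup_eq (Subgroup.map φ (upperUnipotentSL2 K)), ← (Subgroup.map_eq_bot_iff φ.ker).2 le_rfl,
      ← Subgroup.map_sup, h]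
    exact map_mono le_sup_right
  · rwa [sl2_sup, coe_top, centralizer_univ] at h

theorem St2.psl2 {x y : K → G} (S : St2 x y)
    (C : ∀ t u, t ≠ 0 → u ≠ 0 → St2.hh x y t * St2.hh x y u = St2.hh x y (t * u))
    (hne : ¬ rng S.yadd ≤ rng S.xadd) : IsPSL2PairOver K (rng S.xadd) (rng S.yadd) := by
  obtain ⟨φ, h1, h2⟩ := S.lift C
  refine psl2_of_hom φ ?_ ?_ hne
  · ext g
    simp only [mem_map, mem_upper, mem_rng, exists_exists_eq_and, h1]
  · ext g
    simp only [mem_map, mem_lower, mem_rng, exists_exists_eq_and, h2]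

theorem psl2_st (h : IsPSL2PairOver K A B) : ∃ (x y : K → G) (S : St2 x y), A = rng S.xadd ∧ B = rng S.yadd ∧
    (∀ t, x t = 1 → t = 0) ∧ (∀ t, y t = 1 → t = 0) ∧ A ≠ B := by
  obtain ⟨φ, -, hk, rfl, rfl⟩ := h
  have hc : ∀ g : SL(2, K), φ g = 1 → g.1 0 1 = 0 ∧ g.1 1 0 = 0 := fun g hg => by
    obtain ⟨r, -, hr⟩ := Matrix.SpecialLinearGroup.mem_center_iff.1 (hk hg)
    rw [← hr]; simp
  refine ⟨_, _, sl2_st.map φ, ?_, ?_, fun t ht => (hc _ ht).1, fun t ht => (hc _ ht).2, fun e => ?_⟩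
  · ext g
    simp only [mem_map, mem_upper, mem_rng, exists_exists_eq_and]
  · ext g
    simp only [mem_map, mem_lower, mem_rng, exists_exists_eq_and]
  · obtain ⟨_, ⟨t, rfl⟩, ht⟩ : φ (upT 1) ∈ (rng (loT_add (K := K))).map φ := by
      rw [← lower_eq, ← e]; exact mem_map_of_mem _ (mem_upper.2 ⟨1, rfl⟩)
    have := (hc (loT (-t) * upT 1) (by rw [map_mul, ← ht, ← map_mul, ← loT_add, neg_add_cancel, loT_zero, map_one])).1
    simp [sl2_mul_apply, coe_upT, coe_loT] at this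

theorem psl2_special (h : IsPSL2PairOver K A B) : IsSpecialRankOnePair A B := by
  obtain ⟨x, y, S, rfl, rfl, -, -, hne⟩ := psl2_st h
  exact S.special hne

theorem psl2_card (h : IsPSL2PairOver K A B) : Nonempty (K ≃ A) := by
  obtain ⟨x, y, S, rfl, rfl, hx, -, -⟩ := psl2_st h
  refine ⟨Equiv.ofBijective (fun t => ⟨x t, t, rfl⟩) ⟨fun t u e => ?_, ?_⟩⟩
  · have h1 : x t = x u := congrArg Subtype.val e
    exact sub_eq_zero.1 (hx _ (by rw [sub_eq_add_neg, S.xadd, S.xneg, h1, mul_inv_cancel]))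
  · rintro ⟨_, t, rfl⟩; exact ⟨t, rfl⟩

/-- the image of `SL₂(K)` with central kernel is `SL₂(K)` or `PSL₂(K)` -/
theorem psl2_iso (h : IsPSL2PairOver K A B) :
    Nonempty (↥(A ⊔ B) ≃* SL(2, K)) ∨ Nonempty (↥(A ⊔ B) ≃* PSL(2, K)) := by
  obtain ⟨φ, hr, hk, -, -⟩ := h
  rw [← hr]
  by_cases h1 : φ.ker = ⊥
  · exact Or.inl ⟨(MonoidHom.ofInjective ((MonoidHom.ker_eq_bot_iff φ).1 h1)).symm⟩
  · have h2 : φ.ker = center SL(2, K) := by
      refine hk.antisymm fun z hz => ?_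
      obtain ⟨g, hg, g1⟩ := exists_ne_one h1
      obtain ⟨r, hr, e⟩ := Matrix.SpecialLinearGroup.mem_center_iff.1 (hk hg)
      obtain ⟨s, hs, e'⟩ := Matrix.SpecialLinearGroup.mem_center_iff.1 hz
      rw [Fintype.card_fin] at hr hs
      rcases sq_eq_one_iff.1 hs with rfl | rfl
      · rw [show z = 1 from Subtype.ext (by rw [← e']; simp)]; exact one_mem _
      · rcases sq_eq_one_iff.1 hr with rfl | rfl
        · exact absurd (Subtype.ext (by rw [← e]; simp)) g1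
        · rwa [show z = g from Subtype.ext (e'.symm.trans e)]
    exact Or.inr ⟨(QuotientGroup.quotientKerEquivRange φ).symm.trans (QuotientGroup.quotientMulEquivOfEq h2)⟩

/-- `⟨a, b(a)⟩` is an image of `SL₂(p)` -/
theorem RP.psl2 (h : IsSpecialRankOnePair A B) (r : RP A B a b) {p : ℕ} [hp : Fact p.Prime] (ha : a ^ p = 1) :
    IsPSL2PairOver (ZMod p) (zpowers a) (zpowers b) := by
  have hb := (r.pow_eq_one h p).1 ha
  have hadd : ∀ {a : G}, a ^ p = 1 → ∀ t u : ZMod p, a ^ (t + u).val = a ^ t.val * a ^ u.val := by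
    intro a ha t u
    rw [ZMod.val_add, ← pow_eq_pow_mod _ ha, pow_add]
  have hmul : ∀ {a : G}, a ^ p = 1 → ∀ t u : ZMod p, a ^ (t * u).val = (a ^ t.val) ^ u.val := by
    intro a ha t u
    rw [ZMod.val_mul, ← pow_eq_pow_mod _ ha, pow_mul]
  have hneg : ∀ {a : G}, a ^ p = 1 → ∀ t : ZMod p, a ^ (-t).val = (a ^ t.val)⁻¹ := by
    intro a ha t
    rw [eq_inv_iff_mul_eq_one, ← hadd ha, neg_add_cancel, ZMod.val_zero, pow_zero]
  have key : ∀ {A B : Subgroup G} {a b : G}, IsSpecialRankOnePair A B → RP A B a b → a ^ p = 1 →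
      ∀ t u : ZMod p, t ≠ 0 → a ^ t.val * b ^ (-t⁻¹).val * a ^ t.val * a ^ u.val *
        (a ^ t.val * b ^ (-t⁻¹).val * a ^ t.val)⁻¹ = b ^ (-(t⁻¹ ^ 2 * u)).val := by
    intro A B a b h r ha t u ht
    have hb := (r.pow_eq_one h p).1 ha
    have h1 : a ^ t.val ≠ 1 := fun e => r.a1 (by
      have := hmul ha t t⁻¹
      rwa [mul_inv_cancel₀ ht, ZMod.val_one, pow_one, e, one_pow] at this)
    obtain ⟨d, rd⟩ := RP.ex h.1 (pow_mem r.ma _) h1
    have hd : d ^ p = 1 := (rd.pow_eq_one h p).1 (by rw [← pow_mul, mul_comm, pow_mul, ha, one_pow])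
    have h2 : d = b ^ (t⁻¹).val := by
      rw [← RP.root' h _ r rd, ← hmul hd, mul_inv_cancel₀ ht, ZMod.val_one, pow_one]
    have h3 := rd.m_a h
    rw [hneg hb, ← h2, show u = t * (t⁻¹ * u) by field_simp, hmul ha, ← conj_pow, h3, h2, ← hneg hb, ← hmul hb]
    congr 2; field_simp
  have S : St2 (fun t : ZMod p => a ^ t.val) (fun t => b ^ t.val) :=
    ⟨hadd ha, hadd hb, key h r ha, key (sp_symm h) r.symm hb⟩
  have hz : ∀ {a : G} (ha : a ^ p = 1), zpowers a = rng (x := fun t : ZMod p => a ^ t.val) (hadd ha) := by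
    intro a ha
    refine le_antisymm (zpowers_le.2 ⟨1, by simp [ZMod.val_one]⟩) ?_
    rintro _ ⟨t, rfl⟩
    exact pow_mem (mem_zpowers a) _
  rw [hz ha, hz hb]
  refine S.psl2 S.relC fun hle => r.b1 (h.1.eq_one' r.mb (le_norm A ?_))
  have := hle (⟨1, by simp [ZMod.val_one]⟩ : b ∈ rng S.yadd)
  rw [← hz ha] at this
  exact zpowers_le.2 r.ma this

end H16.H11
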