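import Cfsg.Agent.H11.QPa
import Cfsg.Agent.H11.R1c

/-! Quadratic pairs: the root subgroups. -/

set_option autoImplicit false
set_option linter.unusedSectionVars false
set_option linter.unusedSimpArgs false

open Subgroup Cfsg H16 Module Polynomial
open scoped commutatorElement

namespace H16.H11

variable {k M : Type*} [Field k] [AddCommGroup M] [Module k M] {G A B : Subgroup (GLm k M)}
  {s s' s'' t t' q u v w x y : End k M} {g a b : GLm k M} {m : M}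

theorem mul_eq_zero_of (h : LinearMap.range t ≤ LinearMap.ker s) : s * t = 0 := LinearMap.ext fun m => h ⟨m, rfl⟩

theorem range_le_ker (h : s * t = 0) : LinearMap.range t ≤ LinearMap.ker s := by
  rintro _ ⟨m, rfl⟩; exact congrArg (· m) h

/-- the root space of `s` -/
def ES (G : Subgroup (GLm k M)) (s : End k M) : Submodule k (End k M) where
  carrier := {y | QS G y ∧ LinearMap.ker s ≤ LinearMap.ker y ∧ LinearMap.range y ≤ LinearMap.range s ∧
    LinearMap.range y ≤ LinearMap.ker s}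
  zero_mem' := ⟨QS.zero, by simp, by simp, by simp⟩
  add_mem' := fun h1 h2 => ⟨h1.1.add h2.1 (mul_eq_zero_of (h2.2.2.2.trans h1.2.1)) (mul_eq_zero_of (h1.2.2.2.trans h2.2.1)),
    fun m hm => by simp [LinearMap.mem_ker.1 (h1.2.1 hm), LinearMap.mem_ker.1 (h2.2.1 hm)],
    (LinearMap.range_add_le _ _).trans (sup_le h1.2.2.1 h2.2.2.1),
    (LinearMap.range_add_le _ _).trans (sup_le h1.2.2.2 h2.2.2.2)⟩
  smul_mem' := fun c _ h => ⟨h.1.smul c, fun m hm => by simp [LinearMap.mem_ker.1 (h.2.1 hm)],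
    (LinearMap.range_smul_le_range _ _).trans h.2.2.1, (LinearMap.range_smul_le_range _ _).trans h.2.2.2⟩

theorem mem_ES (hs : s * s = 0) (h1 : QS G y) (h2 : LinearMap.ker s ≤ LinearMap.ker y)
    (h3 : LinearMap.range y ≤ LinearMap.range s) : y ∈ ES G s := ⟨h1, h2, h3, h3.trans (range_le_ker hs)⟩

theorem QS.mem (h : QS G s) : s ∈ ES G s := mem_ES h.1 h le_rfl le_rfl

theorem ES_mul (h1 : x ∈ ES G s) (h2 : y ∈ ES G s) : x * y = 0 := mul_eq_zero_of (h2.2.2.2.trans h1.2.1)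

theorem ES_left (h : y ∈ ES G s) (h1 : s * t = 0) : y * t = 0 := mul_eq_zero_of ((range_le_ker h1).trans h.2.1)

theorem ES_right (h : y ∈ ES G s) (h1 : t * s = 0) : t * y = 0 := mul_eq_zero_of (h.2.2.1.trans (range_le_ker h1))

theorem ES_congr (h1 : LinearMap.ker s = LinearMap.ker t) (h2 : LinearMap.range s = LinearMap.range t) :
    ES G s = ES G t := by simp only [ES, h1, h2]

theorem ES_neg : ES G (-s) = ES G s := ES_congr (LinearMap.ker_neg s) (LinearMap.range_neg s)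

/-- `1 + y` -/
def ex (y : End k M) (h : y * y = 0) : GLm k M := ⟨1 + y, 1 - y, by simp [mul_sub, add_mul, h], by simp [mul_add, sub_mul, h]⟩

theorem QS.mem_G (h : QS G (g.1 - 1)) : g ∈ G := by
  obtain ⟨a, ha, e⟩ := h.2 1
  rwa [show g = a from Units.ext (by simp [e])]

theorem inv_sub (h : (g.1 - 1) * (g.1 - 1) = 0) : g⁻¹.1 - 1 = -(g.1 - 1) := by
  rw [inv_val (c := 1) h (by simp)]; simp

/-- the root subgroup of `s` -/
def RG (G : Subgroup (GLm k M)) (s : End k M) : Subgroup (GLm k M) where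
  carrier := {g | g.1 - 1 ∈ ES G s}
  one_mem' := by simp
  mul_mem' := fun {a b} ha hb => by
    have := add_mem (add_mem (ES_mul ha hb ▸ zero_mem _ : (a.1 - 1) * (b.1 - 1) ∈ ES G s) ha) hb
    convert this using 1
    simp only [Set.mem_ofPred_eq, Units.val_mul]
    congr! 1; noncomm_ring
  inv_mem' := fun ha => by rw [Set.mem_ofPred_eq, inv_sub ha.1.1]; exact neg_mem ha

theorem mem_RG : g ∈ RG G s ↔ g.1 - 1 ∈ ES G s := Iff.rfl

theorem ex_mem (h : y ∈ ES G s) : ex y h.1.1 ∈ RG G s := by simpa [mem_RG, ex] using h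

theorem ex_ne (h : y * y = 0) (h0 : y ≠ 0) : ex y h ≠ 1 := fun e => h0 (by simpa [ex] using congrArg Units.val e)

theorem sub_ne (h : g ≠ 1) : g.1 - 1 ≠ 0 := fun e => h (Units.ext (sub_eq_zero.1 e))

theorem RG_le : RG G s ≤ G := fun _ h => h.1.mem_G

theorem RG_congr (h : ES G s = ES G t) : RG G s = RG G t := by ext g; rw [mem_RG, mem_RG, h]

theorem ES_of_RG (h : RG G s ≤ RG G t) : ES G s ≤ ES G t := fun y hy => by simpa [mem_RG, ex] using h (ex_mem hy)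

theorem commute_iff : Commute a b ↔ Commute (a.1 - 1) (b.1 - 1) := by
  rw [Commute, SemiconjBy, Units.ext_iff, Commute, SemiconjBy, ← sub_eq_zero, ← sub_eq_zero (a := (a.1 - 1) * _)]
  simp only [Units.val_mul]
  congr! 1; noncomm_ring

theorem RG_comm : IsMulCommutative (RG G s) := comm_iff.2 (le_cent_iff.2 fun _ ha _ hb =>
  commute_iff.2 ((ES_mul ha hb).trans (ES_mul hb ha).symm))

theorem conj_ES (hg : g ∈ G) (h : y ∈ ES G s) : g.1 * y * g⁻¹.1 ∈ ES G (g.1 * s * g⁻¹.1) := by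
  refine ⟨h.1.conj hg, fun m hm => ?_, ?_, range_le_ker ?_⟩
  · have : s (g⁻¹.1 m) = 0 := by simpa [gl_inv'] using congrArg g⁻¹.1 hm
    simp [LinearMap.mem_ker.1 (h.2.1 this)]
  · rintro _ ⟨m, rfl⟩
    obtain ⟨v, hv⟩ := h.2.2.1 ⟨g⁻¹.1 m, rfl⟩
    exact ⟨g.1 v, by simp [gl_inv', hv]⟩
  · simp [mul_assoc, mul_mul_zero (mul_eq_zero_of h.2.2.2)]

theorem RG_cj (hg : g ∈ G) : RG G s :^ g = RG G (g.1 * s * g⁻¹.1) := by
  have key : ∀ {g s}, g ∈ G → RG G s :^ g ≤ RG G (g.1 * s * g⁻¹.1) := fun hg => cj_le_forall.2 fun a ha => by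
    simpa [mem_RG, mul_sub, sub_mul] using conj_ES hg ha
  refine (key hg).antisymm (le_cj_iff.2 ?_)
  simpa [mul_assoc] using key (s := g.1 * s * g⁻¹.1) (inv_mem hg)

theorem mem_quad : g ∈ quadraticElements G ↔ QS G (g.1 - 1) ∧ g.1 - 1 ≠ 0 :=
  ⟨fun h => ⟨⟨h.2.1.1, fun c => ⟨ex (c • (g.1 - 1)) (by simp [h.2.1.1]), h.2.2 ⟨c, rfl⟩, rfl⟩⟩, h.2.1.2⟩,
    fun h => ⟨h.1.mem_G, ⟨h.1.1, h.2⟩, fun a ⟨c, e⟩ => by
      obtain ⟨b, hb, e'⟩ := h.1.2 c
      rwa [show a = b from Units.ext (e.trans e'.symm)]⟩⟩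

theorem mem_min : g ∈ minimalQuadraticElements G ↔ Mn G (g.1 - 1) :=
  ⟨fun h => ⟨(mem_quad.1 h.1).1, (mem_quad.1 h.1).2, fun t ht t0 => by
      have h1 : (ex t ht.1).1 - 1 = t := by simp [ex]
      exact h1 ▸ (h.2 (ex t ht.1) (mem_quad.2 (h1.symm ▸ ⟨ht, t0⟩)) : rk _ ≤ rk _)⟩,
    fun h => ⟨mem_quad.2 ⟨h.qs, h.ne⟩, fun _ ha => h.min _ (mem_quad.1 ha).1 (mem_quad.1 ha).2⟩⟩

theorem fixed_RG (hs : QS G s) : fixedSubmodule (RG G s) = LinearMap.ker s :=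
  le_antisymm (iInf₂_le_of_le _ (ex_mem hs.mem) (by simp [ex])) (le_iInf₂ fun _ h => h.2.1)

theorem comm_RG (hs : QS G s) : commutatorSubmodule (RG G s) = LinearMap.range s :=
  le_antisymm (iSup₂_le fun _ h => h.2.2.1) (le_iSup₂_of_le _ (ex_mem hs.mem) (by simp [ex]))

/-- opposite elements -/
def Opp (s t : End k M) : Prop := (∀ m, t (s m) = 0 → s m = 0) ∧ ∀ m, s (t m) = 0 → t m = 0

/-- nilpotent pairs -/
def Nl (s t : End k M) : Prop := s * (t * s) = 0 ∧ t * (s * t) = 0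

/-- normalized pairs -/
def NP (s t : End k M) : Prop := s * (t * s) = s ∧ t * (s * t) = t

theorem Opp.symm (h : Opp s t) : Opp t s := ⟨h.2, h.1⟩
theorem Nl.symm (h : Nl s t) : Nl t s := ⟨h.2, h.1⟩
theorem NP.symm (h : NP s t) : NP t s := ⟨h.2, h.1⟩

theorem Opp.ne (h : Opp s t) (h0 : s ≠ 0) : s * (t * s) ≠ 0 := fun e =>
  h0 (LinearMap.ext fun m => h.1 m (h.2 _ (congrArg (· m) e)))

theorem NP.opp (h : NP s t) : Opp s t :=
  ⟨fun m hm => by rw [← h.1]; simp [hm], fun m hm => by rw [← h.2]; simp [hm]⟩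

theorem NP.l (h : NP s t) (y : End k M) : s * (t * (s * y)) = s * y := by rw [← mul_assoc t, ← mul_assoc, h.1]

theorem ex_val (h : y * y = 0) : (ex y h).1 - 1 = y := by simp [ex]

theorem nil_of_sts (hs : s * s = 0) (ht : t * t = 0) (h : s * (t * s) = 0) : IsNilpotent (s * t + t * s) :=
  ⟨2, by
    have : ∀ y, s * (t * (s * y)) = 0 := fun y => by rw [← mul_assoc t, ← mul_assoc, h, zero_mul]
    simp [pow_two, mul_add, add_mul, mul_assoc, hs, ht, mul_mul_zero hs, mul_mul_zero ht, h, this]⟩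

variable [FiniteDimensional k M]

theorem Mn.of_mem (hs : Mn G s) (h : y ∈ ES G s) (h0 : y ≠ 0) : Mn G y := hs.of_le h.1 h0 (rk_le h.2.2.1)

theorem Mn.ker_mem (hs : Mn G s) (h : y ∈ ES G s) (h0 : y ≠ 0) : LinearMap.ker y = LinearMap.ker s :=
  (hs.ker_eq h.1 h0 h.2.1).symm

theorem Mn.range_mem (hs : Mn G s) (h : y ∈ ES G s) (h0 : y ≠ 0) : LinearMap.range y = LinearMap.range s :=
  hs.range_eq h.1 h0 h.2.2.1

theorem Mn.ES_eq (hs : Mn G s) (h : y ∈ ES G s) (h0 : y ≠ 0) : ES G y = ES G s :=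
  ES_congr (hs.ker_mem h h0) (hs.range_mem h h0)

theorem Mn.RG_eq (hs : Mn G s) (h : y ∈ ES G s) (h0 : y ≠ 0) : RG G y = RG G s := RG_congr (hs.ES_eq h h0)

theorem Mn.mem_symm (hs : Mn G s) (h : y ∈ ES G s) (h0 : y ≠ 0) : s ∈ ES G y := hs.ES_eq h h0 ▸ hs.qs.mem

theorem Mn.RG_ne (hs : Mn G s) : RG G s ≠ ⊥ := ne_bot_of_mem (ex_mem hs.qs.mem) (ex_ne _ hs.ne)

theorem same_coe (h : Mn G (g.1 - 1)) : (RG G (g.1 - 1) : Set (GLm k M)) = sameActionClass G g ∪ {1} := by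
  ext a
  constructor
  · intro ha
    by_cases a1 : a = 1
    · exact Or.inr a1
    · exact Or.inl ⟨mem_min.2 (h.of_mem ha (sub_ne a1)), h.ker_mem ha (sub_ne a1), h.range_mem ha (sub_ne a1)⟩
  · rintro (ha | rfl)
    · exact mem_ES h.qs.1 (mem_min.1 ha.1).qs ha.2.1.ge ha.2.2.le
    · exact one_mem _

theorem same_eq (h : Mn G (g.1 - 1)) : sameActionSubgroup G g = RG G (g.1 - 1) :=
  le_antisymm ((closure_le _).2 (same_coe h ▸ Set.subset_union_left)) fun a ha => by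
    rcases (same_coe h).le ha with h1 | rfl
    · exact subset_closure h1
    · exact one_mem _

theorem mem_sigma : A ∈ quadraticRootSubgroups G ↔ ∃ s, Mn G s ∧ A = RG G s :=
  ⟨fun ⟨_, h, e⟩ => ⟨_, mem_min.1 h, e.trans (same_eq (mem_min.1 h))⟩, fun ⟨s, h, e⟩ => by
    have h1 : (ex s h.qs.1).1 - 1 = s := by simp [ex]
    exact ⟨ex s h.qs.1, mem_min.2 (h1.symm ▸ h), by rw [same_eq (h1.symm ▸ h), h1, e]⟩⟩

theorem Mn.sigma (h : Mn G s) : RG G s ∈ quadraticRootSubgroups G := mem_sigma.2 ⟨s, h, rfl⟩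

theorem sigma_cj (hA : A ∈ quadraticRootSubgroups G) (hg : g ∈ G) : A :^ g ∈ quadraticRootSubgroups G := by
  obtain ⟨s, hs, rfl⟩ := mem_sigma.1 hA
  rw [RG_cj hg]; exact (hs.conj hg).sigma

theorem sigma_le (hA : A ∈ quadraticRootSubgroups G) : A ≤ G := by
  obtain ⟨s, -, rfl⟩ := mem_sigma.1 hA; exact RG_le

theorem Opp.congr (h : Opp s t) (hs : Mn G s) (ht : Mn G t) (h1 : s' ∈ ES G s) (s0 : s' ≠ 0) (h2 : t' ∈ ES G t)
    (t0 : t' ≠ 0) : Opp s' t' := by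
  refine ⟨fun m hm => ?_, fun m hm => ?_⟩
  · obtain ⟨v, hv⟩ := h1.2.2.1 ⟨m, rfl⟩
    rw [← hv] at hm ⊢
    exact h.1 v ((ht.ker_mem h2 t0).le hm)
  · obtain ⟨v, hv⟩ := h2.2.2.1 ⟨m, rfl⟩
    rw [← hv] at hm ⊢
    exact h.2 v ((hs.ker_mem h1 s0).le hm)

theorem rk_mul (s t : End k M) : rk (t * s) + finrank k ↥(LinearMap.range s ⊓ LinearMap.ker t) = rk s := by
  have := LinearMap.finrank_range_add_finrank_ker (t.domRestrict (LinearMap.range s))
  rwa [LinearMap.range_domRestrict, ← LinearMap.range_comp, LinearMap.ker_domRestrict,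
    ← Submodule.finrank_map_subtype_eq, Submodule.map_comap_subtype] at this

theorem range_st (h : t * (s * t) = 0) : LinearMap.range (s * t) ≤ LinearMap.range s ⊓ LinearMap.ker t :=
  le_inf (range_mul_le _ _) (range_le_ker h)

theorem rk_br (h : t * (s * t) = 0) : rk (t * s) + rk (s * t) ≤ rk s := by
  rw [← rk_mul s t]; exact Nat.add_le_add_left (Submodule.finrank_mono (range_st h)) _

theorem range_sub_le (s t : End k M) : LinearMap.range (s - t) ≤ LinearMap.range s ⊔ LinearMap.range t := by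
  rintro _ ⟨m, rfl⟩; exact sub_mem (Submodule.mem_sup_left ⟨m, rfl⟩) (Submodule.mem_sup_right ⟨m, rfl⟩)

theorem rk_sub (s t : End k M) : rk (s - t) ≤ rk s + rk t :=
  (Submodule.finrank_mono (range_sub_le s t)).trans (Submodule.finrank_add_le_finrank_add_finrank _ _)

variable (hk2 : ringChar k ≠ 2) (hk3 : Nat.card k ≠ 3)

include hk2 hk3 in
theorem opp_or_nl (hs : Mn G s) (ht : Mn G t) : Opp s t ∨ Nl s t := by
  by_cases hn : IsNilpotent (s * t + t * s)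
  · exact Or.inr ⟨hs.nil (Ring.two_ne_zero hk2) ht.qs hn, ht.nil (Ring.two_ne_zero hk2) hs.qs (by rwa [add_comm])⟩
  · exact Or.inl ⟨fun m hm => hs.inj_z hk2 hk3 ht.qs hn m (by simp [hm, ← End.mul_apply s s, hs.qs.1]),
      fun m hm => ht.inj_z hk2 hk3 hs.qs (by rwa [add_comm]) m (by simp [hm, ← End.mul_apply t t, ht.qs.1])⟩

theorem Opp.not_nil (h : Opp s t) (hs : Mn G s) (hk2 : ringChar k ≠ 2) (ht : QS G t) : ¬ IsNilpotent (s * t + t * s) :=
  fun hn => h.ne hs.ne (hs.nil (Ring.two_ne_zero hk2) ht hn)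

include hk2 hk3

theorem opp_of_ne (hs : Mn G s) (ht : Mn G t) (h : s * (t * s) ≠ 0) : Opp s t :=
  (opp_or_nl hk2 hk3 hs ht).resolve_right fun h1 => h h1.1

theorem nl_of (hs : Mn G s) (ht : Mn G t) (h : s * (t * s) = 0) : Nl s t :=
  (opp_or_nl hk2 hk3 hs ht).resolve_left fun h1 => h1.ne hs.ne h

theorem Opp.np (h : Opp s t) (hs : Mn G s) (ht : Mn G t) : ∃ s' ∈ ES G s, s' ≠ 0 ∧ NP s' t := by
  obtain ⟨r, h1, -, h2⟩ := hs.norm' hk2 hk3 ht.qs (h.not_nil hs hk2 ht.qs)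
  refine ⟨_, mem_ES hs.qs.1 h1.qs (ker_le_mul _ _) ?_, h1.ne, h2, h1.part_eq ht h2⟩
  rw [← s_pz hs.qs.1]; exact range_mul_le _ _

theorem Nl.word (h : Nl s t) (hs : Mn G s) (ht : Mn G t) (h1 : s' ∈ ES G s) (h2 : t' ∈ ES G t) (h3 : s'' ∈ ES G s) :
    s' * (t' * s'') = 0 := by
  by_cases t0 : t' = 0
  · simp [t0]
  have := (opp_or_nl hk2 hk3 hs (ht.of_mem h2 t0)).resolve_left fun ho =>
    (ho.congr hs (ht.of_mem h2 t0) hs.qs.mem hs.ne (ht.mem_symm h2 t0) ht.ne).ne hs.ne h.1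
  rw [← mul_assoc]
  exact ES_right h3 (by rw [mul_assoc]; exact ES_left h1 this.1)

theorem Nl.congr (h : Nl s t) (hs : Mn G s) (ht : Mn G t) (h1 : s' ∈ ES G s) (h2 : t' ∈ ES G t) : Nl s' t' :=
  ⟨h.word hk2 hk3 hs ht h1 h2 h1, h.symm.word hk2 hk3 ht hs h2 h1 h2⟩

theorem Nl.unip (h : Nl s t) (hs : Mn G s) (ht : Mn G t) : IsUnipotentOn (RG G s ⊔ RG G t) := unip_of fun W hW h1 => by
  replace h1 := h1.trans (cs_sup hW)
  have h2 : W ≤ LinearMap.range s ⊔ LinearMap.range t := h1.trans (sup_le_sup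
    (cs_le.2 fun g hg w _ => hg.2.2.1 ⟨w, rfl⟩) (cs_le.2 fun g hg w _ => hg.2.2.1 ⟨w, rfl⟩))
  have key : ∀ {s t : End k M}, Nl s t → Mn G s → Mn G t → W ≤ LinearMap.range s ⊔ LinearMap.range t →
      cs W (RG G s) ≤ LinearMap.ker s ⊓ LinearMap.ker t := fun {s t} h hs ht h2 => cs_le.2 fun g hg w hw => by
    obtain ⟨_, ⟨a, rfl⟩, _, ⟨b, rfl⟩, rfl⟩ := Submodule.mem_sup.1 (h2 hw)
    refine ⟨hg.2.2.2 ⟨_, rfl⟩, ?_⟩
    have h3 := congrArg (· a) (ES_mul hg hs.qs.mem)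
    have h4 := congrArg (· b) (h.symm.word hk2 hk3 ht hs ht.qs.mem hg ht.qs.mem)
    change t ((g.1 - 1) _) = 0
    simp only [End.mul_apply, LinearMap.zero_apply] at h3 h4
    rw [map_add, h3, zero_add]; exact h4
  have h3 := h1.trans (sup_le (key h hs ht h2) ((key h.symm ht hs (by rwa [sup_comm])).trans (inf_comm _ _).le))
  exact eq_bot_iff.2 (h1.trans (sup_le (cs_le.2 fun g hg w hw => hg.2.1 (h3 hw).1) (cs_le.2 fun g hg w hw => hg.2.1 (h3 hw).2)))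

omit hk2 hk3 in
theorem NP.cj_eq (h : NP s t) (hs : QS G s) (ht : QS G t) : RG G s :^ ex t ht.1 = RG G t :^ ex s hs.1 := by
  rw [RG_cj (RG_le (ex_mem ht.mem)), RG_cj (RG_le (ex_mem hs.mem))]
  refine RG_congr (Eq.trans ?_ ES_neg)
  congr 1
  change (1 + t) * s * (1 - t) = -((1 + s) * t * (1 - s))
  simp only [mul_sub, add_mul, mul_one, one_mul, mul_assoc, h.1, h.2]
  abel

theorem Opp.rank (h : Opp s t) (hs : Mn G s) (ht : Mn G t) : IsRankOnePair (RG G s) (RG G t) := by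
  have key : ∀ {s t}, Opp s t → Mn G s → Mn G t → ∀ a ∈ RG G s, a ≠ 1 → ∃ b ∈ RG G t, b ≠ 1 ∧ RG G s :^ b = RG G t :^ a := by
    intro s t h hs ht a ha a1
    have h1 := hs.of_mem ha (sub_ne a1)
    obtain ⟨t', h2, t0, h3⟩ := (h.symm.congr ht hs ht.qs.mem ht.ne ha (sub_ne a1)).np hk2 hk3 ht h1
    refine ⟨_, ex_mem h2, ex_ne _ t0, ?_⟩
    rw [← hs.RG_eq ha (sub_ne a1), ← ht.RG_eq h2 t0, h3.symm.cj_eq h1.qs h2.1]
    congr; exact Units.ext (by simp [ex])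
  refine IsRankOnePair.of_ex (fun e => h.ne hs.ne ?_) (nil_of_comm RG_comm) (nil_of_comm RG_comm) (key h hs ht)
    fun b hb b1 => let ⟨a, h1, h2, h3⟩ := key h.symm ht hs b hb b1; ⟨a, h1, h2, h3.symm⟩
  rw [ES_mul ht.qs.mem (ES_of_RG e.le hs.qs.mem), mul_zero]

theorem Opp.special (h : Opp s t) (hs : Mn G s) (ht : Mn G t) : IsSpecialRankOnePair (RG G s) (RG G t) :=
  sp_of_quad (Units.coeHom _) (h.rank hk2 hk3 hs ht) (fun _ h1 _ h2 => ES_mul h1 h2)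
    fun x _ h => (Units.ext h : x = 1) ▸ one_mem _

theorem opp_iff (hs : Mn G s) (ht : Mn G t) : IsRankOnePair (RG G s) (RG G t) ↔ Opp s t :=
  ⟨fun h => (opp_or_nl hk2 hk3 hs ht).resolve_right fun h1 => h.not_nil (nil_of_unip (h1.unip hk2 hk3 hs ht)),
    fun h => h.rank hk2 hk3 hs ht⟩

theorem nl_of_nil (hs : Mn G s) (ht : Mn G t) (h : Group.IsNilpotent ↥(RG G s ⊔ RG G t)) : Nl s t :=
  (opp_or_nl hk2 hk3 hs ht).resolve_left fun h1 => (h1.rank hk2 hk3 hs ht).not_nil h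

end H16.H11
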