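import Cfsg.Agent.H11.QPb

/-! Quadratic pairs: the rank one case and the commutator case. -/

set_option autoImplicit false
set_option linter.unusedSectionVars false
set_option linter.unusedSimpArgs false

open Subgroup Cfsg H16 Module Polynomial H4
open scoped commutatorElement MatrixGroups

namespace H16.H11

theorem sl2_hom {K R : Type*} [Field K] [Ring R] (ι : K →+ R) {E F : R} (hE : E * E = 0) (hF : F * F = 0)
    (h1 : E * (F * E) = E) (h2 : F * (E * F) = F) (hm : ∀ a b, ι (a * b) = ι a * ι b) (cE : ∀ a, E * ι a = ι a * E)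
    (cF : ∀ a, F * ι a = ι a * F) (oE : ι 1 * E = E) (oF : ι 1 * F = F) (inj : ∀ a, ι a * E = 0 → a = 0) :
    ∃ φ : SL(2, K) →* Rˣ, Function.Injective φ ∧ (∀ a, (φ (upT a)).1 = 1 + ι a * E) ∧ ∀ a, (φ (loT a)).1 = 1 + ι a * F := by
  have l1 : ∀ y, E * (E * y) = 0 := fun y => by rw [← mul_assoc, hE, zero_mul]
  have l2 : ∀ y, F * (F * y) = 0 := fun y => by rw [← mul_assoc, hF, zero_mul]
  have l3 : ∀ y, E * (F * (E * y)) = E * y := fun y => by rw [← mul_assoc F, ← mul_assoc, h1]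
  have l4 : ∀ y, F * (E * (F * y)) = F * y := fun y => by rw [← mul_assoc E, ← mul_assoc, h2]
  have l5 : ∀ a y, E * (ι a * y) = ι a * (E * y) := fun a y => by rw [← mul_assoc, cE, mul_assoc]
  have l6 : ∀ a y, F * (ι a * y) = ι a * (F * y) := fun a y => by rw [← mul_assoc, cF, mul_assoc]
  have l7 : ∀ y, ι 1 * (E * y) = E * y := fun y => by rw [← mul_assoc, oE]
  have l8 : ∀ y, ι 1 * (F * y) = F * y := fun y => by rw [← mul_assoc, oF]
  let θ : SL(2, K) →* R :=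
    { toFun := fun g => 1 - (E * F + F * E) + (ι (g.1 0 0) * (E * F) + ι (g.1 0 1) * E + ι (g.1 1 0) * F + ι (g.1 1 1) * (F * E))
      map_one' := by simp [l7, l8]
      map_mul' := fun g h => by
        simp only [sl2_mul_apply, map_add, hm, mul_add, add_mul, mul_sub, sub_mul, mul_one, one_mul, mul_assoc, l1, l2, l3,
          l4, l5, l6, hE, hF, h1, h2, mul_zero]
        abel }
  refine ⟨θ.toHomUnits, (injective_iff_map_eq_one _).2 fun g hg => ?_, fun a => ?_, fun a => ?_⟩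
  · have h3 : θ g = 1 := congrArg Units.val hg
    have key : ∀ (x y : R) (a b : K), x * θ g * y = ι a * E → x * y = ι b * E → a = b := fun x y a b e1 e2 =>
      sub_eq_zero.1 (inj _ (by rw [map_sub, sub_mul, ← e1, ← e2, h3, mul_one, sub_self]))
    apply sl2_ext
    · exact key (E * F) E _ 1 
        (by simp [θ, mul_add, add_mul, mul_sub, sub_mul, mul_assoc, l1, l2, l3, l4, l5, l6, hE, hF, h1, h2])
        (by simp [mul_assoc, oE, h1, hE, l2, l3])
    · exact key (E * F) (F * E) _ 0 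
        (by simp [θ, mul_add, add_mul, mul_sub, sub_mul, mul_assoc, l1, l2, l3, l4, l5, l6, hE, hF, h1, h2])
        (by simp [mul_assoc, oE, h1, hE, l2, l3])
    · exact key E E _ 0 
        (by simp [θ, mul_add, add_mul, mul_sub, sub_mul, mul_assoc, l1, l2, l3, l4, l5, l6, hE, hF, h1, h2])
        (by simp [mul_assoc, oE, h1, hE, l2, l3])
    · exact key E (F * E) _ 1 
        (by simp [θ, mul_add, add_mul, mul_sub, sub_mul, mul_assoc, l1, l2, l3, l4, l5, l6, hE, hF, h1, h2])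
        (by simp [mul_assoc, oE, h1, hE, l2, l3])
  · simp [θ, coe_upT, l7, l8]; abel
  · simp [θ, coe_loT, l7, l8]; abel

variable {k M : Type*} [Field k] [AddCommGroup M] [Module k M] {G A B : Subgroup (GLm k M)}
  {s s' s'' t t' q u v w x y : End k M} {g a b : GLm k M} {m : M}

theorem NP.psl2 (h : NP s t) (hs : QS G s) (ht : QS G t) (s0 : s ≠ 0) :
    ∃ A₀ B₀ : Subgroup (GLm k M), A₀ ≤ RG G s ∧ B₀ ≤ RG G t ∧ ex s hs.1 ∈ A₀ ∧ IsPSL2PairOver k A₀ B₀ := by
  obtain ⟨φ, h1, h2, h3⟩ := sl2_hom (algebraMap k (End k M)).toAddMonoidHom hs.1 ht.1 h.1 h.2 (algebraMap k (End k M)).map_mul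
    (fun a => (Algebra.commutes a s).symm) (fun a => (Algebra.commutes a t).symm) (by simp) (by simp)
    (fun a ha => (smul_eq_zero.1 ((Algebra.smul_def a s).trans ha)).resolve_right s0)
  refine ⟨(upperUnipotentSL2 k).map φ, _, ?_, ?_, ⟨upT 1, mem_upper.2 ⟨1, rfl⟩, Units.ext (by simp [h2, ex])⟩,
    psl2_of_hom φ rfl rfl fun h4 => ?_⟩
  · rintro _ ⟨g, hg, rfl⟩
    obtain ⟨c, rfl⟩ := mem_upper.1 hg
    rw [mem_RG, h2, add_sub_cancel_left]
    exact Algebra.smul_def c s ▸ Submodule.smul_mem _ c hs.mem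
  · rintro _ ⟨g, hg, rfl⟩
    obtain ⟨c, rfl⟩ := mem_lower.1 hg
    rw [mem_RG, h3, add_sub_cancel_left]
    exact Algebra.smul_def c t ▸ Submodule.smul_mem _ c ht.mem
  · exact sl2_special.1.not_norm' (((map_le_map_iff_of_injective h1).1 h4).trans (le_norm _))

theorem enat_card (hk2 : ringChar k ≠ 2) (hk3 : Nat.card k ≠ 3) : 3 < ENat.card k := by
  obtain ⟨c, c0, c1, c2⟩ := exists_sq_ne hk2 hk3
  have h2 : (1 : k) ≠ -1 := fun e => Ring.two_ne_zero hk2 (by linear_combination e)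
  have : ({0, 1, -1, c} : Set k).encard = 4 := by
    rw [Set.encard_insert_of_notMem (by simp [c0.symm]), Set.encard_insert_of_notMem (by simp [h2, c1.symm]),
      Set.encard_pair c2.symm]; rfl
  exact lt_of_lt_of_le (by rw [this]; decide) (Set.encard_le_card (s := {0, 1, -1, c}))

section
variable (h : NP s t) (hs : s * s = 0) (ht : t * t = 0)
include h hs ht

theorem NP.idem : (s * t + t * s) * (s * t + t * s) = s * t + t * s := by
  simp [mul_add, add_mul, mul_assoc, hs, ht, mul_mul_zero hs, mul_mul_zero ht, h.l, h.symm.l]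

theorem NP.e_left (hy : y ∈ ES G s) : (s * t + t * s) * y = y := LinearMap.ext fun m => by
  obtain ⟨v, hv⟩ := hy.2.2.1 ⟨m, rfl⟩
  rw [End.mul_apply, ← hv, ← End.mul_apply, z_mul hs, h.1]

theorem NP.e_right (hy : y ∈ ES G s) : y * (s * t + t * s) = y := by
  rw [← sub_eq_zero, ← mul_sub_one]
  exact ES_left hy (by simp [mul_sub, mul_add, mul_mul_zero hs, h.1])

end

theorem NP.inv_mem (h : NP s t) (hs : QS G s) (ht : QS G t) :
    ∃ i ∈ RG G s ⊔ RG G t, i.1 = 1 - (2 : k) • (s * t + t * s) := by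
  have h1 : ex s hs.1 * (ex t ht.1)⁻¹ * ex s hs.1 ∈ RG G s ⊔ RG G t :=
    mul_mem (mul_mem (mem_sup_left (ex_mem hs.mem)) (mem_sup_right (Subgroup.inv_mem _ (ex_mem ht.mem))))
      (mem_sup_left (ex_mem hs.mem))
  refine ⟨_, mul_mem h1 h1, ?_⟩
  change (1 + s) * (1 - t) * (1 + s) * ((1 + s) * (1 - t) * (1 + s)) = _
  have e : (1 + s) * (1 - t) * (1 + s) = 1 - (s * t + t * s) + s - t := by
    simp only [mul_add, add_mul, mul_sub, sub_mul, mul_assoc, hs.1, h.1, mul_one, one_mul]; abel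
  rw [e, two_smul]
  simp only [mul_add, add_mul, mul_sub, sub_mul, mul_assoc, hs.1, ht.1, mul_mul_zero hs.1, mul_mul_zero ht.1, h.l, h.symm.l,
    h.1, h.2, mul_one, one_mul, mul_zero, zero_mul]
  abel

theorem NP.absorb (h : NP s t) (hs : QS G s) (ht : QS G t) (hg : g ∈ RG G s ⊔ RG G t) :
    (s * t + t * s) * (g.1 - 1) = g.1 - 1 ∧ (g.1 - 1) * (s * t + t * s) = g.1 - 1 := by
  let T : Subgroup (GLm k M) :=
    { carrier := {g | (s * t + t * s) * (g.1 - 1) = g.1 - 1 ∧ (g.1 - 1) * (s * t + t * s) = g.1 - 1}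
      one_mem' := by simp
      mul_mem' := fun {a b} ha hb => by
        have e : (a * b).1 - 1 = (a.1 - 1) * (b.1 - 1) + (a.1 - 1) + (b.1 - 1) := by rw [Units.val_mul]; noncomm_ring
        constructor
        · rw [e, mul_add, mul_add, ← mul_assoc, ha.1, hb.1]
        · rw [e, add_mul, add_mul, mul_assoc, ha.2, hb.2]
      inv_mem' := fun {a} ha => by
        constructor
        · rw [show a⁻¹.1 - 1 = -((a.1 - 1) * a⁻¹.1) by simp [sub_mul], mul_neg, ← mul_assoc, ha.1]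
        · rw [show a⁻¹.1 - 1 = -(a⁻¹.1 * (a.1 - 1)) by simp [mul_sub], neg_mul, mul_assoc, ha.2] }
  exact (sup_le (fun a ha => ⟨h.e_left hs.1 ht.1 ha, h.e_right hs.1 ht.1 ha⟩) (fun a ha =>
    ⟨add_comm (s * t) _ ▸ h.symm.e_left ht.1 hs.1 ha, add_comm (s * t) _ ▸ h.symm.e_right ht.1 hs.1 ha⟩) :
    RG G s ⊔ RG G t ≤ T) hg

theorem NP.fixed (h : NP s t) (hs : QS G s) (ht : QS G t) :
    fixedSubmodule (RG G s ⊔ RG G t) = LinearMap.ker (s * t + t * s) := by
  refine le_antisymm (fun m hm => ?_) (le_iInf₂ fun g hg => (h.absorb hs ht hg).2 ▸ ker_le_mul _ _)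
  have h1 : s m = 0 := (fixed_RG hs).le ((biInf_mono fun _ => mem_sup_left : fixedSubmodule _ ≤ fixedSubmodule _) hm)
  have h2 : t m = 0 := (fixed_RG ht).le ((biInf_mono fun _ => mem_sup_right : fixedSubmodule _ ≤ fixedSubmodule _) hm)
  simp [h1, h2]

theorem NP.comm (h : NP s t) (hs : QS G s) (ht : QS G t) :
    commutatorSubmodule (RG G s ⊔ RG G t) = LinearMap.range (s * t + t * s) := by
  refine le_antisymm (iSup₂_le fun g hg => (h.absorb hs ht hg).1 ▸ range_mul_le _ _)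
    ((LinearMap.range_add_le _ _).trans (sup_le ((range_mul_le _ _).trans ?_) ((range_mul_le _ _).trans ?_)))
  · exact (comm_RG hs).ge.trans (biSup_mono fun _ => mem_sup_left)
  · exact (comm_RG ht).ge.trans (biSup_mono fun _ => mem_sup_right)

/-- irreducible together with the centralizer -/
def WI (G : Subgroup (GLm k M)) : Prop := IsIrreducibleFor (G ⊔ C[G])

theorem wi_of (h : IsIrreducibleFor G) : WI G := ⟨h.1, fun W hW => h.2 W fun g hg => hW g (mem_sup_left hg)⟩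

theorem WI.eq_bot (h : WI G) (hA : A ≤ G) (hn : G ≤ N[A]) (hu : IsUnipotentOn A) : A = ⊥ :=
  eq_bot_of_irr h hu (sup_le hn (norm_of_cent (cent_anti hA)))

theorem comm_val (ha : (a.1 - 1) * (a.1 - 1) = 0) (hb : (b.1 - 1) * (b.1 - 1) = 0) (h : Nl (a.1 - 1) (b.1 - 1)) :
    ⁅a, b⁆.1 - 1 = (a.1 - 1) * (b.1 - 1) - (b.1 - 1) * (a.1 - 1) := by
  rw [commutatorElement_def, Units.val_mul, Units.val_mul, Units.val_mul, eq_add_of_sub_eq (inv_sub ha),
    eq_add_of_sub_eq (inv_sub hb)]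
  obtain ⟨h1, h2⟩ := h
  generalize ea : a.1 - 1 = s at *
  generalize eb : b.1 - 1 = t at *
  have h3 : ∀ y, s * (t * (s * y)) = 0 := fun y => by rw [← mul_assoc t, ← mul_assoc, h1, zero_mul]
  rw [eq_add_of_sub_eq ea, eq_add_of_sub_eq eb]
  simp only [mul_add, add_mul, mul_neg, neg_mul, mul_assoc, ha, hb, mul_mul_zero ha, mul_mul_zero hb, h1, h2, h3, mul_one,
    one_mul, mul_zero, zero_mul]
  abel

variable [FiniteDimensional k M] (hk2 : ringChar k ≠ 2) (hk3 : Nat.card k ≠ 3)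

theorem rk_add (s t : End k M) : rk (s + t) ≤ rk s + rk t := by
  have := rk_sub s (-t)
  rwa [sub_neg_eq_add, show rk (-t) = rk t from congrArg (fun W : Submodule k M => finrank k W) (LinearMap.range_neg t)] at this

theorem fr_conj (hg : g ∈ G) : finrank k (ES G (g.1 * s * g⁻¹.1)) = finrank k (ES G s) := by
  have key : ∀ {g s}, g ∈ G → finrank k (ES G s) ≤ finrank k (ES G (g.1 * s * g⁻¹.1)) := fun {g s} hg =>
    LinearMap.finrank_le_finrank_of_injective (f := ((LinearMap.mulRight k g⁻¹.1).comp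
      (LinearMap.mulLeft k g.1)).restrict fun y hy => conj_ES hg hy) fun a b e => by
        have : g.1 * a.1 * g⁻¹.1 = g.1 * b.1 * g⁻¹.1 := congrArg Subtype.val e
        exact Subtype.ext (by simpa using this)
  have := key (s := g.1 * s * g⁻¹.1) (inv_mem hg)
  rw [show g⁻¹.1 * (g.1 * s * g⁻¹.1) * g⁻¹⁻¹.1 = s by simp [mul_assoc]] at this
  exact le_antisymm this (key hg)

section
variable (h : Nl s t) (hs : Mn G s) (ht : Mn G t) (h0 : s * t - t * s ≠ 0)
include hk2 h hs ht h0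

theorem Nl.mn : Mn G (s * t - t * s) :=
  ht.of_le (ht.qs.br (Ring.two_ne_zero hk2) hs.qs h.2).1 h0 ((rk_sub _ _).trans (rk_br h.1))

theorem Nl.facts : LinearMap.range (s * t) = LinearMap.range s ⊓ LinearMap.ker t ∧
    LinearMap.range (s * t - t * s) = LinearMap.range (s * t) ⊔ LinearMap.range (t * s) ∧
    LinearMap.range (s * t) ⊓ LinearMap.range (t * s) = ⊥ := by
  have h1 := (h.mn hk2 hs ht h0).rk_eq hs
  have h2 := Submodule.finrank_mono (range_sub_le (s * t) (t * s))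
  have h3 := Submodule.finrank_sup_add_finrank_inf_eq (LinearMap.range (s * t)) (LinearMap.range (t * s))
  have h4 := Submodule.finrank_mono (range_st h.2)
  have h5 := rk_mul s t
  simp only [rk] at h1 h5
  exact ⟨Submodule.eq_of_le_of_finrank_le (range_st h.2) (by omega),
    Submodule.eq_of_le_of_finrank_le (range_sub_le _ _) (by omega), Submodule.finrank_eq_zero.1 (by omega)⟩

theorem Nl.facts' : LinearMap.range (t * s) = LinearMap.range t ⊓ LinearMap.ker s :=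
  (h.symm.facts hk2 ht hs (fun e => h0 (by rw [← neg_sub, e, neg_zero]))).1

theorem Nl.ker_x (hm : (s * t - t * s) m = 0) : s (t m) = 0 ∧ t (s m) = 0 := by
  have e : s (t m) = t (s m) := sub_eq_zero.1 hm
  have : s (t m) = 0 := (h.facts hk2 hs ht h0).2.2.le ⟨⟨m, rfl⟩, ⟨m, e.symm⟩⟩
  exact ⟨this, e ▸ this⟩

theorem Nl.map_ker (hm : (s * t - t * s) m = 0) : s m ∈ LinearMap.range (s * t - t * s) := by
  obtain ⟨f1, f2, -⟩ := h.facts hk2 hs ht h0
  rw [f2, f1]
  exact Submodule.mem_sup_left ⟨⟨m, rfl⟩, (h.ker_x hk2 hs ht h0 hm).2⟩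

include hk3

theorem Nl.br_mem (h1 : s' ∈ ES G s) (h2 : t' ∈ ES G t) : s' * t' - t' * s' ∈ ES G (s * t - t * s) := by
  have h3 := h.congr hk2 hk3 hs ht h1 h2
  obtain ⟨f1, f2, -⟩ := h.facts hk2 hs ht h0
  have f3 := h.facts' hk2 hs ht h0
  refine mem_ES (h.mn hk2 hs ht h0).qs.1 (h2.1.br (Ring.two_ne_zero hk2) h1.1 h3.2).1 (fun m hm => ?_)
    ((range_sub_le _ _).trans (f2 ▸ sup_le_sup ?_ ?_))
  · obtain ⟨e1, e2⟩ := h.ker_x hk2 hs ht h0 hm
    obtain ⟨v, hv⟩ := f3.ge ⟨⟨m, rfl⟩, e1⟩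
    obtain ⟨w, hw⟩ := f1.ge ⟨⟨m, rfl⟩, e2⟩
    have e3 : t' (m - s v) = 0 := h2.2.1 (by rw [LinearMap.mem_ker, map_sub, ← hv]; simp)
    have e4 : s' (m - t w) = 0 := h1.2.1 (by rw [LinearMap.mem_ker, map_sub, ← hw]; simp)
    rw [map_sub, sub_eq_zero] at e3 e4
    have e5 := congrArg (· v) (h.word hk2 hk3 hs ht h1 h2 hs.qs.mem)
    have e6 := congrArg (· w) (h.symm.word hk2 hk3 ht hs h2 h1 ht.qs.mem)
    simp only [End.mul_apply, LinearMap.zero_apply] at e5 e6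
    simp [e3, e5, e4 ▸ e6]
  · rw [f1]
    exact le_inf ((range_mul_le _ _).trans h1.2.2.1) (range_le_ker (h.symm.word hk2 hk3 ht hs ht.qs.mem h1 h2))
  · rw [f3]
    exact le_inf ((range_mul_le _ _).trans h2.2.2.1) (range_le_ker (h.word hk2 hk3 hs ht hs.qs.mem h2 h1))

theorem Nl.br_ne (h1 : s' ∈ ES G s) (s0 : s' ≠ 0) (h2 : t' ∈ ES G t) (t0 : t' ≠ 0) : s' * t' - t' * s' ≠ 0 := fun e => by
  obtain ⟨f1, -, f2⟩ := h.facts hk2 hs ht h0
  rw [f1, h.facts' hk2 hs ht h0] at f2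
  have e1 := sub_eq_zero.1 e
  have e2 : s' * t' = 0 := LinearMap.range_eq_bot.1 (eq_bot_iff.2 (le_trans (le_inf (le_inf
    ((range_mul_le _ _).trans h1.2.2.1) (range_le_ker (h.symm.word hk2 hk3 ht hs ht.qs.mem h1 h2))) (e1 ▸ le_inf
    ((range_mul_le _ _).trans h2.2.2.1) (range_le_ker (h.word hk2 hk3 hs ht hs.qs.mem h2 h1)))) f2.le))
  refine h0 ?_
  rw [ES_right (ht.mem_symm h2 t0) (ES_left (hs.mem_symm h1 s0) e2),
    ES_right (hs.mem_symm h1 s0) (ES_left (ht.mem_symm h2 t0) (e1 ▸ e2)), sub_self]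

/-- the bracket with `s` -/
def brMap : ES G t →ₗ[k] ES G (s * t - t * s) :=
  (LinearMap.mulLeft k s - LinearMap.mulRight k s).restrict fun _ hy => h.br_mem hk2 hk3 hs ht h0 hs.qs.mem hy

theorem brMap_inj : Function.Injective (brMap hk2 hk3 h hs ht h0) := (injective_iff_map_eq_zero _).2 fun y hy =>
  Subtype.ext (by_contra fun y0 => h.br_ne hk2 hk3 hs ht h0 hs.qs.mem hs.ne y.2 y0 (congrArg Subtype.val hy))

theorem Nl.fr_le : finrank k (ES G t) ≤ finrank k (ES G (s * t - t * s)) :=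
  LinearMap.finrank_le_finrank_of_injective (brMap_inj hk2 hk3 h hs ht h0)

theorem Nl.surj_of (hf : finrank k (ES G (s * t - t * s)) ≤ finrank k (ES G t)) (hy : y ∈ ES G (s * t - t * s)) :
    ∃ t' ∈ ES G t, s * t' - t' * s = y := by
  obtain ⟨t', e⟩ := (LinearMap.injective_iff_surjective_of_finrank_eq_finrank
    ((h.fr_le hk2 hk3 hs ht h0).antisymm hf)).1 (brMap_inj hk2 hk3 h hs ht h0) ⟨y, hy⟩
  exact ⟨t', t'.2, congrArg Subtype.val e⟩

end

include hk2 hk3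

theorem exists_opp (hG : WI G) (hs : Mn G s) : ∃ t, Mn G t ∧ Opp s t := by
  by_contra hc
  let S : Set (Subgroup (GLm k M)) := {A | ∃ g ∈ G, A = RG G s :^ g}
  have hS : ∀ A ∈ S, ∀ g ∈ G, A :^ g ∈ S := by
    rintro _ ⟨a, ha, rfl⟩ g hg; exact ⟨g * a, mul_mem hg ha, cj_cj _ _ _⟩
  have hle : ∀ A ∈ S, A ≤ G := by rintro _ ⟨a, ha, rfl⟩; exact cj_le_of_mem ha RG_le
  have h1 := hG.eq_bot (iSup₂_le hle) (le_norm_iff_cj.2 fun a ha => cj_le_iff.2 (iSup₂_le fun A hA =>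
    cj_le_iff.1 (le_iSup₂_of_le (f := fun A _ => A) _ (hS A hA a ha) le_rfl))) (unip_iSup hle (by
      rintro _ ⟨a, ha, rfl⟩ _ ⟨b, hb, rfl⟩
      rw [RG_cj ha, RG_cj hb]
      refine Nl.unip hk2 hk3 ((opp_or_nl hk2 hk3 (hs.conj ha) (hs.conj hb)).resolve_left fun ho => hc
        ⟨_, hs.conj (mul_mem (inv_mem ha) hb), ?_⟩) (hs.conj ha) (hs.conj hb)
      rw [← opp_iff hk2 hk3 (hs.conj ha) (hs.conj hb), ← RG_cj ha, ← RG_cj hb] at ho
      rw [← opp_iff hk2 hk3 hs (hs.conj (mul_mem (inv_mem ha) hb)), ← RG_cj (mul_mem (inv_mem ha) hb)]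
      simpa only [cj_cj, inv_mul_cancel, cj_one] using ho.cj a⁻¹) hS)
  exact hs.RG_ne (eq_bot_of_le h1 (le_iSup₂_of_le (f := fun A _ => A) _ ⟨1, one_mem _, (cj_one _).symm⟩ le_rfl))

theorem exists_np (hG : WI G) (hs : Mn G s) : ∃ t, Mn G t ∧ NP s t := by
  obtain ⟨t, ht, h⟩ := exists_opp hk2 hk3 hG hs
  obtain ⟨t', h1, h2, h3⟩ := h.symm.np hk2 hk3 ht hs
  exact ⟨t', ht.of_mem h1 h2, h3.symm⟩

theorem NP.grade (h : NP x u) (hx : Mn G x) (hu : Mn G u) (hs : Mn G s) (h1 : x * s = 0) (h2 : s * x = 0)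
    (h3 : ∀ m, x m = 0 → s m ∈ LinearMap.range x) :
    ∃ y ∈ ES G x, QS G (s - y) ∧ (s - y ≠ 0 → Mn G (s - y) ∧ finrank k (ES G x) ≤ finrank k (ES G (s - y))) := by
  have z1 := hx.qs.1
  have z2 := hu.qs.1
  have z3 := hs.qs.1
  have k2 : (2 : k) ≠ 0 := Ring.two_ne_zero hk2
  have h4 : (1 - x * u) * (s * (1 - u * x)) = 0 := LinearMap.ext fun m => by
    obtain ⟨v, hv⟩ := h3 ((1 - u * x) m) (by rw [← End.mul_apply, mul_sub, h.1]; simp)
    rw [End.mul_apply, End.mul_apply, ← hv, ← End.mul_apply, sub_mul, mul_assoc, h.1]; simp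
  have h5 : x * (u * s) = s + x * (u * (s * (u * x))) - s * (u * x) := by
    rw [← sub_eq_zero, ← neg_eq_zero, ← h4]; noncomm_ring
  have h5' : ∀ y, x * (u * (s * (x * y))) = 0 := fun y => by simp [mul_mul_zero h2]
  obtain ⟨i, hi, e⟩ := h.inv_mem hx.qs hu.qs
  have e' : i⁻¹.1 = i.1 := Units.inv_eq_of_mul_eq_one_right (by
    rw [e]; simp only [mul_sub, sub_mul, mul_one, one_mul, smul_mul_assoc, mul_smul_comm, h.idem z1 z2]; module)
  have h6 := hs.qs.conj (sup_le RG_le RG_le hi)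
  have e1 : i.1 * s * i⁻¹.1 = (2 : k) • (x * (u * (s * (u * x)))) - s := by
    have f1 : i.1 * s = s - (2 : k) • (x * (u * s)) := by
      rw [e]; simp only [sub_mul, add_mul, one_mul, smul_mul_assoc, mul_assoc, h1, mul_zero, add_zero]
    have f2 : x * (u * s) * (x * u + u * x) = x * (u * (s * (u * x))) := by
      simp only [mul_add, mul_assoc, h5', zero_add]
    have f3 : s * (x * u + u * x) = s * (u * x) := by simp only [mul_add, mul_mul_zero h2, zero_add]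
    rw [e', f1, e, mul_sub, mul_one, mul_smul_comm, sub_mul, smul_mul_assoc, f2, f3, h5]
    module
  rw [e1] at h6
  have h7 : QS G (x * (u * (s * (u * x)))) := QS.of_smul (by
    simpa using h6.add hs.qs (by simp [sub_mul, mul_assoc, h1, z3]) (by simp [mul_sub, mul_mul_zero h2, z3])) k2
  have h8 := hs.qs.sub h7 (mul_mul_zero h2 _) (by simp [mul_assoc, h1])
  refine ⟨_, mem_ES z1 h7 (by simpa only [← mul_assoc] using ker_le_mul _ _) (range_mul_le _ _), h8, fun h0 => ?_⟩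
  obtain ⟨y, hy⟩ : ∃ y, y = s - x * (u * (s * (u * x))) := ⟨_, rfl⟩
  rw [← hy] at h0 h8 ⊢
  have e2 : y = (1 - (x * u + u * x)) * s + s * (1 - (x * u + u * x)) := by
    simp only [hy, mul_sub, sub_mul, mul_add, add_mul, mul_one, one_mul, mul_assoc, h1, mul_mul_zero h2, mul_zero, h5]
    abel
  have h9 : Mn G y := hs.of_le h8 h0 (le_trans (e2 ▸ rk_add _ _) (rk_br (by
      rw [← h4]
      simp only [mul_sub, sub_mul, mul_add, add_mul, mul_one, one_mul, mul_assoc, h1, mul_mul_zero h1, mul_mul_zero h2,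
        mul_zero]
      abel)))
  have y1 : x * y = 0 := by simp [hy, mul_sub, h1, mul_mul_zero z1]
  have y2 : y * x = 0 := by simp [hy, sub_mul, mul_assoc, h2, z1]
  have y3 : u * (y * u) = 0 := by simp [hy, sub_mul, mul_sub, mul_assoc, h.2, h.symm.l]
  have y4 : x * (u * y - y * u) - (u * y - y * u) * x = y := by
    simp only [mul_sub, sub_mul, mul_assoc, mul_mul_zero y1, y2, mul_zero, sub_zero, zero_sub, sub_neg_eq_add]
    simp only [hy, mul_sub, sub_mul, mul_assoc, h5, h.l, h.symm.l]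
    abel
  have n1 := nl_of hk2 hk3 hu h9 y3
  have y0 : u * y - y * u ≠ 0 := fun e => h0 (by rw [← y4, e]; simp)
  have m1 := n1.mn hk2 hu h9 y0
  have n2 : Nl (u * y - y * u) x := (nl_of hk2 hk3 hx m1 (by simp [sub_mul, mul_sub, mul_assoc, y2, mul_mul_zero y1])).symm
  have := n2.fr_le hk2 hk3 m1 hx (by rw [← neg_sub, y4]; exact neg_ne_zero.2 h0)
  rw [← neg_sub, y4, ES_neg] at this
  exact ⟨h9, this⟩

theorem Nl.fr_eq (hG : WI G) (h : Nl s t) (hs : Mn G s) (ht : Mn G t) (h0 : s * t - t * s ≠ 0) :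
    finrank k (ES G (s * t - t * s)) ≤ finrank k (ES G t) := by
  have hx := h.mn hk2 hs ht h0
  obtain ⟨u, hu, hn⟩ := exists_np hk2 hk3 hG hx
  have xs : (s * t - t * s) * s = 0 := by simp [sub_mul, mul_assoc, h.1, hs.qs.1]
  have sx : s * (s * t - t * s) = 0 := by simp [mul_sub, h.1, mul_mul_zero hs.qs.1]
  have xt : (s * t - t * s) * t = 0 := by simp [sub_mul, mul_assoc, h.2, ht.qs.1]
  have tx : t * (s * t - t * s) = 0 := by simp [mul_sub, h.2, mul_mul_zero ht.qs.1]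
  have h0' : t * s - s * t ≠ 0 := fun e => h0 (by rw [← neg_sub, e, neg_zero])
  obtain ⟨a, a1, -, a2⟩ := hn.grade hk2 hk3 hx hu hs xs sx fun m hm => h.map_ker hk2 hs ht h0 hm
  obtain ⟨b, b1, -, b2⟩ := hn.grade hk2 hk3 hx hu ht xt tx fun m hm => by
    have := h.symm.map_ker hk2 ht hs h0' (m := m) (by rw [← neg_sub, LinearMap.neg_apply, hm, neg_zero])
    rwa [← neg_sub, LinearMap.range_neg] at this
  have c1 := ES_left a1 xs; have c2 := ES_left a1 xt; have c3 := ES_left b1 xs; have c4 := ES_left b1 xt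
  have d1 := ES_right a1 sx; have d2 := ES_right a1 tx; have d3 := ES_right b1 sx; have d4 := ES_right b1 tx
  have e1 : (s - a) * (t - b) = s * t := by simp [mul_sub, sub_mul, c2, d3, ES_mul a1 b1]
  have e2 : (t - b) * (s - a) = t * s := by simp [mul_sub, sub_mul, c3, d2, ES_mul b1 a1]
  obtain ⟨a3, a4⟩ := a2 fun e => h0 (by rw [← e1, ← e2, e]; simp)
  obtain ⟨b3, b4⟩ := b2 fun e => h0 (by rw [← e1, ← e2, e]; simp)
  have n1 : Nl (t - b) (s - a) := nl_of hk2 hk3 b3 a3 (by rw [e1, sub_mul, h.2, mul_mul_zero c3, sub_zero])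
  have e3 : (t - b) * (s - a) - (s - a) * (t - b) = -(s * t - t * s) := by rw [e1, e2, neg_sub]
  obtain ⟨c, c5, c6⟩ := n1.surj_of hk2 hk3 b3 a3 (e3 ▸ neg_ne_zero.2 h0) (y := -b) (by rwa [e3, ES_neg])
    (by rw [e3, ES_neg]; exact neg_mem b1)
  have e4 : (ex c c5.1.1).1 * (t - b) * (ex c c5.1.1)⁻¹.1 = t := by
    change (1 + c) * (t - b) * (1 - c) = t
    have := n1.symm.word hk2 hk3 a3 b3 c5 b3.qs.mem c5
    generalize ht' : t - b = t' at *
    rw [← sub_add_cancel t b, ht', ← neg_neg b, ← c6, add_mul, one_mul, mul_sub, mul_one, add_mul, mul_assoc, this]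
    abel
  rw [← e4, fr_conj (RG_le (ex_mem c5))]
  rwa [e4]

theorem Nl.surj (hG : WI G) (h : Nl s t) (hs : Mn G s) (ht : Mn G t) (h0 : s * t - t * s ≠ 0) (h1 : s' ∈ ES G s)
    (s0 : s' ≠ 0) (hy : y ∈ ES G (s * t - t * s)) : ∃ t' ∈ ES G t, s' * t' - t' * s' = y := by
  have h2 := h.congr hk2 hk3 hs ht h1 ht.qs.mem
  have h3 := h.br_ne hk2 hk3 hs ht h0 h1 s0 ht.qs.mem ht.ne
  refine h2.surj_of hk2 hk3 (hs.of_mem h1 s0) ht h3 (h2.fr_eq hk2 hk3 hG (hs.of_mem h1 s0) ht h3) ?_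
  rwa [(h.mn hk2 hs ht h0).ES_eq (h.br_mem hk2 hk3 hs ht h0 h1 ht.qs.mem) h3]

end H16.H11
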