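import Cfsg.Agent.H11.R2c
import Cfsg.Agent.H11.R1c

/-! Abstract root subgroups: passing to the generated subgroup. -/

set_option autoImplicit false
set_option linter.unusedSectionVars false

open Subgroup Cfsg H16 Cfsg.IsRankOnePair H16.H11 Relation
open scoped commutatorElement MatrixGroups

namespace H16.H11

variable {G L : Type*} [Group G] [Group L] {f : L →* G} {S : Set (Subgroup G)} {H A B : Subgroup G} {P Q : Subgroup L}

theorem cj_map (f : L →* G) (P : Subgroup L) (g : L) : (P :^ g).map f = P.map f :^ f g := by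
  rw [Subgroup.map_map, Subgroup.map_map]; congr 1; ext; simp

theorem rank_map (hf : Function.Injective f) : IsRankOnePair (P.map f) (Q.map f) ↔ IsRankOnePair P Q := by
  refine ⟨fun h => ?_, fun h => h.map f fun e => h.ne (map_injective hf e)⟩
  have key : ∀ {P Q : Subgroup L}, IsRankOnePair (P.map f) (Q.map f) → ∀ a ∈ P, a ≠ 1 → ∃ b ∈ Q, b ≠ 1 ∧ P :^ b = Q :^ a := by
    intro P Q h a ha a1
    obtain ⟨_, ⟨b, hb, rfl⟩, b1, e⟩ := h.ex (mem_map_of_mem f ha) fun e => a1 (hf (e.trans f.map_one.symm))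
    exact ⟨b, hb, by rintro rfl; simp at b1, map_injective hf (by rwa [cj_map, cj_map])⟩
  refine of_ex (fun e => h.ne (e ▸ rfl)) ((Group.isNilpotent_congr (P.equivMapOfInjective f hf)).2 h.nilpotent_left)
    ((Group.isNilpotent_congr (Q.equivMapOfInjective f hf)).2 h.nilpotent_right) (key h) fun b hb b1 => ?_
  obtain ⟨a, ha, a1, e⟩ := key h.symm' b hb b1
  exact ⟨a, ha, a1, e.symm⟩

theorem cent_map (hf : Function.Injective f) : P.map f ≤ C[Q.map f] ↔ P ≤ C[Q] := by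
  rw [← comm_eq_bot, ← comm_eq_bot, ← map_commutator, map_eq_bot_iff_of_injective _ hf]

theorem cc_map {T : Set (Subgroup L)} (hf : Function.Injective f) (hT : ∀ P, P ∈ T ↔ P.map f ∈ S) :
    CC S (P.map f) (Q.map f) ↔ CC T P Q := by
  have ne : ∀ {a}, f a ≠ 1 ↔ a ≠ 1 := not_congr (map_eq_one_iff f hf)
  constructor
  · rintro ⟨h1, h2, h3, h4, h5⟩
    rw [← map_commutator] at h1 h2 h3 h4 h5
    refine ⟨(hT _).2 h1, (cent_map hf).1 h2, (cent_map hf).1 h3, fun a ha a1 c hc => ?_, fun b hb b1 c hc => ?_⟩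
    · obtain ⟨_, ⟨b, hb, rfl⟩, e⟩ := h4 _ (mem_map_of_mem f ha) (ne.2 a1) _ (mem_map_of_mem f hc)
      exact ⟨b, hb, hf (by rwa [map_commutatorElement])⟩
    · obtain ⟨_, ⟨a, ha, rfl⟩, e⟩ := h5 _ (mem_map_of_mem f hb) (ne.2 b1) _ (mem_map_of_mem f hc)
      exact ⟨a, ha, hf (by rwa [map_commutatorElement])⟩
  · rintro ⟨h1, h2, h3, h4, h5⟩
    refine ⟨map_commutator P Q f ▸ (hT _).1 h1, map_commutator P Q f ▸ (cent_map hf).2 h2,
      map_commutator P Q f ▸ (cent_map hf).2 h3, ?_, ?_⟩ <;> rw [← map_commutator]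
    · rintro _ ⟨a, ha, rfl⟩ a1 _ ⟨c, hc, rfl⟩
      obtain ⟨b, hb, rfl⟩ := h4 a ha (ne.1 a1) c hc
      exact ⟨_, mem_map_of_mem f hb, (map_commutatorElement f a b).symm⟩
    · rintro _ ⟨b, hb, rfl⟩ b1 _ ⟨c, hc, rfl⟩
      obtain ⟨a, ha, rfl⟩ := h5 b hb (ne.1 b1) c hc
      exact ⟨_, mem_map_of_mem f ha, (map_commutatorElement f a b).symm⟩

theorem psl2_map {K : Type*} [Field K] (hf : Function.Injective f) (h : IsPSL2PairOver K (P.map f) (Q.map f)) :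
    IsPSL2PairOver K P Q := by
  obtain ⟨φ, h1, h2, h3, h4⟩ := h
  have h5 : ∀ g, φ g ∈ f.range := fun g => (sup_le (map_le_range _ _) (map_le_range _ _) : P.map f ⊔ Q.map f ≤ _)
    (h1 ▸ ⟨g, rfl⟩)
  let ψ := (f.ofInjective hf).symm.toMonoidHom.comp (φ.codRestrict _ h5)
  have e : f.comp ψ = φ := MonoidHom.ext fun g => MonoidHom.apply_ofInjective_symm hf _
  refine ⟨ψ, map_injective hf ?_, fun g hg => h2 ?_, map_injective hf ?_, map_injective hf ?_⟩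
  · rw [← MonoidHom.range_comp, e, h1, Subgroup.map_sup]
  · rw [← e]; exact MonoidHom.mem_ker.2 ((congrArg f hg).trans f.map_one)
  · rw [Subgroup.map_map, e, h3]
  · rw [Subgroup.map_map, e, h4]

/-- the members of `S` inside `H` -/
abbrev sub (S : Set (Subgroup G)) (H : Subgroup G) : Set (Subgroup H) := (fun A : Subgroup G => A.subgroupOf H) '' S

theorem mem_sub (hS : ∀ A ∈ S, A ≤ H) (P : Subgroup H) : P ∈ sub S H ↔ P.map H.subtype ∈ S :=
  ⟨by rintro ⟨A, hA, rfl⟩; rwa [map_subgroupOf_eq_of_le (hS A hA)],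
    fun h => ⟨_, h, comap_map_eq_self_of_injective H.subtype_injective P⟩⟩

theorem le_gen' (hA : A ∈ S) : A ≤ ⨆ B ∈ S, B := le_iSup₂_of_le (f := fun A _ => A) A hA le_rfl

theorem root_sub (h1 : ∀ A ∈ S, IsMulCommutative A) (h2 : ∀ A ∈ S, A ≠ ⊥) (h3 : ∀ A ∈ S, ∀ g ∈ ⨆ B ∈ S, B, A :^ g ∈ S)
    (h4 : ∀ A ∈ S, ∀ B ∈ S, A ≤ C[B] ∨ IsRankOnePair A B ∨ CC S A B) : IsRootSubgroupSet (sub S (⨆ B ∈ S, B)) := by
  have hS := mem_sub (S := S) fun _ => le_gen'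
  have hf := (⨆ B ∈ S, B).subtype_injective
  refine ⟨fun P hP => comm_iff.2 ((cent_map hf).1 (comm_iff.1 (h1 _ ((hS P).1 hP)))), fun P hP e => h2 _ ((hS P).1 hP)
    (by rw [e, Subgroup.map_bot]), map_injective hf ?_, fun P hP g => (hS _).2 (by rw [cj_map]; exact h3 _ ((hS P).1 hP) _ g.2),
    fun P hP Q hQ => ?_⟩
  · rw [← MonoidHom.range_eq_map, range_subtype]
    refine le_antisymm (map_subtype_le _) (iSup₂_le fun A hA => ?_)
    rw [← map_subgroupOf_eq_of_le (le_gen' hA)]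
    exact map_mono (le_gen' ⟨A, hA, rfl⟩)
  · rw [comm_eq_bot, cc_iff, ← cent_map hf, ← rank_map hf, ← cc_map hf hS]
    exact h4 _ ((hS P).1 hP) _ ((hS Q).1 hQ)

theorem class_sub (hS : ∀ A ∈ S, A ≤ H) (h0 : S.Nonempty) (h : ∀ A ∈ S, ∀ B ∈ S, ∃ g ∈ H, B = A :^ g) :
    IsConjClassOfSubgroups (sub S H) := by
  refine ⟨h0.image _, fun P hP Q hQ => ?_⟩
  obtain ⟨g, hg, e⟩ := h _ ((mem_sub hS P).1 hP) _ ((mem_sub hS Q).1 hQ)
  exact ⟨⟨g, hg⟩, map_injective H.subtype_injective (e.trans (cj_map H.subtype P ⟨g, hg⟩).symm)⟩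

theorem deg_sub (hS : ∀ A ∈ S, A ≤ H) (h : ∀ A ∈ S, ∀ B ∈ S, ¬ CC S A B) : IsDegenerateRootSet (sub S H) :=
  fun P hP Q hQ hc => h _ ((mem_sub hS P).1 hP) _ ((mem_sub hS Q).1 hQ)
    ((cc_map H.subtype_injective (mem_sub hS)).2 (cc_iff.1 hc))

theorem kroot_sub {K : Type*} [Field K] (hS : ∀ A ∈ S, A ≤ H)
    (h : ∀ A ∈ S, ∀ B ∈ S, IsRankOnePair A B → IsPSL2PairOver K A B) :
    ∀ P ∈ sub S H, ∀ Q ∈ sub S H, IsRankOnePair P Q → IsPSL2PairOver K P Q := fun P hP Q hQ hc =>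
  psl2_map H.subtype_injective (h _ ((mem_sub hS P).1 hP) _ ((mem_sub hS Q).1 hQ) ((rank_map H.subtype_injective).2 hc))

theorem fadj_sub (hS : ∀ A ∈ S, A ≤ H) {P Q : Subgroup H} :
    FAdj (sub S H) P Q ↔ FAdj S (P.map H.subtype) (Q.map H.subtype) := by
  rw [FAdj, FAdj, mem_sub hS, mem_sub hS, rank_map H.subtype_injective]

theorem rtg_sub (hS : ∀ A ∈ S, A ≤ H) (h : ReflTransGen (FAdj S) A B) :
    ReflTransGen (FAdj (sub S H)) (A.subgroupOf H) (B.subgroupOf H) :=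
  rtg_lift' (fun A : Subgroup G => A.subgroupOf H) (fun A B h => .single ((fadj_sub hS).2 (by
    rwa [map_subgroupOf_eq_of_le (hS A h.1), map_subgroupOf_eq_of_le (hS B h.2.1)]))) h

theorem rtg_of_sub (hS : ∀ A ∈ S, A ≤ H) {P Q : Subgroup H} (h : ReflTransGen (FAdj (sub S H)) P Q) :
    ReflTransGen (FAdj S) (P.map H.subtype) (Q.map H.subtype) :=
  rtg_lift' (fun P : Subgroup H => P.map H.subtype) (fun _ _ h => .single ((fadj_sub hS).1 h)) h

theorem conn_sub (hS : ∀ A ∈ S, A ≤ H) (h : IsConnectedFamily (FAdj S) S) :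
    IsConnectedFamily (FAdj (sub S H)) (sub S H) := by
  rintro _ ⟨A, hA, rfl⟩ _ ⟨B, hB, rfl⟩
  exact rtg_sub hS (h A hA B hB)

end H16.H11
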