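import Cfsg.Agent.H11.QPc
import Cfsg.Agent.H11.Tr

/-! Quadratic pairs: the root subgroups form a set of abstract root subgroups. -/

set_option autoImplicit false
set_option linter.unusedSectionVars false
set_option linter.unusedSimpArgs false

open Subgroup Cfsg H16 Module Polynomial H4
open scoped commutatorElement MatrixGroups

namespace H16.H11

variable {k M : Type*} [Field k] [AddCommGroup M] [Module k M] {G A B : Subgroup (GLm k M)}
  {s s' s'' t t' q u v w x y : End k M} {g a b c : GLm k M} {m : M}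

theorem cent_of_ann (h1 : s * t = 0) (h2 : t * s = 0) : RG G s ≤ C[RG G t] := le_cent_iff.2 fun _ ha _ hb =>
  commute_iff.2 ((ES_left ha (ES_right hb h1)).trans (ES_left hb (ES_right ha h2)).symm)

theorem br_ne_symm (h0 : s * t - t * s ≠ 0) : t * s - s * t ≠ 0 := fun e => h0 (by rw [← neg_sub, e, neg_zero])

theorem commute_of_cent (hs : QS G s) (ht : QS G t) (h : RG G s ≤ C[RG G t]) : s * t = t * s := by
  simpa only [ex_val] using (commute_iff.1 (commute_of_le h (ex_mem hs.mem) (ex_mem ht.mem))).eq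

theorem Nl.xs (h : Nl s t) (hs : s * s = 0) : (s * t - t * s) * s = 0 := by simp [sub_mul, mul_assoc, h.1, hs]
theorem Nl.sx (h : Nl s t) (hs : s * s = 0) : s * (s * t - t * s) = 0 := by simp [mul_sub, h.1, mul_mul_zero hs]
theorem Nl.xt (h : Nl s t) (ht : t * t = 0) : (s * t - t * s) * t = 0 := by simp [sub_mul, mul_assoc, h.2, ht]
theorem Nl.tx (h : Nl s t) (ht : t * t = 0) : t * (s * t - t * s) = 0 := by simp [mul_sub, h.2, mul_mul_zero ht]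

/-- the elements acting trivially on the series of `x` -/
def UG (x : End k M) : Subgroup (GLm k M) where
  carrier := {g | x * (g.1 - 1) = 0 ∧ (g.1 - 1) * x = 0 ∧ ∀ m, x m = 0 → (g.1 - 1) m ∈ LinearMap.range x}
  one_mem' := ⟨by simp, by simp, fun m _ => ⟨0, by simp⟩⟩
  mul_mem' := fun {a b} ha hb => by
    have e : (a * b).1 - 1 = (a.1 - 1) * (b.1 - 1) + (a.1 - 1) + (b.1 - 1) := by rw [Units.val_mul]; noncomm_ring
    refine ⟨?_, ?_, fun m hm => ?_⟩ <;> rw [e]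
    · rw [mul_add, mul_add, mul_mul_zero ha.1, ha.1, hb.1, add_zero, add_zero]
    · rw [add_mul, add_mul, mul_assoc, ha.2.1, hb.2.1, mul_zero, add_zero, add_zero]
    · obtain ⟨v, hv⟩ := hb.2.2 m hm
      rw [LinearMap.add_apply, LinearMap.add_apply, End.mul_apply, ← hv, ← End.mul_apply, ha.2.1]
      exact add_mem (add_mem (zero_mem _) (ha.2.2 m hm)) ⟨v, rfl⟩
  inv_mem' := fun {a} ha => by
    have e1 : a⁻¹.1 - 1 = -((a.1 - 1) * a⁻¹.1) := by simp [sub_mul]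
    have e2 : a⁻¹.1 - 1 = -(a⁻¹.1 * (a.1 - 1)) := by simp [mul_sub]
    have e3 : (a⁻¹.1 - 1) * x = 0 := by rw [e2, neg_mul, mul_assoc, ha.2.1, mul_zero, neg_zero]
    refine ⟨by rw [e1, mul_neg, mul_mul_zero ha.1, neg_zero], e3, fun m hm => ?_⟩
    obtain ⟨v, hv⟩ := ha.2.2 m hm
    rw [e2, LinearMap.neg_apply, End.mul_apply, ← hv, ← End.mul_apply, show a⁻¹.1 * x = x by
      rwa [sub_mul, one_mul, sub_eq_zero] at e3]
    exact neg_mem ⟨v, rfl⟩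

theorem UG_neg : UG (-x) = UG x := by
  ext g
  change _ ∧ _ ∧ _ ↔ _ ∧ _ ∧ _
  simp only [neg_mul, mul_neg, neg_eq_zero, LinearMap.neg_apply, LinearMap.range_neg]

theorem mem_core (hx : QS G x) (hg : g ∈ G) (h : g ∈ UG x) : g ∈ quadraticUnipotentCore G (RG G x) := by
  refine ⟨hg, cent_le_norm _ (mem_cent.2 fun a ha => commute_iff.2 ((ES_left ha h.1).trans (ES_right ha h.2.1).symm)), ?_⟩
  rw [fixed_RG hx, comm_RG hx]
  refine ⟨fun m => LinearMap.congr_fun h.1 m, h.2.2, ?_⟩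
  rintro _ ⟨m, rfl⟩
  exact sub_eq_zero.1 (congrArg (· m) h.2.1)

variable [FiniteDimensional k M] (hk2 : ringChar k ≠ 2) (hk3 : Nat.card k ≠ 3)
include hk2 hk3

theorem Nl.cent (h : Nl s t) (hs : Mn G s) (ht : Mn G t) (h0 : s * t = t * s) : RG G s ≤ C[RG G t] :=
  le_cent_iff.2 fun a ha b hb => commute_iff.2 (by_contra fun hc => by
    have a0 : a.1 - 1 ≠ 0 := fun e => hc (e ▸ Commute.zero_left _)
    have b0 : b.1 - 1 ≠ 0 := fun e => hc (e ▸ Commute.zero_right _)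
    exact (h.congr hk2 hk3 hs ht ha hb).br_ne hk2 hk3 (hs.of_mem ha a0) (ht.of_mem hb b0) (sub_ne_zero.2 hc)
      (hs.mem_symm ha a0) hs.ne (ht.mem_symm hb b0) ht.ne (sub_eq_zero.2 h0))

theorem tri (hs : Mn G s) (ht : Mn G t) : RG G s ≤ C[RG G t] ∨ Opp s t ∨ (Nl s t ∧ s * t - t * s ≠ 0) := by
  rcases opp_or_nl hk2 hk3 hs ht with h | h
  · exact .inr (.inl h)
  · exact (em (s * t = t * s)).imp (h.cent hk2 hk3 hs ht) fun h0 => .inr ⟨h, sub_ne_zero.2 h0⟩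

section
variable (h : Nl s t) (hs : Mn G s) (ht : Mn G t) (h0 : s * t - t * s ≠ 0)
include h hs ht h0

theorem Nl.le_UG : RG G s ≤ UG (s * t - t * s) := fun a ha => by
  refine ⟨ES_right ha (h.xs hs.qs.1), ES_left ha (h.sx hs.qs.1), fun m hm => ?_⟩
  by_cases a0 : a.1 - 1 = 0
  · rw [a0]; exact zero_mem _
  have h1 := h.br_ne hk2 hk3 hs ht h0 ha a0 ht.qs.mem ht.ne
  have h2 := h.br_mem hk2 hk3 hs ht h0 ha ht.qs.mem
  rw [← (h.mn hk2 hs ht h0).range_mem h2 h1]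
  exact (h.congr hk2 hk3 hs ht ha ht.qs.mem).map_ker hk2 (hs.of_mem ha a0) ht h1 (h2.2.1 hm)

theorem Nl.sup_le_UG : RG G s ⊔ RG G t ≤ UG (s * t - t * s) := sup_le (h.le_UG hk2 hk3 hs ht h0) (by
  rw [← neg_sub, UG_neg]; exact h.symm.le_UG hk2 hk3 ht hs (br_ne_symm h0))

theorem Nl.comm_le : ⁅RG G s, RG G t⁆ ≤ RG G (s * t - t * s) := commutator_le.2 fun a ha b hb => by
  rw [mem_RG, comm_val ha.1.1 hb.1.1 (h.congr hk2 hk3 hs ht ha hb)]
  exact h.br_mem hk2 hk3 hs ht h0 ha hb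

variable (hG : WI G)
include hG

theorem Nl.exr (ha : a ∈ RG G s) (a1 : a ≠ 1) (hc : c ∈ RG G (s * t - t * s)) : ∃ b ∈ RG G t, ⁅a, b⁆ = c := by
  obtain ⟨t', h1, e⟩ := h.surj hk2 hk3 hG hs ht h0 ha (sub_ne a1) hc
  have hb := ex_mem h1
  exact ⟨_, hb, Units.ext (sub_left_inj.1 (by rw [comm_val ha.1.1 hb.1.1 (h.congr hk2 hk3 hs ht ha hb), ex_val, e]))⟩

theorem Nl.comm_eq : ⁅RG G s, RG G t⁆ = RG G (s * t - t * s) := (h.comm_le hk2 hk3 hs ht h0).antisymm fun c hc => by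
  obtain ⟨b, hb, rfl⟩ := h.exr hk2 hk3 hs ht h0 hG (ex_mem hs.qs.mem) (ex_ne _ hs.ne) hc
  exact commutator_mem_commutator (ex_mem hs.qs.mem) hb

theorem Nl.cc : CC (quadraticRootSubgroups G) (RG G s) (RG G t) := by
  have e := h.comm_eq hk2 hk3 hs ht h0 hG
  refine ⟨e ▸ (h.mn hk2 hs ht h0).sigma, e ▸ cent_of_ann (h.xs hs.qs.1) (h.sx hs.qs.1),
    e ▸ cent_of_ann (h.xt ht.qs.1) (h.tx ht.qs.1), fun a ha a1 c hc => h.exr hk2 hk3 hs ht h0 hG ha a1 (e ▸ hc),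
    fun b hb b1 c hc => ?_⟩
  obtain ⟨a, ha, e⟩ := h.symm.exr hk2 hk3 ht hs (br_ne_symm h0) hG hb b1 (c := c⁻¹) (by
    rw [← h.symm.comm_eq hk2 hk3 ht hs (br_ne_symm h0) hG, commutator_comm]; exact inv_mem hc)
  exact ⟨a, ha, by rw [← commutatorElement_inv, e, inv_inv]⟩

theorem Nl.core : ((RG G s ⊔ RG G t : Subgroup (GLm k M)) : Set (GLm k M)) ⊆ quadraticUnipotentCore G ⁅RG G s, RG G t⁆ :=
  fun g hg => by
    rw [h.comm_eq hk2 hk3 hs ht h0 hG]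
    exact mem_core (h.mn hk2 hs ht h0).qs (sup_le RG_le RG_le hg) (h.sup_le_UG hk2 hk3 hs ht h0 hg)

theorem Nl.der : ⁅⁅RG G s ⊔ RG G t, RG G s ⊔ RG G t⁆, RG G s ⊔ RG G t⁆ = ⊥ := by
  have h0 := (h.cc hk2 hk3 hs ht h0 hG).cent
  have hn : RG G s ⊔ RG G t ≤ N[C[RG G s ⊔ RG G t]] := norm_cent (le_norm _)
  have hA' := le_sup_left.trans hn
  have hB' := le_sup_right.trans hn
  refine comm_eq_bot.2 (sup_comm_le (comm_sup_le ?_ h0 hA' hB')
    (comm_sup_le ((commutator_comm _ _).le.trans h0) ?_ hA' hB') hA' hB')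
  · rw [der_eq_bot.2 RG_comm]; exact bot_le
  · rw [der_eq_bot.2 RG_comm]; exact bot_le

end

theorem sigma_pair (hG : WI G) (hA : A ∈ quadraticRootSubgroups G) (hB : B ∈ quadraticRootSubgroups G) :
    A ≤ C[B] ∨ IsRankOnePair A B ∨ CC (quadraticRootSubgroups G) A B := by
  obtain ⟨s, hs, rfl⟩ := mem_sigma.1 hA
  obtain ⟨t, ht, rfl⟩ := mem_sigma.1 hB
  exact (tri hk2 hk3 hs ht).imp_right (Or.imp (·.rank hk2 hk3 hs ht) fun h => h.1.cc hk2 hk3 hs ht h.2 hG)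

theorem sigma_root (hG : WI G) :
    IsRootSubgroupSet (sub (quadraticRootSubgroups G) (⨆ B ∈ quadraticRootSubgroups G, B)) :=
  root_sub (fun A hA => by obtain ⟨s, hs, rfl⟩ := mem_sigma.1 hA; exact RG_comm)
    (fun A hA => by obtain ⟨s, hs, rfl⟩ := mem_sigma.1 hA; exact hs.RG_ne)
    (fun A hA g hg => sigma_cj hA ((iSup₂_le fun _ => sigma_le : _ ≤ G) hg)) fun _ hA _ hB => sigma_pair hk2 hk3 hG hA hB

theorem sigma_ni (hG : WI G) (hA : A ∈ quadraticRootSubgroups G) : NI (quadraticRootSubgroups G) A := by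
  obtain ⟨s, hs, rfl⟩ := mem_sigma.1 hA
  obtain ⟨t, ht, h⟩ := exists_opp hk2 hk3 hG hs
  exact ⟨_, ht.sigma, h.rank hk2 hk3 hs ht⟩

theorem sigma_psl2 (hA : A ∈ quadraticRootSubgroups G) (hB : B ∈ quadraticRootSubgroups G) (h : IsRankOnePair A B) :
    ∃ A₀ B₀ : Subgroup (GLm k M), A₀ ≤ A ∧ B₀ ≤ B ∧ IsPSL2PairOver k A₀ B₀ := by
  obtain ⟨s, hs, rfl⟩ := mem_sigma.1 hA
  obtain ⟨t, ht, rfl⟩ := mem_sigma.1 hB
  obtain ⟨s', h1, h2, h3⟩ := ((opp_iff hk2 hk3 hs ht).1 h).np hk2 hk3 hs ht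
  obtain ⟨A₀, B₀, h4, h5, -, h6⟩ := h3.psl2 h1.1 ht.qs h2
  exact ⟨A₀, B₀, hs.RG_eq h1 h2 ▸ h4, h5, h6⟩

end H16.H11
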