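import Cfsg.Agent.H11.QPd
import Cfsg.Agent.H5.Component

/-! Quadratic pairs: the components and the decomposition of the group. -/

set_option autoImplicit false
set_option linter.unusedSectionVars false
set_option linter.unusedSimpArgs false

open Subgroup Cfsg H16 Module Polynomial H4 Cfsg.IsRankOnePair
open scoped commutatorElement MatrixGroups

namespace H16.H11

theorem psl2_perfect {K X : Type*} [Field K] [Group X] {A B : Subgroup X} (h : IsPSL2PairOver K A B) {c : K} (c0 : c ≠ 0)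
    (c1 : c ^ 2 ≠ 1) : A ≤ ⁅A ⊔ B, A ⊔ B⁆ := by
  obtain ⟨φ, h1, -⟩ := h
  rw [← h1, MonoidHom.range_eq_map, ← map_commutator, ← commutator_def, Matrix.SL2.commutator_eq_top c0 c1,
    ← MonoidHom.range_eq_map, h1]
  exact le_sup_left

theorem conj_of_rtg {X : Type*} [Group X] {S : Set (Subgroup X)} {A B : Subgroup X}
    (h : Relation.ReflTransGen (FAdj S) A B) : ∃ g ∈ ⨆ C ∈ componentOf (FAdj S) S A, C, B = A :^ g := by
  induction h with
  | refl => exact ⟨1, one_mem _, (cj_one _).symm⟩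
  | tail h1 h2 ih =>
    obtain ⟨g, hg, rfl⟩ := ih
    obtain ⟨x, hx, e⟩ := h2.2.2.right_mem
    exact ⟨x * g, mul_mem (sup_le (le_gen' (S := componentOf (FAdj S) S A) ⟨h2.1, h1⟩)
      (le_gen' (S := componentOf (FAdj S) S A) ⟨h2.2.1, h1.tail h2⟩) hx) hg, e.trans (cj_cj _ _ _)⟩

variable {k M : Type*} [Field k] [AddCommGroup M] [Module k M] {G A B L N : Subgroup (GLm k M)}
  {s s' s'' t t' q u v w x y : End k M} {g a b c : GLm k M} {m : M}

/-- elements killed by all the minimal ones -/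
def Nn (G : Subgroup (GLm k M)) (q : End k M) : Prop := QS G q ∧ ∀ s, Mn G s → s * (q * s) = 0

theorem Nn.smul (h : Nn G q) (c : k) : Nn G (c • q) := ⟨h.1.smul c, fun s hs => by simp [h.2 s hs]⟩

/-- the group generated by the root subgroups -/
abbrev G0 (G : Subgroup (GLm k M)) : Subgroup (GLm k M) := ⨆ B ∈ quadraticRootSubgroups G, B

/-- the component of a root subgroup -/
abbrev cmp (G A : Subgroup (GLm k M)) := componentOf (FAdj (quadraticRootSubgroups G)) (quadraticRootSubgroups G) A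

/-- the group generated by a component -/
abbrev LG (G A : Subgroup (GLm k M)) : Subgroup (GLm k M) := ⨆ B ∈ cmp G A, B

theorem cmp_self (hA : A ∈ quadraticRootSubgroups G) : A ∈ cmp G A := ⟨hA, .refl⟩

theorem cmp_eq (hB : B ∈ cmp G A) : cmp G B = cmp G A := by
  ext C
  exact and_congr_right fun _ => ⟨hB.2.trans, (rtg_symm (fun _ _ => fadj_symm) hB.2).trans⟩

theorem LG_le : LG G A ≤ G0 G := iSup₂_le fun _ h => le_gen' h.1

theorem WI.ann (hL : WI L) (ha : a ∈ L) (hb : b ∈ C[L]) (h : (a.1 - 1) * (b.1 - 1) = 0) : a = 1 ∨ b = 1 := by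
  have hc : ∀ {g h : GLm k M}, g ∈ C[L] → h ∈ L → ∀ m, h.1 (g.1 m) = g.1 (h.1 m) := fun hg hh m => by
    rw [← gl_mul, mem_cent.1 hg _ hh, gl_mul]
  let W := ⨅ h ∈ L, LinearMap.ker ((a.1 - 1) * h.1)
  have hW : ∀ m, m ∈ W ↔ ∀ h ∈ L, a.1 (h.1 m) = h.1 m := fun m => by simp [W, sub_eq_zero]
  let T : Subgroup (GLm k M) :=
    { carrier := {g | ∀ m, m ∈ W ↔ g.1 m ∈ W}
      one_mem' := fun _ => Iff.rfl
      mul_mem' := fun {a b} ha hb m => (hb m).trans (ha _)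
      inv_mem' := fun {a} ha m => by rw [ha (a⁻¹.1 m), gl_inv] }
  have key : ∀ X : Subgroup (GLm k M), (∀ g ∈ X, ∀ m ∈ W, g.1 m ∈ W) → X ≤ T := fun X hX g hg m =>
    ⟨hX g hg m, fun h => gl_inv' g m ▸ hX _ (inv_mem hg) _ h⟩
  have h1 : L ⊔ C[L] ≤ T := sup_le (key _ fun g hg m hm => (hW _).2 fun h hh => (hW m).1 hm _ (mul_mem hh hg))
    (key _ fun g hg m hm => (hW _).2 fun h hh => by rw [hc hg hh, hc hg ha, (hW m).1 hm h hh])
  rcases hL.2 W fun g hg m hm => (h1 hg m).1 hm with e | e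
  · refine .inr (Units.ext (LinearMap.ext fun m => sub_eq_zero.1 (e.le ((hW _).2 fun g hg => ?_))))
    have := LinearMap.congr_fun h (g.1 m)
    simp only [End.mul_apply, LinearMap.sub_apply, End.one_apply, LinearMap.zero_apply, sub_eq_zero] at this
    simpa only [Units.val_one, End.one_apply, map_sub, hc hb hg] using this
  · exact .inl (Units.ext (LinearMap.ext fun m => (hW m).1 (e.ge trivial) 1 (one_mem _)))

variable [FiniteDimensional k M]

theorem G0_le : G0 G ≤ G := iSup₂_le fun _ => sigma_le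

variable (hk2 : ringChar k ≠ 2) (hk3 : Nat.card k ≠ 3)
include hk2 hk3

theorem split (hq : QS G q) : Nn G q ∨ ∃ x y, Mn G x ∧ QS G y ∧ x * y = 0 ∧ rk y < rk q ∧ q = x + y := by
  refine (em _).imp_right fun h => ?_
  obtain ⟨s, hs, h1⟩ : ∃ s, Mn G s ∧ s * (q * s) ≠ 0 := by simpa [Nn, hq] using h
  obtain ⟨r, h2, -, h3⟩ := hs.norm' hk2 hk3 hq fun hn => h1 (hs.nil (Ring.two_ne_zero hk2) hq hn)
  generalize pz s q r * s = t at h2 h3
  have h4 := h2.part hq h3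
  refine ⟨_, q - q * (t * q), h4, hq.sub h4.qs (mul_mul_zero hq.1 _) (by simp [mul_assoc, hq.1]),
    by simp [mul_sub, mul_assoc, hq.1, mul_mul_zero hq.1], ?_, by abel⟩
  have h5 : LinearMap.ker q < LinearMap.ker (q - q * (t * q)) := by
    refine lt_of_le_of_ne (fun m hm => by simp [LinearMap.mem_ker.1 hm]) fun e => h2.ne ?_
    rw [← h3, mul_eq_zero_of ((range_le_ker (by rw [sub_mul, mul_assoc, mul_assoc, h3, sub_self])).trans e.ge), mul_zero]
  have := Submodule.finrank_lt_finrank_of_lt h5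
  have := rk_ker q
  have := rk_ker (q - q * (t * q))
  omega

variable (hG : WI G)
include hG

theorem Nn.not_mn (h : Nn G q) : ¬ Mn G q := fun hq => by
  obtain ⟨u, hu, ho⟩ := exists_opp hk2 hk3 hG hq
  exact ho.symm.ne hu.ne (h.2 u hu)

theorem Nn.comm (h : Nn G q) (hs : Mn G s) : q * s = s * q := by
  have k2 := Ring.two_ne_zero hk2
  obtain ⟨h1, h2⟩ := hs.qs.br k2 h.1 (h.2 s hs)
  have key : ∀ {q t : End k M}, Nn G q → QS G t → ∀ u, Mn G u → u * ((1 - t) * q * (1 + t) * u) = 0 := fun {q t} h ht u hu => by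
    have e := congrArg (fun y => (1 - t) * y * (1 + t)) (h.2 _ (hu.cj ht 1))
    have e1 : ∀ y, (1 - t) * ((1 + t) * y) = y := fun y => by simp [mul_add, sub_mul, add_mul, mul_mul_zero ht.1]
    have e2 : (1 - t) * (1 + t) = 1 := by simpa using e1 1
    simpa only [one_smul, mul_assoc, e1, e2, mul_one, zero_mul, mul_zero] using e
  have h3 : Nn G (q * s - s * q) := ⟨h1, fun u hu => by
    have := key h hs.qs u hu
    simp only [mul_add, add_mul, mul_sub, sub_mul, mul_assoc, one_mul, mul_one, h.2 u hu,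
      show s * (q * (s * u)) = 0 by rw [← mul_assoc q, ← mul_assoc, h.2 s hs, zero_mul], mul_zero] at this ⊢
    rw [← this]; abel⟩
  have h4 : Nn G (q * (s * q)) := ⟨h2, fun u hu => by
    have := key h3 h.1 u hu
    have e := h3.2 u hu
    simp only [mul_add, add_mul, mul_sub, sub_mul, mul_assoc, one_mul, mul_one, mul_mul_zero h.1.1, mul_zero, h.1.1,
      zero_mul] at this e ⊢
    refine (smul_eq_zero.1 ?_).resolve_left k2
    linear_combination (norm := module) this - e⟩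
  have h5 : q * (s * q) = 0 := by_contra fun h0 => h4.not_mn hk2 hk3 hG (hs.of_le h2 h0
    ((rk_le' (ker_le_mul _ _)).trans (rk_le (range_mul_le _ _))))
  exact sub_eq_zero.1 (by_contra fun h0 => h3.not_mn hk2 hk3 hG (hs.of_le h1 h0 ((rk_sub _ _).trans (rk_br h5))))

theorem Nn.cent (h : Nn G (g.1 - 1)) : g ∈ C[G0 G] := le_cent1.1 (iSup₂_le fun A hA => by
  obtain ⟨s, hs, rfl⟩ := mem_sigma.1 hA
  refine fun a ha => mem_cent1.2 (commute_iff.2 ?_).eq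
  by_cases a0 : a.1 - 1 = 0
  · rw [a0]; exact Commute.zero_left _
  · exact (h.comm hk2 hk3 hG (hs.of_mem ha a0)).symm)

/-- the group generated by the remaining quadratic elements -/
def C0 (G : Subgroup (GLm k M)) : Subgroup (GLm k M) := closure {g | Nn G (g.1 - 1)}

omit hG hk2 hk3 in
theorem C0_le : C0 G ≤ G := (closure_le _).2 fun _ h => h.1.mem_G

theorem C0_cent : C0 G ≤ C[G0 G] := (closure_le _).2 fun _ h => h.cent hk2 hk3 hG

omit hG in
theorem quad_ind {P : GLm k M → Prop} (h1 : ∀ g, Nn G (g.1 - 1) → P g)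
    (h2 : ∀ a b, Mn G (a.1 - 1) → QS G (b.1 - 1) → (a.1 - 1) * (b.1 - 1) = 0 → P b → P (a * b)) (h : QS G (g.1 - 1)) : P g := by
  induction e : rk (g.1 - 1) using Nat.strong_induction_on generalizing g with
  | _ n ih =>
    rcases split hk2 hk3 h with h3 | ⟨x, y, hx, hy, h3, h4, h5⟩
    · exact h1 g h3
    · have : g = ex x hx.qs.1 * ex y hy.1 := Units.ext (by
        rw [eq_add_of_sub_eq h5]; change _ = (1 + x) * (1 + y); rw [mul_add, add_mul, add_mul, h3]; noncomm_ring)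
      rw [this]
      exact h2 _ _ (by rwa [ex_val]) (by rwa [ex_val]) (by rwa [ex_val, ex_val])
        (ih _ (e ▸ h4) (by rwa [ex_val]) (by rw [ex_val]))

omit hG in
theorem sup_C0 (hQ : closure (quadraticElements G) = G) : G0 G ⊔ C0 G = G := by
  refine le_antisymm (sup_le G0_le C0_le) (hQ.ge.trans ((closure_le _).2 fun g hg => ?_))
  exact quad_ind hk2 hk3 (P := (· ∈ G0 G ⊔ C0 G)) (fun g h => mem_sup_right (subset_closure h))
    (fun a b ha _ _ hb => mul_mem (mem_sup_left (le_gen' ha.sigma ha.qs.mem)) hb) (mem_quad.1 hg).1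

theorem cmp_cj (hB : B ∈ cmp G A) (hg : g ∈ G0 G) : B :^ g ∈ cmp G A := by
  have hS : ∀ A ∈ quadraticRootSubgroups G, A ≤ G0 G := fun _ => le_gen'
  obtain ⟨C, hC, h⟩ := sigma_ni hk2 hk3 hG hB.1
  have := rtg_of_sub hS ((sigma_root hk2 hk3 hG).conn_cj ⟨B, hB.1, rfl⟩ ⟨_, ⟨C, hC, rfl⟩, (rank_map (subtype_injective _)).1 (by
    rwa [map_subgroupOf_eq_of_le (hS _ hB.1), map_subgroupOf_eq_of_le (hS _ hC)])⟩ ⟨g, hg⟩)
  rw [cj_map, map_subgroupOf_eq_of_le (hS _ hB.1)] at this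
  exact ⟨sigma_cj hB.1 (G0_le hg), hB.2.trans this⟩

theorem Nl.cmp (h : Nl s t) (hs : Mn G s) (ht : Mn G t) (h0 : s * t - t * s ≠ 0) :
    RG G (s * t - t * s) ∈ cmp G (RG G s) := by
  have hx := h.mn hk2 hs ht h0
  obtain ⟨u, hu, ho⟩ := exists_opp hk2 hk3 hG hx
  have key : ∀ y, Mn G y → RG G y ∈ H11.cmp G (RG G s) → u * (y * u) ≠ 0 → RG G (s * t - t * s) ∈ H11.cmp G (RG G s) :=
    fun y hy h1 h2 => ⟨hx.sigma, (h1.2.tail ⟨hy.sigma, hu.sigma, (opp_of_ne hk2 hk3 hu hy h2).symm.rank hk2 hk3 hy hu⟩).tail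
      ⟨hu.sigma, hx.sigma, ho.symm.rank hk2 hk3 hu hx⟩⟩
  by_cases h1 : u * (s * u) = 0
  swap
  · exact key s hs (cmp_self hs.sigma) h1
  have hg := ex_mem ht.qs.mem
  have h2 := cmp_cj hk2 hk3 hG (cmp_self hs.sigma) (le_gen' ht.sigma hg)
  rw [RG_cj (RG_le hg)] at h2
  refine key _ (hs.conj (RG_le hg)) h2 fun e => ho.symm.ne hu.ne ?_
  change u * ((1 + t) * s * (1 - t) * u) = 0 at e
  simp only [mul_add, add_mul, mul_sub, sub_mul, mul_assoc, one_mul, mul_one, h1,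
    show t * (s * (t * u)) = 0 by rw [← mul_assoc s, ← mul_assoc, h.2, zero_mul], mul_zero] at e ⊢
  rw [← neg_eq_zero, ← e]; abel

theorem cent_of_not_cmp (hA : A ∈ quadraticRootSubgroups G) (hB : B ∈ quadraticRootSubgroups G) (h : B ∉ cmp G A) :
    A ≤ C[B] := by
  obtain ⟨s, hs, rfl⟩ := mem_sigma.1 hA
  obtain ⟨t, ht, rfl⟩ := mem_sigma.1 hB
  rcases tri hk2 hk3 hs ht with h1 | h1 | ⟨h1, h0⟩
  · exact h1
  · exact absurd ⟨hB, .single ⟨hA, hB, h1.rank hk2 hk3 hs ht⟩⟩ h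
  · have h2 := h1.symm.cmp hk2 hk3 hG ht hs (br_ne_symm h0)
    rw [← neg_sub, RG_congr ES_neg] at h2
    rw [← cmp_eq (h1.cmp hk2 hk3 hG hs ht h0), cmp_eq h2] at h
    exact absurd (cmp_self hB) h

theorem LG_cent (h : cmp G A ≠ cmp G B) : LG G A ≤ C[LG G B] :=
  iSup₂_le fun _ hC => cent_symm (iSup₂_le fun _ hD => cent_of_not_cmp hk2 hk3 hG hD.1 hC.1 fun h1 =>
    h ((cmp_eq hC).symm.trans ((cmp_eq h1).trans (cmp_eq hD))))

theorem cmp_finite : (cmp G '' quadraticRootSubgroups G).Finite := by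
  have : ∀ T : cmp G '' quadraticRootSubgroups G, ∃ s u, Mn G s ∧ Mn G u ∧ s * u - u * s ≠ 0 ∧ RG G s ∈ T.1 ∧ RG G u ∈ T.1 := by
    rintro ⟨_, A, hA, rfl⟩
    obtain ⟨s, hs, rfl⟩ := mem_sigma.1 hA
    obtain ⟨u, hu, h⟩ := exists_opp hk2 hk3 hG hs
    exact ⟨s, u, hs, hu, fun e => h.ne hs.ne (by rw [← sub_eq_zero.1 e, mul_mul_zero hs.qs.1]), cmp_self hA, hu.sigma,
      .single ⟨hA, hu.sigma, h.rank hk2 hk3 hs hu⟩⟩
  choose s u hs hu h0 h1 h2 using this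
  refine (linearIndependent_iff'.2 fun T c hc i hi => ?_ : LinearIndependent k s).finite
  have := congrArg (fun y => y * u i - u i * y) hc
  simp only [Finset.sum_mul, Finset.mul_sum, ← Finset.sum_sub_distrib, smul_mul_assoc, mul_smul_comm, ← smul_sub, mul_zero,
    zero_mul, sub_zero] at this
  rw [Finset.sum_eq_single_of_mem i hi] at this
  · exact (smul_eq_zero.1 this).resolve_right (h0 i)
  · intro j _ hj
    obtain ⟨_, A, hA, rfl⟩ := i
    obtain ⟨_, B, hB, rfl⟩ := j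
    rw [commute_of_cent (hs _).qs (hu _).qs (cent_of_not_cmp hk2 hk3 hG (hs _).sigma (hu _).sigma fun h => hj
      (Subtype.ext ((cmp_eq (h1 ⟨_, B, hB, rfl⟩)).symm.trans ((cmp_eq h).symm.trans (cmp_eq (h2 ⟨_, A, hA, rfl⟩)))))), sub_self, smul_zero]

omit hG in
theorem le_der (hA : A ∈ quadraticRootSubgroups G) (hB : B ∈ quadraticRootSubgroups G) (h : IsRankOnePair A B) :
    A ≤ ⁅A ⊔ B, A ⊔ B⁆ := fun a ha => by
  obtain ⟨s, hs, rfl⟩ := mem_sigma.1 hA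
  obtain ⟨t, ht, rfl⟩ := mem_sigma.1 hB
  by_cases a1 : a = 1
  · exact a1 ▸ one_mem _
  have hs' := hs.of_mem ha (sub_ne a1)
  obtain ⟨t', h1, h2, h3⟩ := (((opp_iff hk2 hk3 hs ht).1 h).congr hs ht ha hs'.ne ht.qs.mem ht.ne).symm.np hk2 hk3 ht hs'
  obtain ⟨A₀, B₀, h4, h5, h6, h7⟩ := h3.symm.psl2 hs'.qs h1.1 hs'.ne
  obtain ⟨c, c0, c1, c2⟩ := exists_sq_ne hk2 hk3
  rw [show ex (a.1 - 1) hs'.qs.1 = a from Units.ext (add_sub_cancel _ _)] at h6
  exact der_mono (sup_le_sup (hs.RG_eq ha hs'.ne ▸ h4) (ht.RG_eq h1 h2 ▸ h5))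
    (psl2_perfect h7 c0 (by rw [Ne, sq_eq_one_iff]; tauto) h6)

theorem LG_norm : G0 G ≤ N[LG G A] := le_norm_iff_cj.2 fun _ hg => cj_le_iff.2 (iSup₂_le fun _ hB =>
  cj_le_iff.1 (le_gen' (cmp_cj hk2 hk3 hG hB hg)))

theorem G0_le_sup : G0 G ≤ LG G A ⊔ C[LG G A] := iSup₂_le fun B hB => by
  by_cases h : cmp G B = cmp G A
  · exact (le_gen' (h ▸ cmp_self hB)).trans le_sup_left
  · exact ((le_gen' (cmp_self hB)).trans (LG_cent hk2 hk3 hG h)).trans le_sup_right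

omit hk2 hk3 in
theorem WI.of_le (h1 : L ≤ G) (h2 : G ≤ L ⊔ C[L]) : WI L :=
  ⟨hG.1, fun W hW => hG.2 W fun g hg => hW g (sup_le h2 ((cent_anti h1).trans le_sup_right) hg)⟩

variable (hQ : closure (quadraticElements G) = G)
include hQ

theorem LG_wi : WI (LG G A) := hG.of_le (LG_le.trans G0_le) ((sup_C0 hk2 hk3 hQ).ge.trans (sup_le (G0_le_sup hk2 hk3 hG)
  (((C0_cent hk2 hk3 hG).trans (cent_anti LG_le)).trans le_sup_right)))

theorem LG_qs (hA : A ∈ quadraticRootSubgroups G) : IsQuasisimple (LG G A) := by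
  refine H5.isQuasisimple_iff.2 ⟨(der_le _).antisymm (iSup₂_le fun B hB => ?_), ne_bot_of_le ?_ (le_gen' (cmp_self hA)),
    fun N h1 h2 => ?_⟩
  · obtain ⟨C, hC, h⟩ := sigma_ni hk2 hk3 hG hB.1
    exact (le_der hk2 hk3 hB.1 hC h).trans (der_mono (sup_le (le_gen' hB)
      (le_gen' (S := cmp G A) ⟨hC, hB.2.tail ⟨hB.1, hC, h⟩⟩)))
  · obtain ⟨s, hs, rfl⟩ := mem_sigma.1 hA; exact hs.RG_ne
  have hc : ∀ B ∈ quadraticRootSubgroups G, IsMulCommutative B := fun B hB => by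
    obtain ⟨s, hs, rfl⟩ := mem_sigma.1 hB; exact RG_comm
  have hNG := h1.trans (LG_le.trans G0_le)
  by_cases h : ∃ B ∈ cmp G A, ∃ n ∈ N, IsRankOnePair B (B :^ n)
  · obtain ⟨B, hB, n, hn, h⟩ := h
    have h3 : B ≤ N[N] := (le_gen' hB).trans h2
    have h4 : B ≤ N := (le_der hk2 hk3 hB.1 (sigma_cj hB.1 (hNG hn)) h).trans ((der_mono (sup_le le_sup_right
      (cj_le_of_mem (mem_sup_left hn) le_sup_right))).trans ((der_sup_le h3).trans (by
        rw [der_eq_bot.2 (hc B hB.1), sup_bot_eq])))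
    refine .inl (h1.antisymm (iSup₂_le fun C hC => ?_))
    rw [← cmp_eq hB] at hC
    obtain ⟨g, hg, rfl⟩ := conj_of_rtg hC.2
    exact cj_le_of_norm (h2 (by rwa [LG, ← cmp_eq hB])) h4
  have h3 : ∀ B ∈ cmp G A, IsUnipotentOn ⁅B, N⁆ := fun B hB => by
    have h3 : B ≤ N[N] := (le_gen' hB).trans h2
    refine unip_mono (unip_iSup (G := N ⊔ B) (S := {C | ∃ n ∈ N, C = B :^ n}) ?_ ?_ ?_) (commutator_le.2 fun b hb n hn => ?_)
    · rintro _ ⟨n, hn, rfl⟩; exact cj_le_of_mem (mem_sup_left hn) le_sup_right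
    · rintro _ ⟨n, hn, rfl⟩ _ ⟨n', hn', rfl⟩
      obtain ⟨s, hs, e1⟩ := mem_sigma.1 (sigma_cj hB.1 (hNG hn))
      obtain ⟨t, ht, e2⟩ := mem_sigma.1 (sigma_cj hB.1 (hNG hn'))
      rw [e1, e2]
      refine ((opp_or_nl hk2 hk3 hs ht).resolve_left fun ho => h ⟨B, hB, _, mul_mem (inv_mem hn) hn', ?_⟩).unip hk2 hk3 hs ht
      simpa only [← e1, ← e2, cj_cj, inv_mul_cancel, cj_one] using (ho.rank hk2 hk3 hs ht).cj n⁻¹
    · rintro _ ⟨n, hn, rfl⟩ g hg
      obtain ⟨a, ha, b, hb, rfl⟩ := (mem_sup_l h3).1 hg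
      refine ⟨a * (b * n * b⁻¹), mul_mem ha (conj_mem (h3 hb) hn), ?_⟩
      conv_rhs => rw [← cj_self hb]
      simp only [cj_cj, mul_assoc, inv_mul_cancel, mul_one]
    · rw [commutatorElement_def, mul_assoc, mul_assoc, ← mul_assoc n]
      exact mul_mem (le_gen' (S := {C | ∃ n ∈ N, C = B :^ n}) ⟨1, one_mem _, (cj_one _).symm⟩ hb)
        (le_gen' (S := {C | ∃ n ∈ N, C = B :^ n}) ⟨n, hn, rfl⟩ (cj_mem (inv_mem hb)))
  have h4 : ∀ B ∈ cmp G A, ⁅B, N⁆ ≤ N := fun B hB => comm_le_right ((le_gen' hB).trans h2)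
  have h5 : ∀ B : Subgroup (GLm k M), N ≤ N[⁅B, N⁆] := fun B => normalizer_commutator_ge_right B N
  have h6 := (LG_wi hk2 hk3 hG hQ (A := A)).eq_bot (A := ⨆ C ∈ {C | ∃ B ∈ cmp G A, C = ⁅B, N⁆}, C) (iSup₂_le (by
    rintro _ ⟨B, hB, rfl⟩; exact (h4 B hB).trans h1)) (le_norm_iff_cj.2 fun g hg => cj_le_iff.2 (iSup₂_le (by
      rintro _ ⟨B, hB, rfl⟩
      rw [← cj_le_iff, cj_comm, cj_norm (h2 hg)]
      exact le_gen' ⟨_, cmp_cj hk2 hk3 hG hB (LG_le hg), rfl⟩))) (unip_iSup (G := N) (by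
    rintro _ ⟨B, hB, rfl⟩; exact h4 B hB) (by
    rintro _ ⟨B, hB, rfl⟩ _ ⟨C, hC, rfl⟩; exact unip_sup (h3 B hB) (h3 C hC) ((h4 C hC).trans (h5 B))) (by
    rintro _ ⟨B, hB, rfl⟩ g hg; exact ⟨B, hB, cj_norm (h5 B hg)⟩))
  exact .inr (cent_symm (iSup₂_le fun B hB => comm_eq_bot.1 (eq_bot_of_le h6 (le_gen' ⟨B, hB, rfl⟩))))

omit hQ in
theorem LG_class (hA : A ∈ quadraticRootSubgroups G) : IsRootSubgroupClass (sub (cmp G A) (LG G A)) := by
  refine ⟨root_sub (fun B hB => ?_) (fun B hB => ?_) (fun B hB g hg => cmp_cj hk2 hk3 hG hB (LG_le hg)) fun B hB C hC => ?_,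
    class_sub (fun _ => le_gen') ⟨A, cmp_self hA⟩ fun B hB C hC => ?_⟩
  · obtain ⟨s, hs, rfl⟩ := mem_sigma.1 hB.1; exact RG_comm
  · obtain ⟨s, hs, rfl⟩ := mem_sigma.1 hB.1; exact hs.RG_ne
  · obtain ⟨s, hs, rfl⟩ := mem_sigma.1 hB.1
    obtain ⟨t, ht, rfl⟩ := mem_sigma.1 hC.1
    refine (tri hk2 hk3 hs ht).imp_right (Or.imp (·.rank hk2 hk3 hs ht) fun ⟨h, h0⟩ => ?_)
    have h1 := h.cc hk2 hk3 hs ht h0 hG
    refine ⟨?_, h1.cA, h1.cB, h1.exr, h1.exl⟩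
    rw [h.comm_eq hk2 hk3 hs ht h0 hG, ← cmp_eq hB]
    exact h.cmp hk2 hk3 hG hs ht h0
  · rw [LG, ← cmp_eq hB] at *
    exact conj_of_rtg hC.2

omit hG hQ in
theorem decomp (n : ℕ) : ∀ G : Subgroup (GLm k M), WI G → closure (quadraticElements G) = G →
    (∀ q, QS G q → q ≠ 0 → finrank k M < rk q + n) → ∃ F : Set (Subgroup (GLm k M)), F.Finite ∧
      (∀ L ∈ F, IsQuasisimple L ∧ closure (quadraticElements G ∩ L) = L) ∧ (∀ L ∈ F, ∀ L' ∈ F, L ≠ L' → L ≤ C[L']) ∧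
      (⨆ L ∈ F, L) = G ∧ ∀ g, QS G (g.1 - 1) → g = 1 ∨ ∃ L ∈ F, g ∈ L := by
  induction n with
  | zero =>
    intro G hG hQ h
    have h1 : ∀ g : GLm k M, QS G (g.1 - 1) → g = 1 := fun g hg => by_contra fun g1 => by
      have := h _ hg (sub_ne g1)
      have := rk_ker (g.1 - 1)
      omega
    refine ⟨∅, Set.finite_empty, by simp, by simp, ?_, fun g hg => .inl (h1 g hg)⟩
    rw [← hQ, eq_comm]
    simpa using fun g hg => h1 g (mem_quad.1 hg).1
  | succ n ih =>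
    intro G hG hQ h
    have hC := C0_cent hk2 hk3 hG
    have hs := sup_C0 hk2 hk3 hQ
    have q0 : ∀ g : GLm k M, Nn G (g.1 - 1) → QS (C0 G) (g.1 - 1) := fun g hg => ⟨hg.1.1, fun c =>
      ⟨ex _ (hg.smul c).1.1, subset_closure (by rw [Set.mem_ofPred_eq, ex_val]; exact hg.smul c), rfl⟩⟩
    obtain ⟨F, f1, f2, f3, f4, f5⟩ := ih (C0 G) (hG.of_le C0_le (hs.ge.trans (sup_le ((cent_symm hC).trans le_sup_right)
      le_sup_left))) (le_antisymm ((closure_le _).2 fun _ h => h.1) ((closure_le _).2 fun g hg => by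
        by_cases g1 : g = 1
        · exact g1 ▸ one_mem _
        · exact subset_closure (mem_quad.2 ⟨q0 g hg, sub_ne g1⟩))) fun q hq q1 => by
      have h1 : ¬ Mn G q := fun hm => by
        obtain ⟨u, hu, ho⟩ := exists_opp hk2 hk3 hG hm
        have := commute_iff.1 (commute_of_le hC (QS.mem_G (g := ex q hq.1) (by rwa [ex_val])) (le_gen' hu.sigma (ex_mem hu.qs.mem)))
        rw [ex_val, ex_val] at this
        exact ho.ne q1 (by rw [← this.eq, mul_mul_zero hq.1])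
      obtain ⟨t, ht, t0, h2⟩ : ∃ t, QS G t ∧ t ≠ 0 ∧ rk t < rk q := by
        by_contra hc
        exact h1 ⟨hq.mono C0_le, q1, fun t ht t0 => not_lt.1 fun h => hc ⟨t, ht, t0, h⟩⟩
      have := h t ht t0
      omega
    have fC : ∀ L ∈ F, L ≤ C0 G := fun L hL => f4 ▸ le_gen' hL
    let F' := (fun T => ⨆ B ∈ T, B) '' (cmp G '' quadraticRootSubgroups G) ∪ F
    have g3 : ∀ L ∈ F', ∀ L' ∈ F', L ≠ L' → L ≤ C[L'] := by
      rintro _ (⟨_, ⟨A, hA, rfl⟩, rfl⟩ | hL) _ (⟨_, ⟨B, hB, rfl⟩, rfl⟩ | hL') h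
      · exact LG_cent hk2 hk3 hG fun e => h (by rw [e])
      · exact LG_le.trans ((cent_symm hC).trans (cent_anti (fC _ hL')))
      · exact (fC _ hL).trans (hC.trans (cent_anti LG_le))
      · exact f3 _ hL _ hL' h
    have g4 : (⨆ L ∈ F', L) = G := by
      refine le_antisymm (iSup₂_le ?_) (hs.ge.trans (sup_le (iSup₂_le fun A hA => (le_gen' (cmp_self hA)).trans
        (le_gen' (.inl ⟨_, ⟨A, hA, rfl⟩, rfl⟩))) (f4.ge.trans (biSup_mono fun _ => .inr))))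
      rintro _ (⟨_, ⟨A, hA, rfl⟩, rfl⟩ | hL)
      · exact LG_le.trans G0_le
      · exact (fC _ hL).trans C0_le
    refine ⟨F', ((cmp_finite hk2 hk3 hG).image _).union f1, ?_, g3, g4, fun g hg => ?_⟩
    · rintro _ (⟨_, ⟨A, hA, rfl⟩, rfl⟩ | hL)
      · refine ⟨LG_qs hk2 hk3 hG hQ hA, le_antisymm ((closure_le _).2 fun _ h => h.2) (iSup₂_le fun B hB a ha => ?_)⟩
        obtain ⟨s, hs, rfl⟩ := mem_sigma.1 hB.1
        by_cases a1 : a = 1
        · exact a1 ▸ one_mem _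
        · exact subset_closure ⟨mem_quad.2 ⟨ha.1, sub_ne a1⟩, le_gen' hB ha⟩
      · exact ⟨(f2 _ hL).1, le_antisymm ((closure_le _).2 fun _ h => h.2) ((f2 _ hL).2.ge.trans (closure_mono fun a ha =>
          ⟨mem_quad.2 ⟨(mem_quad.1 ha.1).1.mono C0_le, ha.1.2.1.2⟩, ha.2⟩))⟩
    refine quad_ind hk2 hk3 (P := fun g => g = 1 ∨ ∃ L ∈ F', g ∈ L) (fun g hg => (f5 g (q0 g hg)).imp_right
      fun ⟨L, h1, h2⟩ => ⟨L, .inr h1, h2⟩) (fun a b ha _ hab hb => .inr ?_) hg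
    have h1 : LG G (RG G (a.1 - 1)) ∈ F' := .inl ⟨_, ⟨_, ha.sigma, rfl⟩, rfl⟩
    have h2 : a ∈ LG G (RG G (a.1 - 1)) := le_gen' (cmp_self ha.sigma) ha.qs.mem
    refine ⟨_, h1, mul_mem h2 ?_⟩
    rcases hb with rfl | ⟨L, h3, h4⟩
    · exact one_mem _
    by_cases e : L = LG G (RG G (a.1 - 1))
    · exact e ▸ h4
    rcases (LG_wi hk2 hk3 hG hQ).ann h2 (g3 _ h3 _ h1 e h4) hab with rfl | rfl
    · exact absurd (sub_self _) ha.ne
    · exact one_mem _

end H16.H11
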