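import Cfsg.Agent.H16.Not
import Cfsg.Prelude.Def_RootSubgroups

/-! Rank one groups: basic properties. -/

set_option autoImplicit false
set_option linter.unusedSectionVars false

open Subgroup Cfsg H16
open scoped commutatorElement

namespace Cfsg.IsRankOnePair

variable {G : Type*} [Group G] {A B C D N : Subgroup G} {a a' b b' g x y : G}

theorem symm' (h : IsRankOnePair A B) : IsRankOnePair B A := RankOnePair_symm h

/-- no non-identity element of `A` normalizes `B` -/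
theorem eq_one (h : IsRankOnePair A B) (ha : a ∈ A) (hn : a ∈ N[B]) : a = 1 := by
  by_contra h1
  obtain ⟨b, hb, -, e⟩ := h.cond_left a ha h1
  change A :^ b⁻¹ = B :^ a⁻¹ at e
  rw [cj_norm (inv_mem hn), cj_eq_iff, inv_inv, cj_self hb] at e
  exact h.ne e

theorem eq_one' (h : IsRankOnePair A B) (hb : b ∈ B) (hn : b ∈ N[A]) : b = 1 := h.symm'.eq_one hb hn

theorem inf_norm (h : IsRankOnePair A B) : A ⊓ N[B] = ⊥ :=
  (eq_bot_iff_forall _).2 fun _ hx => h.eq_one hx.1 hx.2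

theorem inf_eq (h : IsRankOnePair A B) : A ⊓ B = ⊥ :=
  (eq_bot_iff_forall _).2 fun _ hx => h.eq_one hx.1 (le_norm B hx.2)

theorem ne_bot (h : IsRankOnePair A B) : A ≠ ⊥ := by
  rintro rfl
  obtain ⟨b, hb, h1⟩ := exists_ne_one h.ne.symm
  obtain ⟨a, ha, h2, -⟩ := h.cond_right b hb h1
  exact h2 (mem_bot.1 ha)

theorem ne_bot' (h : IsRankOnePair A B) : B ≠ ⊥ := h.symm'.ne_bot

theorem not_norm (h : IsRankOnePair A B) : ¬ A ≤ N[B] := fun hn =>
  h.ne_bot ((eq_bot_iff_forall _).2 fun _ hx => h.eq_one hx (hn hx))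

theorem not_norm' (h : IsRankOnePair A B) : ¬ B ≤ N[A] := h.symm'.not_norm

theorem not_cent (h : IsRankOnePair A B) : ¬ A ≤ C[B] := fun hn => h.not_norm (norm_of_cent hn)

theorem comm_ne (h : IsRankOnePair A B) : ⁅A, B⁆ ≠ ⊥ := fun hn => h.not_cent (comm_eq_bot.1 hn)

/-- `A` acts semiregularly on the conjugates of `B` -/
theorem cj_inj (h : IsRankOnePair A B) (ha : a ∈ A) (ha' : a' ∈ A) (e : B :^ a = B :^ a') : a = a' := by
  have := h.eq_one (mul_mem (inv_mem ha') ha) (cj_eq_cj_iff.1 e)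
  exact (inv_mul_eq_one.1 this).symm

theorem ex (h : IsRankOnePair A B) (ha : a ∈ A) (h1 : a ≠ 1) :
    ∃ b ∈ B, b ≠ 1 ∧ A :^ b = B :^ a := by
  obtain ⟨b, hb, h2, e⟩ := h.cond_left a⁻¹ (inv_mem ha) (inv_ne_one.2 h1)
  exact ⟨b⁻¹, inv_mem hb, inv_ne_one.2 h2, by rwa [conjBy, conjBy, inv_inv] at e⟩

theorem of_ex (hne : A ≠ B) (hA : Group.IsNilpotent A) (hB : Group.IsNilpotent B)
    (h1 : ∀ a ∈ A, a ≠ 1 → ∃ b ∈ B, b ≠ 1 ∧ A :^ b = B :^ a)
    (h2 : ∀ b ∈ B, b ≠ 1 → ∃ a ∈ A, a ≠ 1 ∧ A :^ b = B :^ a) : IsRankOnePair A B := by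
  refine ⟨hne, hA, hB, fun a ha h => ?_, fun b hb h => ?_⟩
  · obtain ⟨b, hb, h3, e⟩ := h1 a⁻¹ (inv_mem ha) (inv_ne_one.2 h)
    exact ⟨b⁻¹, inv_mem hb, inv_ne_one.2 h3, by rwa [conjBy, conjBy, inv_inv]⟩
  · obtain ⟨a, ha, h3, e⟩ := h2 b⁻¹ (inv_mem hb) (inv_ne_one.2 h)
    exact ⟨a⁻¹, inv_mem ha, inv_ne_one.2 h3, by rw [conjBy, conjBy, inv_inv]; exact e.symm⟩

theorem cj_ne (h : IsRankOnePair A B) (ha : a ∈ A) : B :^ a ≠ A := fun e => by
  rw [cj_eq_iff, cj_self (inv_mem ha)] at e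
  exact h.ne e.symm

theorem map {H : Type*} [Group H] (h : IsRankOnePair A B) (f : G →* H) (hne : A.map f ≠ B.map f) :
    IsRankOnePair (A.map f) (B.map f) := by
  have key : ∀ {A B : Subgroup G}, IsRankOnePair A B → A.map f ≠ B.map f →
      RankOneCondition (A.map f) (B.map f) := by
    intro A B h hne
    rintro _ ⟨a, ha, rfl⟩ h1
    obtain ⟨b, hb, -, e⟩ := h.cond_left a ha (by rintro rfl; simp at h1)
    have cjm : ∀ (K : Subgroup G) (g : G), (K :^ g).map f = (K.map f) :^ (f g) := by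
      intro K g
      rw [map_map, map_map]; congr 1; ext; simp
    have e' : (A.map f) :^ (f b)⁻¹ = (B.map f) :^ (f a)⁻¹ := by
      rw [← map_inv, ← map_inv, ← cjm, ← cjm]; exact congrArg _ e
    refine ⟨f b, mem_map_of_mem f hb, fun h2 => hne ?_, e'⟩
    rw [h2, inv_one, cj_one] at e'
    have h3 := congrArg (· :^ (f a)) e'
    simp only [cj_inv_cj] at h3
    rw [← h3, cj_self (mem_map_of_mem f ha)]
  have := h.nilpotent_left
  have := h.nilpotent_right
  exact ⟨hne, Group.nilpotent_of_surjective _ (f.subgroupMap_surjective A),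
    Group.nilpotent_of_surjective _ (f.subgroupMap_surjective B), key h hne, key h.symm' hne.symm⟩

theorem cj (h : IsRankOnePair A B) (g : G) : IsRankOnePair (A :^ g) (B :^ g) :=
  h.map _ fun e => h.ne (H16.cj_inj.1 e)

theorem of_cj (h : IsRankOnePair (A :^ g) (B :^ g)) : IsRankOnePair A B := by
  simpa only [cj_cj_inv] using h.cj g⁻¹

/-- the set `{A} ∪ B^A` -/
def Om (A B : Subgroup G) : Set (Subgroup G) := {C | C = A ∨ ∃ a ∈ A, C = B :^ a}

theorem Om_comm (h : IsRankOnePair A B) : Om A B = Om B A := by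
  have key : ∀ {A B : Subgroup G}, IsRankOnePair A B → Om A B ⊆ Om B A := by
    rintro A B h C (rfl | ⟨a, ha, rfl⟩)
    · exact Or.inr ⟨1, one_mem _, (cj_one _).symm⟩
    · by_cases h1 : a = 1
      · left; rw [h1, cj_one]
      · obtain ⟨b, hb, -, e⟩ := h.ex ha h1
        exact Or.inr ⟨b, hb, e.symm⟩
  exact (key h).antisymm (key h.symm')

theorem Om_cj (h : IsRankOnePair A B) (hx : x ∈ A ⊔ B) (hC : C ∈ Om A B) : C :^ x ∈ Om A B := by
  have key : ∀ {A B C : Subgroup G} {a : G}, a ∈ A → C ∈ Om A B → C :^ a ∈ Om A B := by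
    rintro A B C a ha (rfl | ⟨a', ha', rfl⟩)
    · exact Or.inl (cj_self ha)
    · exact Or.inr ⟨a * a', mul_mem ha ha', cj_cj _ _ _⟩
  let K : Subgroup G :=
    { carrier := {x | ∀ C, C ∈ Om A B ↔ C :^ x ∈ Om A B}
      one_mem' := fun C => by rw [cj_one]
      mul_mem' := fun {x y} hx hy C => by rw [← cj_cj, ← hx, ← hy]
      inv_mem' := fun {x} hx C => by rw [hx (C :^ x⁻¹), cj_inv_cj] }
  have : A ⊔ B ≤ K := by
    refine sup_le (fun a ha C => ⟨key ha, fun h' => ?_⟩) (fun b hb C => ?_)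
    · simpa only [cj_cj_inv] using key (inv_mem ha) h'
    · rw [h.Om_comm]
      exact ⟨key hb, fun h' => by simpa only [cj_cj_inv] using key (inv_mem hb) h'⟩
  exact (this hx C).1 hC

theorem unip_eq (h : IsRankOnePair A B) : unipotentSubgroups A B = Om A B := by
  ext C
  constructor
  · rintro ⟨x, hx, rfl⟩
    exact h.Om_cj hx (Or.inl rfl)
  · obtain ⟨a, ha, h1⟩ := exists_ne_one h.ne_bot
    obtain ⟨b, hb, -, e⟩ := h.ex ha h1
    rintro (rfl | ⟨a', ha', rfl⟩)
    · exact ⟨1, one_mem _, (cj_one _).symm⟩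
    · refine ⟨a' * a⁻¹ * b, mul_mem (mem_sup_left (mul_mem ha' (inv_mem ha))) (mem_sup_right hb), ?_⟩
      change _ = A :^ _
      rw [← cj_cj, e, cj_cj, inv_mul_cancel_right]

theorem unip_comm (h : IsRankOnePair A B) : unipotentSubgroups A B = unipotentSubgroups B A := by
  rw [h.unip_eq, h.symm'.unip_eq, h.Om_comm]

theorem left_mem (A B : Subgroup G) : A ∈ unipotentSubgroups A B := ⟨1, one_mem _, (cj_one _).symm⟩

theorem right_mem (h : IsRankOnePair A B) : B ∈ unipotentSubgroups A B := h.unip_comm ▸ left_mem B A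

theorem unip_cj (hx : x ∈ A ⊔ B) (hC : C ∈ unipotentSubgroups A B) : C :^ x ∈ unipotentSubgroups A B := by
  obtain ⟨y, hy, rfl⟩ := hC
  exact ⟨x * y, mul_mem hx hy, cj_cj _ _ _⟩

theorem unip_le (hC : C ∈ unipotentSubgroups A B) : C ≤ A ⊔ B := by
  obtain ⟨y, hy, rfl⟩ := hC
  exact cj_le_of_mem hy le_sup_left

theorem unip_cases (h : IsRankOnePair A B) (hC : C ∈ unipotentSubgroups A B) :
    C = A ∨ ∃ a ∈ A, C = B :^ a := by rwa [h.unip_eq] at hC

theorem unip_cases' (h : IsRankOnePair A B) (hC : C ∈ unipotentSubgroups A B) :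
    C = B ∨ ∃ b ∈ B, C = A :^ b := by rw [h.unip_comm] at hC; exact h.symm'.unip_cases hC

/-- double transitivity -/
theorem two (h : IsRankOnePair A B) (hC : C ∈ unipotentSubgroups A B) (hD : D ∈ unipotentSubgroups A B)
    (hne : C ≠ D) : ∃ x ∈ A ⊔ B, C = A :^ x ∧ D = B :^ x := by
  obtain ⟨x, hx, rfl⟩ := hC
  rcases h.unip_cases (unip_cj (inv_mem hx) hD) with e | ⟨a, ha, e⟩
  · exact absurd (by rw [← e]; exact cj_inv_cj _ _) hne
  · refine ⟨x * a, mul_mem hx (mem_sup_left ha), ?_, ?_⟩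
    · rw [← cj_cj, cj_self ha]
    · rw [← cj_cj, ← e, cj_inv_cj]

theorem unip_pair (h : IsRankOnePair A B) (hC : C ∈ unipotentSubgroups A B)
    (hD : D ∈ unipotentSubgroups A B) (hne : C ≠ D) : IsRankOnePair C D ∧ C ⊔ D = A ⊔ B := by
  obtain ⟨x, hx, rfl, rfl⟩ := h.two hC hD hne
  exact ⟨h.cj x, by rw [← cj_sup, cj_self hx]⟩

theorem unip_unip (h : IsRankOnePair A B) (hC : C ∈ unipotentSubgroups A B)
    (hD : D ∈ unipotentSubgroups A B) (hne : C ≠ D) : unipotentSubgroups C D = unipotentSubgroups A B := by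
  have e := (h.unip_pair hC hD hne).2
  obtain ⟨x, hx, rfl⟩ := hC
  ext E
  constructor
  · rintro ⟨y, hy, rfl⟩
    exact ⟨y * x, mul_mem (e ▸ hy) hx, cj_cj _ _ _⟩
  · rintro ⟨y, hy, rfl⟩
    refine ⟨y * x⁻¹, e ▸ mul_mem hy (inv_mem hx), ?_⟩
    change _ = (A :^ x) :^ _
    rw [cj_cj, inv_mul_cancel_right]

/-- an element of a unipotent subgroup normalizing another one is trivial -/
theorem unip_eq_one (h : IsRankOnePair A B) (hC : C ∈ unipotentSubgroups A B)
    (hD : D ∈ unipotentSubgroups A B) (hne : C ≠ D) (hx : x ∈ C) (hn : x ∈ N[D]) : x = 1 :=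
  (h.unip_pair hC hD hne).1.eq_one hx hn

theorem unip_eq_of_mem (h : IsRankOnePair A B) (hC : C ∈ unipotentSubgroups A B)
    (hD : D ∈ unipotentSubgroups A B) (hx : x ∈ C) (hn : x ∈ N[D]) (h1 : x ≠ 1) : C = D := by
  by_contra hne
  exact h1 (h.unip_eq_one hC hD hne hx hn)

/-- an element of a unipotent subgroup centralizing the rank one group is trivial -/
theorem unip_cent (h : IsRankOnePair A B) (hC : C ∈ unipotentSubgroups A B) (hx : x ∈ C)
    (hn : x ∈ C[A ⊔ B]) : x = 1 := by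
  by_cases e : C = A
  · exact h.eq_one (e ▸ hx) (cent_le_norm _ (cent_anti le_sup_right hn))
  · exact h.unip_eq_one hC (left_mem A B) e hx (cent_le_norm _ (cent_anti le_sup_left hn))

/-- an element `x` of the rank one group not normalizing `A` -/
theorem sup_cj (h : IsRankOnePair A B) (hx : x ∈ A ⊔ B) (hn : x ∉ N[A]) :
    IsRankOnePair A (A :^ x) ∧ A ⊔ A :^ x = A ⊔ B :=
  h.unip_pair (left_mem A B) (unip_cj hx (left_mem A B)) fun e => hn (cj_eq_self_iff.1 e.symm)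

/-- a subgroup normalized by the rank one group and normalizing `A`, `B`: commutators with `A`, `B` are trivial -/
theorem cent_of_norm (h : IsRankOnePair A B) (hN : A ⊔ B ≤ N[N]) (hA : N ≤ N[A]) : N ≤ C[A ⊔ B] := by
  have hB : N ≤ N[B] := by
    obtain ⟨x, hx, e⟩ := h.right_mem
    have := norm_cj_le hA x
    rwa [cj_norm (hN hx), ← show B = A :^ x from e] at this
  have key : ∀ {A B : Subgroup G}, IsRankOnePair A B → A ≤ N[N] → N ≤ N[A] → N ≤ N[B] → N ≤ C[A] := by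
    intro A B h hN hA hB
    rw [← comm_eq_bot, eq_bot_iff, ← h.inf_norm]
    exact le_inf (comm_le_right hA) ((comm_le_left hN).trans hB)
  exact le_cent_sup (key h (le_sup_left.trans hN) hA hB) (key h.symm' (le_sup_right.trans hN) hB hA)

/-- normal subgroups of a rank one group -/
theorem normal_cases (h : IsRankOnePair A B) (hN : A ⊔ B ≤ N[N]) (hle : N ≤ A ⊔ B) :
    N ⊔ A = A ⊔ B ∨ N ≤ C[A ⊔ B] := by
  by_cases hA : N ≤ N[A]
  · exact Or.inr (h.cent_of_norm hN hA)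
  · obtain ⟨n, hn, hn'⟩ := SetLike.not_le_iff_exists.1 hA
    refine Or.inl ((sup_le hle le_sup_left).antisymm ?_)
    rw [← (h.sup_cj (hle hn) hn').2]
    exact sup_le le_sup_right (cj_le_of_mem (mem_sup_left hn) le_sup_right)

/-- the second centre is the centre -/
theorem cent_of_comm (h : IsRankOnePair A B) (hx : x ∈ A ⊔ B)
    (hc : ∀ y ∈ A ⊔ B, ⁅x, y⁆ ∈ C[A ⊔ B]) : x ∈ C[A ⊔ B] := by
  have key : ∀ {A B : Subgroup G}, IsRankOnePair A B → x ∈ A ⊔ B →
      (∀ y ∈ A ⊔ B, ⁅x, y⁆ ∈ C[A ⊔ B]) → x ∈ C[A] := by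
    intro A B h hx hc
    have hn : x ∈ N[A] := by
      by_contra hn
      obtain ⟨h1, h2⟩ := h.sup_cj hx hn
      refine h1.not_norm' ?_
      rintro _ ⟨a, ha, rfl⟩
      have := mul_mem (cent_le_norm _ (cent_anti le_sup_left (hc a (mem_sup_left ha)))) (le_norm A ha)
      simpa [commutatorElement_def] using this
    refine mem_cent.2 fun a ha => ?_
    have h1 : ⁅x, a⁆ ∈ A := by
      rw [commutatorElement_def]
      exact mul_mem (conj_mem hn ha) (inv_mem ha)
    have := h.unip_cent (left_mem A B) h1 (hc a (mem_sup_left ha))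
    exact (commutatorElement_eq_one_iff_mul_comm.1 this).symm
  rw [cent_sup]
  exact ⟨key h hx hc, key h.symm' (by rwa [sup_comm]) (by rwa [sup_comm])⟩

theorem not_nil (h : IsRankOnePair A B) : ¬ Group.IsNilpotent ↥(A ⊔ B) := by
  intro hn
  have key : ∀ n, ∀ x : ↥(A ⊔ B), x ∈ Subgroup.upperCentralSeries ↥(A ⊔ B) n → (x : G) ∈ C[A ⊔ B] := by
    intro n
    induction n with
    | zero => intro x hx; rw [Subgroup.upperCentralSeries_zero, mem_bot] at hx; subst hx; exact one_mem _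
    | succ n ih =>
      intro x hx
      refine h.cent_of_comm x.2 fun y hy => ?_
      exact ih _ (Subgroup.mem_upperCentralSeries_succ_iff.1 hx (⟨y, hy⟩ : ↥(A ⊔ B)))
  obtain ⟨n, hn⟩ := hn.nilpotent
  exact h.not_cent fun a ha => cent_anti le_sup_right (key n ⟨a, mem_sup_left ha⟩ (hn ▸ mem_top _))

end Cfsg.IsRankOnePair
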