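import Cfsg.Agent.H11.R1a

/-! Special rank one groups; quadratic action of rank one groups. -/

set_option autoImplicit false
set_option linter.unusedSectionVars false

open Subgroup Cfsg H16 Cfsg.IsRankOnePair
open scoped commutatorElement

namespace H16.H11

variable {G : Type*} [Group G] {A B C D N : Subgroup G} {a a' b b' c d g x y : G}

/-- `b` is the partner of `a` -/
structure RP (A B : Subgroup G) (a b : G) : Prop where
  ma : a ∈ A
  mb : b ∈ B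
  a1 : a ≠ 1
  b1 : b ≠ 1
  eq : A :^ b = B :^ a

theorem RP.symm (h : RP A B a b) : RP B A b a := ⟨h.mb, h.ma, h.b1, h.a1, h.eq.symm⟩

theorem RP.ex (h : IsRankOnePair A B) (ha : a ∈ A) (h1 : a ≠ 1) : ∃ b, RP A B a b := by
  obtain ⟨b, hb, h2, e⟩ := h.ex ha h1
  exact ⟨b, ha, hb, h1, h2, e⟩

theorem RP.ex' (h : IsRankOnePair A B) (hb : b ∈ B) (h1 : b ≠ 1) : ∃ a, RP A B a b := by
  obtain ⟨a, h⟩ := RP.ex h.symm' hb h1
  exact ⟨a, h.symm⟩

theorem RP.uniq (h : IsRankOnePair A B) (h1 : RP A B a b) (h2 : RP A B a' b) : a = a' :=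
  h.cj_inj h1.ma h2.ma (h1.eq.symm.trans h2.eq)

theorem RP.uniq' (h : IsRankOnePair A B) (h1 : RP A B a b) (h2 : RP A B a b') : b = b' :=
  RP.uniq h.symm' h1.symm h2.symm

theorem RP.cj (h : RP A B a b) (g : G) : RP (A :^ g) (B :^ g) (g * a * g⁻¹) (g * b * g⁻¹) := by
  refine ⟨cj_mem h.ma, cj_mem h.mb, by simpa using h.a1, by simpa using h.b1, ?_⟩
  rw [cj_cj, cj_cj, inv_mul_cancel_right, inv_mul_cancel_right, ← cj_cj, ← cj_cj, h.eq]

theorem special_iff : IsSpecialRankOnePair A B ↔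
    IsRankOnePair A B ∧ ∀ a b, RP A B a b → b * a * b⁻¹ = a * b⁻¹ * a⁻¹ := by
  refine and_congr Iff.rfl ⟨fun h a b r => ?_, fun h a ha a1 b hb b1 e => ?_⟩
  · have := h a⁻¹ (inv_mem r.ma) (inv_ne_one.2 r.a1) b⁻¹ (inv_mem r.mb) (inv_ne_one.2 r.b1)
      (by rw [inv_inv, inv_inv]; exact r.eq)
    simpa [mul_assoc] using congrArg (·⁻¹) this
  · have := h a⁻¹ b⁻¹ ⟨inv_mem ha, inv_mem hb, inv_ne_one.2 a1, inv_ne_one.2 b1, e⟩
    simpa [mul_assoc] using congrArg (·⁻¹) this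

theorem sp_symm (h : IsSpecialRankOnePair A B) : IsSpecialRankOnePair B A := by
  rw [special_iff] at h ⊢
  refine ⟨h.1.symm', fun b a r => ?_⟩
  simpa [mul_assoc] using (congrArg (·⁻¹) (h.2 a b r.symm)).symm

theorem sp_cj (h : IsSpecialRankOnePair A B) (g : G) : IsSpecialRankOnePair (A :^ g) (B :^ g) := by
  rw [special_iff] at h ⊢
  refine ⟨h.1.cj g, fun a b r => ?_⟩
  have r' := r.cj g⁻¹
  rw [cj_cj_inv, cj_cj_inv] at r'
  have := congrArg (fun x => g * x * g⁻¹) (h.2 _ _ r')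
  simpa [mul_assoc] using this

theorem sp_unip (h : IsSpecialRankOnePair A B) (hC : C ∈ unipotentSubgroups A B)
    (hD : D ∈ unipotentSubgroups A B) (hne : C ≠ D) : IsSpecialRankOnePair C D := by
  obtain ⟨x, -, rfl, rfl⟩ := h.1.two hC hD hne
  exact sp_cj h x

section special
variable (h : IsSpecialRankOnePair A B) (r : RP A B a b)
include h r

theorem RP.sp : b * a * b⁻¹ = a * b⁻¹ * a⁻¹ := (special_iff.1 h).2 a b r

theorem RP.braid : a * b⁻¹ * a = b⁻¹ * a * b⁻¹ := by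
  calc a * b⁻¹ * a = b⁻¹ * (b * a * b⁻¹) * a := by group
    _ = b⁻¹ * a * b⁻¹ := by rw [r.sp h]; group

theorem RP.m_a : (a * b⁻¹ * a) * a * (a * b⁻¹ * a)⁻¹ = b⁻¹ := by
  rw [mul_inv_eq_iff_eq_mul]
  calc a * b⁻¹ * a * a = (b⁻¹ * a * b⁻¹) * a := by rw [r.braid h]
    _ = _ := by group

theorem RP.m_a' : (a * b⁻¹ * a)⁻¹ * a * (a * b⁻¹ * a) = b⁻¹ := by
  rw [mul_assoc, inv_mul_eq_iff_eq_mul]
  calc a * (a * b⁻¹ * a) = a * (b⁻¹ * a * b⁻¹) := by rw [r.braid h]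
    _ = _ := by group

theorem RP.m_b : (a * b⁻¹ * a) * b * (a * b⁻¹ * a)⁻¹ = a⁻¹ := by
  have := r.m_a' h
  generalize a * b⁻¹ * a = m at *
  rw [← inv_inv b, ← this]; group

theorem RP.m_b' : (a * b⁻¹ * a)⁻¹ * b * (a * b⁻¹ * a) = a⁻¹ := by
  have := r.m_a h
  generalize a * b⁻¹ * a = m at *
  rw [← inv_inv b, ← this]; group

theorem RP.m_mem : a * b⁻¹ * a ∈ A ⊔ B :=
  mul_mem (mul_mem (mem_sup_left r.ma) (mem_sup_right (inv_mem r.mb))) (mem_sup_left r.ma)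

theorem RP.B_m : B :^ (a * b⁻¹ * a) = A := by
  rw [r.braid h, ← cj_cj, cj_self (inv_mem r.mb), ← cj_cj, ← r.eq, cj_cj_inv]

theorem RP.A_m : A :^ (a * b⁻¹ * a) = B := by
  refine (h.1.unip_eq_of_mem h.1.right_mem (unip_cj (r.m_mem h) (left_mem A B)) (inv_mem r.mb)
    (le_norm _ ?_) (inv_ne_one.2 r.b1)).symm
  have := cj_mem (g := a * b⁻¹ * a) r.ma
  rwa [r.m_a h] at this

theorem RP.A_m' : A :^ (a * b⁻¹ * a)⁻¹ = B := (cj_eq_iff.1 (r.B_m h)).symm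

theorem RP.B_m' : B :^ (a * b⁻¹ * a)⁻¹ = A := (cj_eq_iff.1 (r.A_m h)).symm

theorem RP.inv : RP A B a⁻¹ b⁻¹ := by
  refine ⟨inv_mem r.ma, inv_mem r.mb, inv_ne_one.2 r.a1, inv_ne_one.2 r.b1, ?_⟩
  rw [← r.A_m h, cj_cj, show a⁻¹ * (a * b⁻¹ * a) = b⁻¹ * a by group, ← cj_cj, cj_self r.ma]

theorem RP.pow_eq_one (n : ℕ) : a ^ n = 1 ↔ b ^ n = 1 := by
  rw [← inv_eq_one (a := b ^ n), ← inv_pow, ← r.m_a h, conj_pow, H16.conj_eq_one_iff]

end special

/-- roots in special rank one groups -/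
theorem RP.root (h : IsSpecialRankOnePair A B) (k : ℕ) :
    ∀ {a b y : G}, RP A B a b → RP A B y (b ^ k) → y ^ k = a := by
  induction k with
  | zero => intro a b y _ r; exact absurd (pow_zero b) r.b1
  | succ k ih =>
    intro a b y r ry
    by_cases hk : b ^ k = 1
    · rw [pow_succ, hk, one_mul] at ry
      rw [RP.uniq h.1 ry r, pow_succ, (r.pow_eq_one h k).2 hk, one_mul]
    obtain ⟨c, rc⟩ := RP.ex' h.1 (pow_mem r.mb k) hk
    have hc : c ^ k = a := ih r rc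
    have h1 : c ^ (k + 1) ≠ 1 := by
      intro e
      rw [pow_succ', hc, mul_eq_one_iff_eq_inv] at e
      rw [e] at rc
      exact ry.b1 (by rw [pow_succ, RP.uniq' h.1 rc (r.inv h), inv_mul_cancel])
    obtain ⟨e, re⟩ := RP.ex' h.1 (pow_mem rc.mb (k + 1)) (fun e => h1 ((rc.pow_eq_one h _).2 e))
    have he : e ^ k = y := ih ry (by rwa [← pow_mul, mul_comm, pow_mul])
    have h2 : y = c * e⁻¹ := by
      refine h.1.cj_inj ry.ma (mul_mem rc.ma (inv_mem re.ma)) ?_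
      have h3 := rc.m_a' h
      have h4 := rc.B_m' h
      have h5 : b ^ k * a = c * (b ^ k)⁻¹ ^ (k + 1) * (c * (b ^ k)⁻¹ * c)⁻¹ := by
        have h6 : (b ^ k)⁻¹ ^ (k + 1) = (c * (b ^ k)⁻¹ * c)⁻¹ * c ^ (k + 1) * (c * (b ^ k)⁻¹ * c) := by
          conv_lhs => rw [← h3]
          generalize c * (b ^ k)⁻¹ * c = m
          simpa using conj_pow (a := m⁻¹) (b := c) (i := k + 1)
        rw [← hc, h6]
        group
      rw [← ry.eq, pow_succ, ← cj_cj, r.eq, cj_cj, h5, ← cj_cj, h4, ← cj_cj, inv_pow, (re.inv h).eq,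
        cj_cj]
    have h3 : e ^ (k + 1) = c := by rw [pow_succ, he, h2, inv_mul_cancel_right]
    rw [← he, ← pow_mul, mul_comm, pow_mul, h3, hc]

theorem RP.root' (h : IsSpecialRankOnePair A B) (k : ℕ) (r : RP A B a b) (r' : RP A B (a ^ k) d) :
    d ^ k = b := RP.root (sp_symm h) k r.symm r'.symm

theorem sp_div (h : IsSpecialRankOnePair A B) (ha : a ∈ A) {k : ℕ} (hk : a ^ k ≠ 1) :
    ∃ c ∈ A, c ^ k = a := by
  obtain ⟨b, r⟩ := RP.ex h.1 ha (by rintro rfl; exact hk (one_pow k))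
  obtain ⟨c, rc⟩ := RP.ex' h.1 (pow_mem r.mb k) fun e => hk ((r.pow_eq_one h k).2 e)
  exact ⟨c, rc.ma, RP.root h k r rc⟩

theorem sp_root_uniq (h : IsSpecialRankOnePair A B) (ha : a ∈ A) (hc : c ∈ A) {k : ℕ} (hk : a ^ k ≠ 1)
    (e : a ^ k = c ^ k) : a = c := by
  obtain ⟨b, r⟩ := RP.ex h.1 ha (by rintro rfl; exact hk (one_pow k))
  obtain ⟨b', r'⟩ := RP.ex h.1 hc (by rintro rfl; exact hk (e.trans (one_pow k)))
  obtain ⟨d, rd⟩ := RP.ex h.1 (pow_mem ha k) hk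
  have h1 := RP.root' h k r rd
  have h2 := RP.root' h k r' (e ▸ rd)
  exact RP.uniq h.1 r (h1.symm.trans h2 ▸ r')

theorem sp_exp (h : IsSpecialRankOnePair A B) (hA : IsMulCommutative A) (ha : a ∈ A) (a1 : a ≠ 1)
    {k : ℕ} (hk : a ^ k = 1) (hc : c ∈ A) : c ^ k = 1 := by
  by_contra h1
  have h2 : Commute c a := mem_cent.1 (comm_iff.1 hA ha) c hc
  have := sp_root_uniq h hc (mul_mem hc ha) h1 (by rw [h2.mul_pow, hk, mul_one])
  exact a1 (by simpa using this)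

theorem exists_prime_pow_eq_one (a1 : a ≠ 1) (hf : IsOfFinOrder a) :
    ∃ p : ℕ, p.Prime ∧ ∃ n : ℕ, a ^ n ≠ 1 ∧ (a ^ n) ^ p = 1 := by
  have h0 := hf.orderOf_pos
  have h1 : orderOf a ≠ 1 := by simpa using a1
  obtain ⟨p, hp, n, hn⟩ := Nat.exists_prime_and_dvd h1
  refine ⟨p, hp, n, fun e => ?_, by rw [← pow_mul, mul_comm, ← hn, pow_orderOf_eq_one]⟩
  have h2 := Nat.le_of_dvd (by rw [hn] at h0; exact Nat.pos_of_mul_pos_left h0)
    (orderOf_dvd_of_pow_eq_one e)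
  have := hp.two_le
  nlinarith

/-- In a special rank one group with abelian unipotent subgroups of order `> 3`: `A = [A, H]`. -/
theorem sp_comm_diag (h : IsSpecialRankOnePair A B) (hA : IsMulCommutative A) (hB : IsMulCommutative B)
    (h3 : ∀ a ∈ A, ∃ x ∈ A, x ≠ 1 ∧ x ≠ a ∧ x ≠ a⁻¹) : ⁅A, rankOneDiagonal A B⁆ = A := by
  set K := ⁅A, rankOneDiagonal A B⁆
  have hKA : K ≤ A := comm_le_left fun g hg => hg.1.2
  have cA : ∀ {x y}, x ∈ A → y ∈ A → x * y = y * x := fun hx hy => mem_cent.1 (comm_iff.1 hA hy) _ hx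
  have key : ∀ {a b x β y : G}, RP A B a b → RP A B x β → RP A B y (b * β) → y * x ∈ K := by
    intro a b x β y r rx ry
    have h1 : a * x ≠ 1 := fun e => by
      rw [mul_eq_one_iff_eq_inv] at e
      rw [e] at r
      exact ry.b1 (by rw [RP.uniq' h.1 r (rx.inv h), inv_mul_cancel])
    obtain ⟨γ, rw⟩ := RP.ex h.1 (mul_mem r.ma rx.ma) h1
    set m := a * b⁻¹ * a with hm
    set w := a * x with hw
    set n := w * γ⁻¹ * w with hn
    have hg : m⁻¹ * n ∈ rankOneDiagonal A B := by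
      refine ⟨⟨(A ⊔ B).mul_mem (inv_mem (r.m_mem h)) (rw.m_mem h), ?_⟩, ?_⟩
      · exact cj_eq_self_iff.1 (by rw [← cj_cj, rw.A_m h, r.B_m' h])
      · exact cj_eq_self_iff.1 (by rw [← cj_cj, rw.B_m h, r.A_m' h])
    have h2 : m⁻¹ * γ * m ∈ A := by
      have := cj_mem (g := m⁻¹) rw.mb
      rwa [inv_inv, r.B_m' h] at this
    have h4 : y = a * (m⁻¹ * γ * m) := by
      refine h.1.cj_inj ry.ma (mul_mem r.ma h2) ?_
      rw [← ry.eq, ← cj_cj, rx.eq, cj_cj, show b * x = a * m⁻¹ * w by rw [hm, hw]; group, ← cj_cj,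
        ← rw.eq, cj_cj, show a * m⁻¹ * γ = a * (m⁻¹ * γ * m) * m⁻¹ by group, ← cj_cj, r.A_m' h]
    have h5 : γ = n * w⁻¹ * n⁻¹ := by
      have := rw.m_a h
      rw [← hn] at this
      rw [← inv_inv γ, ← this]; group
    have h6 : ⁅w, m⁻¹ * n⁆ ∈ K := commutator_mem_commutator rw.ma hg
    have h7 : y * x = ⁅w, m⁻¹ * n⁆ := by
      rw [h4, mul_assoc, cA h2 rx.ma, ← mul_assoc, ← hw, commutatorElement_def]
      conv_lhs => rw [h5]
      group
    exact h7 ▸ h6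
  have key2 : ∀ {a x : G}, a ∈ A → x ∈ A → a ≠ 1 → x ≠ 1 → x ≠ a⁻¹ → a⁻¹ * x ∈ K := by
    intro a x ha hx a1 x1 hne
    obtain ⟨b, r⟩ := RP.ex h.1 ha a1
    obtain ⟨β, rx⟩ := RP.ex h.1 hx x1
    obtain ⟨y, ry⟩ := RP.ex' h.1 (mul_mem r.mb rx.mb) fun e => by
      rw [mul_eq_one_iff_eq_inv'] at e
      rw [e] at rx
      exact hne (RP.uniq h.1 rx (r.inv h))
    have h1 := key r rx ry
    have h2 := key rx r (by rwa [← mem_cent.1 (comm_iff.1 hB rx.mb) _ r.mb])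
    simpa [mul_assoc] using mul_mem (inv_mem h2) h1
  refine hKA.antisymm fun a ha => ?_
  by_contra hn
  have a1 : a ≠ 1 := by rintro rfl; exact hn (one_mem _)
  obtain ⟨x, hx, x1, h1, h2⟩ := h3 a ha
  have h4 := key2 ha hx a1 x1 h2
  have h5 := key2 ha (mul_mem (inv_mem ha) hx) a1 (fun e => h1 (inv_mul_eq_one.1 e).symm)
    (by simpa using x1)
  exact hn (by simpa [mul_assoc] using inv_mem (mul_mem h5 (inv_mem h4)))

/-! ### Quadratic action -/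

section quad
variable {R : Type*} [Ring R] (ρ : G →* R)

theorem quad_inv (hq : (ρ a - 1) * (ρ a - 1) = 0) : ρ a⁻¹ = 1 - (ρ a - 1) := by
  have h1 : ρ a * (1 - (ρ a - 1)) = 1 := by
    calc _ = 1 - (ρ a - 1) * (ρ a - 1) := by noncomm_ring
      _ = 1 := by rw [hq, sub_zero]
  calc ρ a⁻¹ = ρ a⁻¹ * (ρ a * (1 - (ρ a - 1))) := by rw [h1, mul_one]
    _ = _ := by rw [← mul_assoc, ← map_mul, inv_mul_cancel, map_one, one_mul]

theorem quad_cj (hq : ∀ a ∈ A, ∀ a' ∈ A, (ρ a - 1) * (ρ a' - 1) = 0) (g : G) :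
    ∀ a ∈ A :^ g, ∀ a' ∈ A :^ g, (ρ a - 1) * (ρ a' - 1) = 0 := by
  rintro _ ⟨a, ha, rfl⟩ _ ⟨a', ha', rfl⟩
  have e : ∀ x, ρ ((MulAut.conj g).toMonoidHom x) - 1 = ρ g * (ρ x - 1) * ρ g⁻¹ := fun x => by
    rw [mul_sub, sub_mul, mul_one, ← map_mul, ← map_mul, ← map_mul, mul_inv_cancel, map_one]; rfl
  rw [e, e]
  calc _ = ρ g * (ρ a - 1) * (ρ g⁻¹ * ρ g) * (ρ a' - 1) * ρ g⁻¹ := by noncomm_ring
    _ = 0 := by
      rw [← map_mul, inv_mul_cancel, map_one, mul_one, mul_assoc (ρ g), hq a ha a' ha', mul_zero, zero_mul]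

theorem quad_key (hA : ∀ a ∈ A, ∀ a' ∈ A, (ρ a - 1) * (ρ a' - 1) = 0)
    (hB : ∀ a ∈ B, ∀ a' ∈ B, (ρ a - 1) * (ρ a' - 1) = 0) (r : RP A B a b) (ha' : a' ∈ A) (hb' : b' ∈ B) :
    (ρ a' - 1) * (ρ b - 1) * (ρ a - 1) * (ρ b' - 1) = (ρ a' - 1) * (ρ b' - 1) := by
  have h1 := quad_cj ρ hA b _ (cj_mem ha') _ (r.eq ▸ cj_mem hb')
  have e : ∀ x g, ρ (g * x * g⁻¹) - 1 = ρ g * (ρ x - 1) * ρ g⁻¹ := fun x g => by
    rw [mul_sub, sub_mul, mul_one, ← map_mul, ← map_mul, ← map_mul, mul_inv_cancel, map_one]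
  rw [e, e] at h1
  have h2 : (ρ a' - 1) * (ρ b⁻¹ * ρ a) * (ρ b' - 1) = 0 := by
    calc _ = ρ b⁻¹ * ρ b * ((ρ a' - 1) * (ρ b⁻¹ * ρ a) * (ρ b' - 1)) * (ρ a⁻¹ * ρ a) := by
          rw [← map_mul ρ b⁻¹ b, ← map_mul ρ a⁻¹, inv_mul_cancel, inv_mul_cancel, map_one, one_mul, mul_one]
      _ = ρ b⁻¹ * (ρ b * (ρ a' - 1) * ρ b⁻¹ * (ρ a * (ρ b' - 1) * ρ a⁻¹)) * ρ a := by noncomm_ring
      _ = 0 := by rw [h1, mul_zero, zero_mul]
  rw [quad_inv ρ (hB b r.mb b r.mb)] at h2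
  have h3 := hA a' ha' a r.ma
  have h4 := hB b r.mb b' hb'
  generalize ρ a' - 1 = α' at *
  generalize ρ b' - 1 = β' at *
  generalize ρ b - 1 = β at *
  obtain ⟨α, hα⟩ : ∃ α, ρ a = 1 + α := ⟨ρ a - 1, by abel⟩
  rw [hα] at h2 h3 ⊢
  rw [add_sub_cancel_left] at h3 ⊢
  calc _ = α' * β' + (α' * α) * β' - α' * (β * β') - α' * ((1 - β) * (1 + α)) * β' := by noncomm_ring
    _ = _ := by rw [h2, h3, h4]; noncomm_ring

/-- an element whose `ρ - 1` annihilates all `ρ - 1` of generators on both sides commutes with the group mod kernel -/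
theorem quad_comm {z : G} (h1 : ∀ a ∈ A, (ρ z - 1) * (ρ a - 1) = 0 ∧ (ρ a - 1) * (ρ z - 1) = 0)
    (h2 : ∀ a ∈ B, (ρ z - 1) * (ρ a - 1) = 0 ∧ (ρ a - 1) * (ρ z - 1) = 0) (hx : x ∈ A ⊔ B) :
    ρ ⁅z, x⁆ = 1 := by
  have key : ∀ a, (ρ z - 1) * (ρ a - 1) = 0 ∧ (ρ a - 1) * (ρ z - 1) = 0 → ρ a * ρ z = ρ z * ρ a := by
    rintro a ⟨h1, h2⟩
    calc _ = (ρ a - 1) * (ρ z - 1) + ρ a + ρ z - 1 := by noncomm_ring
      _ = (ρ z - 1) * (ρ a - 1) + ρ a + ρ z - 1 := by rw [h1, h2]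
      _ = _ := by noncomm_ring
  have h3 : A ⊔ B ≤ (C1[ρ.toHomUnits z]).comap ρ.toHomUnits :=
    sup_le (fun a ha => mem_cent1.2 (Units.ext (key a (h1 a ha))))
      (fun a ha => mem_cent1.2 (Units.ext (key a (h2 a ha))))
  have h4 : ρ.toHomUnits ⁅z, x⁆ = 1 := by
    rw [map_commutatorElement, commutatorElement_eq_one_iff_mul_comm]
    exact (mem_cent1.1 (h3 hx)).symm
  exact congrArg Units.val h4

theorem quad_unip (h : IsRankOnePair A B) (hA : ∀ a ∈ A, ∀ a' ∈ A, (ρ a - 1) * (ρ a' - 1) = 0)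
    (hC : C ∈ unipotentSubgroups A B) : ∀ a ∈ C, ∀ a' ∈ C, (ρ a - 1) * (ρ a' - 1) = 0 := by
  obtain ⟨x, -, rfl⟩ := hC
  exact quad_cj ρ hA x

/-- a rank one group acting quadratically with central kernel is special -/
theorem sp_of_quad (h : IsRankOnePair A B) (hA : ∀ a ∈ A, ∀ a' ∈ A, (ρ a - 1) * (ρ a' - 1) = 0)
    (hk : ∀ x ∈ A ⊔ B, ρ x = 1 → x ∈ C[A ⊔ B]) : IsSpecialRankOnePair A B := by
  refine special_iff.2 ⟨h, fun a b r => ?_⟩
  have hB := quad_unip ρ h hA h.right_mem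
  have hD := unip_cj (mem_sup_right r.mb) (left_mem A B)
  have hu : b * a * b⁻¹ ∈ A :^ b := cj_mem r.ma
  have hw : a * b * a⁻¹ ∈ A :^ b := r.eq ▸ cj_mem r.mb
  have hz := mul_mem hw hu
  have e : ρ (a * b * a⁻¹ * (b * a * b⁻¹)) - 1 =
      (ρ a - 1) - (ρ a - 1) * (ρ b - 1) * (ρ a - 1) + ((ρ b - 1) - (ρ b - 1) * (ρ a - 1) * (ρ b - 1)) := by
    have h1 := quad_unip ρ h hA hD _ hw _ hu
    have h2 : ρ (a * b * a⁻¹ * (b * a * b⁻¹)) - 1 = (ρ (a * b * a⁻¹) - 1) + (ρ (b * a * b⁻¹) - 1) := by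
      rw [map_mul, ← add_zero (_ + _), ← h1]; noncomm_ring
    have h3 := hA a r.ma a r.ma
    have h4 := hB b r.mb b r.mb
    rw [h2]
    simp only [map_mul, quad_inv ρ h3, quad_inv ρ h4]
    obtain ⟨α, hα⟩ : ∃ α, ρ a = 1 + α := ⟨ρ a - 1, by abel⟩
    obtain ⟨β, hβ⟩ : ∃ β, ρ b = 1 + β := ⟨ρ b - 1, by abel⟩
    simp only [hα, hβ, add_sub_cancel_left] at h3 h4 ⊢
    calc _ = α - α * β * α + (β - β * α * β) - α * α - β * β := by noncomm_ring
      _ = _ := by rw [h3, h4]; noncomm_ring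
  have h5 : a * b * a⁻¹ * (b * a * b⁻¹) = 1 := by
    refine h.unip_cent hD hz (h.cent_of_comm (unip_le hD hz) fun y hy => hk _ ?_ (quad_comm ρ ?_ ?_ hy))
    · rw [commutatorElement_def]
      exact mul_mem (mul_mem (mul_mem (unip_le hD hz) hy) (inv_mem (unip_le hD hz))) (inv_mem hy)
    · intro a' ha'
      have k1 := quad_key ρ hB hA r.symm r.mb ha'
      have k2 := quad_key ρ hA hB r ha' r.mb
      have k3 := hA a r.ma a' ha'
      have k4 := hA a' ha' a r.ma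
      rw [e]
      generalize ρ a' - 1 = α' at *
      generalize ρ a - 1 = α at *
      generalize ρ b - 1 = β at *
      constructor
      · calc _ = α * α' - α * β * (α * α') + (β * α' - β * α * β * α') := by noncomm_ring
          _ = 0 := by rw [k1, k3]; noncomm_ring
      · calc _ = α' * α - (α' * α) * β * α + (α' * β - α' * β * α * β) := by noncomm_ring
          _ = 0 := by rw [k2, k4]; noncomm_ring
    · intro b' hb'
      have k1 := quad_key ρ hB hA r.symm hb' r.ma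
      have k2 := quad_key ρ hA hB r r.ma hb'
      have k3 := hB b r.mb b' hb'
      have k4 := hB b' hb' b r.mb
      rw [e]
      generalize ρ b' - 1 = β' at *
      generalize ρ a - 1 = α at *
      generalize ρ b - 1 = β at *
      constructor
      · calc _ = α * β' - α * β * α * β' + (β * β' - β * α * (β * β')) := by noncomm_ring
          _ = 0 := by rw [k2, k3]; noncomm_ring
      · calc _ = β' * α - β' * α * β * α + (β' * β - (β' * β) * α * β) := by noncomm_ring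
          _ = 0 := by rw [k1, k4]; noncomm_ring
  rw [eq_inv_of_mul_eq_one_right h5]; group

end quad

end H16.H11
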