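import Cfsg.Agent.H11.R1b

/-! Abstract root subgroups: the commutator case and first properties. -/

set_option autoImplicit false
set_option linter.unusedSectionVars false

open Subgroup Cfsg H16 Cfsg.IsRankOnePair H16.H11
open scoped commutatorElement

namespace H16.H11

variable {G : Type*} [Group G] {S : Set (Subgroup G)} {A B C D E N : Subgroup G} {a a' b b' c d g x y : G}

theorem comm_mul_right' (h : Commute b ⁅a, b'⁆) : ⁅a, b * b'⁆ = ⁅a, b⁆ * ⁅a, b'⁆ := by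
  calc ⁅a, b * b'⁆ = ⁅a, b⁆ * (b * ⁅a, b'⁆) * b⁻¹ := by simp only [commutatorElement_def]; group
    _ = _ := by rw [h.eq]; group

theorem comm_mul_left' (h : Commute a ⁅a', b⁆) : ⁅a * a', b⁆ = ⁅a', b⁆ * ⁅a, b⁆ := by
  calc ⁅a * a', b⁆ = (a * ⁅a', b⁆) * a⁻¹ * ⁅a, b⁆ := by simp only [commutatorElement_def]; group
    _ = _ := by rw [h.eq]; group

theorem commute_of_le (h : A ≤ C[B]) (ha : a ∈ A) (hb : b ∈ B) : Commute a b := (mem_cent.1 (h ha) b hb).symm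

theorem le_cent_iff : A ≤ C[B] ↔ ∀ a ∈ A, ∀ b ∈ B, Commute a b :=
  ⟨fun h _ ha _ hb => commute_of_le h ha hb, fun h a ha => mem_cent.2 fun b hb => (h a ha b hb).symm⟩

/-- the commutator case -/
structure CC (S : Set (Subgroup G)) (A B : Subgroup G) : Prop where
  mem : ⁅A, B⁆ ∈ S
  cA : ⁅A, B⁆ ≤ C[A]
  cB : ⁅A, B⁆ ≤ C[B]
  exr : ∀ a ∈ A, a ≠ 1 → ∀ c ∈ ⁅A, B⁆, ∃ b ∈ B, ⁅a, b⁆ = c
  exl : ∀ b ∈ B, b ≠ 1 → ∀ c ∈ ⁅A, B⁆, ∃ a ∈ A, ⁅a, b⁆ = c

theorem CC.symm (h : CC S A B) : CC S B A := by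
  refine ⟨commutator_comm A B ▸ h.mem, commutator_comm A B ▸ h.cB, commutator_comm A B ▸ h.cA,
    fun b hb b1 c hc => ?_, fun a ha a1 c hc => ?_⟩
  · obtain ⟨a, ha, e⟩ := h.exl b hb b1 c⁻¹ (inv_mem (commutator_comm A B ▸ hc))
    exact ⟨a, ha, by rw [← commutatorElement_inv, e, inv_inv]⟩
  · obtain ⟨b, hb, e⟩ := h.exr a ha a1 c⁻¹ (inv_mem (commutator_comm A B ▸ hc))
    exact ⟨b, hb, by rw [← commutatorElement_inv, e, inv_inv]⟩

theorem cc_iff : RootCommutatorCase S A B ↔ CC S A B := by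
  constructor
  · rintro ⟨h1, h2, h3, h4⟩
    have cA : ⁅A, B⁆ ≤ C[A] := fun c hc => mem_cent.2 fun a ha => (h2 c hc a (mem_sup_left ha)).symm
    have cB : ⁅A, B⁆ ≤ C[B] := fun c hc => mem_cent.2 fun a ha => (h2 c hc a (mem_sup_right ha)).symm
    refine ⟨h1, cA, cB, fun a ha a1 c hc => ?_, fun b hb b1 c hc => ?_⟩
    · rw [← h3 a ha a1] at hc
      induction hc using closure_induction with
      | mem x hx => exact hx
      | one => exact ⟨1, one_mem _, by simp⟩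
      | mul x y _ _ hx hy =>
        obtain ⟨b, hb, rfl⟩ := hx
        obtain ⟨b', hb', rfl⟩ := hy
        exact ⟨_, mul_mem hb hb', comm_mul_right' (commute_of_le cB (commutator_mem_commutator ha hb') hb).symm⟩
      | inv x _ hx =>
        obtain ⟨b, hb, rfl⟩ := hx
        refine ⟨_, inv_mem hb, eq_inv_of_mul_eq_one_right ?_⟩
        rw [← comm_mul_right' (commute_of_le cB (commutator_mem_commutator ha (inv_mem hb)) hb).symm]
        simp
    · rw [← h4 b hb b1] at hc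
      induction hc using closure_induction with
      | mem x hx => exact hx
      | one => exact ⟨1, one_mem _, by simp⟩
      | mul x y _ _ hx hy =>
        obtain ⟨a, ha, rfl⟩ := hx
        obtain ⟨a', ha', rfl⟩ := hy
        exact ⟨_, mul_mem ha' ha, comm_mul_left' (commute_of_le cA (commutator_mem_commutator ha hb) ha').symm⟩
      | inv x _ hx =>
        obtain ⟨a, ha, rfl⟩ := hx
        refine ⟨_, inv_mem ha, eq_inv_of_mul_eq_one_left ?_⟩
        rw [← comm_mul_left' (commute_of_le cA (commutator_mem_commutator (inv_mem ha) hb) ha).symm]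
        simp
  · intro h
    refine ⟨h.mem, fun c hc x hx => (mem_cent.1 (le_cent_sup h.cA h.cB hc) x hx).symm,
      fun a ha a1 => le_antisymm ((closure_le _).2 ?_) fun c hc => subset_closure (h.exr a ha a1 c hc),
      fun b hb b1 => le_antisymm ((closure_le _).2 ?_) fun c hc => subset_closure (h.exl b hb b1 c hc)⟩
    · rintro _ ⟨b, hb, rfl⟩; exact commutator_mem_commutator ha hb
    · rintro _ ⟨a, ha, rfl⟩; exact commutator_mem_commutator ha hb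

theorem CC.cent (h : CC S A B) : ⁅A, B⁆ ≤ C[A ⊔ B] := le_cent_sup h.cA h.cB

theorem CC.mul_right (h : CC S A B) (ha : a ∈ A) (hb : b ∈ B) (hb' : b' ∈ B) :
    ⁅a, b * b'⁆ = ⁅a, b⁆ * ⁅a, b'⁆ :=
  comm_mul_right' (commute_of_le h.cB (commutator_mem_commutator ha hb') hb).symm

theorem CC.mul_left (h : CC S A B) (ha : a ∈ A) (ha' : a' ∈ A) (hb : b ∈ B) :
    ⁅a * a', b⁆ = ⁅a, b⁆ * ⁅a', b⁆ := by
  rw [comm_mul_left' (commute_of_le h.cA (commutator_mem_commutator ha' hb) ha).symm]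
  refine (commute_of_le h.cent (commutator_mem_commutator ha' hb) ?_).eq
  exact comm_le le_sup_left le_sup_right (commutator_mem_commutator ha hb)

theorem CC.inv_right (h : CC S A B) (ha : a ∈ A) (hb : b ∈ B) : ⁅a, b⁻¹⁆ = ⁅a, b⁆⁻¹ := by
  rw [eq_inv_iff_mul_eq_one, ← h.mul_right ha (inv_mem hb) hb]; simp

theorem CC.inv_left (h : CC S A B) (ha : a ∈ A) (hb : b ∈ B) : ⁅a⁻¹, b⁆ = ⁅a, b⁆⁻¹ := by
  rw [eq_inv_iff_mul_eq_one, ← h.mul_left (inv_mem ha) ha hb]; simp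

/-- `b a b⁻¹ = a ⁅a, b⁆⁻¹` -/
theorem CC.conj_eq (h : CC S A B) (ha : a ∈ A) (hb : b ∈ B) : b * a * b⁻¹ = a * ⁅a, b⁆⁻¹ := by
  rw [← (commute_of_le h.cA (inv_mem (commutator_mem_commutator ha hb)) ha).eq, commutatorElement_def]; group

theorem CC.norm (h : CC S A B) : B ≤ N[A ⊔ ⁅A, B⁆] :=
  norm_of_comm_le (sup_comm_le le_sup_right (by rw [comm_eq_bot.2 h.cB]; exact bot_le)
    (norm_of_le le_sup_left) (norm_of_le le_sup_right))

theorem CC.norm' (h : CC S A B) : A ⊔ B ≤ N[A ⊔ ⁅A, B⁆] := sup_le (norm_of_le le_sup_left) h.norm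

theorem CC.cj_le (h : CC S A B) (hx : x ∈ A ⊔ B) : A :^ x ≤ A ⊔ ⁅A, B⁆ := cj_le_of_norm (h.norm' hx) le_sup_left

theorem nil_of_chain (R : Subgroup G) (T : ℕ → Subgroup G) (h0 : T 0 = ⊥) (hT : ∀ i, ⁅T (i + 1), R⁆ ≤ T i)
    (n : ℕ) (hn : R ≤ T n) : Group.IsNilpotent R := by
  have key : ∀ i, ∀ x : R, (x : G) ∈ T i → x ∈ Subgroup.upperCentralSeries R i := by
    intro i
    induction i with
    | zero =>
      intro x hx
      rw [h0, mem_bot] at hx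
      rw [show x = 1 from Subtype.ext hx]; exact one_mem _
    | succ i ih =>
      intro x hx
      exact Subgroup.mem_upperCentralSeries_succ_iff.2 fun y => ih _ (hT i (commutator_mem_commutator hx y.2))
  exact ⟨n, top_le_iff.1 fun x _ => key n x (hn x.2)⟩

theorem not_nil_of_comm {R : Subgroup G} (hN : N ≠ ⊥) (hle : N ≤ R) (h : N ≤ ⁅N, R⁆) : ¬ Group.IsNilpotent R := by
  intro hn
  obtain ⟨n, hn⟩ := Subgroup.nilpotent_iff_lowerCentralSeries.1 hn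
  have key : ∀ i, N ≤ (Subgroup.lowerCentralSeries (⊤ : Subgroup R) i).map R.subtype := by
    intro i
    induction i with
    | zero => simpa [← MonoidHom.range_eq_map] using hle
    | succ i ih =>
      rw [Subgroup.lowerCentralSeries_succ, Subgroup.map_commutator, ← MonoidHom.range_eq_map, range_subtype]
      exact h.trans (commutator_mono ih le_rfl)
  exact hN (by simpa [hn] using key n)

/-- non-isolated members -/
def NI (S : Set (Subgroup G)) (A : Subgroup G) : Prop := ∃ B ∈ S, IsRankOnePair A B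

theorem ni_iff (hA : A ∈ S) : ¬ IsIsolatedIn (FAdj S) S A ↔ NI S A := by
  constructor
  · intro h
    by_contra hn
    exact h ⟨hA, fun B => ⟨fun h => hn ⟨B, h.2.1, h.2.2⟩, fun h => hn ⟨B, h.1, h.2.2.symm'⟩⟩⟩
  · rintro ⟨B, hB, h⟩ h'
    exact (h'.2 B).1 ⟨hA, hB, h⟩

end H16.H11

namespace Cfsg.IsRootSubgroupSet

variable {G : Type*} [Group G] {S : Set (Subgroup G)} {A B C D E N : Subgroup G} {a a' b b' c d g x y z : G}
  (hS : IsRootSubgroupSet S)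
include hS

theorem cases (hA : A ∈ S) (hB : B ∈ S) : A ≤ C[B] ∨ IsRankOnePair A B ∨ CC S A B := by
  simpa only [comm_eq_bot, cc_iff] using hS.pair A hA B hB

theorem cj (hA : A ∈ S) (g : G) : A :^ g ∈ S := hS.conj_mem A hA g

theorem cent (hA : A ∈ S) : A ≤ C[A] := comm_iff.1 (hS.commutative A hA)

theorem commute (hA : A ∈ S) (ha : a ∈ A) (ha' : a' ∈ A) : Commute a a' := commute_of_le (hS.cent hA) ha ha'

theorem ex_ne (hA : A ∈ S) : ∃ a ∈ A, a ≠ 1 := exists_ne_one (hS.ne_bot A hA)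

theorem ni_cj (h : NI S A) (g : G) : NI S (A :^ g) := by
  obtain ⟨B, hB, h⟩ := h
  exact ⟨_, hS.cj hB g, h.cj g⟩

theorem cc_comm (hA : A ∈ S) (h : CC S A B) : IsMulCommutative ↥(A ⊔ ⁅A, B⁆) :=
  comm_sup (hS.commutative A hA) (hS.commutative _ h.mem) (cent_symm h.cA)

theorem cc_cent (hA : A ∈ S) (h : CC S A B) (hx : x ∈ A ⊔ B) : A :^ x ≤ C[A] :=
  comm_cent (hS.cc_comm hA h) (h.cj_le hx) le_sup_left

theorem cc_not_cent (h : CC S A B) : ¬ A ≤ C[B] := fun hc => hS.ne_bot _ h.mem (comm_eq_bot.2 hc)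

theorem cc_ne (h : CC S A B) : A ≠ ⁅A, B⁆ := fun e => hS.cc_not_cent h (e.le.trans h.cB)

theorem cc_nil (hA : A ∈ S) (hB : B ∈ S) (h : CC S A B) : Group.IsNilpotent ↥(A ⊔ B) := by
  refine nil_of_chain _ (fun i => match i with | 0 => ⊥ | 1 => ⁅A, B⁆ | _ => A ⊔ B) rfl ?_ 2 le_rfl
  have h1 : ⁅A ⊔ B, A ⊔ B⁆ ≤ ⁅A, B⁆ := by
    have hA' := norm_of_cent' h.cA
    have hB' := norm_of_cent' h.cB
    refine sup_comm_le (comm_sup_le ?_ le_rfl hA' hB') (comm_sup_le (commutator_comm _ _).le ?_ hA' hB') hA' hB'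
    · rw [comm_eq_bot.2 (hS.cent hA)]; exact bot_le
    · rw [comm_eq_bot.2 (hS.cent hB)]; exact bot_le
  rintro (_ | _ | i)
  · exact (comm_eq_bot.2 h.cent).le
  · exact h1
  · exact der_le _

theorem rank_of_cj (hC : C ∈ S) (hB : B ∈ S) (hc : c ∈ C) (h : ¬ B :^ c ≤ C[B]) : IsRankOnePair C B := by
  rcases hS.cases hC hB with h1 | h1 | h1
  · rw [cj_cent (h1 hc)] at h; exact absurd (hS.cent hB) h
  · exact h1
  · exact absurd (hS.cc_cent hB h1.symm (mem_sup_right hc)) h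

omit hS in
theorem not_cent_cj (h : IsRankOnePair A B) (ha : a ∈ A) (a1 : a ≠ 1) : ¬ B :^ a ≤ C[B] :=
  (h.unip_pair (unip_cj (mem_sup_left ha) h.right_mem) h.right_mem
    fun e => a1 (h.eq_one ha (cj_eq_self_iff.1 e))).1.not_cent

/-- if `c ∈ C` acts on `B` like a non-identity element of a rank one partner `A` of `B` -/
theorem mem_unip (hC : C ∈ S) (hB : B ∈ S) (h : IsRankOnePair A B) (ha : a ∈ A) (a1 : a ≠ 1) (hc : c ∈ C)
    (e : B :^ c = B :^ a) : IsRankOnePair C B ∧ C ∈ unipotentSubgroups A B := by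
  have h1 := hS.rank_of_cj hC hB hc (e ▸ not_cent_cj h ha a1)
  have c1 : c ≠ 1 := by
    rintro rfl
    exact not_cent_cj h ha a1 (by rw [← e, cj_one]; exact hS.cent hB)
  obtain ⟨b, r⟩ := RP.ex h ha a1
  obtain ⟨b', r'⟩ := RP.ex h1 hc c1
  refine ⟨h1, b'⁻¹ * b, mem_sup_right (mul_mem (inv_mem r'.mb) r.mb), ?_⟩
  rw [conjBy, ← cj_cj, r.eq, ← e, ← r'.eq, cj_cj_inv]

/-- non-isolated members are TI -/
theorem eq_of_mem (hA : A ∈ S) (hn : NI S A) (hC : C ∈ S) (ha : a ∈ A) (hc : a ∈ C) (a1 : a ≠ 1) : C = A := by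
  obtain ⟨B, hB, h⟩ := hn
  exact h.unip_eq_of_mem (hS.mem_unip hC hB h ha a1 hc rfl).2 (left_mem A B) hc (le_norm A ha) a1

theorem inf_eq_bot (hA : A ∈ S) (hn : NI S A) (hC : C ∈ S) (hne : A ≠ C) : A ⊓ C = ⊥ :=
  (eq_bot_iff_forall _).2 fun _ hx => by_contra fun h1 => hne (hS.eq_of_mem hA hn hC hx.1 hx.2 h1).symm

theorem norm_of_commute (hA : A ∈ S) (hn : NI S A) (ha : a ∈ A) (a1 : a ≠ 1) (h : Commute x a) : x ∈ N[A] := by
  refine cj_eq_self_iff.1 (hS.eq_of_mem hA hn (hS.cj hA x) ha ?_ a1)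
  have := cj_mem (g := x) ha
  rwa [h.eq, mul_inv_cancel_right] at this

theorem cent_mul (hA : A ∈ S) (hB : B ∈ S) (h : IsRankOnePair A B) (hz : z ∈ C[A ⊔ B]) (ha : a ∈ A)
    (a1 : a ≠ 1) (hC : C ∈ S) (hc : z * a ∈ C) (h1 : z * a ≠ 1) : z = 1 := by
  have hzA := cent_anti le_sup_left hz
  have h2 := (hS.mem_unip hC hB h ha a1 hc (by
    rw [← mem_cent.1 hzA a ha, ← cj_cj, cj_cent (cent_anti le_sup_right hz)])).2
  have h3 := h.unip_eq_of_mem h2 (left_mem A B) hc (mul_mem (cent_le_norm _ hzA) (le_norm A ha)) h1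
  exact h.unip_cent (left_mem A B) ((mul_mem_cancel_right ha).1 (h3 ▸ hc)) hz

/-- members inside a rank one group -/
theorem unip_or_cent (hA : A ∈ S) (hB : B ∈ S) (h : IsRankOnePair A B) (hE : E ∈ S) (hle : E ≤ A ⊔ B) :
    E ∈ unipotentSubgroups A B ∨ E ≤ C[A ⊔ B] := by
  have key : ∀ F ∈ unipotentSubgroups A B, E ≤ C[F] ∨ E ∈ unipotentSubgroups A B := by
    intro F hF
    have hFS : F ∈ S := by obtain ⟨x, -, rfl⟩ := hF; exact hS.cj hA x
    have hFn : NI S F := by obtain ⟨x, -, rfl⟩ := hF; exact hS.ni_cj ⟨B, hB, h⟩ x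
    rcases hS.cases hE hFS with h1 | h1 | h1
    · exact Or.inl h1
    · obtain ⟨e, he, e1⟩ := hS.ex_ne hE
      obtain ⟨f, r⟩ := RP.ex h1 he e1
      refine Or.inr ?_
      rw [cj_eq_iff.1 r.eq]
      exact unip_cj (inv_mem (unip_le hF r.mb)) (unip_cj (hle he) hF)
    · exfalso
      have h2 : E ≤ N[F] := fun e he => cj_eq_self_iff.1 (by
        by_contra hne
        exact (h.unip_pair (unip_cj (hle he) hF) hF hne).1.not_cent (hS.cc_cent hFS h1.symm (mem_sup_right he)))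
      obtain ⟨c, hc, c1⟩ := hS.ex_ne h1.mem
      exact hS.cc_ne h1.symm (by
        rw [commutator_comm]; exact (hS.eq_of_mem hFS hFn h1.mem (comm_le_right h2 hc) hc c1).symm)
  rcases key A (left_mem A B) with h1 | h1
  · exact (key B h.right_mem).symm.imp id (le_cent_sup h1)
  · exact Or.inl h1

theorem unip_mem (hA : A ∈ S) (hC : C ∈ unipotentSubgroups A B) : C ∈ S := by
  obtain ⟨x, -, rfl⟩ := hC; exact hS.cj hA x

theorem cc_of_mem (hA : A ∈ S) (hB : B ∈ S) (hC : ⁅A, B⁆ ∈ S) : CC S A B := by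
  rcases hS.cases hA hB with h | h | h
  · exact absurd (comm_eq_bot.2 h) (hS.ne_bot _ hC)
  · exfalso
    have hn : A ⊔ B ≤ N[⁅A, B⁆] := sup_le (normalizer_commutator_ge_left A B) (normalizer_commutator_ge_right A B)
    rcases hS.unip_or_cent hA hB h hC (comm_le le_sup_left le_sup_right) with h1 | h1
    · by_cases e : ⁅A, B⁆ = A
      · exact h.not_norm' (le_sup_right.trans (e ▸ hn))
      · exact (h.unip_pair (left_mem A B) h1 (Ne.symm e)).1.not_norm (le_sup_left.trans hn)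
    · refine h.not_cent fun a ha => cent_anti le_sup_right (h.cent_of_comm (mem_sup_left ha) fun y hy => h1 ?_)
      exact comm_sup_le (by rw [comm_eq_bot.2 (hS.cent hA)]; exact bot_le) le_rfl (le_sup_left.trans hn)
        (le_sup_right.trans hn) (commutator_mem_commutator ha hy)
  · exact h

/-- for non-isolated `A`, the commutator map is non-degenerate -/
theorem cc_inj (hA : A ∈ S) (hn : NI S A) (h : CC S A B) (ha : a ∈ A) (a1 : a ≠ 1) (hb : b ∈ B)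
    (hc : Commute a b) : b = 1 := by
  by_contra b1
  have h1 := hS.norm_of_commute hA hn ha a1 hc.symm
  obtain ⟨c, hc, c1⟩ := hS.ex_ne h.mem
  obtain ⟨a', ha', rfl⟩ := h.exl b hb b1 c hc
  refine hS.cc_ne h (hS.eq_of_mem hA hn h.mem ?_ hc c1).symm
  rw [commutatorElement_def, mul_assoc, mul_assoc, ← mul_assoc b]
  exact mul_mem ha' (H16.conj_mem h1 (inv_mem ha'))

theorem cc_inf (hA : A ∈ S) (hn : NI S A) (h : CC S A B) : A ⊓ ⁅A, B⁆ = ⊥ :=
  hS.inf_eq_bot hA hn h.mem (hS.cc_ne h)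

omit hS in
theorem cc_cover (h : CC S A B) (hx : x ∈ A ⊔ ⁅A, B⁆) : x ∈ ⁅A, B⁆ ∨ ∃ b ∈ B, x ∈ A :^ b := by
  obtain ⟨a, ha, c, hc, rfl⟩ := (mem_sup_r (norm_of_cent' h.cA)).1 hx
  by_cases a1 : a = 1
  · left; rwa [a1, one_mul]
  · obtain ⟨b, hb, e⟩ := h.exr a ha a1 c⁻¹ (inv_mem hc)
    refine Or.inr ⟨b, hb, ?_⟩
    rw [← inv_inv c, ← e, ← h.conj_eq ha hb]
    exact cj_mem ha

/-- a member contained in `⁅A, B⁆` is `⁅A, B⁆` -/
theorem cc_eq_of_le (hA : A ∈ S) (hn : NI S A) (h : CC S A B) (hE : E ∈ S) (hle : E ≤ ⁅A, B⁆) : E = ⁅A, B⁆ := by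
  obtain ⟨D, hD, hAD⟩ := hn
  obtain ⟨e, he, e1⟩ := hS.ex_ne hE
  have key : ¬ E ≤ C[D] := by
    intro hc
    obtain ⟨a, ha, a1⟩ := hS.ex_ne hA
    have h1 : e * a ∈ A ⊔ ⁅A, B⁆ := mul_mem (mem_sup_right (hle he)) (mem_sup_left ha)
    have h2 : e * a ∉ ⁅A, B⁆ := fun h2 => a1 (eq_one_of_mem_bot (hS.cc_inf hA ⟨D, hD, hAD⟩ h)
      ⟨ha, by simpa using mul_mem (inv_mem (hle he)) h2⟩)
    obtain ⟨b, -, h3⟩ := (cc_cover h h1).resolve_left h2
    exact e1 (hS.cent_mul hA hD hAD (le_cent_sup (hle.trans h.cA) hc he) ha a1 (hS.cj hA b) h3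
      fun e => h2 (e ▸ one_mem _))
  rcases hS.cases h.mem hD with h1 | h1 | h1
  · exact absurd (hle.trans h1) key
  · exact hS.eq_of_mem h.mem ⟨D, hD, h1⟩ hE (hle he) he e1
  rcases hS.cases hE hD with h2 | h2 | h2
  · exact absurd h2 key
  · exact absurd (nil_of_le (hS.cc_nil h.mem hD h1) (sup_le_sup_right hle _)) h2.not_nil
  refine hle.antisymm fun c hc => ?_
  obtain ⟨d, hd, d1⟩ := hS.ex_ne hD
  obtain ⟨d', hd', e2⟩ := h1.exr e (hle he) e1 _ (commutator_mem_commutator hc hd)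
  obtain ⟨e', he', e3⟩ := h2.exl d hd d1 _ (commutator_mem_commutator he hd')
  have h3 : ⁅e'⁻¹ * c, d⁆ = 1 := by
    rw [h1.mul_left (inv_mem (hle he')) hc hd, h1.inv_left (hle he') hd, e3, e2, inv_mul_cancel]
  have := hS.cc_inj hD ⟨A, hA, hAD.symm'⟩ h1.symm hd d1 (mul_mem (inv_mem (hle he')) hc)
    (commutatorElement_eq_one_iff_commute.1 h3).symm
  exact inv_mul_eq_one.1 this ▸ he'

theorem cc_members (hA : A ∈ S) (hn : NI S A) (h : CC S A B) (hE : E ∈ S) (hle : E ≤ A ⊔ ⁅A, B⁆) :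
    E = ⁅A, B⁆ ∨ ∃ b ∈ B, E = A :^ b := by
  by_cases h1 : E ≤ ⁅A, B⁆
  · exact Or.inl (hS.cc_eq_of_le hA hn h hE h1)
  · obtain ⟨e, he, h2⟩ := SetLike.not_le_iff_exists.1 h1
    obtain ⟨b, hb, h3⟩ := (cc_cover h (hle he)).resolve_left h2
    exact Or.inr ⟨b, hb, hS.eq_of_mem (hS.cj hA b) (hS.ni_cj hn b) hE h3 he fun e => h2 (e ▸ one_mem _)⟩

theorem cc_partition (hA : A ∈ S) (hn : NI S A) (h : CC S A B) :
    IsSubgroupPartition (A ⊔ ⁅A, B⁆) (membersIn S (A ⊔ ⁅A, B⁆)) := by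
  refine ⟨fun C hC => hC.2, fun x hx _ => ?_, fun C hC D hD hne => ?_⟩
  · rcases cc_cover h hx with h1 | ⟨b, hb, h1⟩
    · exact ⟨_, ⟨h.mem, le_sup_right⟩, h1⟩
    · exact ⟨_, ⟨hS.cj hA b, h.cj_le (mem_sup_right hb)⟩, h1⟩
  · rcases hS.cc_members hA hn h hC.1 hC.2 with e | ⟨b, -, e⟩
    · rcases hS.cc_members hA hn h hD.1 hD.2 with e' | ⟨b, -, e'⟩
      · exact absurd (e.trans e'.symm) hne
      · rw [inf_comm]; exact hS.inf_eq_bot hD.1 (e' ▸ hS.ni_cj hn b) hC.1 hne.symm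
    · exact hS.inf_eq_bot hC.1 (e ▸ hS.ni_cj hn b) hD.1 hne

theorem cc_line (hA : A ∈ S) (hn : NI S A) (h : CC S A B) : A ∈ linePartners S ⁅A, B⁆ :=
  ⟨⟨hA, hS.cc_ne h, comm_eq_bot.2 h.cA⟩, by rw [sup_comm]; exact hS.cc_partition hA hn h⟩

theorem eq_top (h : ∀ A ∈ S, A ≤ N) : N = ⊤ := top_le_iff.1 (hS.generates.ge.trans (iSup₂_le h))

end Cfsg.IsRootSubgroupSet
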