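import Cfsg.Agent.H11.R2a

/-! Abstract root subgroups: nilpotent triples, components, lines. -/

set_option autoImplicit false
set_option linter.unusedSectionVars false

open Subgroup Cfsg H16 Cfsg.IsRankOnePair H16.H11 Relation
open scoped commutatorElement

namespace H16.H11

variable {G : Type*} [Group G] {S : Set (Subgroup G)} {A B C D E N R : Subgroup G} {a a' b b' c d g x y : G}

theorem CC.sup_cj (h : CC S A B) (hb : b ∈ B) (b1 : b ≠ 1) : A ⊔ A :^ b = A ⊔ ⁅A, B⁆ := by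
  refine le_antisymm (sup_le le_sup_left (h.cj_le (mem_sup_right hb))) (sup_le le_sup_left fun c hc => ?_)
  obtain ⟨a, ha, rfl⟩ := h.exl b hb b1 c hc
  rw [commutatorElement_def, mul_assoc, mul_assoc, ← mul_assoc b]
  exact mul_mem (mem_sup_left ha) (mem_sup_right (cj_mem (inv_mem ha)))

/-- the upper central series of a subgroup -/
def ucs (R : Subgroup G) (i : ℕ) : Subgroup G := (Subgroup.upperCentralSeries R i).map R.subtype

theorem ucs_norm (R : Subgroup G) (i : ℕ) : R ≤ N[ucs R i] := le_norm_iff.2 (by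
  rintro a ha _ ⟨x, hx, rfl⟩
  exact ⟨_, (inferInstance : (Subgroup.upperCentralSeries R i).Normal).conj_mem x hx ⟨a, ha⟩, rfl⟩)

theorem mem_ucs_succ {i : ℕ} (hx : x ∈ R) (h : ∀ y ∈ R, ⁅x, y⁆ ∈ ucs R i) : x ∈ ucs R (i + 1) := by
  refine ⟨⟨x, hx⟩, Subgroup.mem_upperCentralSeries_succ_iff.2 fun y => ?_, rfl⟩
  obtain ⟨z, hz, e⟩ := h y y.2
  rwa [show ⁅(⟨x, hx⟩ : R), y⁆ = z from Subtype.ext e.symm]

/-- elements of `R` whose commutator with `x` lies in `T` -/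
def commIn (x : G) (R T : Subgroup G) (h : R ≤ N[T]) : Subgroup G where
  carrier := {y | y ∈ R ∧ ⁅x, y⁆ ∈ T}
  one_mem' := ⟨one_mem _, by simp⟩
  mul_mem' := fun {y z} hy hz => ⟨mul_mem hy.1 hz.1, by
    rw [show ⁅x, y * z⁆ = ⁅x, y⁆ * (y * ⁅x, z⁆ * y⁻¹) by simp only [commutatorElement_def]; group]
    exact mul_mem hy.2 (conj_mem (h hy.1) hz.2)⟩
  inv_mem' := fun {y} hy => ⟨inv_mem hy.1, by
    rw [show ⁅x, y⁻¹⁆ = y⁻¹ * ⁅x, y⁆⁻¹ * y by simp only [commutatorElement_def]; group]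
    exact conj_mem' (h hy.1) (inv_mem hy.2)⟩

theorem mem_ucs_gen {i : ℕ} (hx : x ∈ A ⊔ B ⊔ C) (h1 : ∀ y ∈ A, ⁅x, y⁆ ∈ ucs (A ⊔ B ⊔ C) i)
    (h2 : ∀ y ∈ B, ⁅x, y⁆ ∈ ucs (A ⊔ B ⊔ C) i) (h3 : ∀ y ∈ C, ⁅x, y⁆ ∈ ucs (A ⊔ B ⊔ C) i) :
    x ∈ ucs (A ⊔ B ⊔ C) (i + 1) := by
  have : A ⊔ B ⊔ C ≤ commIn x _ _ (ucs_norm (A ⊔ B ⊔ C) i) :=
    sup_le (sup_le (fun y hy => ⟨mem_sup_left (mem_sup_left hy), h1 y hy⟩)
      fun y hy => ⟨mem_sup_left (mem_sup_right hy), h2 y hy⟩) fun y hy => ⟨mem_sup_right hy, h3 y hy⟩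
  exact mem_ucs_succ hx fun y hy => (this hy).2

theorem nil_of_ucs {n : ℕ} (h : R ≤ ucs R n) : Group.IsNilpotent R :=
  ⟨n, top_le_iff.1 fun x _ => by
    obtain ⟨y, hy, e⟩ := h x.2
    rwa [← show y = x from Subtype.ext e]⟩

theorem comm_mem_of_commute {T : Subgroup G} (h : Commute x y) : ⁅x, y⁆ ∈ T := by
  rw [commutatorElement_eq_one_iff_commute.2 h]; exact one_mem _

theorem fadj_symm (h : FAdj S A B) : FAdj S B A := ⟨h.2.1, h.1, h.2.2.symm'⟩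

theorem rtg_lift' {α β : Type*} {r : α → α → Prop} {s : β → β → Prop} (f : α → β)
    (hf : ∀ a b, r a b → ReflTransGen s (f a) (f b)) {a b : α} (h : ReflTransGen r a b) :
    ReflTransGen s (f a) (f b) := by
  induction h with
  | refl => exact .refl
  | tail _ h ih => exact ih.trans (hf _ _ h)

theorem rtg_symm {α : Type*} {r : α → α → Prop} (hr : ∀ a b, r a b → r b a) {a b : α} (h : ReflTransGen r a b) :
    ReflTransGen r b a := by
  induction h with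
  | refl => exact .refl
  | tail _ h ih => exact .head (hr _ _ h) ih

/-- lines -/
def Ln (S : Set (Subgroup G)) (N : Subgroup G) : Prop :=
  IsMulCommutative N ∧ ∀ x ∈ N, x ≠ 1 → ∃ C ∈ S, C ≤ N ∧ x ∈ C

theorem Ln.cj (hS : IsRootSubgroupSet S) (h : Ln S N) (g : G) : Ln S (N :^ g) := by
  refine ⟨(comm_cj g).2 h.1, ?_⟩
  rintro _ ⟨x, hx, rfl⟩ h1
  obtain ⟨C, hC, h2, h3⟩ := h.2 x hx (by rintro rfl; simp at h1)
  exact ⟨_, hS.cj hC g, cj_mono g h2, cj_mem h3⟩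

end H16.H11

namespace Cfsg.IsRootSubgroupSet

variable {G : Type*} [Group G] {S : Set (Subgroup G)} {A B C D E F N : Subgroup G} {a a' b b' c d g x y z : G}
  (hS : IsRootSubgroupSet S)
include hS

theorem cc_der (hA : A ∈ S) (hB : B ∈ S) (h : A ≤ C[B] ∨ CC S A B) : ⁅A ⊔ B, A ⊔ B⁆ ≤ C[A ⊔ B] := by
  have h0 : ⁅A, B⁆ ≤ C[A ⊔ B] := by
    rcases h with h | h
    · rw [comm_eq_bot.2 h]; exact bot_le
    · exact h.cent
  have hn : A ⊔ B ≤ N[C[A ⊔ B]] := norm_cent (le_norm _)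
  have hA' := le_sup_left.trans hn
  have hB' := le_sup_right.trans hn
  refine sup_comm_le (comm_sup_le ?_ h0 hA' hB') (comm_sup_le ((commutator_comm _ _).le.trans h0) ?_ hA' hB') hA' hB'
  · rw [comm_eq_bot.2 (hS.cent hA)]; exact bot_le
  · rw [comm_eq_bot.2 (hS.cent hB)]; exact bot_le

section triple
variable (hA : A ∈ S) (hB : B ∈ S) (hC : C ∈ S) (h1 : CC S A B) (h2 : CC S C B) (hAC : A ≤ C[C])
include hA hB hC h1 h2 hAC

theorem tri_cent (hb : b ∈ B) : A ⊔ C :^ b ≤ C[A :^ b ⊔ C] :=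
  sup_le (le_cent_sup (cent_symm (hS.cc_cent hA h1 (mem_sup_right hb))) hAC)
    (le_cent_sup (cent_cj_le (cent_symm hAC) b) (hS.cc_cent hC h2 (mem_sup_right hb)))

theorem tri_not_rank (hb : b ∈ B) (b1 : b ≠ 1) : ¬ IsRankOnePair A (C :^ b) := by
  intro h
  obtain ⟨c, hc, c1⟩ := hS.ex_ne h1.mem
  obtain ⟨a, ha, rfl⟩ := h1.exl b hb b1 c hc
  have a1 : a ≠ 1 := by rintro rfl; simp at c1
  have h3 : b * a⁻¹ * b⁻¹ ∈ C[A ⊔ C :^ b] :=
    cent_symm (hS.tri_cent hA hB hC h1 h2 hAC hb) (mem_sup_left (cj_mem (inv_mem ha)))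
  have h4 : b * a⁻¹ * b⁻¹ * a = ⁅a, b⁆ := by
    rw [h1.conj_eq (inv_mem ha) hb, h1.inv_left ha hb, inv_inv, mul_assoc,
      (commute_of_le h1.cA hc ha).eq, inv_mul_cancel_left]
  have := hS.cent_mul hA (hS.cj hC b) h h3 ha a1 h1.mem (h4 ▸ hc) (h4 ▸ c1)
  exact a1 (by simpa using this)

theorem tri_cases (hb : b ∈ B) (b1 : b ≠ 1) : A ≤ C[C :^ b] ∨ CC S A (C :^ b) :=
  (hS.cases hA (hS.cj hC b)).imp id fun h => h.resolve_left (hS.tri_not_rank hA hB hC h1 h2 hAC hb b1)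

theorem tri_sup (hb : b ∈ B) (b1 : b ≠ 1) :
    (A ⊔ C :^ b) ⊔ (A :^ b ⊔ C) = (A ⊔ ⁅A, B⁆) ⊔ (C ⊔ ⁅C, B⁆) := by
  rw [← h1.sup_cj hb b1, ← h2.sup_cj hb b1]; ac_rfl

theorem tri_der : ⁅(A ⊔ ⁅A, B⁆) ⊔ (C ⊔ ⁅C, B⁆), (A ⊔ ⁅A, B⁆) ⊔ (C ⊔ ⁅C, B⁆)⁆ ≤ C[(A ⊔ ⁅A, B⁆) ⊔ (C ⊔ ⁅C, B⁆)] := by
  obtain ⟨b, hb, b1⟩ := hS.ex_ne hB
  have h3 := hS.tri_cent hA hB hC h1 h2 hAC hb
  have h4 := hS.cc_der hA (hS.cj hC b) (hS.tri_cases hA hB hC h1 h2 hAC hb b1)
  have h5 := hS.cc_der hC (hS.cj hA b) (hS.tri_cases hC hB hA h2 h1 (cent_symm hAC) hb b1)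
  rw [← hS.tri_sup hA hB hC h1 h2 hAC hb b1, der_sup_cent h3]
  rw [sup_comm C] at h5
  exact sup_le (le_cent_sup h4 ((der_le _).trans h3)) (le_cent_sup ((der_le _).trans (cent_symm h3)) h5)

theorem tri_ucs : ⁅A, ⁅C, B⁆⁆ ≤ ucs (A ⊔ B ⊔ C) 2 := by
  have hd := hS.tri_der hA hB hC h1 h2 hAC
  set M := (A ⊔ ⁅A, B⁆) ⊔ (C ⊔ ⁅C, B⁆)
  have hAM : A ≤ M := le_sup_left.trans le_sup_left
  have hDM : ⁅A, B⁆ ≤ M := le_sup_right.trans le_sup_left
  have hCM : C ≤ M := le_sup_left.trans le_sup_right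
  have hEM : ⁅C, B⁆ ≤ M := le_sup_right.trans le_sup_right
  have hAR : A ≤ A ⊔ B ⊔ C := le_sup_left.trans le_sup_left
  have hBR : B ≤ A ⊔ B ⊔ C := le_sup_right.trans le_sup_left
  have hDR : ⁅A, B⁆ ≤ A ⊔ B ⊔ C := comm_le hAR hBR
  have hER : ⁅C, B⁆ ≤ A ⊔ B ⊔ C := comm_le le_sup_right hBR
  have hc : ∀ {x y z}, x ∈ M → y ∈ M → z ∈ M → Commute ⁅x, y⁆ z := fun hx hy hz =>
    commute_of_le hd (commutator_mem_commutator hx hy) hz
  have u1 : ∀ d ∈ ⁅A, B⁆, ∀ e ∈ ⁅C, B⁆, ⁅d, e⁆ ∈ ucs (A ⊔ B ⊔ C) 1 := fun d hd e he =>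
    mem_ucs_gen (comm_le hDR hER (commutator_mem_commutator hd he))
      (fun y hy => comm_mem_of_commute (hc (hDM hd) (hEM he) (hAM hy)))
      (fun y hy => comm_mem_of_commute (commute_of_le (comm_le h1.cB h2.cB) (commutator_mem_commutator hd he) hy))
      (fun y hy => comm_mem_of_commute (hc (hDM hd) (hEM he) (hCM hy)))
  refine commutator_le.2 fun a ha e he => mem_ucs_gen (comm_le hAR hER (commutator_mem_commutator ha he))
      (fun y hy => comm_mem_of_commute (hc (hAM ha) (hEM he) (hAM hy))) (fun β hβ => ?_)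
      (fun y hy => comm_mem_of_commute (hc (hAM ha) (hEM he) (hCM hy)))
  have h3 : β * ⁅a, e⁆ * β⁻¹ = ⁅⁅a, β⁆⁻¹, e⁆ * ⁅a, e⁆ := by
    have hd' := inv_mem (commutator_mem_commutator ha hβ)
    rw [← comm_mul_left' (hc (hDM hd') (hEM he) (hAM ha)).symm, ← h1.conj_eq ha hβ]
    have := (commute_of_le h2.cB he hβ).eq
    calc _ = ⁅β * a * β⁻¹, β * e * β⁻¹⁆ := by simp only [commutatorElement_def]; group
      _ = _ := by rw [← this, mul_inv_cancel_right]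
  rw [show ⁅⁅a, e⁆, β⁆ = ⁅a, e⁆ * (β * ⁅a, e⁆ * β⁻¹)⁻¹ by rw [commutatorElement_def ⁅a, e⁆]; group, h3,
    mul_inv_rev, mul_inv_cancel_left]
  exact inv_mem (u1 _ (inv_mem (commutator_mem_commutator ha hβ)) e he)

theorem tri_ucs3 : ⁅C, B⁆ ≤ ucs (A ⊔ B ⊔ C) 3 := fun e he =>
  mem_ucs_gen (comm_le le_sup_right (le_sup_right.trans le_sup_left) he)
    (fun y hy => by
      rw [← commutatorElement_inv]
      exact inv_mem (hS.tri_ucs hA hB hC h1 h2 hAC (commutator_mem_commutator hy he)))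
    (fun y hy => comm_mem_of_commute (commute_of_le h2.cB he hy))
    (fun y hy => comm_mem_of_commute (commute_of_le h2.cA he hy))

theorem tri_nil : Group.IsNilpotent ↥(A ⊔ B ⊔ C) := by
  have h3 := hS.tri_ucs3 hA hB hC h1 h2 hAC
  have h4 := hS.tri_ucs3 hC hB hA h2 h1 (cent_symm hAC)
  rw [show C ⊔ B ⊔ A = A ⊔ B ⊔ C by ac_rfl] at h4
  refine nil_of_ucs (n := 4) (sup_le (sup_le (fun a ha => ?_) fun b hb => ?_) fun c hc => ?_)
  · exact mem_ucs_gen (mem_sup_left (mem_sup_left ha)) (fun y hy => comm_mem_of_commute (hS.commute hA ha hy))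
      (fun y hy => h4 (commutator_mem_commutator ha hy)) fun y hy => comm_mem_of_commute (commute_of_le hAC ha hy)
  · refine mem_ucs_gen (mem_sup_left (mem_sup_right hb)) (fun y hy => ?_)
      (fun y hy => comm_mem_of_commute (hS.commute hB hb hy)) fun y hy => ?_
    · rw [← commutatorElement_inv]; exact inv_mem (h4 (commutator_mem_commutator hy hb))
    · rw [← commutatorElement_inv]; exact inv_mem (h3 (commutator_mem_commutator hy hb))
  · exact mem_ucs_gen (mem_sup_right hc) (fun y hy => comm_mem_of_commute (commute_of_le hAC hy hc).symm)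
      (fun y hy => h3 (commutator_mem_commutator hc hy)) fun y hy => comm_mem_of_commute (hS.commute hC hc hy)

end triple

omit hS in
theorem not_nil_of_mem (h : IsRankOnePair A B) (ha : a ∈ A) (a1 : a ≠ 1) (hn : Group.IsNilpotent N) (haN : a ∈ N)
    (hBN : B ≤ N) : False := by
  obtain ⟨h1, h2⟩ := h.symm'.sup_cj (mem_sup_right ha) fun hn => a1 (h.eq_one ha hn)
  exact h1.not_nil (nil_of_le hn (sup_le hBN (cj_le_of_mem haN hBN)))

theorem fadj_cj (h : FAdj S A B) (g : G) : FAdj S (A :^ g) (B :^ g) := ⟨hS.cj h.1 g, hS.cj h.2.1 g, h.2.2.cj g⟩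

theorem conn_cj0 (hA : A ∈ S) (hn : NI S A) (hE : E ∈ S) (hx : x ∈ E) : ReflTransGen (FAdj S) A (A :^ x) := by
  by_cases x1 : x = 1
  · rw [x1, cj_one]
  rcases hS.cases hA hE with h | h | h
  · rw [cj_cent (cent_symm h hx)]
  · exact .head ⟨hA, hE, h⟩ (.single ⟨hE, hS.cj hA x, by simpa only [cj_self hx] using h.symm'.cj x⟩)
  obtain ⟨D, hD, hAD⟩ := hn
  have hle : A ≤ A :^ x ⊔ ⁅A, E⁆ := by
    have := (cj_mono x (h.cj_le (inv_mem (mem_sup_right hx))))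
    rwa [cj_inv_cj, cj_sup, cj_cent (cent_symm h.cB hx)] at this
  have hCx : ⁅A, E⁆ :^ x = ⁅A, E⁆ := cj_cent (cent_symm h.cB hx)
  rcases hS.cases h.mem hD with h1 | h1 | h1
  · exfalso
    obtain ⟨a, ha, a1⟩ := hS.ex_ne hA
    obtain ⟨c, hc, c1⟩ := hS.ex_ne h.mem
    have h2 : c * a ∉ ⁅A, E⁆ := fun h2 => a1 (eq_one_of_mem_bot (hS.cc_inf hA ⟨D, hD, hAD⟩ h)
      ⟨ha, (mul_mem_cancel_left hc).1 h2⟩)
    obtain ⟨b, -, h3⟩ := (cc_cover h (mul_mem (mem_sup_right hc) (mem_sup_left ha))).resolve_left h2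
    exact c1 (hS.cent_mul hA hD hAD (le_cent_sup h.cA h1 hc) ha a1 (hS.cj hA b) h3 fun e => h2 (e ▸ one_mem _))
  · refine .head ⟨hA, hD, hAD⟩ (.head ⟨hD, h.mem, h1.symm'⟩ (.head ⟨h.mem, hS.cj hD x, ?_⟩
      (.single ⟨hS.cj hD x, hS.cj hA x, hAD.symm'.cj x⟩)))
    simpa only [hCx] using h1.cj x
  rcases hS.cases (hS.cj hA x) hD with h2 | h2 | h2
  · exfalso
    obtain ⟨a, ha, a1⟩ := hS.ex_ne hA
    have h3 : D :^ ⁅a, x⁆ = D :^ a := by
      rw [commutatorElement_def, mul_assoc, mul_assoc, ← mul_assoc x, ← cj_cj, cj_cent (h2 (cj_mem (inv_mem ha)))]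
    exact not_cent_cj hAD ha a1 (h3 ▸ hS.cc_cent hD h1.symm (mem_sup_right (commutator_mem_commutator ha hx)))
  · exact .head ⟨hA, hD, hAD⟩ (.single ⟨hD, hS.cj hA x, h2.symm'⟩)
  · exfalso
    have := hS.tri_nil (hS.cj hA x) hD h.mem h2 h1 (by simpa only [hCx] using cent_cj_le (cent_symm h.cA) x)
    exact hAD.not_nil (nil_of_le this (sup_le (hle.trans (sup_le (le_sup_left.trans le_sup_left) le_sup_right))
      (le_sup_right.trans le_sup_left)))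

theorem rtg_cj (h : ReflTransGen (FAdj S) A B) (g : G) : ReflTransGen (FAdj S) (A :^ g) (B :^ g) :=
  rtg_lift' (fun K => K :^ g) (fun _ _ h => .single (hS.fadj_cj h g)) h

/-- components of the graph of rank one pairs with more than one vertex are invariant -/
theorem conn_cj (hA : A ∈ S) (hn : NI S A) (g : G) : ReflTransGen (FAdj S) A (A :^ g) := by
  let K : Subgroup G :=
    { carrier := {g | ReflTransGen (FAdj S) A (A :^ g)}
      one_mem' := by simp only [Set.mem_ofPred_eq, cj_one]; exact .refl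
      mul_mem' := fun {x y} hx hy => by
        have := hS.rtg_cj hy x
        rw [cj_cj] at this
        exact hx.trans this
      inv_mem' := fun {x} hx => by
        have := hS.rtg_cj hx x⁻¹
        rw [cj_cj_inv] at this
        exact rtg_symm (fun _ _ => fadj_symm) this }
  have : K = ⊤ := hS.eq_top fun E hE x hx => hS.conn_cj0 hA hn hE hx
  exact (this ▸ mem_top g : g ∈ K)

omit hS in
theorem conj_of_conn (h : ReflTransGen (FAdj S) A B) : ∃ g, B = A :^ g := by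
  induction h with
  | refl => exact ⟨1, (cj_one _).symm⟩
  | tail _ h ih =>
    obtain ⟨g, rfl⟩ := ih
    obtain ⟨x, -, e⟩ := h.2.2.right_mem
    exact ⟨x * g, by rw [← cj_cj]; exact e⟩

omit hS in
theorem ni_of_conn (h : ReflTransGen (FAdj S) A B) (hne : B ≠ A) : NI S A := by
  rcases h.cases_head with e | ⟨C, h, -⟩
  · exact absurd e.symm hne
  · exact ⟨C, h.2.1, h.2.2⟩

/-! ### the natural module -/

section module
variable (hA : A ∈ S) (hB : B ∈ S) (hD : D ∈ S) (h1 : CC S A B) (hDC : ⁅D, ⁅A, B⁆⁆ = A)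
include hA hB hD h1 hDC

theorem mod_cc : CC S ⁅A, B⁆ D := (hS.cc_of_mem hD h1.mem (hDC.symm ▸ hA)).symm

theorem mod_rank : IsRankOnePair B D := by
  have h2 := hS.mod_cc hA hB hD h1 hDC
  have hAD : A ≤ C[D] := by have := h2.cB; rwa [commutator_comm, hDC] at this
  rcases hS.cases hB hD with h | h | h
  · exact absurd (comm_le hAD h) (hS.cc_not_cent h2)
  · exact h
  · refine absurd (hS.tri_nil hA hB hD h1 h.symm hAD) (not_nil_of_comm (N := A ⊔ ⁅A, B⁆)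
      (ne_bot_of_le (hS.ne_bot A hA) le_sup_left) ?_ (sup_le ?_ ?_))
    · exact sup_le (le_sup_left.trans le_sup_left) ((comm_le le_sup_left le_sup_right).trans le_sup_left)
    · conv_lhs => rw [← hDC, commutator_comm]
      exact commutator_mono le_sup_right le_sup_right
    · exact commutator_mono le_sup_left (le_sup_right.trans le_sup_left)

theorem mod_inf : A ⊓ ⁅A, B⁆ = ⊥ := (eq_bot_iff_forall _).2 fun a ha => by
  obtain ⟨b, hb, b1⟩ := hS.ex_ne hB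
  exact hS.cc_inj hB ⟨D, hD, hS.mod_rank hA hB hD h1 hDC⟩ h1.symm hb b1 ha.1 (commute_of_le h1.cB ha.2 hb).symm

theorem mod_cent : (A ⊔ ⁅A, B⁆) ⊓ C[B] = ⁅A, B⁆ := by
  refine le_antisymm ?_ (le_inf le_sup_right h1.cB)
  rintro x ⟨hx, hc⟩
  obtain ⟨a, ha, c, hc', rfl⟩ := (mem_sup_r (norm_of_cent' h1.cA)).1 hx
  obtain ⟨b, hb, b1⟩ := hS.ex_ne hB
  have := hS.cc_inj hB ⟨D, hD, hS.mod_rank hA hB hD h1 hDC⟩ h1.symm hb b1 ha
    (mem_cent.1 ((mul_mem_cancel_right (h1.cB hc')).1 hc) b hb)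
  rwa [this, one_mul]

theorem mod_norm : B ⊔ D ≤ N[A ⊔ ⁅A, B⁆] := by
  refine sup_le h1.norm ?_
  have := (hS.mod_cc hA hB hD h1 hDC).norm
  rwa [commutator_comm _ D, hDC, sup_comm] at this

end module

end Cfsg.IsRootSubgroupSet
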