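import Cfsg.Agent.H11.R2b

/-! Abstract root subgroups: lines; special rank one subgroups. -/

set_option autoImplicit false
set_option linter.unusedSectionVars false

open Subgroup Cfsg H16 Cfsg.IsRankOnePair H16.H11 Relation
open scoped commutatorElement

namespace H16.H11

variable {G : Type*} [Group G] {S : Set (Subgroup G)} {A B C D E N R : Subgroup G} {a a' b b' c d g x y : G}

/-- the elements leaving a family of subgroups invariant -/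
def stabF (W : Set (Subgroup G)) : Subgroup G where
  carrier := {x | ∀ C, C ∈ W ↔ C :^ x ∈ W}
  one_mem' := fun C => by rw [cj_one]
  mul_mem' := fun {x y} hx hy C => by rw [← cj_cj, ← hx, ← hy]
  inv_mem' := fun {x} hx C => by rw [hx (C :^ x⁻¹), cj_inv_cj]

theorem le_stabF {W : Set (Subgroup G)} (h : ∀ a ∈ A, ∀ C ∈ W, C :^ a ∈ W) : A ≤ stabF W :=
  fun a ha C => ⟨h a ha C, fun h' => by simpa only [cj_cj_inv] using h _ (inv_mem ha) _ h'⟩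

theorem stabF_cj {W : Set (Subgroup G)} (hx : x ∈ stabF W) (hC : C ∈ W) : C :^ x ∈ W := (hx C).1 hC

theorem line_ln (hS : IsRootSubgroupSet S) (hA : A ∈ S) (h : B ∈ linePartners S A) : Ln S (A ⊔ B) :=
  ⟨comm_sup (hS.commutative A hA) (hS.commutative B h.1.1) (comm_eq_bot.1 h.1.2.2), fun x hx h1 => by
    obtain ⟨C, hC, h2⟩ := h.2.2.1 x hx h1
    exact ⟨C, hC.1, hC.2, h2⟩⟩

theorem line_of_ln (hS : IsRootSubgroupSet S) (hF : ∀ A ∈ S, NI S A) (hB : B ∈ S) (hne : B ≠ A)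
    (h : Ln S (A ⊔ B)) : B ∈ linePartners S A :=
  ⟨⟨hB, hne, comm_eq_bot.2 (comm_cent h.1 le_sup_left le_sup_right)⟩, fun _ hC => hC.2, fun x hx h1 => by
    obtain ⟨C, hC, h2, h3⟩ := h.2 x hx h1
    exact ⟨C, ⟨hC, h2⟩, h3⟩, fun C hC D hD hne => hS.inf_eq_bot hC.1 (hF C hC.1) hD.1 hne⟩

theorem line_symm (hA : A ∈ S) (h : B ∈ linePartners S A) : A ∈ linePartners S B :=
  ⟨⟨hA, h.1.2.1.symm, by rw [commutator_comm]; exact h.1.2.2⟩, by rw [sup_comm]; exact h.2⟩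

end H16.H11

namespace Cfsg.IsRootSubgroupSet

variable {G : Type*} [Group G] {S : Set (Subgroup G)} {A B C D E F N P Q : Subgroup G} {a a' b b' c d g x y z : G}
  (hS : IsRootSubgroupSet S)
include hS

theorem cc_cj (hA : A ∈ S) (hB : B ∈ S) (h : CC S A B) (g : G) : CC S (A :^ g) (B :^ g) :=
  hS.cc_of_mem (hS.cj hA g) (hS.cj hB g) (by rw [← cj_comm]; exact hS.cj h.mem g)

theorem not_cc_rank (hA : A ∈ S) (hB : B ∈ S) (h : CC S A B) : ¬ IsRankOnePair A B :=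
  fun h' => h'.not_nil (hS.cc_nil hA hB h)

section line
variable (hN : Ln S N) (hA : A ∈ S) (hAN : A ≤ N) (hD : D ∈ S) (h : IsRankOnePair A D)
include hN hA hAN hD h

theorem ln_mul (hC : C ∈ S) (hCN : C ≤ N) (hne : A ≠ C) (ha : a ∈ A) (a1 : a ≠ 1) (hc : c ∈ C) :
    c * a ≠ 1 ∧ ∃ E ∈ S, c * a ∈ E := by
  have h1 : c * a ≠ 1 := fun e => a1 (eq_one_of_mem_bot (hS.inf_eq_bot hA ⟨D, hD, h⟩ hC hne)
    ⟨ha, eq_inv_of_mul_eq_one_right e ▸ C.inv_mem hc⟩)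
  obtain ⟨E, hE, -, he⟩ := hN.2 _ (mul_mem (hCN hc) (hAN ha)) h1
  exact ⟨h1, E, hE, he⟩

theorem ln_not_cent (hC : C ∈ S) (hCN : C ≤ N) : ¬ C ≤ C[D] := by
  intro hc
  by_cases e : A = C
  · exact h.not_cent (e ▸ hc)
  obtain ⟨a, ha, a1⟩ := hS.ex_ne hA
  obtain ⟨c, hc', c1⟩ := hS.ex_ne hC
  obtain ⟨h1, E, hE, he⟩ := hS.ln_mul hN hA hAN hD h hC hCN e ha a1 hc'
  exact c1 (hS.cent_mul hA hD h (le_cent_sup (comm_cent hN.1 hCN hAN) hc hc') ha a1 hE he h1)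

theorem ln_ex_cc (hB : B ∈ S) (hBN : B ≤ N) (hne : A ≠ B) : ∃ C ∈ S, C ≤ N ∧ CC S C D := by
  by_contra hn
  push Not at hn
  have hr : ∀ C ∈ S, C ≤ N → IsRankOnePair C D := fun C hC hCN =>
    ((hS.cases hC hD).resolve_left (hS.ln_not_cent hN hA hAN hD h hC hCN)).resolve_right (hn C hC hCN)
  let W : Set (Subgroup G) := {E | (E ∈ S ∧ E ≤ N) ∨ ∃ x ∈ N, E = D :^ x}
  have h1 : ∀ d ∈ D, ∀ E ∈ S, E ≤ N → E :^ d ∈ W := by
    intro d hd E hE hEN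
    by_cases d1 : d = 1
    · rw [d1, cj_one]; exact Or.inl ⟨hE, hEN⟩
    · obtain ⟨e, r⟩ := RP.ex' (hr E hE hEN) hd d1
      exact Or.inr ⟨e, hEN r.ma, r.eq⟩
  have h2 : A ⊔ D ≤ stabF W := by
    refine sup_le (le_stabF ?_) (le_stabF ?_)
    · rintro a ha E (⟨hE, hEN⟩ | ⟨x, hx, rfl⟩)
      · rw [cj_cent (comm_cent hN.1 hAN hEN ha)]; exact Or.inl ⟨hE, hEN⟩
      · exact Or.inr ⟨a * x, mul_mem (hAN ha) hx, cj_cj _ _ _⟩
    · rintro d hd E (⟨hE, hEN⟩ | ⟨x, hx, rfl⟩)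
      · exact h1 d hd E hE hEN
      · by_cases x1 : x = 1
        · exact Or.inr ⟨1, one_mem _, by rw [x1, cj_one, cj_self hd]⟩
        · obtain ⟨C, hC, hCN, hxC⟩ := hN.2 x hx x1
          obtain ⟨d', r⟩ := RP.ex (hr C hC hCN) hxC x1
          rw [← r.eq, cj_cj]
          exact h1 _ (mul_mem hd r.mb) C hC hCN
  obtain ⟨y, hy, e⟩ := h.right_mem
  have h3 : B :^ y ≤ C[D] := by rw [e]; exact cent_cj_le (comm_cent hN.1 hBN hAN) y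
  rcases stabF_cj (h2 hy) (Or.inl ⟨hB, hBN⟩) with ⟨h4, h5⟩ | ⟨x, hx, h4⟩
  · exact (hr _ h4 h5).not_cent h3
  · by_cases x1 : x = 1
    · rw [x1, cj_one, e] at h4
      exact hne (H16.cj_inj.1 h4).symm
    · obtain ⟨C, hC, hCN, hxC⟩ := hN.2 x hx x1
      exact not_cent_cj (hr C hC hCN) hxC x1 (h4 ▸ h3)

theorem ln_comm (hC : C ∈ S) (hn : NI S C) (hCN : C ≤ N) (h1 : CC S C D) : ⁅A, ⁅C, D⁆⁆ = C := by
  have hne : A ≠ C := fun e => hS.not_cc_rank hC hD h1 (e ▸ h)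
  have hCA : C ≤ C[A] := comm_cent hN.1 hCN hAN
  obtain ⟨c, hc, c1⟩ := hS.ex_ne hC
  obtain ⟨d, hd, d1⟩ := hS.ex_ne hD
  obtain ⟨a, r⟩ := RP.ex' h hd d1
  obtain ⟨h2, E, hE, he⟩ := hS.ln_mul hN hA hAN hD h hC hCN hne r.ma r.a1 hc
  rcases hS.cases hA h1.mem with h3 | h3 | h3
  · exfalso
    have h4 : C :^ d ≤ C[A ⊔ A :^ d] := le_cent_sup
      ((h1.cj_le (mem_sup_right hd)).trans (sup_le hCA (cent_symm h3))) (cent_cj_le hCA d)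
    rw [(h.sup_cj (mem_sup_right hd) fun hn => d1 (h.eq_one' hd hn)).2] at h4
    have h5 := h4.trans (cent_anti le_sup_right)
    rw [← cj_self hd, cent_cj, cj_le_cj] at h5
    exact hS.cc_not_cent h1 h5
  · exact absurd (hS.cent_mul hA h1.mem h3 (le_cent_sup hCA (cent_symm h1.cA) hc) r.ma r.a1 hE he h2) c1
  obtain ⟨f, hf⟩ : ∃ f, f = ⁅c, d⁆⁻¹ := ⟨_, rfl⟩
  have hfF : f ∈ ⁅C, D⁆ := hf ▸ inv_mem (commutator_mem_commutator hc hd)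
  obtain ⟨f', hf'⟩ : ∃ f', f' = ⁅f, a⁻¹⁆⁻¹ := ⟨_, rfl⟩
  have hfF' : f' ∈ ⁅A, ⁅C, D⁆⁆ := by
    rw [hf', commutatorElement_inv]; exact commutator_mem_commutator (inv_mem r.ma) hfF
  have h4 : a⁻¹ * (d * c * d⁻¹) * a ∈ C[D] := by
    have := cent_cj_le hCA d (cj_mem hc)
    rwa [r.eq, cent_cj, mem_cj] at this
  have h5 : a⁻¹ * (d * c * d⁻¹) * a = f * (c * f') := by
    have := h3.symm.conj_eq hfF (inv_mem r.ma)
    rw [h1.conj_eq hc hd, ← hf, ← mul_assoc, ← (commute_of_le hCA hc (inv_mem r.ma)).eq, ← mul_assoc,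
      (commute_of_le h1.cA hfF hc).eq, mul_assoc c f, hf', ← this]
    group
  have h6 : c * f' ∈ C[A ⊔ D] := by
    rw [cent_sup]
    exact ⟨mul_mem (hCA hc) (h3.cA hfF'), (mul_mem_cancel_left (h1.cB hfF)).1 (h5 ▸ h4)⟩
  obtain ⟨f₁, hf₁, e⟩ := h3.exr a r.ma r.a1 _ (inv_mem hfF')
  have h7 : f₁ * (c * a) * f₁⁻¹ = c * f' * a := by
    rw [← mul_assoc, (commute_of_le h1.cA hf₁ hc).eq, mul_assoc c, mul_assoc c, h3.conj_eq r.ma hf₁, e, inv_inv,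
      mul_assoc, (commute_of_le h3.cA hfF' r.ma).eq]
  have h8 := hS.cent_mul hA hD h h6 r.ma r.a1 (hS.cj hE f₁) (h7 ▸ cj_mem he) (by rw [← h7]; simpa using h2)
  exact hS.eq_of_mem hC hn h3.mem hc (eq_inv_of_mul_eq_one_left h8 ▸ inv_mem hfF') c1

end line

section line2
variable (hF : ∀ A ∈ S, NI S A) (hA : A ∈ S) (hB : B ∈ S) (hne : A ≠ B) (hN : Ln S (A ⊔ B))
include hF hA hB hne hN

theorem ln_struct (hD : D ∈ S) (h : IsRankOnePair A D) :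
    ∃ C ∈ S, CC S C D ∧ ⁅A, ⁅C, D⁆⁆ = C ∧ A ⊔ C = A ⊔ B := by
  obtain ⟨C, hC, hCN, h1⟩ := hS.ln_ex_cc hN hA le_sup_left hD h hB le_sup_right hne
  have h2 := hS.ln_comm hN hA le_sup_left hD h hC (hF C hC) hCN h1
  have h3 := hS.cc_of_mem hA h1.mem (h2.symm ▸ hC)
  refine ⟨C, hC, h1, h2, le_antisymm (sup_le le_sup_left hCN) (sup_le le_sup_left ?_)⟩
  obtain ⟨c, hc, c1⟩ := hS.ex_ne hC
  obtain ⟨a, ha, b, hb, rfl⟩ := (mem_sup_r (comm_norm hN.1 le_sup_left le_sup_right)).1 (hCN hc)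
  have b1 : b ≠ 1 := by
    rintro rfl
    exact c1 (eq_one_of_mem_bot (hS.cc_inf hA (hF A hA) h3) ⟨by simpa using ha, h2.symm ▸ hc⟩)
  have hb' : b ∈ A ⊔ ⁅A, ⁅C, D⁆⁆ := by
    rw [h2]; exact (mul_mem_cancel_left (mem_sup_left ha)).1 (mem_sup_right hc)
  obtain ⟨E, hE, he⟩ := (hS.cc_partition hA (hF A hA) h3).2.1 b hb' b1
  rw [← hS.eq_of_mem hB (hF B hB) hE.1 hb he b1, ← h2]
  exact hE.2

omit hB hne hN in
theorem cc_trans (hE : CC S A F) (hP : P ∈ S) (hPN : P ≤ A ⊔ ⁅A, F⁆) (hP' : P ≠ ⁅A, F⁆) (hQ : Q ∈ S)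
    (hQN : Q ≤ A ⊔ ⁅A, F⁆) (hQ' : Q ≠ ⁅A, F⁆) : ∃ f ∈ F, P :^ f = Q := by
  obtain ⟨f, hf, rfl⟩ := (hS.cc_members hA (hF A hA) hE hP hPN).resolve_left hP'
  obtain ⟨f', hf', rfl⟩ := (hS.cc_members hA (hF A hA) hE hQ hQN).resolve_left hQ'
  exact ⟨f' * f⁻¹, mul_mem hf' (inv_mem hf), by rw [cj_cj, inv_mul_cancel_right]⟩

theorem ln_two0 : ∃ C ∈ S, ∃ F ∈ S, CC S A F ∧ ⁅A, F⁆ = C ∧ A ⊔ C = A ⊔ B ∧ ∀ P ∈ S, P ≤ A ⊔ B → ∀ Q ∈ S,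
    Q ≤ A ⊔ B → P ≠ Q → ∃ t ∈ ⨆ E ∈ normalizingMembers S (A ⊔ B), E, P :^ t = C ∧ Q :^ t = A := by
  obtain ⟨D, hD, h⟩ := hF A hA
  obtain ⟨C, hC, h1, h2, h3⟩ := hS.ln_struct hF hA hB hne hN hD h
  have h4 := hS.cc_of_mem hA h1.mem (h2.symm ▸ hC)
  have hAC : A ≠ C := h2 ▸ hS.cc_ne h4
  obtain ⟨D', hD', h'⟩ := hF C hC
  obtain ⟨C', hC', h1', h2', h3'⟩ := hS.ln_struct hF hC hA hAC.symm (by rwa [sup_comm, h3]) hD' h'
  have h4' := hS.cc_of_mem hC h1'.mem (h2'.symm ▸ hC')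
  rw [sup_comm C A, h3] at h3'
  set T := ⨆ E ∈ normalizingMembers S (A ⊔ B), E
  have hT : T ≤ N[A ⊔ B] := iSup₂_le fun E hE => hE.2
  have hFT : ⁅C, D⁆ ≤ T := le_iSup₂_of_le _ ⟨h1.mem, by have := h4.norm; rwa [h2, h3] at this⟩ le_rfl
  have hFT' : ⁅C', D'⁆ ≤ T := le_iSup₂_of_le _ ⟨h1'.mem, by have := h4'.norm; rwa [h2', h3'] at this⟩ le_rfl
  have t1 := fun P hP hPN hP' Q hQ hQN hQ' => hS.cc_trans (P := P) (Q := Q) hF hA h4 hP hPN hP' hQ hQN hQ'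
  have t2 := fun P hP hPN hP' Q hQ hQN hQ' => hS.cc_trans (P := P) (Q := Q) hF hC h4' hP hPN hP' hQ hQN hQ'
  rw [h2, h3] at t1
  rw [h2', h3'] at t2
  have hCN : C ≤ A ⊔ B := h3 ▸ le_sup_right
  have hCC : C ≠ C' := h2' ▸ hS.cc_ne h4'
  have s1 : ∀ P ∈ S, P ≤ A ⊔ B → ∃ t ∈ T, P :^ t = C := by
    intro P hP hPN
    by_cases e : P = C'
    · obtain ⟨Q, hQ, hQN, q1, q2⟩ : ∃ Q ∈ S, Q ≤ A ⊔ B ∧ Q ≠ C ∧ Q ≠ C' := by
        by_cases e' : A = C'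
        · obtain ⟨f, hf, f1⟩ := hS.ex_ne h1.mem
          refine ⟨_, hS.cj hA f, cj_le_of_norm (hT (hFT hf)) le_sup_left, fun e => hAC ?_, fun e => ?_⟩
          · rw [← cj_cent (h1.cA hf)] at e; exact H16.cj_inj.1 e
          · obtain ⟨a, ha, a1⟩ := hS.ex_ne hA
            have h5 : ⁅a, f⁆ ∈ A := by
              rw [commutatorElement_def, mul_assoc, mul_assoc, ← mul_assoc f]
              exact mul_mem ha (H16.conj_mem (cj_eq_self_iff.1 (e.trans e'.symm)) (inv_mem ha))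
            exact f1 (hS.cc_inj hA (hF A hA) h4 ha a1 hf (commutatorElement_eq_one_iff_commute.1
              (eq_one_of_mem_bot (hS.cc_inf hA (hF A hA) h4) ⟨h5, commutator_mem_commutator ha hf⟩)))
        · exact ⟨A, hA, le_sup_left, hAC, e'⟩
      obtain ⟨f, hf, e1⟩ := t1 P hP hPN (e ▸ hCC.symm) Q hQ hQN q1
      obtain ⟨f', hf', e2⟩ := t2 Q hQ hQN q2 C hC hCN hCC
      exact ⟨f' * f, mul_mem (hFT' hf') (hFT hf), by rw [← cj_cj, e1, e2]⟩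
    · obtain ⟨f, hf, e⟩ := t2 P hP hPN e C hC hCN hCC
      exact ⟨f, hFT' hf, e⟩
  refine ⟨C, hC, _, h1.mem, h4, h2, h3, fun P hP hPN Q hQ hQN hPQ => ?_⟩
  obtain ⟨t, ht, e⟩ := s1 P hP hPN
  obtain ⟨f, hf, e'⟩ := t1 _ (hS.cj hQ t) (cj_le_of_norm (hT ht) hQN)
    (fun e' => hPQ (H16.cj_inj.1 (e.trans e'.symm))) A hA le_sup_left hAC
  exact ⟨f * t, mul_mem (hFT hf) ht, by rw [← cj_cj, e, cj_cent (h1.cA hf)], by rw [← cj_cj, e']⟩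

theorem ln_pt (hP : P ∈ S) (hPN : P ≤ A ⊔ B) (hQ : Q ∈ S) (hQN : Q ≤ A ⊔ B) (hPQ : P ≠ Q) :
    ∃ F ∈ S, CC S Q F ∧ ⁅Q, F⁆ = P ∧ Q ⊔ P = A ⊔ B := by
  obtain ⟨C, hC, F, hF', h1, h2, h3, h4⟩ := hS.ln_two0 hF hA hB hne hN
  obtain ⟨t, ht, e1, e2⟩ := h4 P hP hPN Q hQ hQN hPQ
  have hT : t ∈ N[A ⊔ B] := (iSup₂_le fun E (hE : E ∈ normalizingMembers S (A ⊔ B)) => hE.2 :) ht
  rw [cj_eq_iff] at e1 e2
  refine ⟨_, hS.cj hF' t⁻¹, e2 ▸ hS.cc_cj hA hF' h1 _, by rw [e1, e2, ← cj_comm, h2], ?_⟩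
  rw [e1, e2, ← cj_sup, h3, cj_norm (inv_mem hT)]

end line2

/-! ### special rank one subgroups -/

theorem mod_special (hC : C ∈ S) (hB : B ∈ S) (hA : A ∈ S) (h1 : CC S C B) (h2 : ⁅A, ⁅C, B⁆⁆ = C) :
    IsSpecialRankOnePair A B := by
  have h := (hS.mod_rank hC hB hA h1 h2).symm'
  have h3 := hS.mod_cc hC hB hA h1 h2
  have hCA : C ≤ C[A] := by have := h3.cB; rwa [commutator_comm, h2] at this
  refine special_iff.2 ⟨h, fun a b r => ?_⟩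
  obtain ⟨c, hc, c1⟩ := hS.ex_ne hC
  obtain ⟨f, hf⟩ : ∃ f, f = ⁅c, b⁆⁻¹ := ⟨_, rfl⟩
  have hfF : f ∈ ⁅C, B⁆ := hf ▸ inv_mem (commutator_mem_commutator hc r.mb)
  have e1 : b * c * b⁻¹ = c * f := hf ▸ h1.conj_eq hc r.mb
  have cf : Commute f c := commute_of_le h1.cA hfF hc
  have bf : Commute f b := commute_of_le h1.cB hfF r.mb
  have ca : Commute c a := commute_of_le hCA hc r.ma
  have e2 : a⁻¹ * f * a = f * c⁻¹ := by
    have h4 : a⁻¹ * (b * c * b⁻¹) * a ∈ (C ⊔ ⁅C, B⁆) ⊓ C[B] := by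
      have := cent_cj_le hCA b (cj_mem hc)
      rw [r.eq, cent_cj, mem_cj] at this
      exact ⟨conj_mem' (hS.mod_norm hC hB hA h1 h2 (mem_sup_right r.ma)) (h1.cj_le (mem_sup_right r.mb) (cj_mem hc)),
        this⟩
    have h5 := h3.conj_eq hfF (inv_mem r.ma)
    rw [inv_inv] at h5
    have h6 : ⁅f, a⁻¹⁆⁻¹ ∈ C := by
      rw [← h2, commutatorElement_inv]; exact commutator_mem_commutator (inv_mem r.ma) hfF
    rw [hS.mod_cent hC hB hA h1 h2, e1, ← mul_assoc, ← ca.inv_right.eq, mul_assoc c, mul_assoc c, h5,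
      ← mul_assoc, ← cf.eq, mul_assoc, mul_mem_cancel_left hfF] at h4
    rw [h5, eq_inv_of_mul_eq_one_right (eq_one_of_mem_bot (hS.mod_inf hC hB hA h1 h2) ⟨mul_mem hc h6, h4⟩)]
  have hz : a * b * a⁻¹ * (b * a * b⁻¹) ∈ B :^ a := mul_mem (cj_mem r.mb) (r.eq ▸ cj_mem r.ma)
  have e3 : b⁻¹ * c * b = c * f⁻¹ := by
    rw [eq_mul_inv_iff_mul_eq, mul_assoc, ← bf.eq, ← mul_assoc, mul_assoc _ c, ← e1]; group
  have e4 : a * f⁻¹ * a⁻¹ = c⁻¹ * f⁻¹ := by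
    have : f = a * (f * c⁻¹) * a⁻¹ := by rw [← e2]; group
    rw [← mul_inv_rev, eq_inv_iff_mul_eq_one]
    nth_rewrite 2 [this]
    rw [mul_assoc _ a⁻¹ c, ← ca.inv_right.eq]; group
  have h7 : Commute (a * b * a⁻¹ * (b * a * b⁻¹)) c := by
    have k1 : (b * a * b⁻¹) * c * (b * a * b⁻¹)⁻¹ = f⁻¹ := by
      calc _ = b * (a * (b⁻¹ * c * b) * a⁻¹) * b⁻¹ := by group
        _ = b * (c * (a * f⁻¹ * a⁻¹)) * b⁻¹ := by rw [e3, ← mul_assoc a, ← ca.eq]; group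
        _ = f⁻¹ := by rw [e4, mul_inv_cancel_left, ← bf.inv_left.eq, mul_inv_cancel_right]
    have k2 : (a * b * a⁻¹) * f⁻¹ * (a * b * a⁻¹)⁻¹ = c := by
      calc _ = a * (b * (a⁻¹ * f * a)⁻¹ * b⁻¹) * a⁻¹ := by group
        _ = a * ((b * c * b⁻¹) * (b * f⁻¹ * b⁻¹)) * a⁻¹ := by rw [e2]; group
        _ = c := by rw [e1, ← bf.inv_left.eq, mul_inv_cancel_right, mul_inv_cancel_right, ← ca.eq,
          mul_inv_cancel_right]
    rw [Commute, SemiconjBy, ← mul_inv_eq_iff_eq_mul]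
    conv_rhs => rw [← k2, ← k1]
    group
  have h8 : a * b * a⁻¹ * (b * a * b⁻¹) = 1 := by
    by_contra z1
    have h9 := (hS.cc_cj hC hB h1 a).symm
    rw [cj_cent (cent_symm hCA r.ma)] at h9
    exact c1 (hS.cc_inj (hS.cj hB a) (hS.ni_cj ⟨A, hA, h.symm'⟩ a) h9 hz z1 hc h7)
  rw [eq_inv_of_mul_eq_one_right h8]; group

/-- the basic configuration of a triangle -/
theorem tri_y (hA : A ∈ S) (hB : B ∈ S) (h : IsRankOnePair A B) (h' : IsRankOnePair C B) (hAC : A ≤ C[C])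
    (r : RP A B a b) (r' : RP C B c b) :
    B :^ (a⁻¹ * c) ≤ C[B] ∧ C :^ ⁅b⁻¹, c⁻¹ * a⁆ = A ∧ ⁅b⁻¹, c⁻¹ * a⁆ * c * ⁅b⁻¹, c⁻¹ * a⁆⁻¹ = a := by
  have h1 : B :^ (a⁻¹ * c) ≤ C[B] := by
    have := cent_cj_le (cent_cj_le (cent_symm hAC) b) a⁻¹
    rwa [r.eq, r'.eq, cj_cj_inv, cj_cj] at this
  have h1' : B :^ (c⁻¹ * a) ≤ C[B] := by
    have := cent_cj_le (cent_cj_le hAC b) c⁻¹
    rwa [r.eq, r'.eq, cj_cj_inv, cj_cj] at this
  have ac := commute_of_le hAC r.ma r'.ma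
  have h2 : C :^ ⁅b⁻¹, c⁻¹ * a⁆ = A := by
    rw [show ⁅b⁻¹, c⁻¹ * a⁆ = b⁻¹ * (c⁻¹ * a) * b * (c⁻¹ * a)⁻¹ by rw [commutatorElement_def, inv_inv], ← cj_cj,
      cj_norm (inv_mem (mul_mem (le_norm C (inv_mem r'.ma)) (cent_le_norm _ (hAC r.ma)))), ← cj_cj, r'.eq, cj_cj,
      ← ac.inv_right.eq, mul_assoc, inv_mul_cancel_right, ← cj_cj, ← r.eq, cj_cj_inv]
  have h3 : ⁅b⁻¹, c⁻¹ * a⁆ ∈ C[B] := by
    rw [commutatorElement_def, mul_assoc, mul_assoc, ← mul_assoc _ b⁻¹⁻¹]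
    exact mul_mem (hS.cent hB (inv_mem r.mb)) (h1' (cj_mem (inv_mem (inv_mem r.mb))))
  refine ⟨h1, h2, ?_⟩
  have r2 := r'.cj ⁅b⁻¹, c⁻¹ * a⁆
  rw [h2, cj_cent h3, ← mem_cent.1 h3 b r.mb, mul_inv_cancel_right] at r2
  exact RP.uniq h r2 r

theorem tri_special (hA : A ∈ S) (hB : B ∈ S) (hC : C ∈ S) (h : IsRankOnePair A B) (h' : IsRankOnePair C B)
    (hAC : A ≤ C[C]) (hne : A ≠ C) : IsSpecialRankOnePair A B := by
  refine special_iff.2 ⟨h, fun a b r => ?_⟩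
  obtain ⟨c, r'⟩ := RP.ex' h' r.mb r.b1
  obtain ⟨-, -, h3⟩ := hS.tri_y hA hB h h' hAC r r'
  obtain ⟨h1, -, -⟩ := hS.tri_y hC hB h' h (cent_symm hAC) r' r
  have ac := commute_of_le hAC r.ma r'.ma
  obtain ⟨x, hx⟩ : ∃ x, x = c⁻¹ * a := ⟨_, rfl⟩
  rw [← hx] at h3 h1
  have xa : Commute x a := by rw [hx]; exact ac.inv_right.symm.mul_left (Commute.refl a)
  have hd : Commute (x * b * x⁻¹) b := commute_of_le h1 (cj_mem r.mb) r.mb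
  obtain ⟨y, hy⟩ : ∃ y, y = ⁅b⁻¹, x⁆ := ⟨_, rfl⟩
  rw [← hy] at h3
  have hy' : y = b⁻¹ * (x * b * x⁻¹) := by rw [hy, commutatorElement_def]; group
  have yb : Commute y b := by rw [hy']; exact (Commute.refl b).inv_left.mul_left hd
  have e1 : b⁻¹ * x * b = y * x := by rw [hy']; group
  have e2 : b * x * b⁻¹ = y⁻¹ * x := by
    rw [eq_inv_mul_iff_mul_eq, ← mul_assoc, ← mul_assoc, yb.eq, mul_assoc b, ← e1]; group
  have e3 : a * y * a⁻¹ = y * x⁻¹ := by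
    have : a * y = y * c := by rw [← h3]; group
    rw [this, hx, mul_inv_rev, inv_inv, ac.inv_left.eq, mul_assoc]
  have e4 : a⁻¹ * y * a = y * x := by
    have : a⁻¹ * y = y * c⁻¹ := by rw [← h3]; group
    rw [this, hx, mul_assoc]
  have hz : a * b * a⁻¹ * (b * a * b⁻¹) ∈ B :^ a := mul_mem (cj_mem r.mb) (r.eq ▸ cj_mem r.ma)
  have h7 : Commute (a * b * a⁻¹ * (b * a * b⁻¹)) x := by
    have k1 : (b * a * b⁻¹) * x * (b * a * b⁻¹)⁻¹ = y := by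
      calc _ = b * (a * (b⁻¹ * x * b) * a⁻¹) * b⁻¹ := by group
        _ = b * ((a * y * a⁻¹) * x) * b⁻¹ := by rw [e1, mul_assoc _ a⁻¹ x, ← xa.inv_right.eq]; group
        _ = y := by rw [e3, inv_mul_cancel_right, ← yb.eq, mul_inv_cancel_right]
    have k2 : (a * b * a⁻¹) * y * (a * b * a⁻¹)⁻¹ = x := by
      calc _ = a * (b * (a⁻¹ * y * a) * b⁻¹) * a⁻¹ := by group
        _ = a * (y * (b * x * b⁻¹)) * a⁻¹ := by rw [e4, ← mul_assoc b, ← yb.eq]; group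
        _ = x := by rw [e2, mul_inv_cancel_left, ← xa.eq, mul_inv_cancel_right]
    rw [Commute, SemiconjBy, ← mul_inv_eq_iff_eq_mul]
    conv_rhs => rw [← k2, ← k1]
    group
  have h8 : a * b * a⁻¹ * (b * a * b⁻¹) = 1 := by
    by_contra z1
    have h9 := cj_norm (inv_mem (hS.norm_of_commute (hS.cj hB a) (hS.ni_cj ⟨A, hA, h.symm'⟩ a) hz z1 h7.symm))
    rw [cj_cj, hx, mul_inv_rev, inv_inv, ac.inv_left.eq, inv_mul_cancel_right, ← r.eq, ← r'.eq] at h9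
    exact hne (H16.cj_inj.1 h9).symm
  rw [eq_inv_of_mul_eq_one_right h8]; group

/-! ### non-degenerate classes -/

theorem ni_of_class (hc : IsConjClassOfSubgroups S) (h : ∃ A ∈ S, ∃ B ∈ S, IsRankOnePair A B) :
    ∀ A ∈ S, NI S A := by
  obtain ⟨A, hA, h⟩ := h
  intro C hC
  obtain ⟨g, rfl⟩ := hc.2 A hA C hC
  exact hS.ni_cj h g

theorem ex_line (hc : IsConjClassOfSubgroups S) (hF : ∀ A ∈ S, NI S A) (h : ∃ A ∈ S, ∃ B ∈ S, RootCommutatorCase S A B)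
    (hA : A ∈ S) : ∃ B ∈ S, A ≠ B ∧ Ln S (A ⊔ B) := by
  obtain ⟨C, hC, D, hD, h⟩ := h
  rw [cc_iff] at h
  obtain ⟨g, rfl⟩ := hc.2 _ h.mem A hA
  refine ⟨_, hS.cj hC g, fun e => hS.cc_ne h (H16.cj_inj.1 e).symm, ?_⟩
  rw [← cj_sup]
  exact (line_ln hS h.mem (hS.cc_line hC (hF C hC) h)).cj hS g

theorem ex_tri (hc : IsConjClassOfSubgroups S) (hF : ∀ A ∈ S, NI S A) (h : ∃ A ∈ S, ∃ B ∈ S, RootCommutatorCase S A B)
    (hA : A ∈ S) (hD : D ∈ S) (hAD : IsRankOnePair A D) :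
    ∃ C ∈ S, CC S C D ∧ ⁅A, ⁅C, D⁆⁆ = C ∧ C ∈ linePartners S A := by
  obtain ⟨B, hB, hne, hN⟩ := hS.ex_line hc hF h hA
  obtain ⟨C, hC, h1, h2, h3⟩ := hS.ln_struct hF hA hB hne hN hD hAD
  exact ⟨C, hC, h1, h2, line_of_ln hS hF hC (fun e => hS.not_cc_rank hC hD h1 (e ▸ hAD)) (h3 ▸ hN)⟩

theorem nd_special (hc : IsConjClassOfSubgroups S) (hF : ∀ A ∈ S, NI S A)
    (h : ∃ A ∈ S, ∃ B ∈ S, RootCommutatorCase S A B) (hA : A ∈ S) (hD : D ∈ S) (hAD : IsRankOnePair A D) :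
    IsSpecialRankOnePair A D := by
  obtain ⟨C, hC, h1, h2, -⟩ := hS.ex_tri hc hF h hA hD hAD
  exact hS.mod_special hC hD hA h1 h2

theorem econn (hc : IsConjClassOfSubgroups S) (hF : ∀ A ∈ S, NI S A)
    (h : ∃ A ∈ S, ∃ B ∈ S, RootCommutatorCase S A B) : IsConnectedFamily (EAdj S S) S := by
  intro A hA B hB
  obtain ⟨g, rfl⟩ := hc.2 A hA B hB
  refine rtg_lift' id (fun A D hAD => ?_) (hS.conn_cj hA (hF A hA) g)
  obtain ⟨C, hC, h1, -, h2⟩ := hS.ex_tri hc hF h hAD.1 hAD.2.1 hAD.2.2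
  have h3 := hS.cc_line hAD.2.1 (hF _ hAD.2.1) h1.symm
  rw [commutator_comm] at h3
  exact .head ⟨hAD.1, hC, h2⟩ (.head ⟨hC, h1.mem, line_symm h1.mem (hS.cc_line hC (hF C hC) h1)⟩
    (.single ⟨h1.mem, hAD.2.1, h3⟩))

theorem line_cj (hF : ∀ A ∈ S, NI S A) (hA : A ∈ S) (h : B ∈ linePartners S A) (g : G) :
    B :^ g ∈ linePartners S (A :^ g) :=
  line_of_ln hS hF (hS.cj h.1.1 g) (fun e => h.1.2.1 (H16.cj_inj.1 e)) (cj_sup A B g ▸ (line_ln hS hA h).cj hS g)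

theorem gen_line (hc : IsConjClassOfSubgroups S) (hF : ∀ A ∈ S, NI S A)
    (h : ∃ A ∈ S, ∃ B ∈ S, RootCommutatorCase S A B) (hA : A ∈ S) (hB : B ∈ S) (hAB : IsRankOnePair A B)
    {U : Subgroup G} (hU : ∀ C ∈ linePartners S A, C ≤ U) (hBU : B ≤ U) : U = ⊤ := by
  have key : ∀ C ∈ linePartners S A, ∃ u ∈ U, C = A :^ u := by
    intro C hC
    have hN := line_ln hS hA hC
    have hne := hC.1.2.1
    obtain ⟨C₀, hC₀, h1, h2, h3⟩ := hS.ln_struct hF hA hC.1.1 hne.symm hN hB hAB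
    have h4 := hS.cc_of_mem hA h1.mem (h2.symm ▸ hC₀)
    have hne0 : C₀ ≠ A := fun e => hS.not_cc_rank hC₀ hB h1 (e ▸ hAB)
    have hFU : ⁅C₀, B⁆ ≤ U := comm_le (hU _ (line_of_ln hS hF hC₀ hne0 (h3 ▸ hN))) hBU
    have t1 : ∀ Q ∈ S, Q ≤ A ⊔ C → Q ≠ C₀ → ∃ u ∈ U, Q = A :^ u := fun Q hQ hQN q => by
      obtain ⟨f, hf, e⟩ := hS.cc_trans hF hA h4 hA le_sup_left (h2.symm ▸ hne0.symm) hQ (by rwa [h2, h3])
        (h2.symm ▸ q)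
      exact ⟨f, hFU hf, e.symm⟩
    by_cases e : C = C₀
    · obtain ⟨F, hF', k1, k2, k3⟩ := hS.ln_pt hF hA hC.1.1 hne.symm hN hA le_sup_left hC.1.1 le_sup_right hne.symm
      have hFU' : F ≤ U := hU _ (by
        have := hS.cc_line hF' (hF F hF') k1.symm
        rwa [commutator_comm, k2] at this)
      obtain ⟨f, hf, f1⟩ := hS.ex_ne hF'
      obtain ⟨u, hu, e1⟩ := t1 _ (hS.cj hC.1.1 f) (k3 ▸ k2 ▸ k1.cj_le (mem_sup_right hf)) fun e' => by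
        obtain ⟨c, hc', c1⟩ := hS.ex_ne hC.1.1
        have h5 : ⁅c, f⁆ ∈ C := by
          rw [commutatorElement_def, mul_assoc, mul_assoc, ← mul_assoc f]
          exact mul_mem hc' (H16.conj_mem (cj_eq_self_iff.1 (e'.trans e.symm)) (inv_mem hc'))
        exact f1 (hS.cc_inj hC.1.1 (hF _ hC.1.1) k1 hc' c1 hf (commutatorElement_eq_one_iff_commute.1
          (eq_one_of_mem_bot (hS.cc_inf hC.1.1 (hF _ hC.1.1) k1) ⟨h5, commutator_mem_commutator hc' hf⟩)))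
      exact ⟨f⁻¹ * u, mul_mem (inv_mem (hFU' hf)) hu, by rw [← cj_cj, ← e1, cj_cj_inv]⟩
    · exact t1 C hC.1.1 le_sup_right e
  have key2 : ∀ C, ReflTransGen (EAdj S S) A C → ∃ u ∈ U, C = A :^ u := by
    intro C hC
    induction hC with
    | refl => exact ⟨1, one_mem _, (cj_one _).symm⟩
    | tail _ hE ih =>
      obtain ⟨u, hu, rfl⟩ := ih
      have := hS.line_cj hF hE.1 hE.2.2 u⁻¹
      rw [cj_cj_inv] at this
      obtain ⟨v, hv, e⟩ := key _ this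
      exact ⟨u * v, mul_mem hu hv, by rw [← cj_cj, ← e, cj_inv_cj]⟩
  have hAU : A ≤ U := by
    obtain ⟨C, hC, -, -, h1⟩ := hS.ex_tri hc hF h hA hB hAB
    obtain ⟨u, hu, e⟩ := key C h1
    rw [(cj_eq_iff.1 e.symm)]
    exact cj_le_of_mem (inv_mem hu) (hU C h1)
  exact hS.eq_top fun C hC => by
    obtain ⟨u, hu, rfl⟩ := key2 C (hS.econn hc hF h A hA C hC)
    exact cj_le_of_mem hu hAU

end Cfsg.IsRootSubgroupSet
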