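import Cfsg.Agent.H11.R2b

/-! Unipotent linear groups and a Baer-Suzuki theorem for them. -/

set_option autoImplicit false
set_option linter.unusedSectionVars false

open Subgroup Cfsg H16 Module
open scoped commutatorElement

namespace H16.H11

variable {k M : Type*} [Field k] [AddCommGroup M] [Module k M]

/-- the general linear group -/
abbrev GLm (k M : Type*) [Field k] [AddCommGroup M] [Module k M] := LinearMap.GeneralLinearGroup k M

variable {H X D P A B : Subgroup (GLm k M)} {W U : Submodule k M} {g x y : GLm k M} {m : M}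

/-- `[W, H]` -/
def cs (W : Submodule k M) (H : Subgroup (GLm k M)) : Submodule k M := ⨆ g ∈ H, W.map ((g : End k M) - 1)

/-- invariance -/
def Inv (H : Subgroup (GLm k M)) (W : Submodule k M) : Prop := ∀ g ∈ H, ∀ w ∈ W, (g : End k M) w ∈ W

theorem cs_le : cs W H ≤ U ↔ ∀ g ∈ H, ∀ w ∈ W, (g : End k M) w - w ∈ U := by
  simp only [cs, iSup_le_iff, Submodule.map_le_iff_le_comap]; rfl

theorem mem_cs (hg : g ∈ H) (hm : m ∈ W) : (g : End k M) m - m ∈ cs W H := cs_le.1 le_rfl g hg m hm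

theorem cs_mono (h1 : W ≤ U) (h2 : H ≤ X) : cs W H ≤ cs U X := cs_le.2 fun _ hg _ hw => mem_cs (h2 hg) (h1 hw)

theorem cs_sup_left : cs (W ⊔ U) H ≤ cs W H ⊔ cs U H := cs_le.2 fun g hg w hw => by
  obtain ⟨a, ha, b, hb, rfl⟩ := Submodule.mem_sup.1 hw
  rw [map_add, add_sub_add_comm]
  exact Submodule.add_mem_sup (mem_cs hg ha) (mem_cs hg hb)

theorem Inv.cs_le (h : Inv H W) : cs W H ≤ W := H11.cs_le.2 fun g hg w hw => sub_mem (h g hg w hw) hw

theorem Inv.mono (h : Inv X W) (hle : H ≤ X) : Inv H W := fun g hg => h g (hle hg)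

theorem inv_of_cs (h : cs W H ≤ W) : Inv H W := fun g hg w hw => by simpa using add_mem (h (mem_cs hg hw)) hw

theorem gl_mul (x y : GLm k M) (m : M) : ((x * y : GLm k M) : End k M) m = (x : End k M) ((y : End k M) m) := rfl

theorem gl_inv (x : GLm k M) (m : M) : (x : End k M) ((x⁻¹ : GLm k M).1 m) = m := by
  rw [← gl_mul, mul_inv_cancel]; rfl

theorem gl_inv' (x : GLm k M) (m : M) : (x⁻¹ : GLm k M).1 ((x : End k M) m) = m := by
  rw [← gl_mul, inv_mul_cancel]; rfl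

theorem Inv.cs (h : Inv X W) (hn : X ≤ N[H]) : Inv X (cs W H) := fun x hx w hw => by
  refine (H11.cs_le (U := (H11.cs W H).comap (x : End k M))).2 (fun g hg w hw => ?_) hw
  have := mem_cs (H16.conj_mem (hn hx) hg) (h x hx w hw)
  rwa [gl_mul, gl_mul, gl_inv', ← map_sub] at this

/-- the elements of `X` acting trivially on `W / U` -/
def triv (X : Subgroup (GLm k M)) {W : Submodule k M} (h : Inv X W) (U : Submodule k M) : Subgroup (GLm k M) where
  carrier := {g | g ∈ X ∧ ∀ w ∈ W, (g : End k M) w - w ∈ U}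
  one_mem' := ⟨one_mem _, by simp⟩
  mul_mem' := fun {a b} ha hb => ⟨mul_mem ha.1 hb.1, fun w hw => by
    simpa using add_mem (ha.2 _ (h b hb.1 w hw)) (hb.2 w hw)⟩
  inv_mem' := fun {a} ha => ⟨inv_mem ha.1, fun w hw => by
    have := neg_mem (ha.2 _ (h _ (inv_mem ha.1) w hw))
    rwa [gl_inv, neg_sub] at this⟩

theorem cs_sup (h : Inv (A ⊔ B) W) : cs W (A ⊔ B) ≤ cs W A ⊔ cs W B := cs_le.2 fun _ hg =>
  ((sup_le (fun a ha => ⟨mem_sup_left ha, fun _ hw => Submodule.mem_sup_left (mem_cs ha hw)⟩)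
    (fun a ha => ⟨mem_sup_right ha, fun _ hw => Submodule.mem_sup_right (mem_cs ha hw)⟩) :
      A ⊔ B ≤ triv _ h (cs W A ⊔ cs W B)) hg).2

/-- the lower series -/
def lcs (H : Subgroup (GLm k M)) : ℕ → Submodule k M
  | 0 => ⊤
  | n + 1 => cs (lcs H n) H

theorem lcs_inv (H : Subgroup (GLm k M)) (n : ℕ) : Inv H (lcs H n) := by
  induction n with
  | zero => exact fun _ _ _ _ => trivial
  | succ n ih => exact ih.cs (le_norm H)

theorem lcs_anti (H : Subgroup (GLm k M)) : Antitone (lcs H) := antitone_nat_of_succ_le fun n => (lcs_inv H n).cs_le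

theorem unip_iff_lcs : IsUnipotentOn H ↔ ∃ n, lcs H n = ⊥ := by
  refine exists_congr fun n => ⟨fun h => ?_, fun h l hl hn => ?_⟩
  · suffices ∀ i j, i + j = n → ∀ l : List (GLm k M), (∀ g ∈ l, g ∈ H) → l.length = j → ∀ m ∈ lcs H i,
        (l.map fun g => (g : End k M) - 1).prod m = 0 from
      eq_bot_iff.2 fun m hm => by simpa using this n 0 rfl [] (by simp) rfl m hm
    intro i
    induction i with
    | zero => intro j hj l hl e m _; rw [h l hl (by omega)]; rfl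
    | succ i ih =>
      intro j hj l hl e
      refine (cs_le (U := LinearMap.ker _)).2 fun g hg w hw => ?_
      simpa using ih (j + 1) (by omega) (l ++ [g]) (by simpa [or_imp, forall_and] using ⟨hl, hg⟩) (by simp [e]) w hw
  · subst hn
    ext m
    suffices (l.map fun g => (g : End k M) - 1).prod m ∈ lcs H l.length by rwa [h] at this
    clear h
    induction l with
    | nil => trivial
    | cons g l ih => exact mem_cs (hl g List.mem_cons_self) (ih fun g hg => hl g (List.mem_cons_of_mem _ hg))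

theorem le_of_unip (h : IsUnipotentOn H) (h1 : W ≤ U ⊔ cs W H) (hU : Inv H U) : W ≤ U := by
  obtain ⟨n, hn⟩ := unip_iff_lcs.1 h
  suffices ∀ i, W ≤ U ⊔ lcs H i by simpa [hn] using this n
  intro i
  induction i with
  | zero => exact le_top.trans le_sup_right
  | succ i ih =>
    exact h1.trans (sup_le le_sup_left (((cs_mono ih le_rfl).trans cs_sup_left).trans (sup_le_sup_right hU.cs_le _)))

theorem eq_bot_of_unip (h : IsUnipotentOn H) (h1 : W ≤ cs W H) : W = ⊥ :=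
  eq_bot_iff.2 (le_of_unip h (h1.trans le_sup_right) fun _ _ _ hw => by simp [(Submodule.mem_bot k).1 hw])

theorem unip_of [FiniteDimensional k M] (h : ∀ W, Inv H W → W ≤ cs W H → W = ⊥) : IsUnipotentOn H := by
  obtain ⟨n, hn⟩ := IsArtinian.monotone_stabilizes (R := k) (M := M) ⟨fun n => OrderDual.toDual (lcs H n), lcs_anti H⟩
  exact unip_iff_lcs.2 ⟨n, h _ (lcs_inv H n) (le_of_eq (hn (n + 1) n.le_succ))⟩

theorem unip_mono (h : IsUnipotentOn X) (hle : H ≤ X) : IsUnipotentOn H :=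
  let ⟨n, hn⟩ := h; ⟨n, fun l hl => hn l fun g hg => hle (hl g hg)⟩

theorem unip_sup [FiniteDimensional k M] (hD : IsUnipotentOn D) (hP : IsUnipotentOn P) (hn : P ≤ N[D]) :
    IsUnipotentOn (D ⊔ P) := unip_of fun W hW h =>
  eq_bot_of_unip hD (le_of_unip hP (h.trans (cs_sup hW)) ((hW.mono le_sup_right).cs hn))

theorem exists_fixed (h : IsUnipotentOn H) (hm : m ≠ 0) : ∃ v : M, v ≠ 0 ∧ ∀ g ∈ H, (g : End k M) v = v := by
  obtain ⟨n, hn⟩ := unip_iff_lcs.1 h
  induction n with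
  | zero => exact absurd (hn.le (show m ∈ lcs H 0 from trivial)) hm
  | succ n ih =>
    by_cases h1 : lcs H n = ⊥
    · exact ih h1
    obtain ⟨v, hv, v0⟩ := (Submodule.ne_bot_iff _).1 h1
    exact ⟨v, v0, fun g hg => sub_eq_zero.1 (hn.le (mem_cs hg hv))⟩

/-- a unipotent subgroup normalized by an irreducible group is trivial -/
theorem eq_bot_of_irr (hX : IsIrreducibleFor X) (h : IsUnipotentOn H) (hn : X ≤ N[H]) : H = ⊥ := by
  obtain ⟨⟨m, hm⟩, hX⟩ := hX
  rcases hX (cs ⊤ H) (Inv.cs (fun _ _ _ _ => trivial) hn) with h1 | h1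
  · exact eq_bot_iff.2 fun g hg => Units.ext (LinearMap.ext fun v => sub_eq_zero.1 (h1.le (mem_cs hg trivial)))
  · exact absurd ((eq_bot_of_unip h h1.ge).le (show m ∈ ⊤ from trivial)) hm

/-- the elements moving the lower series of `X` down `j` steps -/
def dep (X : Subgroup (GLm k M)) (j : ℕ) : Subgroup (GLm k M) := ⨅ i, triv X (lcs_inv X i) (lcs X (i + j))

theorem mem_dep {j : ℕ} : g ∈ dep X j ↔ g ∈ X ∧ ∀ i, ∀ w ∈ lcs X i, (g : End k M) w - w ∈ lcs X (i + j) := by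
  rw [dep, mem_iInf]
  exact ⟨fun h => ⟨(h 0).1, fun i => (h i).2⟩, fun h i => ⟨h.1, h.2 i⟩⟩

theorem dep_le {j : ℕ} : dep X j ≤ X := fun _ hg => (mem_dep.1 hg).1

theorem le_dep : X ≤ dep X 1 := fun _ hg => mem_dep.2 ⟨hg, fun _ _ hw => mem_cs hg hw⟩

theorem comm_dep {j : ℕ} : ⁅dep X j, X⁆ ≤ dep X (j + 1) := commutator_le.2 fun g hg x hx => by
  obtain ⟨h1, h2⟩ := mem_dep.1 hg
  refine mem_dep.2 ⟨commutator_le.1 (der_le X) g h1 x hx, fun i w hw => ?_⟩
  have h3 := lcs_inv X i _ (inv_mem h1) _ (lcs_inv X i _ (inv_mem hx) w hw)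
  have h4 := h2 (i + 1) _ (mem_cs hx h3)
  rw [show i + 1 + j = i + j + 1 by omega] at h4
  have h5 : _ ∈ lcs X (i + (j + 1)) := sub_mem h4 (mem_cs hx (h2 _ _ h3))
  convert h5 using 1
  simp only [commutatorElement_def, gl_mul, map_sub, gl_inv]
  abel

theorem dep_succ_le {j : ℕ} : dep X (j + 1) ≤ dep X j := fun _ hg =>
  mem_dep.2 ⟨dep_le hg, fun i w hw => lcs_anti X (by omega) ((mem_dep.1 hg).2 i w hw)⟩

theorem dep_eq_bot {n : ℕ} (h : lcs X n = ⊥) : dep X n = ⊥ := eq_bot_iff.2 fun g hg =>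
  Units.ext (LinearMap.ext fun v => sub_eq_zero.1 (h.le (by simpa using (mem_dep.1 hg).2 0 v trivial)))

theorem nil_of_unip (h : IsUnipotentOn X) : Group.IsNilpotent X := by
  obtain ⟨n, hn⟩ := unip_iff_lcs.1 h
  refine nil_of_chain X (fun i => dep X (n + 1 - i)) (eq_bot_of_le (dep_eq_bot hn) dep_succ_le) (fun i => ?_) n
    (by simpa using le_dep)
  by_cases hi : i ≤ n
  · rw [show n + 1 - i = n + 1 - (i + 1) + 1 by omega]; exact comm_dep
  · rw [show n + 1 - i = 0 by omega, show n + 1 - (i + 1) = 0 by omega]; exact comm_dep.trans dep_succ_le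

variable {G : Subgroup (GLm k M)} {S : Set (Subgroup (GLm k M))}

/-- the subgroup generated by the members of `S` in `X` -/
def gen (S : Set (Subgroup (GLm k M))) (X : Subgroup (GLm k M)) : Subgroup (GLm k M) := ⨆ A ∈ membersIn S X, A

theorem gen_le : gen S X ≤ X := iSup₂_le fun _ h => h.2

theorem le_gen (h1 : A ∈ S) (h2 : A ≤ X) : A ≤ gen S X := le_iSup₂_of_le (f := fun A _ => A) A ⟨h1, h2⟩ le_rfl

theorem gen_mono (h : ∀ A ∈ S, A ≤ H → A ≤ X) : gen S H ≤ gen S X := iSup₂_le fun A hA => le_gen hA.1 (h A hA.1 hA.2)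

theorem norm_gen (hS : ∀ A ∈ S, ∀ g ∈ G, A :^ g ∈ S) (h1 : P ≤ G) (h2 : P ≤ N[X]) : P ≤ N[gen S X] :=
  le_norm_iff_cj.2 fun a ha => cj_le_iff.2 (iSup₂_le fun A hA =>
    cj_le_iff.1 (le_gen (hS A hA.1 a (h1 ha)) (cj_le_of_norm (h2 ha) hA.2)))

theorem exists_norm (hS : ∀ A ∈ S, ∀ g ∈ G, A :^ g ∈ S) (hX : IsUnipotentOn X) (hG : X ≤ G) (hH : H ≤ X)
    (h : ∃ A ∈ S, A ≤ X ∧ ¬ A ≤ H) : ∃ A ∈ S, A ≤ X ∧ ¬ A ≤ H ∧ A ≤ N[gen S H] := by
  by_contra hc
  obtain ⟨n, hn⟩ := unip_iff_lcs.1 hX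
  suffices ∀ j, ∃ A ∈ S, A ≤ H ⊔ dep X (j + 1) ∧ ¬ A ≤ H by
    obtain ⟨A, -, h1, h2⟩ := this n
    exact h2 (by simpa [eq_bot_of_le (dep_eq_bot hn) dep_succ_le] using h1)
  intro j
  induction j with
  | zero => obtain ⟨A, h1, h2, h3⟩ := h; exact ⟨A, h1, h2.trans (le_dep.trans le_sup_right), h3⟩
  | succ j ih =>
    obtain ⟨A, h1, h2, h3⟩ := ih
    by_contra h4
    push Not at h4
    have h5 := h2.trans (sup_le hH dep_le)
    refine hc ⟨A, h1, h5, h3, ?_⟩
    rw [le_antisymm (gen_mono fun A _ h => h.trans le_sup_left) (gen_mono h4)]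
    refine norm_gen hS (h5.trans hG) (h2.trans (sup_le (norm_of_le le_sup_left) (norm_of_comm_le ?_)))
    rw [commutator_comm]
    exact (commutator_mono le_rfl (sup_le hH dep_le)).trans (comm_dep.trans le_sup_right)

/-- the augmentation span -/
def aug (X : Subgroup (GLm k M)) : Submodule k (End k M) := Submodule.span k {f | ∃ g ∈ X, (g : End k M) - 1 = f}

theorem mem_aug (hg : g ∈ X) : (g : End k M) - 1 ∈ aug X := Submodule.subset_span ⟨g, hg, rfl⟩

theorem aug_le {V : Submodule k (End k M)} : aug X ≤ V ↔ ∀ g ∈ X, (g : End k M) - 1 ∈ V := by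
  rw [aug, Submodule.span_le]
  exact ⟨fun h g hg => h ⟨g, hg, rfl⟩, fun h _ ⟨g, hg, e⟩ => e ▸ h g hg⟩

theorem aug_mul {a b : End k M} (ha : a ∈ aug X) (hb : b ∈ aug X) : a * b ∈ aug X := by
  refine (aug_le (V := (aug X).comap (LinearMap.mulRight k b))).2 (fun g hg => ?_) ha
  refine (aug_le (V := (aug X).comap (LinearMap.mulLeft k _))).2 (fun h hh => ?_) hb
  have := sub_mem (sub_mem (mem_aug (mul_mem hg hh)) (mem_aug hg)) (mem_aug hh)
  change ((g : End k M) - 1) * ((h : End k M) - 1) ∈ aug X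
  convert this using 1
  rw [Units.val_mul]; noncomm_ring

/-- the linear closure of `X` -/
def hat (X : Subgroup (GLm k M)) : Subgroup (GLm k M) where
  carrier := {g | (g : End k M) - 1 ∈ aug X ∧ (g⁻¹ : GLm k M).1 - 1 ∈ aug X}
  one_mem' := by simp
  inv_mem' := fun h => ⟨h.2, by simpa using h.1⟩
  mul_mem' := fun {a b} ha hb => ⟨by
    convert add_mem (add_mem (aug_mul ha.1 hb.1) ha.1) hb.1 using 1
    rw [Units.val_mul]; noncomm_ring, by
    convert add_mem (add_mem (aug_mul hb.2 ha.2) ha.2) hb.2 using 1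
    rw [mul_inv_rev, Units.val_mul]; noncomm_ring⟩

theorem le_hat_iff : A ≤ hat X ↔ aug A ≤ aug X :=
  ⟨fun h => aug_le.2 fun _ hg => (h hg).1, fun h _ hg => ⟨h (mem_aug hg), h (mem_aug (inv_mem hg))⟩⟩

theorem le_hat : X ≤ hat X := le_hat_iff.2 le_rfl

theorem hat_le_hat (h : A ≤ hat X) : hat A ≤ hat X := fun _ hg => ⟨le_hat_iff.1 h hg.1, le_hat_iff.1 h hg.2⟩

theorem unip_hat [FiniteDimensional k M] (h : IsUnipotentOn X) : IsUnipotentOn (hat X) := unip_of fun W _ h1 =>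
  eq_bot_of_unip h (h1.trans (cs_le.2 fun g hg w hw =>
    (aug_le (V := (cs W X).comap (LinearMap.applyₗ w))).2 (fun x hx => mem_cs hx hw) hg.1))

theorem exists_max_aug [FiniteDimensional k M] (p : Subgroup (GLm k M) → Prop) (h : ∃ D, p D) :
    ∃ D, p D ∧ ∀ D', p D' → D ≤ D' → D' ≤ hat D := by
  obtain ⟨_, ⟨D, hD, rfl⟩, h1⟩ := (set_has_maximal_iff_noetherian (R := k) (M := End k M)).2 inferInstance
    (aug '' {D | p D}) (Set.Nonempty.image _ h)
  exact ⟨D, hD, fun D' h2 h3 => le_hat_iff.2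
    ((le_hat_iff.1 (h3.trans le_hat)).eq_of_not_lt (h1 _ ⟨D', h2, rfl⟩)).ge⟩

/-- the Baer-Suzuki theorem for unipotent groups -/
theorem unip_iSup [FiniteDimensional k M] (hG : ∀ A ∈ S, A ≤ G) (h2 : ∀ A ∈ S, ∀ B ∈ S, IsUnipotentOn (A ⊔ B))
    (hS : ∀ A ∈ S, ∀ g ∈ G, A :^ g ∈ S) : IsUnipotentOn (⨆ A ∈ S, A) := by
  have gs : ∀ {D A}, D ≤ gen S D → A ∈ S → D ⊔ A ≤ gen S (D ⊔ A) := fun h1 h2 =>
    sup_le (h1.trans (gen_mono fun _ _ h => h.trans le_sup_left)) (le_gen h2 le_sup_right)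
  have gG : ∀ D, gen S D ≤ G := fun D => iSup₂_le fun A hA => hG A hA.1
  have gh : ∀ {D}, D ≤ gen S D → D ≤ gen S (hat D) := fun h => h.trans (gen_mono fun _ _ h => h.trans le_hat)
  have u0 : IsUnipotentOn (⊥ : Subgroup (GLm k M)) := unip_of fun W _ h => eq_bot_iff.2 (h.trans (cs_le.2 fun g hg w _ => by
    simp [mem_bot.1 hg]))
  obtain ⟨U, ⟨u1, u2⟩, hU⟩ := exists_max_aug (fun U => U ≤ gen S U ∧ IsUnipotentOn U) ⟨⊥, bot_le, u0⟩
  refine unip_mono (unip_hat u2) (iSup₂_le fun B hB => ?_)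
  by_contra hc
  obtain ⟨D, ⟨d1, d2, B, hB, d3, d4⟩, hD⟩ := exists_max_aug
    (fun D => D ≤ gen S D ∧ D ≤ hat U ∧ ∃ B ∈ S, ¬ B ≤ hat U ∧ IsUnipotentOn (D ⊔ B))
    ⟨⊥, bot_le, bot_le, B, hB, hc, by simpa using h2 B hB B hB⟩
  have key : ∀ X, IsUnipotentOn X → D ≤ X → (∃ A ∈ S, A ≤ hat X ∧ ¬ A ≤ hat D) →
      ∃ A ∈ S, A ≤ hat X ∧ ¬ A ≤ hat D ∧ A ≤ N[gen S (hat D)] := by
    rintro X h1 h3 ⟨A, a1, a2, a3⟩
    obtain ⟨A, a1, a2, a3, a4⟩ := exists_norm (H := hat D ⊓ gen S (hat X)) hS (unip_mono (unip_hat h1) gen_le) (gG _)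
      inf_le_right ⟨A, a1, le_gen a1 a2, fun h => a3 (h.trans inf_le_left)⟩
    refine ⟨A, a1, a2.trans gen_le, fun h => a3 (le_inf h a2), ?_⟩
    rwa [le_antisymm (gen_mono fun A _ h => h.trans inf_le_left)
      (gen_mono fun A a h => le_inf h (le_gen a (h.trans (hat_le_hat (h3.trans le_hat)))))] at a4
  obtain ⟨A, a1, a2, a3, a4⟩ := key (hat U) (unip_hat u2) d2 (by
    by_contra h
    push Not at h
    have h1 : U ≤ hat (D ⊔ B) := (u1.trans (iSup₂_le fun A hA => h A hA.1 (hA.2.trans (le_hat.trans le_hat)))).trans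
      (hat_le_hat (le_sup_left.trans le_hat))
    exact d3 (le_sup_right.trans (hU _ ⟨gs u1 hB, unip_mono (unip_hat d4) (sup_le h1 (le_sup_right.trans le_hat))⟩
      le_sup_left)))
  replace a2 := a2.trans (hat_le_hat le_rfl)
  obtain ⟨C, c1, c2, c3, c4⟩ := key _ d4 le_sup_left
    ⟨B, hB, le_sup_right.trans le_hat, fun h => d3 (h.trans (hat_le_hat d2))⟩
  by_cases h : C ≤ hat U
  · exact c3 (le_sup_right.trans (hD _ ⟨gs d1 c1, sup_le d2 h, B, hB, d3, unip_mono (unip_hat d4)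
      (sup_le (sup_le (le_sup_left.trans le_hat) c2) (le_sup_right.trans le_hat))⟩ le_sup_left))
  · refine a3 (le_sup_right.trans (hD _ ⟨gs d1 a1, sup_le d2 a2, C, c1, h, unip_mono (unip_sup
      (unip_mono (unip_hat (unip_mono d4 le_sup_left)) gen_le) (h2 A a1 C c1) (sup_le a4 c4)) ?_⟩ le_sup_left))
    rw [sup_assoc]
    exact sup_le_sup_right (gh d1) _

end H16.H11
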