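import Cfsg.Agent.H11.Z3

/-! A class of involutions, each fixing exactly one point, the general case: basic facts. -/

set_option autoImplicit false
set_option linter.unusedSectionVars false

namespace H11.YZ

open Subgroup MulAction _root_.Cfsg H16 H15.Bd H11.ZD
open scoped commutatorElement

universe u

variable {G Ω : Type u} [Group G] [MulAction G Ω]

variable (Ω) in
/-- the local hypothesis -/
structure Y0 (D : Set G) : Prop where
  ord : ∀ d ∈ D, orderOf d = 2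
  conj : ∀ d ∈ D, ∀ g : G, g * d * g⁻¹ ∈ D
  fix : ∀ d ∈ D, ∃! a : Ω, d • a = a
  prod : ∀ d ∈ D, ∀ e ∈ D, d ≠ e → Commute d e → ∀ a b : Ω, (d * e) • a = a → (d * e) • b = b → a = b

variable (Ω) in
/-- the hypothesis for a faithful transitive action -/
structure Y1 (D : Set G) : Prop extends Y0 Ω D where
  trans : IsPretransitive G Ω
  nontriv : Nontrivial Ω
  ne : D.Nonempty
  faith : ∀ x : G, (∀ a : Ω, x • a = a) → x = 1

/-- `N` contains two commuting elements of `D` -/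
def FD (D : Set G) (N : Subgroup G) : Prop := ∃ d ∈ D, ∃ e ∈ D, d ∈ N ∧ e ∈ N ∧ d ≠ e ∧ Commute d e

/-- elements of `D ∩ N` generating a `2`-group commute -/
def Com (D : Set G) (N : Subgroup G) : Prop := ∀ d ∈ D, ∀ e ∈ D, d ∈ N → e ∈ N → Two (d * e) → Commute d e

variable (Ω) in
/-- the inductive situation -/
structure YG (D : Set G) : Prop extends Y1 Ω D where
  four : FD D ⊤
  ih : ∀ X : Subgroup G, X ≠ ⊤ → ∀ a : Ω, ∀ d ∈ D, d ∈ X → d • a = a → ¬ LX D X ≤ St G a →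
    (∀ u ∈ LX D X, orderOf u = 2 → u ∈ D) ∧ Com D X

variable [Finite G] {D : Set G} {α β γ : Ω} {A W X Q V K P : Subgroup G} {d e s t u w x z : G}

namespace Y0
variable (h : Y0 Ω D)
include h

theorem sq (hd : d ∈ D) : d * d = 1 := H6.ord2_mul_self (h.ord d hd)
theorem inv (hd : d ∈ D) : d⁻¹ = d := H6.ord2_inv (h.ord d hd)
theorem ne_one (hd : d ∈ D) : d ≠ 1 := H6.ord2_ne_one (h.ord d hd)
theorem conj' (hd : d ∈ D) (g : G) : g⁻¹ * d * g ∈ D := by simpa using h.conj d hd g⁻¹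
theorem center_eq (hd : d ∈ D) (h1 : d • α = α) (h2 : d • β = β) : β = α := (h.fix d hd).unique h2 h1
theorem exists_center (hd : d ∈ D) : ∃ a : Ω, d • a = a := (h.fix d hd).exists
theorem fix_of_commute (hd : d ∈ D) (h1 : d • α = α) (hc : Commute x d) : x • α = α :=
  h.center_eq hd h1 (fix_smul_of_commute hc.symm h1)
theorem smul_eq_of_conj (hd : d ∈ D) (h1 : d • α = α) (h2 : (x * d * x⁻¹) • β = β) : x • α = β :=
  h.center_eq (h.conj d hd x) h2 (by simp [mul_smul, h1])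
theorem smul_smul (hd : d ∈ D) (a : Ω) : d • d • a = a := smul_smul_of_ord (h.ord d hd) a
theorem pow_mul_mem (hd : d ∈ D) (he : e ∈ D) (k : ℕ) : (d * e) ^ k * d ∈ D := by
  have h1 : ∀ i : ℕ, d * ((d * e) ^ i)⁻¹ = (d * e) ^ i * d := fun i => by
    rw [← H6.conj_pow_of_inverts (H6.inv_conj_mul (h.sq hd) (h.sq he)) i, h.inv hd, ← mul_assoc, ← mul_assoc,
      h.sq hd, one_mul]
  obtain ⟨i, rfl | rfl⟩ := Nat.even_or_odd' k
  · convert h.conj d hd ((d * e) ^ i) using 1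
    rw [mul_assoc _ d, h1, two_mul, pow_add, mul_assoc]
  · convert h.conj _ (h.conj e he d) ((d * e) ^ i) using 1
    rw [h.inv hd, mul_assoc _ (d * e * d), mul_assoc (d * e), h1, two_mul, add_right_comm, pow_add, pow_succ]
    simp only [mul_assoc]
theorem odd_of_fix (hd : d ∈ D) (he : e ∈ D) (hne : α ≠ β)
    (H : ∀ z, z ∈ zpowers (d * e) → Commute z d → Commute z e → z • α = α ∧ z • β = β) : Odd (orderOf (d * e)) := by
  by_contra hev
  obtain ⟨h1, h2, h3⟩ := H6.exists_central_inv (h.sq hd) (h.sq he) (Nat.not_odd_iff_even.1 hev)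
  obtain ⟨h5, h6⟩ := H _ (pow_mem (mem_zpowers _) _) h2 h3
  refine hne (h.prod _ (h.pow_mul_mem hd he (orderOf (d * e) / 2)) d hd
    (fun e => H6.ord2_ne_one h1 (by simpa using e)) (h2.mul_left (Commute.refl d)) α β ?_ ?_) <;>
  rwa [mul_assoc, h.sq hd, mul_one]
theorem odd_mul (hd : d ∈ D) (he : e ∈ D) (h1 : d • α = α) (h2 : e • β = β) (hne : α ≠ β) :
    Odd (orderOf (d * e)) :=
  h.odd_of_fix hd he hne fun _ _ h3 h4 => ⟨h.fix_of_commute hd h1 h3, h.fix_of_commute he h2 h4⟩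
theorem Sw_symm (hs : s ∈ Sw D α β) : s ∈ Sw D β α := ⟨hs.1, by rw [← hs.2, h.smul_smul hs.1]⟩
theorem mul_mem_D2 (hs : s ∈ Sw D α β) (ht : t ∈ Sw D α β) : s * t ∈ D2 G α β :=
  mem_D2.2 ⟨by rw [mul_smul, ht.2, (h.Sw_symm hs).2], by rw [mul_smul, (h.Sw_symm ht).2, hs.2]⟩
/-- a product of two elements of `D` swapping the same two points has odd order -/
theorem odd_mul_sw (hs : s ∈ Sw D α β) (ht : t ∈ Sw D α β) (hne : α ≠ β) : Odd (orderOf (s * t)) :=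
  h.odd_of_fix hs.1 ht.1 hne fun _ hz _ _ => zpowers_le.2 (h.mul_mem_D2 hs ht) hz
theorem eq_of_commute (hs : s ∈ Sw D α β) (ht : t ∈ Sw D α β) (hne : α ≠ β) (hc : Commute s t) : s = t := by
  have := H6.eq_one_of_odd_of_sq (h.odd_mul_sw hs ht hne) (by
    rw [mul_assoc, ← mul_assoc t, ← hc.eq, mul_assoc s t, h.sq ht.1, mul_one, h.sq hs.1])
  rw [eq_inv_of_mul_eq_one_left this, h.inv ht.1]
theorem exists_swap' (hd : d ∈ D) (he : e ∈ D) (h1 : d • α = α) (h2 : e • β = β) (hne : α ≠ β) :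
    ∃ k : ℕ, ((d * e) ^ k * d) • α = β ∧ (d * e) ^ k * d * d * ((d * e) ^ k * d)⁻¹ = e := by
  obtain ⟨k, hk⟩ := H6.exists_pow_conj_of_odd (h.sq hd) (h.sq he) (h.odd_mul hd he h1 h2 hne)
  have e1 : (d * e) ^ k * d * d * ((d * e) ^ k * d)⁻¹ = e := by
    refine Eq.trans ?_ hk; group
  exact ⟨k, h.smul_eq_of_conj hd h1 (e1.symm ▸ h2), e1⟩
theorem exists_swap (hd : d ∈ D) (he : e ∈ D) (h1 : d • α = α) (h2 : e • β = β) (hne : α ≠ β)
    (hdX : d ∈ X) (heX : e ∈ X) : ∃ s ∈ D, s ∈ LX D X ∧ s • α = β ∧ s * d * s⁻¹ = e := by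
  obtain ⟨k, h3, h4⟩ := h.exists_swap' hd he h1 h2 hne
  exact ⟨_, h.pow_mul_mem hd he k, Subgroup.mul_mem _ (pow_mem (Subgroup.mul_mem _ (mem_LX hd hdX)
    (mem_LX he heX)) k) (mem_LX hd hdX), h3, h4⟩
theorem swap_unique (hd : d ∈ D) (h1 : d • α = α) (hne : α ≠ β) (hs : s ∈ Sw D α β) (ht : t ∈ Sw D α β)
    (e : s * d * s⁻¹ = t * d * t⁻¹) : s = t := by
  obtain ⟨k, h3, h4⟩ := h.exists_swap' hd (h.conj d hd s) h1 (β := β)
    (by rw [← hs.2]; simp [mul_smul, h1]) hne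
  have h5 := h.pow_mul_mem hd (h.conj d hd s) k
  set r := (d * (s * d * s⁻¹)) ^ k * d with hr
  have key : ∀ y ∈ Sw D α β, y * d * y⁻¹ = s * d * s⁻¹ → y = r := fun y hy e => by
    have c1 : Commute (y * r) d := by
      rw [← H6.conj_eq_iff_commute]
      calc _ = y * (r * d * r⁻¹) * y⁻¹ := by group
        _ = y * y * d * (y * y)⁻¹ := by rw [h4, ← e]; group
        _ = d := by rw [h.sq hy.1]; group
    have c2 : Commute (y * r) (s * d * s⁻¹) := by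
      rw [← H6.conj_eq_iff_commute]
      calc _ = y * (r * (r * d * r⁻¹) * r⁻¹) * y⁻¹ := by rw [h4]; group
        _ = y * (r * r * d * (r * r)⁻¹) * y⁻¹ := by group
        _ = _ := by rw [h.sq h5, ← e]; group
    have c3 : Commute (y * r) r := ((c1.mul_right c2).pow_right k).mul_right c1
    refine h.eq_of_commute hy ⟨h5, h3⟩ hne ?_
    exact mul_right_cancel (c3.eq.trans (mul_assoc r y r).symm)
  rw [key s hs rfl, key t ht e.symm]
/-- the elements of `D ∩ X` are conjugate in `LX D X` -/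
theorem conj_LX (hm : ¬ LX D X ≤ St G α) (hd : d ∈ D) (he : e ∈ D) (h1 : d • α = α) (hdX : d ∈ X)
    (heX : e ∈ X) : ∃ g ∈ LX D X, g * d * g⁻¹ = e := by
  obtain ⟨β, h2⟩ := h.exists_center he
  by_cases hne : α = β
  · subst hne
    rw [LX_le_iff] at hm
    push Not at hm
    obtain ⟨c, hc, hcX, h3⟩ := hm
    obtain ⟨γ, h4⟩ := h.exists_center hc
    have h5 : α ≠ γ := fun e => h3 (by rw [e]; exact h4)
    obtain ⟨s, -, hs, -, e1⟩ := h.exists_swap hd hc h1 h4 h5 hdX hcX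
    obtain ⟨t, -, ht, -, e2⟩ := h.exists_swap he hc h2 h4 h5 heX hcX
    refine ⟨t⁻¹ * s, Subgroup.mul_mem _ (inv_mem ht) hs, ?_⟩
    calc _ = t⁻¹ * (s * d * s⁻¹) * t := by group
      _ = _ := by rw [e1, ← e2]; group
  · obtain ⟨s, -, hs, -, e1⟩ := h.exists_swap hd he h1 h2 hne hdX heX
    exact ⟨s, hs, e1⟩
theorem N_le_N_LX (X : Subgroup G) : N[X] ≤ N[LX D X] := le_norm_iff_cj.2 fun g hg =>
  map_le_iff_le_comap.2 (LX_le_iff.2 fun d hd hX => mem_LX (h.conj d hd g) (conj_mem hg hX))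
theorem fixedBy_eq (hd : d ∈ D) (h1 : d • α = α) : fixedBy Ω d = {α} :=
  Set.eq_singleton_iff_unique_mem.2 ⟨h1, fun _ h2 => h.center_eq hd h1 h2⟩
theorem card_Sw_inter (hne : α ≠ β) (hd : d ∈ D) (h1 : d • α = α) (hdX : d ∈ X) :
    (Sw D α β ∩ (X : Set G)).ncard = (Dp D β ∩ (X : Set G)).ncard := by
  refine Set.ncard_congr (fun s _ => s * d * s⁻¹) (fun s hs => ⟨⟨h.conj d hd s, ?_⟩,
    Subgroup.mul_mem _ (Subgroup.mul_mem _ hs.2 hdX) (inv_mem hs.2)⟩)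
    (fun s t hs ht e1 => h.swap_unique hd h1 hne hs.1 ht.1 e1) fun e he => ?_
  · rw [← hs.1.2]; simp [mul_smul, h1]
  · obtain ⟨s, h2, h3, h4, h5⟩ := h.exists_swap hd he.1.1 h1 he.1.2 hne hdX he.2
    exact ⟨s, ⟨⟨h2, h4⟩, LX_le _ _ h3⟩, h5⟩
theorem conj_mem_Sw (hs : s ∈ Sw D α β) {g : G} (hg : g • α = α ∧ g • β = β ∨ g • α = β ∧ g • β = α) :
    g * s * g⁻¹ ∈ Sw D α β := by
  refine ⟨h.conj s hs.1 g, ?_⟩
  rcases hg with ⟨h1, h2⟩ | ⟨h1, h2⟩
  · rw [mul_smul, mul_smul, inv_smul_eq_iff.2 h1.symm, hs.2, h2]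
  · rw [mul_smul, mul_smul, inv_smul_eq_iff.2 h2.symm, (h.Sw_symm hs).2, h1]
theorem conj_mem_Sw' (hx : x * x = 1) (h1 : x • α = β) :
    ∀ g ∈ zpowers x, ∀ y ∈ Sw D α β, g * y * g⁻¹ ∈ Sw D α β := fun g hg y hy => by
  have h2 : x • β = α := by rw [← h1, ← mul_smul, hx, one_smul]
  refine h.conj_mem_Sw hy ?_
  obtain ⟨n, rfl⟩ := mem_powers_iff_mem_zpowers.2 hg
  obtain ⟨i, rfl | rfl⟩ := Nat.even_or_odd' n <;> simp [pow_succ, pow_mul, hx, h1, h2]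
/-- the points of `D ∩ X` form one orbit of `LX D X` -/
theorem exists_LX (hd : d ∈ D) (he : e ∈ D) (h1 : d • α = α) (h2 : e • β = β) (hdX : d ∈ X) (heX : e ∈ X) :
    ∃ g ∈ LX D X, g • α = β := by
  by_cases hne : α = β
  · exact ⟨1, one_mem _, by rw [one_smul, hne]⟩
  obtain ⟨s, -, h3, h4, -⟩ := h.exists_swap hd he h1 h2 hne hdX heX
  exact ⟨s, h3, h4⟩
/-- a `2`-group at `α` whose involutions lie in `D` is semiregular on the other points -/
theorem semi (hP : IsPGroup 2 P) (h1 : P ≤ St G α) (h2 : ∀ x ∈ P, orderOf x = 2 → x ∈ D) (hx : x ∈ P)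
    (hγ : γ ≠ α) (e : x • γ = γ) : x = 1 := by
  by_contra h3
  obtain ⟨n, hn⟩ := exists_ord2_pow (Two.of_pg hP hx) h3
  exact hγ (h.center_eq (h2 _ (pow_mem hx n) hn) (h1 (pow_mem hx n)) (pow_smul_of_fix e n))

end Y0

namespace Y1
variable (h : Y1 Ω D)
include h

theorem finite : Finite Ω := by
  obtain ⟨a, -⟩ := h.nontriv.exists_pair_ne
  have := h.trans
  exact Finite.of_surjective (fun g : G => g • a) fun b => exists_smul_eq G a b
theorem St_ne (a : Ω) : St G a ≠ ⊤ := fun e => by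
  have := h.nontriv
  have := h.trans
  obtain ⟨b, hb⟩ := exists_ne a
  obtain ⟨g, rfl⟩ := exists_smul_eq G a b
  exact hb (e ▸ mem_top g : g ∈ St G a)
theorem eq_one_of_fix (hx : ∀ a : Ω, x • a = a) : x = 1 := h.faith x hx
theorem N_ne (h1 : X ≠ ⊥) (h2 : X ≤ St G α) : N[X] ≠ ⊤ := fun e => by
  refine h1 (eq_bot_iff.2 fun x hx => mem_bot.2 (h.eq_one_of_fix fun c => ?_))
  obtain ⟨g, rfl⟩ := h.trans.exists_smul_eq α c
  exact le_St_smul (e ▸ mem_top g) h2 hx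
theorem C1_ne (h1 : x ≠ 1) (h2 : x • α = α) : C1[x] ≠ ⊤ := fun e =>
  h.N_ne (zpowers_ne_bot' h1) (zpowers_le.2 (mem_St.2 h2))
    (top_le_iff.1 ((e.ge.trans (cent_zpowers x).ge).trans (cent_le_norm _)))
theorem exists_D (a : Ω) : ∃ d ∈ D, d • a = a := by
  obtain ⟨d, hd⟩ := h.ne
  obtain ⟨b, hb⟩ := h.exists_center hd
  have := h.trans
  obtain ⟨g, rfl⟩ := exists_smul_eq G b a
  exact ⟨_, h.conj d hd g, by simp [mul_smul, hb]⟩
theorem top_move (a : Ω) : ¬ LX D ⊤ ≤ St G a := fun e => by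
  have := h.nontriv
  obtain ⟨b, hb⟩ := exists_ne a
  obtain ⟨d, hd, h1⟩ := h.exists_D b
  exact hb (h.center_eq hd (e (mem_LX hd (mem_top d))) h1)
theorem isConj (hd : d ∈ D) (he : e ∈ D) : IsConj d e := by
  obtain ⟨a, ha⟩ := h.exists_center hd
  obtain ⟨g, -, e⟩ := h.conj_LX (h.top_move a) hd he ha (mem_top _) (mem_top _)
  exact isConj_iff.2 ⟨g, e⟩
theorem odd_card : Odd (Nat.card Ω) := by
  obtain ⟨d, hd⟩ := h.ne
  obtain ⟨a, ha⟩ := h.exists_center hd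
  have := h.finite
  have := H6.card_modEq_fixedBy (Ω := Ω) (p := 2) (k := 1) (g := d) (by rw [pow_one, pow_two, h.sq hd])
  rw [h.fixedBy_eq hd ha, Set.ncard_singleton] at this
  exact Nat.odd_iff.2 this
theorem card_Dp (a b : Ω) : (Dp D a).ncard = (Dp D b).ncard := by
  have := h.trans
  obtain ⟨g, rfl⟩ := exists_smul_eq G a b
  refine Set.ncard_congr (fun d _ => g * d * g⁻¹) (fun d hd => ⟨h.conj d hd.1 g, by simp [mul_smul, hd.2]⟩)
    (fun d e _ _ e1 => by simpa using e1) fun d hd => ⟨g⁻¹ * d * g, ⟨h.conj' hd.1 g, ?_⟩, by group⟩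
  rw [mul_smul, mul_smul, hd.2, inv_smul_smul]
theorem card_Sw (hne : α ≠ β) : (Sw D α β).ncard = (Dp D α).ncard := by
  obtain ⟨d, hd, h1⟩ := h.exists_D α
  simpa [h.card_Dp α β] using h.card_Sw_inter hne hd h1 (mem_top d)
theorem exists_Sw (hne : α ≠ β) : ∃ s, s ∈ Sw D α β := by
  obtain ⟨d, hd, h1⟩ := h.exists_D α
  obtain ⟨e, he, h2⟩ := h.exists_D β
  obtain ⟨s, h3, -, h4, -⟩ := h.exists_swap hd he h1 h2 hne (mem_top _) (mem_top _)
  exact ⟨s, h3, h4⟩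
theorem odd_Dp (a : Ω) : Odd (Dp D a).ncard := by
  have := h.nontriv
  obtain ⟨b, hb⟩ := exists_ne a
  obtain ⟨s, hs⟩ := h.exists_Sw hb.symm
  have h1 := conj_modEq (H6.isPGroup_zpowers_ord2 (h.sq hs.1)) _ (h.conj_mem_Sw' (h.sq hs.1) hs.2)
  rw [h.card_Sw hb.symm, cent_zpowers, show Sw D a b ∩ (C1[s] : Set G) = {s} from
    Set.eq_singleton_iff_unique_mem.2 ⟨⟨hs, cent1_self s⟩, fun t ht =>
      h.eq_of_commute ht.1 hs hb.symm (mem_cent1.1 ht.2)⟩, Set.ncard_singleton] at h1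
  exact Nat.odd_iff.2 h1
theorem exists_cent (hP : IsPGroup 2 P) (h1 : P ≤ St G α) : ∃ d ∈ D, d • α = α ∧ d ∈ C[P] := by
  obtain ⟨d, hd, h2⟩ := exists_cent_of_odd hP _ (h.odd_Dp α) fun g hg y hy => ⟨h.conj y hy.1 g, by
    rw [mul_smul, mul_smul, (inv_mem (h1 hg) : g⁻¹ ∈ St G α), hy.2, h1 hg]⟩
  exact ⟨d, hd.1, hd.2, h2⟩
/-- `C(P)` is transitive on the fixed points of a `2`-group `P` -/
theorem cent_swap (hP : IsPGroup 2 P) (h1 : P ≤ St G α) (h2 : P ≤ St G β) (hne : α ≠ β) :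
    ∃ s ∈ D, s ∈ C[P] ∧ s • α = β := by
  obtain ⟨d, hd, h3, h4⟩ := h.exists_cent hP h1
  obtain ⟨e, he, h5, h6⟩ := h.exists_cent hP h2
  obtain ⟨s, h7, h8, h9, -⟩ := h.exists_swap hd he h3 h5 hne h4 h6
  exact ⟨s, h7, LX_le _ _ h8, h9⟩
theorem cent_swap' (hx : Two x) (h1 : x • α = α) (h2 : x • β = β) (hne : α ≠ β) :
    ∃ s ∈ D, Commute s x ∧ s • α = β := by
  obtain ⟨s, h3, h4, h5⟩ := h.cent_swap hx.pg (zpowers_le.2 h1) (zpowers_le.2 h2) hne
  exact ⟨s, h3, mem_cent1.1 (cent_zpowers x ▸ h4), h5⟩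
theorem fusion (hx : Two x) (h1 : x • α = α) {g : G} (h2 : (g⁻¹ * x * g) • α = α) :
    ∃ y ∈ St G α, y⁻¹ * x * y = g⁻¹ * x * g := by
  by_cases e : α = g • α
  · exact ⟨g, e.symm, rfl⟩
  rw [mul_smul, mul_smul, inv_smul_eq_iff] at h2
  obtain ⟨s, -, h3, h4⟩ := h.cent_swap' hx h1 h2 e
  refine ⟨s⁻¹ * g, by rw [mem_St, mul_smul, ← h4, inv_smul_smul], ?_⟩
  calc _ = g⁻¹ * (s * x * s⁻¹) * g := by group
    _ = _ := by rw [h3.eq]; group
theorem index_St (a : Ω) : (St G a).index = Nat.card Ω :=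
  have := h.trans
  index_stabilizer_of_transitive G a
theorem exists_fix_pg (hP : IsPGroup 2 P) : ∃ a : Ω, P ≤ St G a := by
  obtain ⟨a, -, ha⟩ := exists_fix_of_not_dvd hP (Set.univ : Set Ω)
    (by rw [Set.ncard_univ]; exact h.odd_card.not_two_dvd_nat) fun _ _ _ _ => trivial
  exact ⟨a, ha⟩
theorem exists_fix (hx : Two x) : ∃ a : Ω, x • a = a :=
  (h.exists_fix_pg hx.pg).imp fun _ ha => ha (mem_zpowers x)
theorem exists_ws (hw : orderOf w = 2) (h1 : w • γ ≠ γ) : ∃ s ∈ D, Commute s w ∧ s • γ = w • γ := by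
  obtain ⟨s, hs, h2⟩ := exists_cent_of_odd (Two.of_ord hw).pg (Sw D γ (w • γ))
    (by rw [h.card_Sw h1.symm]; exact h.odd_Dp γ) (h.conj_mem_Sw' (H6.ord2_mul_self hw) rfl)
  exact ⟨s, hs.1, mem_cent1.1 (cent_zpowers w ▸ h2), hs.2⟩
theorem exists_move (h1 : x ≠ 1) : ∃ a : Ω, x • a ≠ a := by
  by_contra! e
  exact h1 (h.eq_one_of_fix e)
theorem not_le_St (hx : Two x) (h1 : x • α = α) (h2 : x • β = β) (hne : α ≠ β) : ¬ LX D C1[x] ≤ St G α := by
  obtain ⟨s, h3, h4, h5⟩ := h.cent_swap' hx h1 h2 hne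
  exact fun e => hne ((e (mem_LX h3 (mem_cent1.2 h4))).symm.trans h5)
theorem ord_mul (hw : orderOf w = 2) (hD : w ∉ D) (hs : s ∈ D) (hc : Commute s w) : orderOf (w * s) = 2 := by
  refine H6.ord2_of ?_ fun e => hD ?_
  · rw [mul_assoc, ← mul_assoc s, hc.eq, mul_assoc w s, h.sq hs, mul_one, H6.ord2_mul_self hw]
  · rwa [eq_inv_of_mul_eq_one_left e, h.inv hs]
/-- an involution outside `D` fixes at least two points -/
theorem exists_second (hw : orderOf w = 2) (hD : w ∉ D) (a : Ω) : ∃ b, b ≠ a ∧ w • b = b := by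
  by_contra! H
  have := h.nontriv
  have key : ∀ {w : G} {γ : Ω}, orderOf w = 2 → w • γ ≠ γ → ∃ s ∈ D, ∃ δ : Ω, Commute s w ∧ s • δ = δ ∧ w • δ = δ ∧
      δ ≠ γ ∧ (w * s) • δ = δ ∧ (w * s) • γ = γ := fun {w γ} hw h1 => by
    obtain ⟨s, hs, h2, h3⟩ := h.exists_ws hw h1
    obtain ⟨δ, h4⟩ := h.exists_center hs
    have h5 := h.fix_of_commute hs h4 h2.symm
    exact ⟨s, hs, δ, h2, h4, h5, fun e => h1 (e ▸ h5), by rw [mul_smul, h4, h5],
      by rw [mul_smul, h3, smul_smul_of_ord hw]⟩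
  obtain ⟨γ, hγ⟩ := exists_ne a
  obtain ⟨s, hs, δ, h1, h2, -, h4, h5, h6⟩ := key hw (H γ hγ)
  have hu := h.ord_mul hw hD hs h1
  obtain ⟨γ', hγ'⟩ := h.exists_move (H6.ord2_ne_one hu)
  obtain ⟨s', hs', δ', h7, -, -, h8, h9, h10⟩ := key hu hγ'
  obtain ⟨g, hg, e⟩ := h.conj_LX (h.not_le_St (Two.of_ord hu) h5 h6 h4) hs hs' h2
    (mem_cent1.2 (h1.mul_right (Commute.refl s))) (mem_cent1.2 h7)
  have e2 : w * s * s' = g * w * g⁻¹ := by
    rw [← e, ← mul_assoc, ← mul_assoc, ← mem_cent1.1 (LX_le _ _ hg), mul_assoc g, mul_assoc w, h.sq hs, mul_one]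
  have : ∀ c : Ω, (w * s * s') • c = c → g⁻¹ • c = a := fun c hc => by
    by_contra e3
    rw [e2, mul_smul, mul_smul, smul_eq_iff_eq_inv_smul] at hc
    exact H _ e3 hc
  exact h8 (smul_left_cancel g⁻¹ ((this _ h9).trans (this _ h10).symm))
theorem mul_mem (hd : d ∈ D) (he : e ∈ D) (hc : Commute d e) (hne : d ≠ e) : d * e ∈ D := by
  by_contra h1
  have h2 := H6.ord2_mul_of_commute (h.sq hd) (h.sq he) hc hne
  obtain ⟨a, ha⟩ := h.exists_fix (Two.of_ord h2)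
  obtain ⟨b, hb, h3⟩ := h.exists_second h2 h1 a
  exact hb (h.prod d hd e he hne hc b a h3 ha)
theorem mul_not_mem (hw : orderOf w = 2) (hD : w ∉ D) (hs : s ∈ D) (hc : Commute s w) :
    orderOf (w * s) = 2 ∧ w * s ∉ D := by
  refine ⟨H6.ord2_of ?_ fun e => hD ?_, fun e => hD ?_⟩
  · rw [mul_assoc, ← mul_assoc s, hc.eq, mul_assoc w s, h.sq hs, mul_one, H6.ord2_mul_self hw]
  · rwa [eq_inv_of_mul_eq_one_left e, h.inv hs]
  · have := h.mul_mem e hs (hc.symm.mul_left (Commute.refl s)) fun e => H6.ord2_ne_one hw (by simpa using e)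
    rwa [mul_assoc, h.sq hs, mul_one] at this

end Y1

end H11.YZ
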