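import Cfsg.Agent.H11.YA

/-! The Bender subgroup generated by a pure class. -/

set_option autoImplicit false
set_option linter.unusedSectionVars false

namespace H11.YZ

open Subgroup MulAction _root_.Cfsg H16 H15.Bd H11.ZD
open scoped commutatorElement

universe u

variable {G Ω : Type u} [Group G] [Finite G] [MulAction G Ω] {D : Set G} {α β γ : Ω}
  {A W X Q V K P : Subgroup G} {d e s t u w x z : G}

theorem Y0.exists_loc (h : Y0 Ω D) (inv : ∀ u ∈ LX D X, orderOf u = 2 → u ∈ D) (cpg : Com D X) (hP : IsPGroup 2 P)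
    (hPX : P ≤ LX D X) (hd : d ∈ D) (he : e ∈ D) (hdP : d ∈ P) (heP : e ∈ P) (hne : d ≠ e) (h1 : d • α = α)
    (hm : ¬ LX D X ≤ St G α) : ∃ Q V, Loc D α X Q V ∧ P ≤ Q := by
  set L := LX D X with hL
  have bs : BS L Ω := fun t ht => h.fix _ (inv t t.2 (by rwa [orderOf_coe]))
  obtain ⟨Q, hQ, hPQ⟩ := sy_exists_ge hPX (pg_iff.2 hP)
  have QL : Q ≤ L := hQ.1
  have hde := cpg d hd e he (LX_le _ _ (hPX hdP)) (LX_le _ _ (hPX heP)) (Two.of_pg hP (Subgroup.mul_mem _ hdP heP))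
  have memD : ∀ x ∈ Q, x * x = 1 → x ≠ 1 → x ∈ D := fun x hx h2 h3 => inv x (QL hx) (H6.ord2_of h2 h3)
  have com : ∀ x ∈ Q, ∀ y ∈ Q, x * x = 1 → y * y = 1 → Commute x y := fun x hx y hy h2 h3 => by
    by_cases e1 : x = 1
    · simp [e1]
    by_cases e2 : y = 1
    · simp [e2]
    exact cpg x (memD x hx h2 e1) y (memD y hy h3 e2) (LX_le _ _ (QL hx)) (LX_le _ _ (QL hy))
      (Two.of_pg (sy_pg hQ) (Subgroup.mul_mem _ hx hy))
  let V : Subgroup G :=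
    { carrier := {x | x ∈ Q ∧ x * x = 1}
      mul_mem' := fun {x y} hx hy => ⟨Subgroup.mul_mem _ hx.1 hy.1, by
        rw [mul_assoc, ← mul_assoc y, ← (com x hx.1 y hy.1 hx.2 hy.2).eq, mul_assoc x y, hy.2, mul_one, hx.2]⟩
      one_mem' := ⟨one_mem _, mul_one 1⟩
      inv_mem' := fun {x} hx => by rwa [inv_eq_of_mul_eq_one_right hx.2] }
  have memV : ∀ x, x ∈ V ↔ x ∈ Q ∧ x * x = 1 := fun _ => Iff.rfl
  have oddk : Odd (Nat.card (kerO L α)) := H6.odd_card_iff.2 fun y hy h2 => by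
    obtain ⟨n, hn, h3⟩ := H15.Bd.exists_move hm
    exact h3 (h.center_eq (inv y (mem_kerO.1 hy).1 h2) (kerO_le _ _ hy).2 ((mem_kerO.1 hy).2 n hn))
  have hN : ((kerO L α).subgroupOf L).Normal :=
    (normal_subgroupOf_iff_le_normalizer ((kerO_le _ _).trans inf_le_left)).2 (le_norm_kerO L α)
  set f := QuotientGroup.mk' ((kerO L α).subgroupOf L) with hf
  have sj : Function.Surjective f := QuotientGroup.mk'_surjective _
  have hk : ∀ x : L, f x = 1 ↔ (x : G) ∈ kerO L α := fun x => QuotientGroup.eq_one_iff x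
  have hk2 : ∀ {x y : L}, f x = f y → (x : G)⁻¹ * y ∈ kerO L α := fun {x y} e =>
    (hk (x⁻¹ * y)).1 (by rw [map_mul, map_inv, e, inv_mul_cancel])
  have QK : Q ⊓ kerO L α = ⊥ := hl_inf_compl hQ (hl_self (isPi_two_compl.2 oddk))
  have inj : ∀ {x y : L}, (x : G) ∈ Q → (y : G) ∈ Q → f x = f y → x = y := fun {x y} hx hy e =>
    Subtype.ext (inv_mul_eq_one.1 (eq_one_of_mem_bot QK ⟨Subgroup.mul_mem _ (inv_mem hx) hy, hk2 e⟩))
  have dI : (⟨d, hPX hdP⟩ : L) ∈ Inv L α := ⟨by rw [← orderOf_coe]; exact h.ord d hd, h1⟩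
  obtain ⟨n, hn, hnα⟩ := H15.Bd.exists_move hm
  have se : IsStronglyEmbedded (St L α) := H6.stronglyEmbedded_iff.2 ⟨fun e => hnα (e ▸ mem_top _ : (⟨n, hn⟩ : L) ∈ St L α),
    ⟨_, dI.2, dI.1⟩, fun g s hs h1 h2 => bs.smul_eq_of_conj ⟨hs, h1⟩ ⟨H6.ord2_conj hs _, h2⟩⟩
  have kle : f.ker ≤ St L α := fun x hx => (kerO_le _ _ ((hk x).1 hx)).2
  have se' := se_map sj se kle
  have hH : ∀ x : L, f x ∈ (St L α).map f ↔ (x : G) • α = α := fun x => by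
    rw [← mem_comap, comap_map_eq_self kle]; rfl
  have : Nontrivial (L ⧸ (kerO L α).subgroupOf L) := ⟨f ⟨n, hn⟩, 1, fun e => hnα (kle e)⟩
  have simple : IsSimpleGroup (L ⧸ (kerO L α).subgroupOf L) := ⟨fun N _ => by
    by_cases ho : Odd (Nat.card (N.comap f))
    · left
      have h2 := bs.le_St_of_four (y := ⟨e, hPX heP⟩) dI (by rw [← orderOf_coe]; exact h.ord e he)
        (fun e => hne (congrArg Subtype.val e)) (Subtype.ext hde) ho (le_normalizer_of_normal (mem_top _))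
        (le_normalizer_of_normal (mem_top _))
      refine eq_bot_iff.2 fun y hy => ?_
      obtain ⟨y, rfl⟩ := sj y
      refine (hk y).2 (mem_kerO.2 ⟨y.2, fun m hm => ?_⟩)
      have := h2 (Normal.conj_mem' inferInstance y hy ⟨m, hm⟩)
      rw [mem_St, mul_smul, mul_smul, inv_smul_eq_iff] at this
      exact this
    · right
      obtain ⟨y, hy, h2⟩ := H6.exists_ord2_mem_of_even (Nat.not_odd_iff_even.1 ho)
      have h3 := inv y y.2 (by rwa [orderOf_coe])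
      have h4 : L ≤ (N.comap f).map L.subtype := LX_le_iff.2 fun c hc hcX => by
        obtain ⟨g, hg, e1⟩ := h.conj_LX hm hd hc h1 (LX_le _ _ (hPX hdP)) hcX
        obtain ⟨g', hg', e2⟩ := h.conj_LX hm hd h3 h1 (LX_le _ _ (hPX hdP)) (LX_le _ _ y.2)
        refine ⟨_, Normal.conj_mem inferInstance y hy (⟨g, hg⟩ * (⟨g', hg'⟩ : L)⁻¹), ?_⟩
        simp only [coe_subtype, coe_mul, coe_inv]
        rw [← e1, ← e2]; group
      refine eq_top_iff.2 fun y _ => ?_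
      obtain ⟨y, rfl⟩ := sj y
      obtain ⟨y', h5, e⟩ := h4 y.2
      rwa [← show y' = y from Subtype.ext e]⟩
  have nab : ¬ IsMulCommutative (L ⧸ (kerO L α).subgroupOf L) := fun hc => by
    have : ((St L α).map f).Normal := ⟨fun a ha g => by rwa [hc.1.1 g a, mul_inv_cancel_right]⟩
    exact Nat.not_even_iff_odd.2 (se_odd_normal se' le_rfl) se'.2.1
  have cardm : ∀ R : Subgroup G, R ≤ Q → Nat.card ((R.subgroupOf L).map f) = Nat.card R := fun R hR => by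
    rw [← Nat.card_congr (subgroupOfEquivOfLe (hR.trans QL)).toEquiv]
    exact (Nat.card_congr (Equiv.ofBijective (f.subgroupMap _) ⟨fun x y e => Subtype.ext
      (inj (hR x.2) (hR y.2) (congrArg Subtype.val e)), f.subgroupMap_surjective _⟩)).symm
  have hQ' : Sy[2] ((Q.subgroupOf L).map f) ⊤ := by
    refine sy_mk le_top (pg_iff.2 ((sy_pg hQ).comap_subtype.map f)) fun h2 => sy_not_dvd hQ Nat.prime_two (h2.trans ?_)
    rw [relIndex_top_right]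
    exact index_map_dvd _ sj
  obtain ⟨V', K', W', t', b⟩ := H17.exists_bf_top se' nab hQ'
  have mQ : ∀ {x : G} (hx : x ∈ Q), f ⟨x, QL hx⟩ ∈ (Q.subgroupOf L).map f := fun hx => ⟨_, hx, rfl⟩
  have mV : ∀ {x : G} (hx : x ∈ Q), f ⟨x, QL hx⟩ ∈ V' ↔ x ∈ V := fun {x} hx => by
    rw [b.memV, and_iff_right (mQ hx), memV, and_iff_right hx, ← map_mul, ← map_one f]
    exact ⟨fun e => congrArg Subtype.val (inj (Subgroup.mul_mem _ hx hx) (one_mem Q) e),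
      fun e => congrArg f (Subtype.ext e)⟩
  have eV : V' = (V.subgroupOf L).map f := by
    refine le_antisymm (fun y hy => ?_) ?_
    · obtain ⟨x, hx, rfl⟩ := b.VQ hy
      exact ⟨x, (mV hx).1 hy, rfl⟩
    · rintro _ ⟨x, hx, rfl⟩
      exact (mV hx.1).2 hx
  have cV : Nat.card V' = Nat.card V := eV ▸ cardm V fun _ hx => hx.1
  have cQ := cardm Q le_rfl
  have cen : Q ≤ C[V] := fun x hx => mem_cent.2 fun v hv => congrArg Subtype.val
    (inj (x := ⟨v, QL hv.1⟩ * ⟨x, QL hx⟩) (y := ⟨x, QL hx⟩ * ⟨v, QL hv.1⟩) (Subgroup.mul_mem _ hv.1 hx)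
      (Subgroup.mul_mem _ hx hv.1) (by rw [map_mul, map_mul]; exact b.cen _ ((mV hv.1).2 hv) _ (mQ hx)))
  have dV : d ∈ V := ⟨hPQ hdP, h.sq hd⟩
  have Qα : Q ≤ St G α := fun x hx => h.fix_of_commute hd h1 (mem_cent.1 (cen hx) d dV).symm
  have eH : (St L α).map f = (Q.subgroupOf L).map f ⊔ (K' ⊔ W') := by
    obtain ⟨-, S, hS⟩ := H17.Be.bender_simple se' nab
    have h2 : (Q.subgroupOf L).map f ≤ N[(S : Subgroup _)] := hS ▸ map_mono fun x hx => Qα hx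
    rw [← b.norm, top_inf_eq, hS, hl_eq_of_le hQ' (sy_top_of_sylow S)
      (le_hl_of_norm' (sy_top_of_sylow S) le_top h2 (hl_pi hQ'))]
  have memQK : ∀ x, x ∈ Q ⊔ kerO L α ↔ x ∈ L ∧ x • α = α ∧ ∃ k : ℕ, x ^ 2 ^ k ∈ kerO L α := fun x => by
    rw [sup_comm, mem_sup_l (QL.trans (le_norm_kerO L α))]
    constructor
    · rintro ⟨y, hy, x, hx, rfl⟩
      have hy' := (mem_kerO.1 hy).1
      obtain ⟨k, e⟩ := Two.of_pg (sy_pg hQ) hx
      refine ⟨Subgroup.mul_mem _ hy' (QL hx), by rw [mul_smul, Qα hx, (kerO_le _ _ hy).2], k,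
        (hk ((⟨y, hy'⟩ * ⟨x, QL hx⟩ : L) ^ 2 ^ k)).1 ?_⟩
      rw [map_pow, map_mul, (hk _).2 hy, one_mul, ← map_pow, ← map_one f]
      exact congrArg f (Subtype.ext e)
    · rintro ⟨h2, h3, k, h4⟩
      have h5 : f ⟨x, h2⟩ ^ 2 ^ k = 1 := by rw [← map_pow]; exact (hk _).2 h4
      obtain ⟨y, hy, e⟩ := le_hl_of_norm' hQ' le_top (zpowers_le.2 (b.BN (eH ▸ (hH ⟨x, h2⟩).2 h3)))
        (pg_iff.2 (H6.isPGroup_zpowers h5)) (mem_zpowers _)
      refine ⟨x * (y : G)⁻¹, (hk (⟨x, h2⟩ * y⁻¹)).1 (by rw [map_mul, map_inv, e, mul_inv_cancel]), y, hy, by simp⟩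
  have reg : ∀ g ∈ L, ∀ g' ∈ L, g • α ≠ α → g' • α ≠ α → ∃ x ∈ Q, x • g • α = g' • α := by
    obtain ⟨τ, rfl⟩ := sj t'
    have key : ∀ g ∈ L, g • α ≠ α → ∃ x ∈ Q, g • α = x • (τ : G) • α := fun g hg h2 => by
      obtain ⟨_, ⟨x, hx, rfl⟩, c, hc, y, hy, e⟩ := b.bru' (mem_top (f ⟨g, hg⟩))
        (by rw [← eH, hH]; exact h2)
      refine ⟨x, hx, ?_⟩
      have h3 : f ((x * τ)⁻¹ * ⟨g, hg⟩) ∈ (St L α).map f := by
        rw [eH, map_mul, map_inv, map_mul, e, show (f x * f τ)⁻¹ * (f x * c * f τ * y) = (f τ)⁻¹ * c * f τ * y by group,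
          b.t_inv]
        exact Subgroup.mul_mem _ (mem_sup_right (b.tD hc)) (mem_sup_left hy)
      rw [hH, coe_mul, coe_inv, mul_smul, inv_smul_eq_iff, coe_mul, mul_smul] at h3
      exact h3
    intro g hg g' hg' h2 h3
    obtain ⟨x, hx, e1⟩ := key g hg h2
    obtain ⟨y, hy, e2⟩ := key g' hg' h3
    exact ⟨y * x⁻¹, Subgroup.mul_mem _ hy (inv_mem hx), by rw [e1, e2, mul_smul, inv_smul_smul]⟩
  refine ⟨Q, V, ⟨hQ, Qα, memV, inv, hm, cV ▸ b.four, cen, fun x hx => ?_, fun x hx γ => h.semi (sy_pg hQ) Qα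
    (fun y hy => inv y (QL hy)) hx, reg, fun u hu u1 v hv v1 => ?_, ?_, oddk, le_norm_iff.2 fun g hg x hx => ?_,
    fun c hc hcX h2 => ?_, fun h0 g hg h2 => ?_⟩, hPQ⟩
  · exact (mV (Subgroup.mul_mem _ hx hx)).1 (by have := b.sq _ (mQ hx); rwa [← map_mul] at this)
  · obtain ⟨g, hg, e1⟩ := h.conj_LX hm (memD u hu.1 hu.2 u1) (memD v hv.1 hv.2 v1) (Qα hu.1)
      (LX_le _ _ (QL hu.1)) (LX_le _ _ (QL hv.1))
    have h2 : Sy[2] Q (L ⊓ C1[v]) := hl_of_le hQ (le_inf QL (cen.trans (cent_le_cent1 hv))) inf_le_left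
    have h3 : Sy[2] (Q :^ g) (L ⊓ C1[v]) := hl_of_le (hl_cj_mem hQ hg) (le_inf (cj_le_of_mem hg QL)
      (by rw [← e1, cent1_cj]; exact cj_mono g (cen.trans (cent_le_cent1 hu)))) inf_le_left
    obtain ⟨c, hc, e2⟩ := sy_conj h3 h2
    rw [cj_cj, cj_eq_self_iff] at e2
    refine ⟨(c * g)⁻¹, inv_mem ⟨Subgroup.mul_mem _ hc.1 hg, e2⟩, ?_⟩
    calc _ = c * (g * u * g⁻¹) * c⁻¹ := by group
      _ = _ := by rw [e1, mem_cent1.1 hc.2]; group
  · rcases b.kind with ⟨e1, -⟩ | ⟨-, e1, -⟩ | ⟨e0, e1, -⟩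
    · exact Or.inl (eq_of_le_of_card (H := V) (fun _ hx => hx.1) (by rw [← cQ, e1, cV])).symm
    · exact Or.inr (Or.inl (by rw [← cQ, e1, cV]))
    refine Or.inr (Or.inr ⟨by rw [← cQ, e1, cV], ?_⟩)
    obtain ⟨ω, hω, ω1⟩ := exists_ne_one e0
    obtain ⟨ω, rfl⟩ := sj ω
    have hω' : f ω ∈ K' ⊔ W' := mem_sup_right hω
    have h2 : (ω : G) ∈ N[(Q ⊔ kerO L α : Subgroup G)] := mem_norm_of_cj_le (cj_le_forall.2 fun x hx => by
      obtain ⟨h3, h4, k, h5⟩ := (memQK x).1 hx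
      have h6 : (ω : G) • α = α := (hH ω).1 (eH ▸ mem_sup_right hω')
      refine (memQK _).2 ⟨Subgroup.mul_mem _ (Subgroup.mul_mem _ ω.2 h3) (inv_mem ω.2), by
        rw [mul_smul, mul_smul, inv_smul_eq_iff.2 h6.symm, h4, h6], k, ?_⟩
      rw [conj_pow]
      exact conj_mem (le_norm_kerO L α ω.2) h5)
    have h3 : Q ⊔ kerO L α ≤ L := sup_le QL ((kerO_le _ _).trans inf_le_left)
    obtain ⟨y, hy, m, hm', e⟩ := sy_frattini (hl_of_le hQ le_sup_left h3) h2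
    obtain ⟨y1, hy1, y2, hy2, rfl⟩ := (mem_sup_l (QL.trans (le_norm_kerO L α))).1 (sup_comm Q _ ▸ hy)
    have h4 : y2 * m ∈ L := by
      rw [show y2 * m = y1⁻¹ * ω by rw [e]; group]
      exact Subgroup.mul_mem _ (inv_mem (mem_kerO.1 hy1).1) ω.2
    have h5 : f ⟨_, h4⟩ = f ω := by
      rw [show ω = ⟨y1, (mem_kerO.1 hy1).1⟩ * ⟨_, h4⟩ from Subtype.ext (by rw [e, mul_assoc]; rfl), map_mul,
        (hk ⟨y1, _⟩).2 hy1, one_mul]
    obtain ⟨j, hj⟩ := H6.exists_odd_part (y2 * m)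
    have h6 : (y2 * m) ^ 2 ^ j ∈ N[Q] := pow_mem (Subgroup.mul_mem _ (le_norm Q hy2) hm') _
    have h7 : f ⟨_, pow_mem h4 (2 ^ j)⟩ = f ω ^ 2 ^ j := by rw [← h5, ← map_pow]; rfl
    refine ⟨_, ⟨⟨pow_mem h4 _, h6⟩, mem_cent.2 fun v hv => ?_⟩, hj, fun x hx h8 => ?_⟩
    · have := inj (x := ⟨_, pow_mem h4 (2 ^ j)⟩ * ⟨v, QL hv.1⟩ * (⟨_, pow_mem h4 (2 ^ j)⟩ : L)⁻¹) (y := ⟨v, QL hv.1⟩)
        (conj_mem h6 hv.1) hv.1 (by
          rw [map_mul, map_mul, map_inv, h7, ← b.WV _ (pow_mem hω _) _ ((mV hv.1).2 hv), mul_inv_cancel_right])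
      exact (mul_inv_eq_iff_eq_mul.1 (congrArg Subtype.val this)).symm
    · refine (mV hx).1 (b.mem_of_coset (pow_mem hω' (2 ^ j))
        (fun e => ω1 (H6.eq_one_of_odd_of_two_pow (b.odd_ord hω') e)) (mQ hx) ?_)
      rw [← h7, ← map_inv, ← map_inv, ← map_mul, ← map_mul, ← map_mul]
      exact (mV h8.1).2 h8
  · obtain ⟨h3, h4, k, h5⟩ := (memQK x).1 hx
    have h6 := h.N_le_N_LX X hg.2
    refine (memQK _).2 ⟨conj_mem h6 h3, by
      rw [mul_smul, mul_smul, inv_smul_eq_iff.2 (mem_St.1 hg.1).symm, h4, hg.1], k, ?_⟩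
    rw [conj_pow]
    exact conj_mem (N_le_N_kerO ⟨hg.1, h6⟩) h5
  · have h3 := mem_LX hc hcX
    obtain ⟨y, hy, x, hx, rfl⟩ := (mem_sup_l (QL.trans (le_norm_kerO L α))).1 (sup_comm Q _ ▸ (memQK c).2
      ⟨h3, h2, 1, by rw [pow_one, pow_two, h.sq hc]; exact one_mem _⟩)
    refine Subgroup.mul_mem _ (mem_sup_right hy) (mem_sup_left ((mV hx).1 ((b.memV _).2 ⟨mQ hx, ?_⟩)))
    have h4 : f ⟨_, h3⟩ = f ⟨x, QL hx⟩ := by
      rw [show (⟨_, h3⟩ : L) = ⟨y, (mem_kerO.1 hy).1⟩ * ⟨x, QL hx⟩ from rfl, map_mul, (hk _).2 hy, one_mul]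
    rw [← h4, ← map_mul, ← map_one f]
    exact congrArg f (Subtype.ext (h.sq hc))
  · have e0 : L ≃* _ := MulEquiv.ofBijective f ⟨(MonoidHom.ker_eq_bot_iff f).1 (eq_bot_iff.2 fun x hx =>
      Subtype.ext (eq_one_of_mem_bot h0 ((hk x).1 hx))), sj⟩
    have := e0.isSimpleGroup
    obtain ⟨V₁, K, W, t, b1⟩ := H17.exists_bf se (fun hc => nab ⟨⟨fun x y => by
      obtain ⟨x, rfl⟩ := sj x
      obtain ⟨y, rfl⟩ := sj y
      rw [← map_mul, hc.1.1, map_mul]⟩⟩) hQ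
    obtain rfl : V₁ = V := Subgroup.ext fun x => (b1.memV x).trans (memV x).symm
    have h3 : t • α ≠ α := fun e => b1.t_not (mem_sup_left (by
      have := (memQK t).2 ⟨b1.tL, e, 1, by rw [pow_one, pow_two, b1.tt]; exact one_mem _⟩
      rwa [h0, sup_bot_eq] at this))
    obtain ⟨x, hx, e⟩ := reg t b1.tL g hg h3 h2
    have b2 := b1.cj x
    rw [cj_self (QL hx), cj_self hx, cj_cent (cen hx)] at b2
    refine ⟨_, _, _, b2, by rw [mul_smul, mul_smul, inv_smul_eq_iff.2 (mem_St.1 (Qα hx)).symm, e], fun e2 => ?_⟩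
    have h4 := bf_three se' nab b (by rw [cQ, cV, e2])
    have h5 := b.cardK
    rw [cV, b2.cardK] at h5
    rwa [Nat.add_right_cancel h5]

end H11.YZ
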